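import Cfsg.Agent.OddFinal.DegenerateGroup
import Cfsg.Agent.OddLocal.SigmaNormalizer
import Mathlib.GroupTheory.SpecificGroups.Cyclic

/-!
# Cyclic subgroups of a degenerate member through `W₂`

A cyclic subgroup of `K` containing `W₂` has index greater than `2 |W₁|`; a subgroup of `M ∩ C(W₂)`
acting fixed-point-freely on an abelian group and not inside `K` has order at most `|W₁| |W₂|`.
-/

set_option autoImplicit false
set_option linter.unusedSectionVars false

namespace Cfsg.Agent.OddFinal.Degen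

open Subgroup Cfsg
open scoped commutatorElement
open scoped _root_.Classical

universe u

/-- Powers of a product when the commutator is central. -/
theorem mul_pow_central {H : Type*} [Group H] {a b : H}
    (hc : ∀ g : H, g * ⁅b, a⁆ = ⁅b, a⁆ * g) :
    ∀ n : ℕ, (a * b) ^ n = a ^ n * b ^ n * ⁅b, a⁆ ^ n.choose 2 := by
  have hba : b * a = a * b * ⁅b, a⁆ := by
    rw [hc (a * b), commutatorElement_def]
    group
  generalize ⁅b, a⁆ = c at hc hba ⊢
  have hcm : ∀ g : H, ∀ k : ℕ, g * c ^ k = c ^ k * g := fun g k =>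
    ((show Commute g c from hc g).pow_right k).eq
  have hswap : ∀ m : ℕ, b ^ m * a = a * b ^ m * c ^ m := by
    intro m
    induction m with
    | zero => simp
    | succ m ih =>
      calc b ^ (m + 1) * a = b * (b ^ m * a) := by rw [pow_succ', mul_assoc]
        _ = (b * a) * b ^ m * c ^ m := by rw [ih]; simp only [mul_assoc]
        _ = a * b * (c * b ^ m) * c ^ m := by rw [hba]; simp only [mul_assoc]
        _ = a * (b * b ^ m) * (c * c ^ m) := by rw [← hc (b ^ m)]; simp only [mul_assoc]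
        _ = a * b ^ (m + 1) * c ^ (m + 1) := by rw [← pow_succ', ← pow_succ']
  intro n
  induction n with
  | zero => simp
  | succ n ih =>
    rw [pow_succ (a * b), ih, Nat.choose_succ_succ', Nat.choose_one_right]
    calc a ^ n * b ^ n * c ^ n.choose 2 * (a * b)
        = a ^ n * (b ^ n * a) * b * c ^ n.choose 2 := by
          rw [mul_assoc (a ^ n * b ^ n), ← hcm (a * b)]; simp only [mul_assoc]
      _ = a ^ n * (a * b ^ n * c ^ n) * b * c ^ n.choose 2 := by rw [hswap n]
      _ = a ^ n * a * (b ^ n * (c ^ n * b)) * c ^ n.choose 2 := by simp only [mul_assoc]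
      _ = (a ^ n * a) * (b ^ n * b) * (c ^ n * c ^ n.choose 2) := by
          rw [← hcm b n]; simp only [mul_assoc]
      _ = _ := by rw [← pow_succ, ← pow_succ, ← pow_add]

variable {G : Type u} [Group G] [Fintype G]

/-- An element fixing the elements of order `r` of a cyclic `r`-group, with order prime to `r`,
centralises it. -/
theorem commute_of_fix_omega {r s : ℕ} (hr : r.Prime) {g x : G} (hg : orderOf g = r ^ (s + 1))
    (hn : x * g * x⁻¹ ∈ zpowers g) (hfix : x * g ^ r ^ s * x⁻¹ = g ^ r ^ s) {m : ℕ}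
    (hxm : x ^ m = 1) (hm : m.Coprime r) : x * g * x⁻¹ = g := by
  obtain ⟨i, hi⟩ := mem_zpowers_iff.1 hn
  have hpow : ∀ j : ℕ, x ^ j * g * (x ^ j)⁻¹ = g ^ i ^ j := by
    intro j
    induction j with
    | zero => simp
    | succ j ih =>
      rw [pow_succ' x, mul_inv_rev, show x * x ^ j * g * ((x ^ j)⁻¹ * x⁻¹) =
        x * (x ^ j * g * (x ^ j)⁻¹) * x⁻¹ by group, ih, ← conj_zpow, ← hi, ← zpow_mul, pow_succ']
  have h1 : (r : ℤ) ^ (s + 1) ∣ i ^ m - 1 := by
    have h2 := hpow m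
    rw [hxm, one_mul, inv_one, mul_one] at h2
    have h3 : g ^ (i ^ m - 1) = 1 := by rw [zpow_sub, ← h2, zpow_one, mul_inv_cancel]
    have h4 := orderOf_dvd_iff_zpow_eq_one.2 h3
    rw [hg] at h4
    exact_mod_cast h4
  have h5 : (r : ℤ) ∣ i - 1 := by
    rw [← conj_pow, ← hi, ← zpow_natCast, ← zpow_mul, ← zpow_natCast g (r ^ s)] at hfix
    have h6 : g ^ (i * ((r ^ s : ℕ) : ℤ) - ((r ^ s : ℕ) : ℤ)) = 1 := by
      rw [zpow_sub, hfix, mul_inv_cancel]
    have h7 := orderOf_dvd_iff_zpow_eq_one.2 h6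
    rw [hg] at h7
    push_cast at h7
    rw [show i * (r : ℤ) ^ s - (r : ℤ) ^ s = (r : ℤ) ^ s * (i - 1) by ring, pow_succ] at h7
    exact Int.dvd_of_mul_dvd_mul_left (pow_ne_zero _ (by exact_mod_cast hr.ne_zero)) h7
  have h8 : IsCoprime ((r : ℤ) ^ (s + 1)) (∑ j ∈ Finset.range m, i ^ j) := by
    refine IsCoprime.pow_left ?_
    have h9 : (r : ℤ) ∣ (∑ j ∈ Finset.range m, i ^ j) - m := by
      have : (∑ j ∈ Finset.range m, i ^ j) - (m : ℤ) = ∑ j ∈ Finset.range m, (i ^ j - 1) := by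
        rw [Finset.sum_sub_distrib]; simp
      rw [this]
      exact Finset.dvd_sum fun j _ => h5.trans (sub_one_dvd_pow_sub_one i j)
    obtain ⟨c, hc⟩ := h9
    rw [show (∑ j ∈ Finset.range m, i ^ j) = (m : ℤ) + c * r by linear_combination hc]
    exact (Int.isCoprime_iff_gcd_eq_one.2 (by exact_mod_cast hm.symm)).add_mul_right_right c
  rw [← geom_sum_mul i m, mul_comm] at h1
  have h10 := h8.dvd_of_dvd_mul_right h1
  rw [← hi]
  have h11 : g ^ (i - 1) = 1 := orderOf_dvd_iff_zpow_eq_one.1 (by rw [hg]; exact_mod_cast h10)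
  rw [zpow_sub, zpow_one, mul_inv_eq_one] at h11
  exact h11

variable {M W₁ W₂ : Subgroup G} [Fintype ↥M] (h : Degen M W₁ W₂)

include h

/-- An element of `M` of order dividing `|W₁|` is conjugate into `W₁`, and commutes with at most
`|W₂|` elements of `K`. -/
theorem card_fixed_le {x : G} (hx : x ∈ M) (hxe : x ^ Nat.card W₁ = 1) (hx1 : x ≠ 1) :
    Nat.card ↥(⁅M, M⁆ ⊓ centralizer ({x} : Set G)) ≤ Nat.card W₂ := by
  have hxK : (⟨x, hx⟩ : M) ∉ kin M := fun hk => by
    have h1 : orderOf x ∣ Nat.card ↥⁅M, M⁆ :=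
      Subgroup.orderOf_dvd_natCard _ (mem_subgroupOf.1 hk)
    exact hx1 (orderOf_eq_one_iff.1
      (Nat.eq_one_of_dvd_coprimes h.coprime (orderOf_dvd_of_pow_eq_one hxe) h1))
  obtain ⟨m, w, hw, hw2, e⟩ := h.exists_conj hxK
  have e' : x = (m : G) * w * (m : G)⁻¹ := congrArg Subtype.val e
  obtain ⟨a, ha, b, hb, hab⟩ := (CyclicTI.mem_sup_iff h.selfNorm.2.2.2.1).1 hw
  have hb1 : b = 1 := by
    have h1 : (a * b) ^ Nat.card W₁ = 1 := by
      rw [hab, ← (MulAut.conj (m : G)).injective.eq_iff, map_pow, MulAut.conj_apply, ← e', hxe,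
        map_one]
    rw [(show Commute a b from h.commute_W a ha b hb).mul_pow,
      show a ^ Nat.card W₁ = 1 from
        congrArg Subtype.val (pow_card_eq_one' (x := (⟨a, ha⟩ : W₁))), one_mul] at h1
    refine orderOf_eq_one_iff.1 (Nat.eq_one_of_dvd_coprimes h.coprime
      (orderOf_dvd_of_pow_eq_one h1) ?_)
    exact (Subgroup.orderOf_dvd_natCard W₂ hb).trans (card_dvd_of_le h.W₂_le_derived)
  have ha1 : a ≠ 1 := fun e1 => hw2 (by rw [← hab, e1, hb1, mul_one]; exact one_mem _)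
  rw [hb1, mul_one] at hab
  have hle : ⁅M, M⁆ ⊓ centralizer ({x} : Set G) ≤ W₂.map (MulAut.conj (m : G)).toMonoidHom := by
    rintro y ⟨hy, hyc⟩
    refine ⟨(m : G)⁻¹ * y * m, ?_, by simp [mul_assoc]⟩
    show (m : G)⁻¹ * y * m ∈ W₂
    rw [← h.W₂_centralizer a ha ha1]
    refine ⟨?_, mem_centralizer_singleton_iff.2 ?_⟩
    · have := (mem_set_normalizer_iff.1 (h.normalizer_derived (M.inv_mem m.2)) y).1 hy
      simpa using this
    · have h1 : y * x = x * y := mem_centralizer_singleton_iff.1 hyc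
      rw [e', ← hab] at h1
      calc (m : G)⁻¹ * y * m * a = (m : G)⁻¹ * (y * ((m : G) * a * (m : G)⁻¹)) * m := by group
        _ = a * ((m : G)⁻¹ * y * m) := by rw [h1]; group
  calc Nat.card ↥(⁅M, M⁆ ⊓ centralizer ({x} : Set G))
      ≤ Nat.card ↥(W₂.map (MulAut.conj (m : G)).toMonoidHom) := card_le_of_le hle
    _ = Nat.card W₂ := card_map_of_injective (MulAut.conj (m : G)).injective

theorem card_W₁_coprime_prime : (Nat.card W₁).Coprime (Nat.card W₂) :=
  h.coprime.coprime_dvd_right (card_dvd_of_le h.W₂_le_derived)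

/-- The case of a cyclic subgroup of the `r`-part. -/
theorem relIndex_pPart_gt {F : Subgroup G} (hFP : F ≤ h.pPart) (hF : IsCyclic F)
    (hW : W₂ ≤ F) : 2 * Nat.card W₁ < F.relIndex h.pPart := by
  set r := Nat.card W₂ with hr
  set P := h.pPart with hP
  set e := Nat.card W₁ with he
  haveI := h.factPrime
  have hrp : r.Prime := h.prime₂
  have hPK : P ≤ ⁅M, M⁆ := h.pPart_le
  have hW₁P : W₁ ≤ normalizer (P : Set G) := h.W₁_le.trans h.pPart_normal
  have hP₁ : P ≤ normalizer (P : Set G) := le_normalizer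
  set C : Subgroup G := ⨆ w : W₁, F.map (MulAut.conj (w : G)).toMonoidHom with hC
  have hFC : F ≤ C := fun x hx =>
    le_iSup (fun w : W₁ => F.map (MulAut.conj (w : G)).toMonoidHom) 1 ⟨x, hx, by simp⟩
  have hCP : C ≤ P := iSup_le fun w => by
    rintro _ ⟨x, hx, rfl⟩
    exact (mem_set_normalizer_iff.1 (hW₁P w.2) x).1 (hFP hx)
  have hCn : W₁ ≤ normalizer (C : Set G) := fun a ha => by
    refine Cfsg.Agent.OddLocal.mem_normalizer_of_map_conj ?_
    rw [hC, Subgroup.map_iSup]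
    refine (Equiv.mulLeft (⟨a, ha⟩ : W₁)).iSup_congr fun w => ?_
    rw [Subgroup.map_map]
    congr 1
    ext x
    simp [mul_assoc]
  rcases hCP.lt_or_eq with hlt | heq
  · exact lt_of_lt_of_le (h.index_gt hPK hlt (hW.trans hFC) hW₁P hCn)
      (Nat.le_of_dvd (Nat.pos_of_ne_zero Subgroup.index_ne_zero_of_finite)
        (relIndex_dvd_of_le_left P hFC))
  have hcent : ∀ x ∈ P, ∀ z ∈ W₂, x * z = z * x := by
    have hCc : C ≤ centralizer (W₂ : Set G) := iSup_le fun w => by
      rintro _ ⟨x, hx, rfl⟩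
      rw [mem_centralizer_iff]
      intro z hz
      have hc : x * z = z * x := by
        haveI := hF.isMulCommutative
        exact congrArg Subtype.val
          (IsMulCommutative.is_comm.comm (⟨x, hx⟩ : F) ⟨z, hW hz⟩)
      have hwz : (w : G) * z * (w : G)⁻¹ = z := by
        rw [h.commute_W w w.2 z hz, mul_inv_cancel_right]
      show z * ((w : G) * x * (w : G)⁻¹) = (w : G) * x * (w : G)⁻¹ * z
      conv_lhs => rw [← hwz]
      conv_rhs => rw [← hwz]
      calc (w : G) * z * (w : G)⁻¹ * ((w : G) * x * (w : G)⁻¹) = (w : G) * (z * x) * (w : G)⁻¹ := by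
            group
        _ = _ := by rw [← hc]; group
    intro x hx z hz
    exact (mem_centralizer_iff.1 (hCc (heq.symm ▸ hx)) z hz).symm
  obtain ⟨g, hgF⟩ := (Subgroup.isCyclic_iff_exists_zpowers_eq_top F).1 hF
  obtain ⟨s, hgo⟩ : ∃ s, orderOf g = r ^ (s + 1) := by
    obtain ⟨k, hk⟩ := (h.isPGroup_pPart.to_le hFP).exists_card_eq
    rw [← hgF, Nat.card_zpowers] at hk
    rcases k with _ | s
    · exfalso
      rw [pow_zero, orderOf_eq_one_iff] at hk
      rw [hk, zpowers_one_eq_bot] at hgF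
      exact h.W₂_ne (le_bot_iff.1 (hgF ▸ hW))
    · exact ⟨s, hk⟩
  have hcardF : Nat.card F = r ^ (s + 1) := by rw [← hgF, Nat.card_zpowers, hgo]
  have hs : 1 ≤ s := by
    by_contra hs
    have hFW : W₂ = F := eq_of_le_of_card_ge hW (by
      rw [hcardF, show s = 0 by omega]; simp [hr])
    have hC2 : C ≤ W₂ := iSup_le fun w => by
      rintro _ ⟨x, hx, rfl⟩
      rw [← hFW] at hx
      show (w : G) * x * (w : G)⁻¹ ∈ W₂
      rw [h.commute_W w w.2 x hx, mul_inv_cancel_right]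
      exact hx
    rw [heq] at hC2
    exact h.pPart_derived_lt.not_ge (hC2.trans h.W₂_le_pPart_derived)
  -- the element of order `r` of `F` lies in `W₂`
  have hgW : g ^ r ^ s ∈ W₂ := by
    obtain ⟨w₀, hw₀, hw₁⟩ := (bot_or_exists_ne_one W₂).resolve_left h.W₂_ne
    obtain ⟨i, hi⟩ := mem_zpowers_iff.1 (hgF.symm ▸ hW hw₀ : w₀ ∈ zpowers g)
    have h1 : (g ^ i) ^ r = 1 := by
      rw [hi]; exact congrArg Subtype.val (pow_card_eq_one' (x := (⟨w₀, hw₀⟩ : W₂)))
    rw [← zpow_natCast, ← zpow_mul] at h1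
    have h2 := orderOf_dvd_iff_zpow_eq_one.2 h1
    rw [hgo, pow_succ] at h2
    push_cast at h2
    obtain ⟨j, hj⟩ := Int.dvd_of_mul_dvd_mul_right (by exact_mod_cast hrp.ne_zero) h2
    have hle : zpowers w₀ ≤ zpowers (g ^ r ^ s) := by
      rw [zpowers_le, ← hi, hj, zpow_mul]
      exact zpow_mem (by rw [← Nat.cast_pow, zpow_natCast]; exact mem_zpowers _) j
    have hw₀o : orderOf w₀ = r := by
      rcases (Nat.dvd_prime hrp).1 (Subgroup.orderOf_dvd_natCard W₂ hw₀) with e1 | e1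
      · exact absurd (orderOf_eq_one_iff.1 e1) hw₁
      · exact e1
    have hgs : orderOf (g ^ r ^ s) = r := by
      rw [orderOf_pow, hgo, Nat.gcd_eq_right (pow_dvd_pow r (by omega)), pow_succ,
        Nat.mul_div_cancel_left r (pow_pos hrp.pos s)]
    have heq' := eq_of_le_of_card_ge hle (by rw [Nat.card_zpowers, Nat.card_zpowers, hw₀o, hgs])
    exact (zpowers_le.2 hw₀ : zpowers w₀ ≤ W₂) (heq'.symm ▸ mem_zpowers _)
  -- the normalizer of `F` in `P W₁` lies in `P`
  have hstab : ∀ p ∈ P, ∀ a ∈ W₁, p * a * g * (p * a)⁻¹ ∈ F → a = 1 := by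
    intro p hp a ha hmem
    by_contra ha1
    set x := p * a with hx
    obtain ⟨k, hk⟩ := h.isPGroup_pPart.exists_card_eq
    have hxM : x ∈ M := M.mul_mem (derived_le M (hPK hp)) (h.W₁_le ha)
    set y := x ^ r ^ k with hy
    -- modulo `P` the element `x` is `a`
    have hmod : ∀ j : ℕ, ∃ p' ∈ P, x ^ j = p' * a ^ j := by
      intro j
      induction j with
      | zero => exact ⟨1, one_mem _, by simp⟩
      | succ j ih =>
        obtain ⟨p', hp', e1⟩ := ih
        refine ⟨p' * (a ^ j * p * (a ^ j)⁻¹), P.mul_mem hp'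
          ((mem_set_normalizer_iff.1 (hW₁P (W₁.pow_mem ha j)) p).1 hp), ?_⟩
        rw [pow_succ, e1, hx, pow_succ]
        group
    have hae : a ^ e = 1 := congrArg Subtype.val (pow_card_eq_one' (x := (⟨a, ha⟩ : W₁)))
    have hye : y ^ e = 1 := by
      obtain ⟨p', hp', e1⟩ := hmod e
      rw [hae, mul_one] at e1
      rw [hy, ← pow_mul, mul_comm, pow_mul, e1, ← hk]
      exact congrArg Subtype.val (pow_card_eq_one' (x := (⟨p', hp'⟩ : P)))
    have hy1 : y ≠ 1 := by
      intro e1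
      obtain ⟨p', hp', e2⟩ := hmod (r ^ k)
      rw [← hy, e1] at e2
      have h3 : a ^ r ^ k ∈ ⁅M, M⁆ ⊓ W₁ := by
        refine ⟨hPK ?_, W₁.pow_mem ha _⟩
        have : a ^ r ^ k = p'⁻¹ * (p' * a ^ r ^ k) := by group
        rw [this, ← e2, mul_one]
        exact P.inv_mem hp'
      rw [h.inf_eq, mem_bot] at h3
      exact ha1 (orderOf_eq_one_iff.1 (Nat.eq_one_of_dvd_coprimes
        (h.card_W₁_coprime_prime.pow_right k) (orderOf_dvd_of_pow_eq_one hae)
        (orderOf_dvd_of_pow_eq_one h3)))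
    have hxn : x ∈ normalizer (F : Set G) := by
      refine Cfsg.Agent.OddLocal.mem_normalizer_of_map_conj (eq_of_le_of_card_ge ?_ ?_)
      · rw [← hgF, MonoidHom.map_zpowers, zpowers_le, hgF]
        exact hmem
      · rw [card_map_of_injective (MulAut.conj x).injective]
    have hyn : y ∈ normalizer (F : Set G) := pow_mem hxn _
    have hwx : ∀ z ∈ W₂, y * z * y⁻¹ = z := fun z hz => by
      obtain ⟨p', hp', e2⟩ := hmod (r ^ k)
      rw [← hy] at e2
      rw [e2, show p' * a ^ r ^ k * z * (p' * a ^ r ^ k)⁻¹ =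
        p' * (a ^ r ^ k * z * (a ^ r ^ k)⁻¹) * p'⁻¹ by group,
        h.commute_W _ (W₁.pow_mem ha _) z hz, mul_inv_cancel_right, hcent p' hp' z hz,
        mul_inv_cancel_right]
    have hc := commute_of_fix_omega hrp hgo
      (hgF ▸ (mem_set_normalizer_iff.1 hyn g).1 (hgF ▸ mem_zpowers g)) (hwx _ hgW) hye
      h.card_W₁_coprime_prime
    have hle : F ≤ ⁅M, M⁆ ⊓ centralizer ({y} : Set G) := by
      rw [← hgF, zpowers_le]
      exact ⟨hPK (hFP (hgF ▸ mem_zpowers g)),
        mem_centralizer_singleton_iff.2 (mul_inv_eq_iff_eq_mul.1 hc).symm⟩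
    have h1 := (card_le_of_le hle).trans
      (h.card_fixed_le (pow_mem hxM _) hye hy1)
    rw [hcardF, ← hr] at h1
    have h2 : r ^ 1 < r ^ (s + 1) := Nat.pow_lt_pow_right hrp.one_lt (by omega)
    rw [pow_one] at h2
    omega
  have hr3 : 3 ≤ r := h.card_W₂_three
  by_cases hnorm : ∀ p ∈ P, p * g * p⁻¹ ∈ F
  · -- every conjugate of `F` is normal in `P`
    exfalso
    let T : Set G := Set.range fun w : W₁ => (w : G) * g * (w : G)⁻¹
    have hTC : C = closure T := by
      refine le_antisymm (iSup_le fun w => ?_) ((closure_le _).2 ?_)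
      · rw [← hgF, MonoidHom.map_zpowers, zpowers_le]
        exact subset_closure ⟨w, rfl⟩
      · rintro _ ⟨w, rfl⟩
        exact le_iSup (fun w : W₁ => F.map (MulAut.conj (w : G)).toMonoidHom) w
          ⟨g, hgF ▸ mem_zpowers g, rfl⟩
    have hTP : ∀ t ∈ T, t ∈ P := fun t ht => heq ▸ hTC.ge (subset_closure ht)
    have hTn : ∀ t ∈ T, ∀ p ∈ P, p * t * p⁻¹ ∈ zpowers t := by
      rintro _ ⟨w, rfl⟩ p hp
      have h1 := hnorm _ ((mem_set_normalizer_iff.1 (hW₁P (W₁.inv_mem w.2)) p).1 hp)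
      rw [← hgF] at h1
      obtain ⟨i, hi⟩ := mem_zpowers_iff.1 h1
      refine mem_zpowers_iff.2 ⟨i, ?_⟩
      simp only [conj_zpow, hi]
      group
    -- commutators are central
    have hcentral : ∀ p ∈ P, ∀ q ∈ P, ∀ x ∈ P, x * ⁅p, q⁆ = ⁅p, q⁆ * x := by
      intro p hp q hq
      have hgen : ∀ t ∈ T, ⁅p, q⁆ * t * ⁅p, q⁆⁻¹ = t := by
        intro t ht
        obtain ⟨i, hi⟩ := mem_zpowers_iff.1 (hTn t ht p hp)
        obtain ⟨j, hj⟩ := mem_zpowers_iff.1 (hTn t ht q hq)
        obtain ⟨i', hi'⟩ := mem_zpowers_iff.1 (hTn t ht p⁻¹ (P.inv_mem hp))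
        obtain ⟨j', hj'⟩ := mem_zpowers_iff.1 (hTn t ht q⁻¹ (P.inv_mem hq))
        have hii : (t ^ i) ^ i' = t := by
          rw [← zpow_mul, mul_comm, zpow_mul, hi', conj_zpow, hi]; group
        have hjj : (t ^ j) ^ j' = t := by
          rw [← zpow_mul, mul_comm, zpow_mul, hj', conj_zpow, hj]; group
        calc ⁅p, q⁆ * t * ⁅p, q⁆⁻¹
            = p * (q * (p⁻¹ * (q⁻¹ * t * q⁻¹⁻¹) * p⁻¹⁻¹) * q⁻¹) * p⁻¹ := by
              rw [commutatorElement_def]; group
          _ = ((t ^ i) ^ j) ^ (i' * j') := by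
              rw [← hj', ← conj_zpow, ← hi', ← conj_zpow (a := q), ← conj_zpow (a := q), ← hj,
                ← conj_zpow, ← conj_zpow, ← conj_zpow, ← hi]
              simp only [← zpow_mul]
              ring_nf
          _ = ((t ^ i) ^ i') ^ (j * j') := by simp only [← zpow_mul]; ring_nf
          _ = t := by rw [hii, zpow_mul, hjj]
      have hle : C ≤ centralizer ({⁅p, q⁆} : Set G) := by
        rw [hTC, closure_le]
        intro t ht
        refine mem_centralizer_singleton_iff.2 ?_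
        exact (mul_inv_eq_iff_eq_mul.1 (hgen t ht)).symm
      intro x hx
      exact mem_centralizer_singleton_iff.1 (hle (heq.symm ▸ hx))
    set n := r ^ s with hn
    -- commutators have order dividing `n`
    have hTT : ∀ t ∈ T, ∀ t' ∈ T, ⁅t, t'⁆ ^ n = 1 := by
      intro t ht t' ht'
      have h1 : ⁅t, t'⁆ ∈ zpowers t := by
        rw [commutatorElement_def, show t * t' * t⁻¹ * t'⁻¹ = t * (t' * t * t'⁻¹)⁻¹ by group]
        exact mul_mem (mem_zpowers t) (inv_mem (hTn t ht t' (hTP t' ht')))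
      have h2 : ⁅t, t'⁆ ∈ zpowers t' := by
        rw [commutatorElement_def]
        exact mul_mem (hTn t' ht' t (hTP t ht)) (inv_mem (mem_zpowers t'))
      obtain ⟨w', rfl⟩ := ht'
      set t' := (w' : G) * g * (w' : G)⁻¹ with ht'def
      obtain ⟨i, hi⟩ := mem_zpowers_iff.1 h2
      by_cases hri : (r : ℤ) ∣ i
      · obtain ⟨j, rfl⟩ := hri
        rw [← hi, ← zpow_natCast, ← zpow_mul]
        refine orderOf_dvd_iff_zpow_eq_one.1 ⟨j, ?_⟩
        beta_reduce
        rw [show orderOf ((w' : G) * g * (w' : G)⁻¹) = orderOf g from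
          (MulAut.conj (w' : G)).orderOf_eq g, hgo, hn]
        push_cast
        ring
      · -- then `t'` is a power of the commutator, hence of `t`
        obtain ⟨a, b, hab⟩ : ∃ a b : ℤ, a * i + b * ((r : ℤ) ^ (s + 1)) = 1 :=
          (((Nat.prime_iff_prime_int.1 hrp).coprime_iff_not_dvd.2 hri).symm.pow_right)
        have h3 : t' = ⁅t, t'⁆ ^ a := by
          rw [← hi, ← zpow_mul]
          conv_lhs => rw [← zpow_one t', ← hab, zpow_add, mul_comm a i]
          rw [mul_eq_left]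
          refine orderOf_dvd_iff_zpow_eq_one.1 ⟨b, ?_⟩
          beta_reduce
          rw [show orderOf ((w' : G) * g * (w' : G)⁻¹) = orderOf g from
            (MulAut.conj (w' : G)).orderOf_eq g, hgo]
          push_cast
          ring
        have h4 : t' ∈ zpowers t := h3 ▸ zpow_mem h1 a
        obtain ⟨l, hl⟩ := mem_zpowers_iff.1 h4
        rw [show ⁅t, t'⁆ = 1 from commutatorElement_eq_one_iff_commute.2
          (hl ▸ Commute.self_zpow t l), one_pow]
    have hbil : ∀ p ∈ P, ∀ q ∈ P, ⁅p, q⁆ ^ n = 1 := by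
      have hmulL : ∀ p ∈ P, ∀ p' ∈ P, ∀ q ∈ P, ⁅p * p', q⁆ = ⁅p', q⁆ * ⁅p, q⁆ := by
        intro p hp p' hp' q hq
        have h1 := hcentral p' hp' q hq p hp
        rw [show ⁅p * p', q⁆ = p * ⁅p', q⁆ * p⁻¹ * ⁅p, q⁆ by
          simp only [commutatorElement_def]; group, h1, mul_inv_cancel_right]
      have step : ∀ q ∈ P, (∀ t ∈ T, ⁅t, q⁆ ^ n = 1) → ∀ p ∈ P, ⁅p, q⁆ ^ n = 1 := by
        intro q hq hq' p hp
        have hp' : p ∈ closure T := hTC ▸ heq.symm ▸ hp
        suffices h' : p ∈ P ∧ ⁅p, q⁆ ^ n = 1 from h'.2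
        clear hp
        induction hp' using closure_induction with
        | mem x hx => exact ⟨hTP x hx, hq' x hx⟩
        | one => exact ⟨one_mem _, by simp⟩
        | mul x y _ _ hx hy =>
          refine ⟨P.mul_mem hx.1 hy.1, ?_⟩
          rw [hmulL x hx.1 y hy.1 q hq, (show Commute ⁅y, q⁆ ⁅x, q⁆ from
            (hcentral x hx.1 q hq _ (P.mul_mem (P.mul_mem (P.mul_mem hy.1 hq) (P.inv_mem hy.1))
              (P.inv_mem hq)))).mul_pow, hx.2, hy.2, mul_one]
        | inv x _ hx =>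
          refine ⟨P.inv_mem hx.1, ?_⟩
          have h2 := hmulL x hx.1 x⁻¹ (P.inv_mem hx.1) q hq
          rw [mul_inv_cancel, commutatorElement_one_left, eq_comm, mul_eq_one_iff_eq_inv] at h2
          rw [h2, inv_pow, hx.2, inv_one]
      intro p hp q hq
      refine step q hq (fun t ht => ?_) p hp
      rw [← inv_eq_one, ← inv_pow, commutatorElement_inv]
      exact step t (hTP t ht) (fun t' ht' => hTT t' ht' t ht) q hq
    have hnodd : n ∣ n.choose 2 := by
      have ho : Odd n := (h.odd_of W₂).pow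
      obtain ⟨m, hm⟩ := ho
      refine ⟨m, ?_⟩
      rw [Nat.choose_two_right, hm, show 2 * m + 1 - 1 = 2 * m by omega, mul_left_comm,
        Nat.mul_div_cancel_left _ (by norm_num : 0 < 2)]
    have hpow : ∀ p ∈ P, ∀ q ∈ P, (p * q) ^ n = p ^ n * q ^ n := by
      intro p hp q hq
      have hc : ∀ x : P, x * ⁅(⟨q, hq⟩ : P), ⟨p, hp⟩⁆ = ⁅(⟨q, hq⟩ : P), ⟨p, hp⟩⁆ * x :=
        fun x => Subtype.ext (hcentral q hq p hp x x.2)
      have h1 := congrArg Subtype.val (mul_pow_central hc n)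
      obtain ⟨m, hm⟩ := hnodd
      rw [hm, pow_mul] at h1
      have h2 : (⁅(⟨q, hq⟩ : P), ⟨p, hp⟩⁆ : P) ^ n = 1 := Subtype.ext (hbil q hq p hp)
      rw [h2, one_pow, mul_one] at h1
      simpa using h1
    let Z : Subgroup G :=
      { carrier := {p | p ∈ P ∧ p ^ n = 1}
        one_mem' := ⟨one_mem _, one_pow _⟩
        mul_mem' := fun {p q} hp hq => ⟨P.mul_mem hp.1 hq.1, by
          rw [hpow p hp.1 q hq.1, hp.2, hq.2, mul_one]⟩
        inv_mem' := fun {p} hp => ⟨P.inv_mem hp.1, by rw [inv_pow, hp.2, inv_one]⟩ }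
    have hWZ : W₂ ≤ Z := fun z hz => ⟨h.W₂_le_pPart hz, by
      refine orderOf_dvd_iff_pow_eq_one.1 ((Subgroup.orderOf_dvd_natCard W₂ hz).trans ?_)
      exact dvd_pow_self r (by omega)⟩
    obtain ⟨a, ha, ha1⟩ := (bot_or_exists_ne_one W₁).resolve_left h.W₁_ne
    have hgP : g ∈ P := hFP (hgF ▸ mem_zpowers g)
    have hagP : a * g * a⁻¹ ∈ P := (mem_set_normalizer_iff.1 (hW₁P ha) g).1 hgP
    have hgZ := h.fixed_coset (C := Z) (fun x hx => hPK hx.1) hWZ ha ha1 (by
        refine mem_set_normalizer_iff.2 fun x => ?_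
        show (x ∈ P ∧ x ^ n = 1) ↔ (a * x * a⁻¹ ∈ P ∧ (a * x * a⁻¹) ^ n = 1)
        rw [conj_pow, conj_eq_one_iff]
        exact and_congr (mem_set_normalizer_iff.1 (hW₁P ha) x) Iff.rfl)
      (k := g) (hPK hgP) ⟨P.mul_mem (P.inv_mem hgP) hagP, by
        rw [hpow _ (P.inv_mem hgP) _ hagP, conj_pow, h.commute_W a ha _ hgW, mul_inv_cancel_right,
          inv_pow, inv_mul_cancel]⟩
    have h5 : g ^ n ≠ 1 := fun e1 => by
      have h6 := orderOf_dvd_of_pow_eq_one e1
      rw [hgo, hn] at h6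
      exact absurd (Nat.pow_dvd_pow_iff_le_right hrp.one_lt |>.1 h6) (by omega)
    exact h5 hgZ.2
  · -- count the generators of the conjugates
    push Not at hnorm
    obtain ⟨p₀, hp₀, hp₀F⟩ := hnorm
    let N : Subgroup P := (normalizer (F : Set G)).subgroupOf P
    have hN : N ≠ ⊤ := fun e1 => hp₀F (by
      have : p₀ ∈ normalizer (F : Set G) := by
        have := mem_top (⟨p₀, hp₀⟩ : P)
        rw [← e1] at this
        exact this
      exact (mem_set_normalizer_iff.1 this g).1 (hgF ▸ mem_zpowers g))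
    have hNr : r ≤ N.index := by
      obtain ⟨k, hk⟩ := h.isPGroup_pPart.exists_card_eq
      obtain ⟨j, -, hj⟩ := (Nat.dvd_prime_pow hrp).1 (hk ▸ N.index_dvd_card)
      rcases j with _ | j
      · exact absurd (index_eq_one.1 (by simpa using hj)) hN
      · rw [hj, pow_succ]
        exact Nat.le_mul_of_pos_left _ (pow_pos hrp.pos _)
    let Gen := {x : F // orderOf x = r ^ (s + 1)}
    have hGen : Nat.card Gen = r ^ s * (r - 1) := by
      haveI := hF
      rw [Nat.card_eq_fintype_card, Fintype.card_subtype, IsCyclic.card_orderOf_eq_totient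
        (by rw [← Nat.card_eq_fintype_card, hcardF]), Nat.totient_prime_pow hrp (by omega)]
      simp
    let ι : (W₁ × (P ⧸ N)) × Gen → P := fun q =>
      ⟨(q.1.1 : G) * ((q.1.2.out : P) : G) * ((q.2.1 : F) : G) *
          ((q.1.1 : G) * ((q.1.2.out : P) : G))⁻¹, by
        have h1 := (mem_set_normalizer_iff.1 (hW₁P q.1.1.2) _).1
          (P.mul_mem (P.mul_mem q.1.2.out.2 (hFP (q.2.1).2)) (P.inv_mem q.1.2.out.2))
        simpa [mul_assoc] using h1⟩
    have hgenF : ∀ x : Gen, zpowers ((x.1 : F) : G) = F := fun x =>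
      eq_of_le_of_card_ge (zpowers_le.2 x.1.2) (by
        rw [Nat.card_zpowers, Subgroup.orderOf_coe, x.2, hcardF])
    have hinj : Function.Injective ι := by
      rintro ⟨⟨w, q⟩, x⟩ ⟨⟨w', q'⟩, x'⟩ heq'
      have h1 : (w : G) * (q.out : G) * (x.1 : G) * ((w : G) * (q.out : G))⁻¹ =
          (w' : G) * (q'.out : G) * (x'.1 : G) * ((w' : G) * (q'.out : G))⁻¹ :=
        congrArg Subtype.val heq'
      set u := (q'.out : G)⁻¹ * ((w' : G)⁻¹ * w) * (q.out : G) with hu
      have h2 : u * (x.1 : G) * u⁻¹ = (x'.1 : G) := by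
        calc u * (x.1 : G) * u⁻¹ = ((w' : G) * (q'.out : G))⁻¹ *
              ((w : G) * (q.out : G) * (x.1 : G) * ((w : G) * (q.out : G))⁻¹) *
              ((w' : G) * (q'.out : G)) := by rw [hu]; group
          _ = _ := by rw [h1]; group
      have h3 : u ∈ normalizer (F : Set G) := by
        refine Cfsg.Agent.OddLocal.mem_normalizer_of_map_conj ?_
        conv_lhs => rw [← hgenF x, MonoidHom.map_zpowers]
        show zpowers (u * (x.1 : G) * u⁻¹) = F
        rw [h2, hgenF x']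
      have h4 : (w' : G)⁻¹ * w = 1 := by
        set a := (w' : G)⁻¹ * (w : G) with ha
        have haW : a ∈ W₁ := W₁.mul_mem (W₁.inv_mem w'.2) w.2
        refine hstab ((q'.out : G)⁻¹ * (a * (q.out : G) * a⁻¹))
          (P.mul_mem (P.inv_mem q'.out.2) ((mem_set_normalizer_iff.1 (hW₁P haW) _).1 q.out.2))
          a haW ?_
        rw [show (q'.out : G)⁻¹ * (a * (q.out : G) * a⁻¹) * a = u by rw [hu]; group]
        exact (mem_set_normalizer_iff.1 h3 g).1 (hgF ▸ mem_zpowers g)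
      have hww : w = w' := Subtype.ext (inv_mul_eq_one.1 h4).symm
      subst hww
      have hqq : q' = q := by
        rw [← QuotientGroup.out_eq' q', ← QuotientGroup.out_eq' q]
        refine QuotientGroup.eq.2 (mem_subgroupOf.2 ?_)
        simpa [hu] using h3
      subst hqq
      have h5 : x = x' := Subtype.ext (Subtype.ext
        (mul_left_cancel (mul_right_cancel h1) :))
      rw [h5]
    have hlt := Fintype.card_lt_of_injective_of_notMem ι hinj (b := 1) (by
      rintro ⟨⟨⟨w, q⟩, x⟩, hq⟩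
      have h1 : (w : G) * (q.out : G) * (x.1 : G) * ((w : G) * (q.out : G))⁻¹ = 1 :=
        congrArg Subtype.val hq
      rw [conj_eq_one_iff] at h1
      have h2 := x.2
      rw [show (x.1 : F) = 1 from Subtype.ext h1, orderOf_one] at h2
      exact absurd h2.symm (Nat.one_lt_pow (by omega) hrp.one_lt).ne')
    rw [Fintype.card_prod, Fintype.card_prod, ← Nat.card_eq_fintype_card,
      ← Nat.card_eq_fintype_card, ← Nat.card_eq_fintype_card, ← Nat.card_eq_fintype_card,
      ← index_eq_card, hGen] at hlt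
    have hidx : F.relIndex P * r ^ (s + 1) = Nat.card P := by
      rw [← hcardF, ← Nat.card_congr (subgroupOfEquivOfLe hFP).toEquiv, relIndex, index_mul_card]
    have h12 : e * N.index * (r ^ s * (r - 1)) < Nat.card P := hlt
    by_contra hle
    push Not at hle
    have h6 : 2 * r ^ (s + 1) ≤ r * (r ^ s * (r - 1)) := by
      rw [← mul_assoc, ← pow_succ', mul_comm 2]
      exact Nat.mul_le_mul_left _ (by omega)
    have h7 : e * r * (r ^ s * (r - 1)) ≤ e * N.index * (r ^ s * (r - 1)) :=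
      Nat.mul_le_mul_right _ (Nat.mul_le_mul_left _ hNr)
    have h8 : F.relIndex P * r ^ (s + 1) ≤ 2 * e * r ^ (s + 1) := Nat.mul_le_mul_right _ hle
    have h9 : e * (2 * r ^ (s + 1)) ≤ e * (r * (r ^ s * (r - 1))) := Nat.mul_le_mul_left _ h6
    have h10 : 2 * e * r ^ (s + 1) = e * (2 * r ^ (s + 1)) := by ring
    have h11 : e * r * (r ^ s * (r - 1)) = e * (r * (r ^ s * (r - 1))) := by ring
    linarith

/-- A cyclic subgroup of `K` through `W₂` has index greater than `2 |W₁|`. -/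
theorem relIndex_cyclic_gt {E : Subgroup G} (hEK : E ≤ ⁅M, M⁆) (hE : IsCyclic E) (hW : W₂ ≤ E) :
    2 * Nat.card W₁ < E.relIndex ⁅M, M⁆ := by
  haveI := hE
  have h1 := h.relIndex_pPart_gt (F := E ⊓ h.pPart) inf_le_right
    (Subgroup.isCyclic_of_le inf_le_left) (le_inf hW h.W₂_le_pPart)
  rw [inf_relIndex_right] at h1
  exact h1.trans_le (relIndex_le_of_le_right h.pPart_le Subgroup.index_ne_zero_of_finite)

/-- A fixed-point-free subgroup of `M ∩ C(W₂)` outside `K` is small. -/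
theorem card_compl_le {E V : Subgroup G} (hV : OddLocal.CN.FPF E V) (hEM : E ≤ M) (hW : W₂ ≤ E)
    (hE : ¬ E ≤ ⁅M, M⁆) (hcE : E ≤ centralizer (W₂ : Set G)) :
    Nat.card E ≤ Nat.card W₁ * Nat.card W₂ := by
  set D := E ⊓ ⁅M, M⁆ with hD
  have hDle : D ≤ E := inf_le_left
  have hDfpf : OddLocal.CN.FPF D V :=
    { abelian := hV.abelian
      ne_bot := hV.ne_bot
      norm := hDle.trans hV.norm
      cop := hV.cop.coprime_dvd_left (card_dvd_of_le hDle)
      free := fun a ha => hV.free a (hDle ha) }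
  have hnil : Group.IsNilpotent D := by
    have := h.nil
    exact Group.nilpotent_of_mulEquiv (subgroupOfEquivOfLe (inf_le_right : D ≤ ⁅M, M⁆))
  have hDc : IsCyclic D := hDfpf.isCyclic hnil (h.odd_of D)
  have hWD : W₂ ≤ D := le_inf hW h.W₂_le_derived
  have hind : D.relIndex E ≤ Nat.card W₁ := by
    rw [hD, inf_comm, inf_relIndex_right]
    have h1 : (⁅M, M⁆).relIndex E ∣ (⁅M, M⁆).relIndex M := by
      haveI := normal_kin M
      have h2 := (kin M).relIndex_dvd_index_of_normal (E.subgroupOf M)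
      rwa [relIndex_subgroupOf hEM, ← relIndex] at h2
    exact Nat.le_of_dvd Nat.card_pos (by rw [← h.index_kin, ← relIndex]; exact h1)
  have hcard : D.relIndex E * Nat.card D = Nat.card E := by
    rw [← Nat.card_congr (subgroupOfEquivOfLe hDle).toEquiv, relIndex, index_mul_card]
  suffices hDW : Nat.card D ≤ Nat.card W₂ by
    rw [← hcard]; exact Nat.mul_le_mul hind hDW
  -- an element of prime order outside `K`
  obtain ⟨x, hxE, hxK⟩ := Set.not_subset.1 hE
  obtain ⟨k, hk⟩ : ∃ k, k = Nat.card ↥⁅M, M⁆ := ⟨_, rfl⟩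
  set y := x ^ k with hy
  have hxe : x ^ Nat.card W₁ ∈ ⁅M, M⁆ := by
    haveI := normal_kin M
    have h3 : (⟨x, hEM hxE⟩ : M) ^ (kin M).index ∈ kin M := Subgroup.pow_index_mem _ _
    rw [h.index_kin] at h3
    exact mem_subgroupOf.1 h3
  have hy1 : y ≠ 1 := fun e1 => hxK (by
    obtain ⟨a, b, hab⟩ := (Int.isCoprime_iff_gcd_eq_one.2 (by
      rw [hk]; exact_mod_cast h.coprime) : IsCoprime (Nat.card W₁ : ℤ) (k : ℤ)) |>.symm
    rw [← zpow_one x, ← hab, zpow_add, mul_comm a, zpow_mul, zpow_natCast, ← hy, e1, one_zpow,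
      one_mul, mul_comm b, zpow_mul, zpow_natCast]
    exact zpow_mem hxe b)
  have hye : y ^ Nat.card W₁ = 1 := by
    rw [hy, ← pow_mul, mul_comm, pow_mul, hk]
    exact congrArg Subtype.val (pow_card_eq_one' (x := (⟨_, hxe⟩ : ↥⁅M, M⁆)))
  obtain ⟨s, hs, hsd⟩ := Nat.exists_prime_and_dvd (fun e1 => hy1 (orderOf_eq_one_iff.1 e1))
  set z := y ^ (orderOf y / s) with hz
  have hzo : orderOf z = s := by
    rw [hz, orderOf_pow, Nat.gcd_eq_right (Nat.div_dvd_of_dvd hsd),
      Nat.div_div_self hsd (orderOf_pos y).ne']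
  have hzE : z ∈ E := pow_mem (pow_mem hxE _) _
  have hze : z ^ Nat.card W₁ = 1 := by rw [hz, ← pow_mul, mul_comm, pow_mul, hye, one_pow]
  have hz1 : z ≠ 1 := fun e1 => hs.ne_one (by rw [← hzo, e1, orderOf_one])
  haveI := h.factPrime
  set r := Nat.card W₂ with hr
  -- the prime order elements of `D` commute with `z`
  have hDn : z ∈ normalizer (D : Set G) := by
    refine mem_set_normalizer_iff.2 fun d => ?_
    show (d ∈ E ∧ d ∈ ⁅M, M⁆) ↔ (z * d * z⁻¹ ∈ E ∧ z * d * z⁻¹ ∈ ⁅M, M⁆)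
    exact and_congr (mem_set_normalizer_iff.1 (le_normalizer hzE) d)
      (mem_set_normalizer_iff.1 (h.normalizer_derived (hEM hzE)) d)
  have hfix : ∀ d ∈ D, z * d * z⁻¹ = d → d ∈ W₂ := by
    intro d hd hdz
    have h1 : W₂ ≤ ⁅M, M⁆ ⊓ centralizer ({z} : Set G) := le_inf h.W₂_le_derived fun w hw =>
      mem_centralizer_singleton_iff.2 (mem_centralizer_iff.1 (hcE hzE) w hw)
    rw [eq_of_le_of_card_ge h1 (h.card_fixed_le (hEM hzE) hze hz1)]
    exact ⟨hd.2, mem_centralizer_singleton_iff.2 (mul_inv_eq_iff_eq_mul.1 hdz).symm⟩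
  have hcom : ∀ d ∈ D, (orderOf d).Prime → d ∈ W₂ := by
    intro d hd hdo
    have hdn : z ∈ normalizer (zpowers d : Set G) :=
      OddLocal.normalizer_le_normalizer_of_isCyclic hDc (zpowers_le.2 hd) hDn
    exact hfix d hd (mul_inv_eq_iff_eq_mul.2
      (hV.commute_of_normalize hdo hs (hDle hd) hzE rfl hzo hdn).eq)
  obtain ⟨g, hg⟩ := (Subgroup.isCyclic_iff_exists_zpowers_eq_top D).1 hDc
  have hgD : g ∈ D := hg ▸ mem_zpowers g
  have hg1 : g ≠ 1 := fun e1 => h.W₂_ne (le_bot_iff.1 (by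
    rw [← zpowers_one_eq_bot, ← e1, hg]; exact hWD))
  have hpr : ∀ {t : ℕ}, t.Prime → t ∣ orderOf g → t = r := fun {t} ht htd => by
    have ho : orderOf (g ^ (orderOf g / t)) = t := by
      rw [orderOf_pow, Nat.gcd_eq_right (Nat.div_dvd_of_dvd htd),
        Nat.div_div_self htd (orderOf_pos g).ne']
    have h1 := Subgroup.orderOf_dvd_natCard W₂
      (hcom _ (pow_mem hgD _) (by rw [ho]; exact ht))
    rw [ho] at h1
    exact (Nat.prime_dvd_prime_iff_eq ht h.prime₂).1 h1
  obtain ⟨j, hj⟩ : ∃ j, orderOf g = r ^ (j + 1) := by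
    have h1 := Nat.eq_prime_pow_of_unique_prime_dvd (orderOf_pos g).ne' fun {t} ht htd => hpr ht htd
    rcases e1 : (orderOf g).primeFactorsList.length with _ | j
    · rw [e1, pow_zero, orderOf_eq_one_iff] at h1
      exact absurd h1 hg1
    · exact ⟨j, by rw [h1, e1]⟩
  have hgj : g ^ r ^ j ∈ W₂ := hcom _ (pow_mem hgD _) (by
    rw [orderOf_pow, hj, Nat.gcd_eq_right (pow_dvd_pow r (by omega)), pow_succ,
      Nat.mul_div_cancel_left r (pow_pos h.prime₂.pos j)]
    exact h.prime₂)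
  have hzg := commute_of_fix_omega h.prime₂ hj (hg ▸ (mem_set_normalizer_iff.1 hDn g).1 hgD)
    (mul_inv_eq_iff_eq_mul.2 (mem_centralizer_iff.1 (hcE hzE) _ hgj).symm) hze
    h.card_W₁_coprime_prime
  exact card_le_of_le (hg ▸ zpowers_le.2 (hfix g hgD hzg))

end Cfsg.Agent.OddFinal.Degen
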