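import Mathlib
import Cfsg.Agent.Coherence.Dade
import Cfsg.Agent.Char.Ortho

/-!
# Masses of functions on subsets of a finite group

`mass X Y` is the part of the squared norm of `Y` coming from the subset `X`.  The projection
inequality bounds the inner product with a function in the image of the Dade map.
-/

set_option autoImplicit false
set_option linter.unusedSectionVars false

namespace Cfsg.Agent.OddFinal

open scoped ComplexConjugate
open Cfsg.Agent.Coherence (Dade.support)

universe u

variable {G : Type u} [Group G] [Fintype G]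

/-- The contribution of the subset `X` to the squared norm of `Y`. -/
noncomputable def mass (X : Set G) (Y : G → ℂ) : ℝ :=
  (Nat.card G : ℝ)⁻¹ * ∑ g : G, X.indicator (fun g => ‖Y g‖ ^ 2) g

open Classical in
theorem mass_eq_sum_filter (X : Set G) (Y : G → ℂ) :
    mass X Y = (Nat.card G : ℝ)⁻¹ * ∑ g ∈ Finset.univ.filter (· ∈ X), ‖Y g‖ ^ 2 := by
  rw [mass, Finset.sum_filter]
  simp only [Set.indicator_apply]

theorem mass_nonneg (X : Set G) (Y : G → ℂ) : 0 ≤ mass X Y :=
  mul_nonneg (by positivity)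
    (Finset.sum_nonneg fun g _ => Set.indicator_nonneg (fun g _ => sq_nonneg _) g)

theorem mass_empty (Y : G → ℂ) : mass (∅ : Set G) Y = 0 := by
  simp [mass]

theorem mass_univ (Y : G → ℂ) : mass Set.univ Y = (classInner Y Y).re := by
  rw [Char.classInner_self_eq, Complex.ofReal_re, mass]
  simp [Complex.normSq_eq_norm_sq]

theorem mass_union {X X' : Set G} (h : Disjoint X X') (Y : G → ℂ) :
    mass (X ∪ X') Y = mass X Y + mass X' Y := by
  rw [mass, mass, mass, ← mul_add, ← Finset.sum_add_distrib]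
  congr 1
  exact Finset.sum_congr rfl fun g _ => congrFun (Set.indicator_union_of_disjoint h _) g

theorem mass_mono {X X' : Set G} (h : X ⊆ X') (Y : G → ℂ) : mass X Y ≤ mass X' Y :=
  mul_le_mul_of_nonneg_left
    (Finset.sum_le_sum fun g _ =>
      Set.indicator_le_indicator_of_subset h (fun _ => sq_nonneg _) g)
    (by positivity)

theorem mass_congr {X : Set G} {Y Y' : G → ℂ} (h : ∀ g ∈ X, ‖Y g‖ = ‖Y' g‖) :
    mass X Y = mass X Y' := by
  rw [mass, mass]
  congr 1
  refine Finset.sum_congr rfl fun g _ => ?_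
  by_cases hg : g ∈ X
  · simp [hg, h g hg]
  · simp [hg]

theorem mass_le_norm (X : Set G) (Y : G → ℂ) : mass X Y ≤ (classInner Y Y).re :=
  mass_univ Y ▸ mass_mono (Set.subset_univ X) Y

theorem mass_compl (X : Set G) (Y : G → ℂ) :
    mass Xᶜ Y = (classInner Y Y).re - mass X Y := by
  rw [← mass_univ Y, ← Set.union_compl_self X, mass_union disjoint_compl_right]
  ring

/-- The proportion of `G` lying in `X`. -/
theorem mass_one (X : Set G) : mass X (fun _ => 1) = (Nat.card X : ℝ) / Nat.card G := by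
  classical
  rw [mass_eq_sum_filter]
  simp only [norm_one, one_pow, Finset.sum_const, nsmul_eq_mul, mul_one]
  rw [show Nat.card X = (Finset.univ.filter (· ∈ X)).card from by
    rw [Nat.card_eq_fintype_card, ← Fintype.card_subtype], div_eq_inv_mul]

/-- A function of absolute value at least `1` on `X` has mass at least the proportion of `X`. -/
theorem mass_one_le {X : Set G} {Y : G → ℂ} (h : ∀ g ∈ X, 1 ≤ ‖Y g‖) :
    mass X (fun _ => 1) ≤ mass X Y := by
  refine mul_le_mul_of_nonneg_left (Finset.sum_le_sum fun g _ => ?_) (by positivity)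
  by_cases hg : g ∈ X
  · simp only [Set.indicator_of_mem hg, norm_one, one_pow]
    exact one_le_pow₀ (h g hg)
  · simp [hg]

/-- A nonzero rational integer has absolute value at least `1`. -/
theorem one_le_norm_intCast {n : ℤ} (hn : n ≠ 0) : 1 ≤ ‖(n : ℂ)‖ := by
  rw [Complex.norm_intCast]
  exact_mod_cast Int.one_le_abs hn

/-- Inner products of functions with disjoint supports vanish. -/
theorem classInner_eq_zero_of_disjoint {f f' : G → ℂ} (h : ∀ g, f g = 0 ∨ f' g = 0) :
    classInner f f' = 0 := by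
  rw [classInner, Finset.sum_eq_zero, mul_zero]
  intro g _
  rcases h g with h | h <;> simp [h]

/-- A function supported in `X` only sees the part of `Y` on `X`. -/
theorem norm_classInner_sq_le {X : Set G} {f : G → ℂ} (hf : ∀ g ∉ X, f g = 0) (Y : G → ℂ) :
    ‖classInner f Y‖ ^ 2 ≤ (classInner f f).re * mass X Y := by
  classical
  rw [mass_eq_sum_filter, Char.classInner_self_eq, Complex.ofReal_re, classInner]
  set s := Finset.univ.filter (· ∈ X) with hs
  have e1 : ∑ g : G, f g * conj (Y g) = ∑ g ∈ s, f g * conj (Y g) :=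
    (Finset.sum_subset (Finset.subset_univ s) fun g _ hg => by
      rw [hf g (by simpa [hs] using hg), zero_mul]).symm
  have e2 : ∑ g : G, Complex.normSq (f g) = ∑ g ∈ s, ‖f g‖ ^ 2 := by
    simp only [Complex.normSq_eq_norm_sq]
    exact (Finset.sum_subset (Finset.subset_univ s) fun g _ hg => by
      rw [hf g (by simpa [hs] using hg)]; simp).symm
  have h1 : ‖∑ g ∈ s, f g * conj (Y g)‖ ≤ ∑ g ∈ s, ‖f g‖ * ‖Y g‖ :=
    (norm_sum_le _ _).trans_eq (Finset.sum_congr rfl fun g _ => by
      rw [norm_mul, Complex.norm_conj])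
  have h2 : ‖∑ g ∈ s, f g * conj (Y g)‖ ^ 2 ≤
      (∑ g ∈ s, ‖f g‖ ^ 2) * ∑ g ∈ s, ‖Y g‖ ^ 2 :=
    (pow_le_pow_left₀ (norm_nonneg _) h1 2).trans
      (Finset.sum_mul_sq_le_sq_mul_sq s _ _)
  rw [e1, e2, norm_mul, mul_pow, norm_inv, Complex.norm_natCast]
  calc ((Nat.card G : ℝ)⁻¹) ^ 2 * ‖∑ g ∈ s, f g * conj (Y g)‖ ^ 2
      ≤ ((Nat.card G : ℝ)⁻¹) ^ 2 * ((∑ g ∈ s, ‖f g‖ ^ 2) * ∑ g ∈ s, ‖Y g‖ ^ 2) :=
        mul_le_mul_of_nonneg_left h2 (by positivity)
    _ = _ := by ring

section Dade

variable {A : Set G} {L : Subgroup G} [Fintype L] {H : G → Subgroup G}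

/-- The projection inequality: a function supported in `A` bounds the mass on the support of the
Dade map from below. -/
theorem projection (hD : DadeHypothesis A L H) {f : L → ℂ} (hf : IsClassFunction L f)
    (hfA : ∀ x : L, (x : G) ∉ A → f x = 0) (Y : G → ℂ) :
    ‖classInner (dadeIsometry A L H f) Y‖ ^ 2 ≤
      (classInner f f).re * mass (Dade.support A H) Y := by
  have h := norm_classInner_sq_le (X := Dade.support A H) (f := dadeIsometry A L H f)
    (fun g hg => Coherence.Dade.dade_eq_zero hD hg) Y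
  rwa [Coherence.Dade.inner_dade_dade hD f f hf hfA hf] at h

open Classical in
/-- The mass of the support in terms of averages over the cosets `a H a`. -/
theorem mass_support (hD : DadeHypothesis A L H) {Y : G → ℂ} (hY : IsClassFunction G Y) :
    mass (Dade.support A H) Y = (Nat.card L : ℝ)⁻¹ *
      ∑ a ∈ Finset.univ.filter (fun a : L => (a : G) ∈ A), (Nat.card (H (a : G)) : ℝ)⁻¹ *
        ∑ u ∈ Finset.univ.filter (· ∈ H (a : G)), ‖Y ((a : G) * u)‖ ^ 2 := by
  have h := Coherence.Dade.sum_support hD (fun g => ((‖Y g‖ ^ 2 : ℝ) : ℂ)) fun g k => by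
    simp only [hY g k]
  have h' : (Nat.card L : ℝ) * ∑ g ∈ Finset.univ.filter (· ∈ Dade.support A H), ‖Y g‖ ^ 2 =
      (Nat.card G : ℝ) * ∑ a ∈ Finset.univ.filter (fun a : L => (a : G) ∈ A),
        (Nat.card (H (a : G)) : ℝ)⁻¹ *
          ∑ u ∈ Finset.univ.filter (· ∈ H (a : G)), ‖Y ((a : G) * u)‖ ^ 2 := by
    apply Complex.ofReal_injective
    push_cast at h ⊢
    exact h
  rw [mass_eq_sum_filter]
  have hG : (Nat.card G : ℝ) ≠ 0 := Nat.cast_ne_zero.2 Nat.card_pos.ne'
  have hL : (Nat.card L : ℝ) ≠ 0 := Nat.cast_ne_zero.2 Nat.card_pos.ne'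
  rw [eq_inv_mul_iff_mul_eq₀ hL, mul_left_comm, h', inv_mul_cancel_left₀ hG]

open Classical in
/-- The mass of the support when all the subgroups `H a` are trivial. -/
theorem mass_support_bot (hD : DadeHypothesis A L fun _ => ⊥) {Y : G → ℂ}
    (hY : IsClassFunction G Y) :
    mass (Dade.support A fun _ => ⊥) Y = (Nat.card L : ℝ)⁻¹ *
      ∑ a ∈ Finset.univ.filter (fun a : L => (a : G) ∈ A), ‖Y (a : G)‖ ^ 2 := by
  rw [mass_support hD hY]
  congr 1
  refine Finset.sum_congr rfl fun a _ => ?_
  rw [show (Finset.univ.filter fun u : G => u ∈ (⊥ : Subgroup G)) = {1} by ext u; simp,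
    Finset.sum_singleton, Subgroup.card_bot, Nat.cast_one, inv_one, one_mul, mul_one]

open Classical in
/-- The support of the Dade map covers the proportion `|A| / |L|` of `G`. -/
theorem mass_support_one (hD : DadeHypothesis A L H) :
    mass (Dade.support A H) (fun _ => 1) =
      (Nat.card {a : L // (a : G) ∈ A} : ℝ) / Nat.card L := by
  rw [mass_support hD (fun _ _ => rfl), div_eq_inv_mul]
  congr 1
  have : ∀ a : L, (Nat.card (H (a : G)) : ℝ)⁻¹ *
      ∑ _u ∈ Finset.univ.filter (· ∈ H (a : G)), ‖(1 : ℂ)‖ ^ 2 = 1 := by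
    intro a
    rw [Finset.sum_const, nsmul_eq_mul, norm_one, one_pow, mul_one, ← Fintype.card_subtype,
      ← Nat.card_eq_fintype_card]
    exact inv_mul_cancel₀ (Nat.cast_ne_zero.2 Nat.card_pos.ne')
  rw [Finset.sum_congr rfl fun a _ => this a, Finset.sum_const, nsmul_eq_mul, mul_one,
    Nat.card_eq_fintype_card, ← Fintype.card_subtype]

end Dade

end Cfsg.Agent.OddFinal
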