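import Mathlib
import Cfsg.Agent.CyclicTI.Apply
import Cfsg.Agent.OddFinal.EtaMass

/-!
# The characters of a self-normalizing cyclic pair: coordinates, values off `V^G`, masses

`Left W₁ W₂` are the linear characters of `W = W₁ ⊔ W₂` trivial on `W₂`, `Right W₁ W₂` those
trivial on `W₁`; `vSet` is `W \ (W₁ ∪ W₂)` and `vG` the union of its conjugates.
-/

set_option autoImplicit false
set_option linter.unusedSectionVars false

namespace Cfsg.Agent.OddFinal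

open scoped ComplexConjugate
open Cfsg.Agent.Coherence (Dade.support)

universe u

variable {G : Type u} [Group G]

/-- The linear characters of `W₁ ⊔ W₂` trivial on `W₂`. -/
abbrev Left (W₁ W₂ : Subgroup G) : Type u :=
  {f : ↥(W₁ ⊔ W₂) →* ℂˣ // ∀ w : ↥(W₁ ⊔ W₂), (w : G) ∈ W₂ → f w = 1}

/-- The linear characters of `W₁ ⊔ W₂` trivial on `W₁`. -/
abbrev Right (W₁ W₂ : Subgroup G) : Type u :=
  {f : ↥(W₁ ⊔ W₂) →* ℂˣ // ∀ w : ↥(W₁ ⊔ W₂), (w : G) ∈ W₁ → f w = 1}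

/-- The elements of `W₁ ⊔ W₂` outside both factors. -/
def vSet (W₁ W₂ : Subgroup G) : Set G := {w | w ∈ W₁ ⊔ W₂ ∧ w ∉ W₁ ∧ w ∉ W₂}

/-- The union of the conjugates of `vSet W₁ W₂`. -/
def vG (W₁ W₂ : Subgroup G) : Set G := Dade.support (vSet W₁ W₂) (fun _ => ⊥)

variable {W₁ W₂ : Subgroup G}

theorem mem_vG {g : G} : g ∈ vG W₁ W₂ ↔ ∃ x : G, x * g * x⁻¹ ∈ vSet W₁ W₂ := by
  constructor
  · rintro ⟨a, ha, u, hu, x, hx⟩
    rw [Subgroup.mem_bot.1 hu, mul_one] at hx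
    exact ⟨x, hx ▸ ha⟩
  · rintro ⟨x, hx⟩
    exact ⟨_, hx, 1, one_mem _, x, (mul_one _).symm⟩

theorem vSet_subset_vG : vSet W₁ W₂ ⊆ vG W₁ W₂ := fun g hg =>
  mem_vG.2 ⟨1, by simpa using hg⟩

theorem vSet_comm : vSet W₂ W₁ = vSet W₁ W₂ := by
  ext w
  simp only [vSet, Set.mem_setOf_eq, sup_comm W₂ W₁]
  tauto

theorem vG_comm : vG W₂ W₁ = vG W₁ W₂ := by rw [vG, vG, vSet_comm]

/-- `W \ (W₁ ∪ W₂)` is a trivial intersection set with normalizer `W`. -/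
theorem dade_vSet [Fintype G] (hW : IsSelfNormalizingCyclic W₁ W₂) :
    DadeHypothesis (vSet W₁ W₂) (W₁ ⊔ W₂) (fun _ => ⊥) := by
  have hcomm : ∀ a ∈ W₁ ⊔ W₂, ∀ b ∈ W₁ ⊔ W₂, a * b = b * a := fun a ha b hb =>
    congrArg Subtype.val (hW.2.2.2.2.1.isMulCommutative.is_comm.comm
      (⟨a, ha⟩ : ↥(W₁ ⊔ W₂)) ⟨b, hb⟩)
  have hcent : ∀ a ∈ vSet W₁ W₂, Subgroup.centralizer ({a} : Set G) ≤ W₁ ⊔ W₂ := by
    intro a ha c hc
    have h : a * c = c * a := Coherence.Dade.mem_centralizer_singleton.1 hc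
    have e : c * a * c⁻¹ = a := by rw [← h, mul_inv_cancel_right]
    exact CyclicTI.mem_of_conj_mem hW ha.1 ha.2.1 ha.2.2 (e.symm ▸ ha.1) (e.symm ▸ ha.2.1)
      (e.symm ▸ ha.2.2)
  constructor
  · exact fun h => h.2.1 W₁.one_mem
  · exact fun a ha => ha.1
  · intro x hx a ha
    have e : x * a * x⁻¹ = a := by rw [hcomm x hx a ha.1, mul_inv_cancel_right]
    rw [e]
    exact ha
  · intro a ha g hg
    exact ⟨g, CyclicTI.mem_of_conj_mem hW ha.1 ha.2.1 ha.2.2 hg.1 hg.2.1 hg.2.2, rfl⟩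
  · exact fun a _ => bot_le
  · intro a _ c _ u hu
    rw [Subgroup.mem_bot] at hu ⊢
    simp [hu]
  · exact fun a _ => bot_inf_eq _
  · intro a ha
    rw [bot_sup_eq]
    exact inf_eq_right.2 (hcent a ha)
  · intro a _ b _
    simp

variable [Fintype G]

noncomputable instance : Fintype (Left W₁ W₂) :=
  have := CyclicTI.finite_hom (W₁ ⊔ W₂)
  Fintype.ofFinite _

noncomputable instance : Fintype (Right W₁ W₂) :=
  have := CyclicTI.finite_hom (W₁ ⊔ W₂)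
  Fintype.ofFinite _

theorem card_left (hW : IsSelfNormalizingCyclic W₁ W₂) :
    Fintype.card (Left W₁ W₂) = Nat.card W₁ := by
  have h := CyclicTI.card_trivialOn hW.2.2.2.2.1 W₂ le_sup_right
  rw [CyclicTI.card_sup hW] at h
  rw [← Nat.card_eq_fintype_card]
  exact Nat.eq_of_mul_eq_mul_right Nat.card_pos h

theorem card_right (hW : IsSelfNormalizingCyclic W₁ W₂) :
    Fintype.card (Right W₁ W₂) = Nat.card W₂ := by
  have h := CyclicTI.card_trivialOn hW.2.2.2.2.1 W₁ le_sup_left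
  rw [CyclicTI.card_sup hW, mul_comm (Nat.card W₁)] at h
  rw [← Nat.card_eq_fintype_card]
  exact Nat.eq_of_mul_eq_mul_right Nat.card_pos h

/-- Every linear character of `W` is uniquely a product of one from each side. -/
noncomputable def coords (hW : IsSelfNormalizingCyclic W₁ W₂) :
    Left W₁ W₂ × Right W₁ W₂ ≃ (↥(W₁ ⊔ W₂) →* ℂˣ) :=
  Equiv.ofBijective (fun x => x.1.1 * x.2.1) ⟨fun x y h => by
      obtain ⟨h1, h2⟩ :=
        (CyclicTI.mul_eq_mul_iff hW.2.2.2.1 x.1.2 x.2.2 y.1.2 y.2.2).1 h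
      exact Prod.ext (Subtype.ext h1) (Subtype.ext h2),
    fun ω => by
      obtain ⟨φ, ψ, hφ, hψ, h⟩ := CyclicTI.exists_mul_eq hW ω
      exact ⟨(⟨φ, hφ⟩, ⟨ψ, hψ⟩), h⟩⟩

theorem coords_apply (hW : IsSelfNormalizingCyclic W₁ W₂) (φ : Left W₁ W₂)
    (ψ : Right W₁ W₂) : coords hW (φ, ψ) = φ.1 * ψ.1 := rfl

theorem sum_coords (hW : IsSelfNormalizingCyclic W₁ W₂)
    [Fintype (↥(W₁ ⊔ W₂) →* ℂˣ)] {M : Type*} [AddCommMonoid M]
    (F : (↥(W₁ ⊔ W₂) →* ℂˣ) → M) :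
    ∑ ω, F ω = ∑ φ : Left W₁ W₂, ∑ ψ : Right W₁ W₂, F (φ.1 * ψ.1) := by
  rw [← Fintype.sum_prod_type', ← (coords hW).sum_comp]
  rfl

/-- The trivial character, as a member of `Left`. -/
def leftOne : Left W₁ W₂ := ⟨1, fun _ _ => rfl⟩

/-- The trivial character, as a member of `Right`. -/
def rightOne : Right W₁ W₂ := ⟨1, fun _ _ => rfl⟩

/-- The inverse of a member of `Left`. -/
def leftInv (φ : Left W₁ W₂) : Left W₁ W₂ :=
  ⟨φ.1⁻¹, fun w hw => by rw [MonoidHom.inv_apply, φ.2 w hw, inv_one]⟩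

theorem coe_hom_pow_card {W : Subgroup G} (ω : ↥W →* ℂˣ) :
    ω ^ Nat.card W = 1 := by
  ext w
  rw [MonoidHom.pow_apply, ← map_pow, pow_card_eq_one', map_one, MonoidHom.one_apply]

theorem left_pow_card (hW : IsSelfNormalizingCyclic W₁ W₂) (φ : Left W₁ W₂) :
    φ.1 ^ Nat.card W₁ = 1 := by
  refine MonoidHom.ext fun w => ?_
  obtain ⟨a, ha, b, hb, e⟩ := (CyclicTI.mem_sup_iff hW.2.2.2.1).1 w.2
  let a' : ↥(W₁ ⊔ W₂) := ⟨a, Subgroup.mem_sup_left ha⟩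
  let b' : ↥(W₁ ⊔ W₂) := ⟨b, Subgroup.mem_sup_right hb⟩
  have hw : w = a' * b' := Subtype.ext e.symm
  have hq : a' ^ Nat.card W₁ = 1 :=
    Subtype.ext (show a ^ Nat.card W₁ = 1 from
      congrArg Subtype.val (pow_card_eq_one' (x := (⟨a, ha⟩ : W₁))))
  rw [MonoidHom.pow_apply, hw, map_mul, φ.2 b' hb, mul_one, ← map_pow, hq, map_one,
    MonoidHom.one_apply]

section Family

variable {χ : (↥(W₁ ⊔ W₂) →* ℂˣ) → (G → ℂ)}

theorem eta_isClassFunction (hχ : IsCyclicTIFamily W₁ W₂ χ) (ω : ↥(W₁ ⊔ W₂) →* ℂˣ) :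
    IsClassFunction G (χ ω) := by
  rcases hχ.irr_or_neg ω with h | h
  · exact Char.isClassFunction_of_isIrr h
  · intro g k
    exact neg_injective (Char.isClassFunction_of_isIrr h g k)

theorem eta_isGeneralized (hχ : IsCyclicTIFamily W₁ W₂ χ) (ω : ↥(W₁ ⊔ W₂) →* ℂˣ) :
    IsGeneralizedCharacter G (χ ω) := by
  rcases hχ.irr_or_neg ω with h | h
  · exact Char.isGeneralized_of_isCharacter (Char.IsIrr.isCharacter h)
  · simpa using Char.isGeneralized_neg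
      (Char.isGeneralized_of_isCharacter (Char.IsIrr.isCharacter h))

theorem eta_isIntegral (hχ : IsCyclicTIFamily W₁ W₂ χ) (ω : ↥(W₁ ⊔ W₂) →* ℂˣ) (g : G) :
    IsIntegral ℤ (χ ω g) := by
  rcases hχ.irr_or_neg ω with h | h
  · exact Char.IsChar.isIntegral (Char.IsIrr.isCharacter h) g
  · simpa using (Char.IsChar.isIntegral (Char.IsIrr.isCharacter h) g).neg

theorem eta_norm (hχ : IsCyclicTIFamily W₁ W₂ χ) (ω : ↥(W₁ ⊔ W₂) →* ℂˣ) :
    classInner (χ ω) (χ ω) = 1 := by rw [hχ.orthonormal, if_pos rfl]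

theorem eta_inner_one (hχ : IsCyclicTIFamily W₁ W₂ χ) {ω : ↥(W₁ ⊔ W₂) →* ℂˣ} (hω : ω ≠ 1) :
    classInner (χ ω) (fun _ => 1) = 0 := by rw [← hχ.map_one, hχ.orthonormal, if_neg hω]

/-- Off the conjugates of `V`, `η(φψ) = η φ + η ψ - 1`. -/
theorem eta_mul (hχ : IsCyclicTIFamily W₁ W₂ χ) (φ : Left W₁ W₂) (ψ : Right W₁ W₂) {g : G}
    (hg : g ∉ vG W₁ W₂) : χ (φ.1 * ψ.1) g = χ φ.1 g + χ ψ.1 g - 1 := by
  by_cases h1 : φ.1 = 1
  · rw [show φ.1 * ψ.1 = ψ.1 from MonoidHom.ext fun w => by simp [h1], h1, hχ.map_one]; ring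
  by_cases h2 : ψ.1 = 1
  · rw [show φ.1 * ψ.1 = φ.1 from MonoidHom.ext fun w => by simp [h2], h2, hχ.map_one]; ring
  have h := congrFun (hχ.induced_eq φ.1 ψ.1 h1 h2 φ.2 ψ.2) g
  have h0 : indFun (W₁ ⊔ W₂)
      (fun w => 1 - (φ.1 w : ℂ) - (ψ.1 w : ℂ) + (φ.1 w : ℂ) * (ψ.1 w : ℂ)) g = 0 := by
    rw [Char.indFun_apply, Finset.sum_eq_zero, mul_zero]
    intro x _
    by_cases hx : x⁻¹ * g * x ∈ W₁ ⊔ W₂
    · rw [Char.extendByZero_of_mem _ _ hx]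
      refine CyclicTI.alpha_eq_zero φ.2 ψ.2 ?_
      by_contra hne
      exact hg (mem_vG.2 ⟨x⁻¹, by rw [inv_inv]; exact ⟨hx, fun h => hne (Or.inl h),
        fun h => hne (Or.inr h)⟩⟩)
    · rw [Char.extendByZero_of_not_mem _ _ hx]
  rw [h0] at h
  linear_combination -h

/-- The coefficients of a class function vanishing on `V` are additive. -/
theorem eta_coeff (hχ : IsCyclicTIFamily W₁ W₂ χ) {Y : G → ℂ} (hY : IsClassFunction G Y)
    (hYV : ∀ w ∈ vSet W₁ W₂, Y w = 0) (φ : Left W₁ W₂) (ψ : Right W₁ W₂) :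
    classInner Y (χ (φ.1 * ψ.1)) =
      classInner Y (χ φ.1) + classInner Y (χ ψ.1) - classInner Y (fun _ => 1) := by
  have := Fintype.ofFinite ↥(W₁ ⊔ W₂)
  have h := CyclicTI.coeff_add hχ hY (fun w h1 h2 => hYV w ⟨w.2, h1, h2⟩) φ.2 ψ.2
  rw [hχ.map_one] at h
  linear_combination h

/-- The sum along a column off the conjugates of `V`. -/
theorem column_sum (hW : IsSelfNormalizingCyclic W₁ W₂) (hχ : IsCyclicTIFamily W₁ W₂ χ)
    (ψ : Right W₁ W₂) {g : G} (hg : g ∉ vG W₁ W₂) :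
    ∑ φ : Left W₁ W₂, χ (φ.1 * ψ.1) g =
      (∑ φ : Left W₁ W₂, χ φ.1 g) + (Nat.card W₁ : ℂ) * (χ ψ.1 g - 1) := by
  rw [Finset.sum_congr rfl fun φ _ => eta_mul hχ φ ψ hg]
  simp only [Finset.sum_add_distrib, Finset.sum_sub_distrib, Finset.sum_const, Finset.card_univ,
    card_left hW, nsmul_eq_mul]
  ring

/-- `(q - 1) / q` is not an algebraic integer. -/
theorem natCast_mul_ne_sub_one {z : ℂ} (hz : IsIntegral ℤ z) {q : ℕ} (hq : 1 < q) :
    (q : ℂ) * z ≠ (q : ℂ) - 1 := by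
  intro h
  have hq0 : (q : ℂ) ≠ 0 := Nat.cast_ne_zero.2 (by omega)
  have h1 : IsIntegral ℤ (1 - z) := isIntegral_one.sub hz
  have e : 1 - z = algebraMap ℚ ℂ ((q : ℚ)⁻¹) := by
    rw [map_inv₀, map_natCast]
    field_simp
    linear_combination -h
  rw [e, isIntegral_algebraMap_iff (FaithfulSMul.algebraMap_injective ℚ ℂ)] at h1
  obtain ⟨n, hn⟩ := IsIntegrallyClosed.isIntegral_iff.1 h1
  simp only [eq_intCast] at hn
  have hq0' : (q : ℚ) ≠ 0 := Nat.cast_ne_zero.2 (by omega)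
  have h2 : ((n * q : ℤ) : ℚ) = 1 := by push_cast; rw [hn, inv_mul_cancel₀ hq0']
  have h3 : n * (q : ℤ) = 1 := by exact_mod_cast h2
  rcases Int.eq_one_or_neg_one_of_mul_eq_one' h3 with ⟨-, h4⟩ | ⟨-, h4⟩ <;> omega

/-- If a column sums to zero then some `η φ`, `φ ≠ 1` on the left, does not vanish. -/
theorem exists_left_ne_zero (hW : IsSelfNormalizingCyclic W₁ W₂)
    (hχ : IsCyclicTIFamily W₁ W₂ χ) (ψ : Right W₁ W₂) {g : G} (hg : g ∉ vG W₁ W₂)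
    (h0 : ∑ φ : Left W₁ W₂, χ (φ.1 * ψ.1) g = 0) :
    ∃ φ : Left W₁ W₂, φ.1 ≠ 1 ∧ χ φ.1 g ≠ 0 := by
  classical
  by_contra! hne
  rw [column_sum hW hχ ψ hg, Finset.sum_eq_single (leftOne : Left W₁ W₂)
    (fun φ _ h => hne φ fun e => h (Subtype.ext e)) (by simp)] at h0
  simp only [leftOne, hχ.map_one] at h0
  exact natCast_mul_ne_sub_one (eta_isIntegral hχ ψ.1 g)
    ((Subgroup.one_lt_card_iff_ne_bot W₁).2 hW.1) (by linear_combination h0)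

/-- On elements of order prime to `|W₁|` the values `η φ` are rational integers. -/
theorem left_int (hW : IsSelfNormalizingCyclic W₁ W₂) (hodd : Odd (Nat.card ↥(W₁ ⊔ W₂)))
    (hχ : IsCyclicTIFamily W₁ W₂ χ) (φ : Left W₁ W₂) {g : G}
    (hg : (orderOf g).Coprime (Nat.card W₁)) : ∃ n : ℤ, χ φ.1 g = n :=
  CyclicTI.int_value hW hodd hχ φ.1
    (hg.coprime_dvd_right (orderOf_dvd_of_pow_eq_one (left_pow_card hW φ)))

/-- The mass of every member of the family on the conjugates of `V`. -/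
theorem mass_vG (hW : IsSelfNormalizingCyclic W₁ W₂) (hχ : IsCyclicTIFamily W₁ W₂ χ)
    (ω : ↥(W₁ ⊔ W₂) →* ℂˣ) :
    mass (vG W₁ W₂) (χ ω) =
      ((Nat.card W₁ : ℝ) - 1) * ((Nat.card W₂ : ℝ) - 1) / (Nat.card W₁ * Nat.card W₂) := by
  classical
  have := Fintype.ofFinite ↥(W₁ ⊔ W₂)
  rw [vG, mass_support_bot (dade_vSet hW) (eta_isClassFunction hχ ω)]
  have hnorm : ∀ w ∈ Finset.univ.filter (fun a : ↥(W₁ ⊔ W₂) => (a : G) ∈ vSet W₁ W₂),
      ‖χ ω (w : G)‖ ^ 2 = 1 := by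
    intro w hw
    obtain ⟨-, -, h1, h2⟩ := Finset.mem_filter.1 hw
    rw [hχ.eq_on ω w h1 h2, Complex.norm_eq_one_of_pow_eq_one (n := Nat.card ↥(W₁ ⊔ W₂)) ?_
      Nat.card_pos.ne', one_pow]
    rw [← Units.val_pow_eq_pow_val, ← MonoidHom.pow_apply, coe_hom_pow_card]
    rfl
  rw [Finset.sum_congr rfl hnorm, Finset.sum_const, nsmul_eq_mul, mul_one, ← Fintype.card_subtype,
    ← Nat.card_eq_fintype_card, CyclicTI.card_sup hW, Nat.cast_mul]
  have hcard : (Nat.card {a : ↥(W₁ ⊔ W₂) // (a : G) ∈ vSet W₁ W₂} : ℝ) =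
      ((Nat.card W₁ : ℝ) - 1) * ((Nat.card W₂ : ℝ) - 1) := by
    have e : Nat.card {a : ↥(W₁ ⊔ W₂) // (a : G) ∈ vSet W₁ W₂} = (vSet W₁ W₂).ncard := by
      rw [← Nat.card_coe_set_eq]
      exact Nat.card_congr
        ⟨fun a => ⟨a.1.1, a.2⟩, fun a => ⟨⟨a.1, a.2.1⟩, a.2⟩, fun _ => rfl, fun _ => rfl⟩
    have hV : vSet W₁ W₂ = ((W₁ ⊔ W₂ : Subgroup G) : Set G) \ ((W₁ : Set G) ∪ (W₂ : Set G)) := by
      ext w
      simp [vSet, and_assoc]
    have hsub : (W₁ : Set G) ∪ (W₂ : Set G) ⊆ ((W₁ ⊔ W₂ : Subgroup G) : Set G) :=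
      Set.union_subset (SetLike.coe_subset_coe.2 le_sup_left) (SetLike.coe_subset_coe.2 le_sup_right)
    have h1 := Set.ncard_sdiff_add_ncard_of_subset hsub
    have h2 := Set.ncard_union_add_ncard_inter (W₁ : Set G) (W₂ : Set G)
    rw [← Subgroup.coe_inf, hW.2.2.1, Subgroup.coe_bot, Set.ncard_singleton] at h2
    simp only [← Nat.card_coe_set_eq, SetLike.coe_sort_coe, CyclicTI.card_sup hW] at h1 h2
    simp only [← hV, Nat.card_coe_set_eq] at h1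
    simp only [Nat.card_coe_set_eq] at h2
    rw [e]
    have h1' : ((vSet W₁ W₂).ncard : ℝ) + (((W₁ : Set G) ∪ (W₂ : Set G)).ncard : ℝ) =
        (Nat.card W₁ : ℝ) * Nat.card W₂ := by exact_mod_cast h1
    have h2' : (((W₁ : Set G) ∪ (W₂ : Set G)).ncard : ℝ) + 1 =
        (Nat.card W₁ : ℝ) + Nat.card W₂ := by exact_mod_cast h2
    linear_combination h1' - h2'
  rw [hcard]
  ring

end Family

end Cfsg.Agent.OddFinal
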