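import Cfsg.Agent.CyclicTI.Apply
import Cfsg.Prelude.Def_OddOrderChar
import Cfsg.Prelude.Def_OddOrderLocal
import Cfsg.Agent.OddFinal.EtaBasic

/-!
# Interface for the character argument at the end of the odd order theorem

`IsSide M W₁ W₂ K d X μ η` collects what the counting arguments use about one member `M` of the
pair, with complement `W₁` (order `q`) and fixed line `W₂` (order `p`): `K` is the kernel `H C`,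
`d` the index of `K` in `M'`, `X` the generic irreducible characters of degree `q d`, and `μ ω`
the irreducible constituents of the characters induced from the `W₁`-fixed ones.
-/

set_option autoImplicit false

namespace Cfsg.Agent.OddFinal

open Cfsg CyclicTI

universe u

variable {G : Type u} [Group G]

/-- The union of the conjugates of `A` under the subgroup `M`. -/
def conjIn (M : Subgroup G) (A : Set G) : Set G :=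
  {g | ∃ m ∈ M, ∃ a ∈ A, g = m * a * m⁻¹}

/-- The union of all conjugates of `A`. -/
def conjAll (A : Set G) : Set G :=
  {g | ∃ x : G, ∃ a ∈ A, g = x * a * x⁻¹}

theorem conjAll_vSet_eq {W₁ W₂ : Subgroup G} : conjAll (vSet W₁ W₂) = vG W₁ W₂ := by
  ext g
  rw [mem_vG]
  constructor
  · rintro ⟨x, a, ha, rfl⟩; exact ⟨x⁻¹, by simpa [mul_assoc] using ha⟩
  · rintro ⟨x, hx⟩; exact ⟨x⁻¹, _, hx, by group⟩

theorem mulBij [Fintype G] {W₁ W₂ : Subgroup G} (hW : IsSelfNormalizingCyclic W₁ W₂) :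
    Function.Bijective (fun x : Left W₁ W₂ × Right W₁ W₂ => x.1.1 * x.2.1) :=
  CyclicTI.mul_bijective hW

/-- The non-identity elements of `K`. -/
def sharp (K : Subgroup G) : Set G :=
  (↑K : Set G) \ {1}

/-- What the counting arguments use about one member of the pair. -/
structure IsSide [Fintype G] (M W₁ W₂ K : Subgroup G) [Fintype ↥M] (d : ℕ)
    (X : Finset (↥M → ℂ)) (μ : (↥(W₁ ⊔ W₂) →* ℂˣ) → ↥M → ℂ)
    (η : (↥(W₁ ⊔ W₂) →* ℂˣ) → G → ℂ) : Prop where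
  W_le : W₁ ⊔ W₂ ≤ M
  W₂_le : W₂ ≤ K
  K_le : K ≤ M
  K_inf : W₁ ⊓ K = ⊥
  normal : M ≤ Subgroup.normalizer (K : Set G)
  card_eq : Nat.card M = Nat.card W₁ * d * Nat.card K
  d_mod : d % Nat.card W₁ = 1
  dade : DadeHypothesis (sharp K ∪ conjIn M (vSet W₁ W₂)) M (fun _ => ⊥)
  disjoint : Disjoint (sharp K) (conjIn M (vSet W₁ W₂))
  irr_X : ∀ χ ∈ X, IsIrrCharacter ↥M χ
  irr_mu : ∀ ω, IsIrrCharacter ↥M (μ ω)
  mu_inj : Function.Injective μ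
  mu_not_mem : ∀ ω, μ ω ∉ X
  conj_X : ∀ χ ∈ X, conjFun χ ∈ X
  deg_X : ∀ χ ∈ X, χ 1 = ((Nat.card W₁ * d : ℕ) : ℂ)
  deg_mu : ∀ (φ : Left W₁ W₂) (ψ : Right W₁ W₂), ψ.1 ≠ 1 → μ (φ.1 * ψ.1) 1 = (d : ℂ)
  supp_X : ∀ χ ∈ X, ∀ x : M, (x : G) ∉ K → χ x = 0
  supp_sum : ∀ (ψ : Right W₁ W₂), ψ.1 ≠ 1 → ∀ x : M, (x : G) ∉ K →
    ∑ φ : Left W₁ W₂, μ (φ.1 * ψ.1) x = 0
  supp_diff : ∀ (φ : Left W₁ W₂) (ψ ψ' : Right W₁ W₂), ψ.1 ≠ 1 → ψ'.1 ≠ 1 →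
    ∀ x : M, (x : G) ∉ sharp K ∪ conjIn M (vSet W₁ W₂) →
      μ (φ.1 * ψ.1) x = μ (φ.1 * ψ'.1) x
  orth_X : ∀ χ ∈ X, ∀ [Fintype ↥K],
    ∑ k : K, χ ⟨k.1, K_le k.2⟩ = 0
  orth_mu : ∀ (φ : Left W₁ W₂) (ψ : Right W₁ W₂), ψ.1 ≠ 1 → ∀ [Fintype ↥K],
    ∑ k : K, μ (φ.1 * ψ.1) ⟨k.1, K_le k.2⟩ = 0
  mu_left : ∀ (φ : Left W₁ W₂) (x : M) (h : (x : G) ∈ W₁ ⊔ W₂),
    μ φ.1 x = (φ.1 ⟨x.1, h⟩ : ℂ)
  mu_left_ker : ∀ (φ : Left W₁ W₂) (x : M), (x : G) ∈ K → μ φ.1 x = 1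
  mu_val : ∀ (φ : Left W₁ W₂) (ψ : Right W₁ W₂) (x : M) (h : (x : G) ∈ W₁ ⊔ W₂),
    (x : G) ∉ W₂ → ψ.1 ≠ 1 → μ (φ.1 * ψ.1) x = ((φ.1 * ψ.1) ⟨x.1, h⟩ : ℂ)
  tau_mu : ∀ (φ : Left W₁ W₂) (ψ ψ' : Right W₁ W₂), ψ.1 ≠ 1 → ψ'.1 ≠ 1 →
    indFun M (μ (φ.1 * ψ.1) - μ (φ.1 * ψ'.1)) = η (φ.1 * ψ.1) - η (φ.1 * ψ'.1)

end Cfsg.Agent.OddFinal
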