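import Cfsg.Agent.OddFinal.Pair
import Cfsg.Agent.OddFinal.Side
import Cfsg.Agent.OddTypeOne.Uncond
import Cfsg.Agent.Core.Solvable

/-!
# A member of Type II, III, IV or V is never supported (Peterfalvi 13, preliminaries)

For a maximal subgroup `M` of Type II, III, IV or V and `a ∈ A₀(M)` the centraliser of `a` lies
in `M`. Hence `A₀(M)` is a TI set with normaliser `M`, and the Dade isometry attached to any
invariant subset is induction.
-/

set_option autoImplicit false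
set_option linter.unusedSectionVars false

namespace Cfsg.Agent.OddFinal

open Subgroup Cfsg OddLocal

universe u

variable {G : Type u} [Group G] [Finite G] {M K W₁ W₂ U : Subgroup G}

omit [Finite G] in
theorem IsTypeNotI.isOfTypeP (h : IsTypeNotI M) : IsOfTypeP M := by
  rcases h with ⟨W₁, U, W₂, h, -⟩ | ⟨W₁, U, W₂, h, -⟩ | ⟨W₁, U, W₂, h, -⟩ | ⟨W₁, U, W₂, h, -⟩
  all_goals exact ⟨W₁, U, W₂, h⟩

theorem le_normalizer_commutator : M ≤ normalizer ((⁅M, M⁆ : Subgroup G) : Set G) := by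
  intro m hm
  have key : ∀ {m : G}, m ∈ M → ∀ x ∈ ⁅M, M⁆, m * x * m⁻¹ ∈ ⁅M, M⁆ := fun {m} hm x hx => by
    have h1 : MulAut.conj m x ∈ (⁅M, M⁆ : Subgroup G).map (MulAut.conj m).toMonoidHom :=
      mem_map_of_mem _ hx
    rw [map_commutator, map_conj_eq_self_of_mem (Subgroup.le_normalizer hm)] at h1
    simpa using h1
  refine mem_normalizer_iff.2 fun x => ⟨key hm x, fun hx => ?_⟩
  simpa [mul_assoc] using key (inv_mem hm) _ hx

variable (hG : IsMinSimpleOddOrder G) (hM : IsCoatom M)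
include hG hM

theorem not_typeI_of_typeP (h : IsOfTypeP M) : ¬ IsOfTypeI M := fun hI => by
  obtain ⟨W₁, U, W₂, hP⟩ := h
  obtain ⟨K, U', hd⟩ := exists_decomposition hG hM
  exact kappa_of_typeP hG hM hd hP (eq_bot_of_typeI hG hM hd hI)

theorem not_typeI (h : IsTypeNotI M) : ¬ IsOfTypeI M := not_typeI_of_typeP hG hM h.isOfTypeP

variable (hn : IsTypeNotI M)
include hn

/-- Elements of `A₀(M)` have their centralisers in `M`. -/
theorem no_support {a : G} (ha : a ∈ typeA0 M) : centralizer ({a} : Set G) ≤ M := by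
  by_contra hC
  have hT := OddTypeOne.tau2Empty hG
  obtain ⟨-, h2, h3⟩ := OddTypeOne.tame_embedding hT hG hM (typeA0 M) (Or.inr rfl)
  obtain ⟨ha1, L, ⟨hL, hCL⟩, -⟩ := h2 a ha hC
  obtain ⟨-, -, -, -, ⟨haA, haA1⟩, hIL, -⟩ := h3 a ha hC L hL hCL
  rw [typeA1_eq hG hM] at ha1
  rcases hIL with hI | hII
  · refine haA1 ((typeA1_eq hG hL).symm ▸ ⟨?_, ha1.2⟩)
    exact OddTypeOne.typeA_eq_of_kappa_empty hT hG hL
      ((OddTypeOne.typeI_iff_kappa hT hG hL).1 hI) haA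
  · obtain ⟨K', U', h'⟩ := exists_decomposition hG hL
    obtain ⟨r, hr, hrd⟩ := exists_prime_dvd_of_ne_bot ((typeII_iff hG hL h').1 hII).1
    exact not_typeI hG hM hn ((OddTypeOne.typeI_iff_kappa hT hG hM).2
      (Cfsg.Agent.S1376.result hG M hM a ha1.1 ha1.2 hC L hL hCL ⟨r, h'.hall.2.1 r hr hrd⟩).1)

theorem supportR_eq {a : G} (ha : a ∈ typeA0 M) : supportR M a = ⊥ :=
  supportR_eq_bot (no_support hG hM hn ha)

/-- `A₀(M)` is a TI set. -/
theorem mem_of_typeA0_conj {a g : G} (ha : a ∈ typeA0 M) (hg : g * a * g⁻¹ ∈ typeA0 M) :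
    g ∈ M := by
  obtain ⟨m, hm, e⟩ := typeA0_fusion hG hM ha hg
  have h1 : m⁻¹ * g ∈ centralizer ({a} : Set G) := mem_centralizer_singleton_iff.2 (by
    calc m⁻¹ * g * a = m⁻¹ * (g * a * g⁻¹) * g := by group
      _ = a * (m⁻¹ * g) := by rw [← e]; group)
  have h2 := mul_mem hm (no_support hG hM hn ha h1)
  rwa [mul_inv_cancel_left] at h2

theorem normalizer_typeA0 : normalizer (typeA0 M) = M := by
  obtain ⟨hsub, hne, hinv⟩ := attached_cases hG hM (Or.inr (Or.inr (rfl : typeA0 M = typeA0 M)))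
  exact (dade_of_subset hG hM hsub hne hinv).1

theorem isTISubset_typeA0 : IsTISubset (typeA0 M) := fun g hg a ha hga => by
  rw [normalizer_typeA0 hG hM hn] at hg
  exact absurd (mem_of_typeA0_conj hG hM hn ha hga) hg

/-- The Dade hypothesis with trivial supports. -/
theorem dade {A : Set G} (hA : A ⊆ typeA0 M) (hinv : ∀ m ∈ M, ∀ a ∈ A, m * a * m⁻¹ ∈ A) :
    DadeHypothesis A M (fun _ => ⊥) where
  one_not_mem h := one_not_mem_typeA0 hG hM (hA h)
  subset a ha := typeA0_subset hG hM (hA ha)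
  conj_mem := hinv
  fusion a ha g hg := typeA0_fusion hG hM (hA ha) (hA hg)
  le_centralizer _ _ := bot_le
  conj_mem_H a _ c _ u hu := by
    rw [mem_bot] at hu ⊢
    rw [hu]; group
  inf_eq_bot a _ := bot_inf_eq _
  sup_eq a ha := by
    rw [bot_sup_eq]
    exact inf_eq_right.2 (no_support hG hM hn (hA ha))
  coprime a _ b _ := by rw [card_bot]; exact Nat.coprime_one_left _

omit hn in
/-- `V` and its conjugates in `M` lie in `A₀(M)`. -/
theorem conjIn_vSet_subset (hd : IsTypePWith M W₁ U W₂) :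
    conjIn M (vSet W₁ W₂) ⊆ typeA0 M := by
  rintro g ⟨m, hm, w, ⟨hw, h1, h2⟩, rfl⟩
  exact Or.inr ⟨not_typeI_of_typeP hG hM ⟨W₁, U, W₂, hd⟩, W₁, U, W₂, hd, m, hm, w, hw, h1, h2, rfl⟩

omit hG hM hn in
theorem W₂_le_derived (hd : IsTypePWith M W₁ U W₂) : W₂ ≤ ⁅M, M⁆ :=
  (hd.W₂_le.trans inf_le_left).trans hd.U_compl.1

omit hG hM hn in
/-- `W` meets `M'` in `W₂`. -/
theorem sup_inf_derived_le (hd : IsTypePWith M W₁ U W₂) :
    (W₁ ⊔ W₂) ⊓ ⁅M, M⁆ ≤ W₂ := by
  rintro w ⟨hw, hwD⟩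
  have hcomm : W₂ ≤ normalizer (W₁ : Set G) := fun b hb => mem_normalizer_iff.2 fun a => by
    constructor
    · intro ha
      rw [← hd.selfNormalizing.2.2.2.1 a ha b hb, mul_inv_cancel_right]
      exact ha
    · intro ha
      have e := hd.selfNormalizing.2.2.2.1 _ ha b hb
      have : a = b * a * b⁻¹ := by
        calc a = b⁻¹ * (b * a * b⁻¹ * b) := by group
          _ = b⁻¹ * (b * (b * a * b⁻¹)) := by rw [e]
          _ = b * a * b⁻¹ := by group
      rwa [← this] at ha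
  have hw' : w ∈ ((W₁ ⊔ W₂ : Subgroup G) : Set G) := hw
  rw [coe_mul_of_right_le_normalizer_left W₁ W₂ hcomm] at hw'
  obtain ⟨a, ha, b, hb, rfl⟩ := Set.mem_mul.1 hw'
  have hab : a * b ∈ ⁅M, M⁆ := hwD
  have ha' : a ∈ ⁅M, M⁆ ⊓ W₁ := ⟨by
    simpa using mul_mem hab (inv_mem (W₂_le_derived hd hb)), ha⟩
  rw [hd.W₁_compl.2.2.1, mem_bot] at ha'
  rwa [ha', one_mul]

omit hn in
/-- `V` avoids `M'`. -/
theorem not_mem_derived_of_conjIn (hd : IsTypePWith M W₁ U W₂) {g : G}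
    (hg : g ∈ conjIn M (vSet W₁ W₂)) : g ∉ ⁅M, M⁆ := by
  obtain ⟨m, hm, w, ⟨hw, -, h2⟩, rfl⟩ := hg
  intro hD
  refine h2 (sup_inf_derived_le hd ⟨hw, ?_⟩)
  exact (mem_normalizer_iff.1 (le_normalizer_commutator hm) w).2 hD

omit hn in
/-- The non-identity elements of `F(M)` lie in `A(M)`. -/
theorem sharp_fittingOf_subset (hP : IsOfTypeP M) : sharp (fittingOf M) ⊆ typeA M := by
  rintro g ⟨hg, hg1⟩
  have hg' : g ∈ fittingOf M := hg
  haveI := OddLocal.isNilpotent_fittingOf M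
  haveI : ((fittingHallOf M).subgroupOf (fittingOf M)).Normal :=
    normal_subgroupOf_of_le_normalizer ((fittingOf_le M).trans (le_normalizer_fittingHallOf M))
  have hne : (fittingHallOf M).subgroupOf (fittingOf M) ≠ ⊥ := by
    rw [Ne, subgroupOf_eq_bot, disjoint_iff, inf_eq_left.2 (fittingHallOf_le_fittingOf M)]
    exact (Cfsg.Agent.S1355.result hG M hM).1
  obtain ⟨z, hz, hz1⟩ := exists_mem_ne_one _ (Core.inf_center_ne_bot hne)
  have hzc : g * (z : G) = (z : G) * g :=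
    congrArg Subtype.val (mem_center_iff.1 hz.2 ⟨g, hg'⟩)
  rw [typeA, if_neg (not_typeI_of_typeP hG hM hP), typeCore_eq hG hM]
  refine ⟨?_, fun e => hg1 e, (z : G), (Cfsg.Agent.S1355.result hG M hM).2.1 hz.1,
    fun e => hz1 (Subtype.ext e), hzc⟩
  obtain ⟨W₁, U, W₂, hd⟩ := hP
  exact hd.fitting_le hg'

/-- The Dade hypothesis for a kernel `K ≤ M'` together with `V`. -/
theorem dade_side (hd : IsTypePWith M W₁ U W₂) (hK : sharp K ⊆ typeA M)
    (hKn : M ≤ normalizer (K : Set G)) :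
    DadeHypothesis (sharp K ∪ conjIn M (vSet W₁ W₂)) M (fun _ => ⊥) ∧
      Disjoint (sharp K) (conjIn M (vSet W₁ W₂)) := by
  refine ⟨dade hG hM hn ?_ ?_, Set.disjoint_left.2 fun g hg hv => ?_⟩
  · exact Set.union_subset (hK.trans (typeA_subset_typeA0 hG hM)) (conjIn_vSet_subset hG hM hd)
  · rintro m hm a (⟨ha, ha1⟩ | ⟨n, hn', w, hw, rfl⟩)
    · exact Or.inl ⟨(mem_normalizer_iff.1 (hKn hm) a).1 ha, fun e => ha1 (conj_eq_one_iff.1 e)⟩
    · exact Or.inr ⟨m * n, mul_mem hm hn', w, hw, by group⟩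
  · have h2 := hK hg
    rw [typeA, if_neg (not_typeI hG hM hn)] at h2
    exact not_mem_derived_of_conjIn hG hM hd hv h2.1

/-- Outside Type II the derived subgroup is `M_σ` and `A(M) = A₁(M)`. -/
theorem derived_eq_sigmaCore (h2 : ¬ IsOfTypeII M) : ⁅M, M⁆ = sigmaCore M := by
  obtain ⟨K', U', h⟩ := exists_decomposition hG hM
  obtain ⟨W₁, U, W₂, hd⟩ := hn.isOfTypeP
  have hK := kappa_of_typeP hG hM h hd
  have hU : U' = ⊥ := by_contra fun hne => h2 ((typeII_iff hG hM h).2 ⟨hK, hne⟩)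
  rw [derived_eq hG hM h hK, hU, bot_sup_eq]

theorem typeA_eq_typeA1 (h2 : ¬ IsOfTypeII M) : typeA M = typeA1 M := by
  refine subset_antisymm (fun a ha => ?_) (typeA1_subset_typeA hG hM)
  rw [typeA, if_neg (not_typeI hG hM hn), derived_eq_sigmaCore hG hM hn h2] at ha
  rw [typeA1_eq hG hM]
  exact ⟨ha.1, ha.2.1⟩

theorem sharp_derived_subset (h2 : ¬ IsOfTypeII M) : sharp ⁅M, M⁆ ⊆ typeA M := by
  rw [typeA_eq_typeA1 hG hM hn h2, typeA1_eq hG hM, derived_eq_sigmaCore hG hM hn h2]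
  exact subset_rfl

end Cfsg.Agent.OddFinal
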