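import Cfsg.Prelude.Def_OddOrderLocal

/-!
# The pair of maximal subgroups of type `P` left by the local analysis

`Pair G S T W₁ W₂ U V` is the standing hypothesis of the last part of the odd order theorem
(Peterfalvi 13.1): two maximal subgroups of type `P` with common cyclic `W = W₁ ⊔ W₂`, at least
one of them of Type II. The order of `W₁` is `q`, the order of `W₂` is `p`.
-/

set_option autoImplicit false

namespace Cfsg.Agent.OddFinal

universe u

variable {G : Type u} [Group G]

/-- `M` is of Type II, III, IV or V. -/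
def IsTypeNotI (M : Subgroup G) : Prop :=
  IsOfTypeII M ∨ IsOfTypeIII M ∨ IsOfTypeIV M ∨ IsOfTypeV M

/-- The pair `(S, T)` with its type `P` data. -/
structure Pair (S T W₁ W₂ U V : Subgroup G) : Prop where
  maxS : IsCoatom S
  maxT : IsCoatom T
  dataS : IsTypePWith S W₁ U W₂
  dataT : IsTypePWith T W₂ V W₁
  inter : S ⊓ T = W₁ ⊔ W₂
  someII : IsOfTypeII S ∨ IsOfTypeII T
  typeS : IsTypeNotI S
  typeT : IsTypeNotI T

variable {S T W₁ W₂ U V : Subgroup G}

/-- The roles of `S` and `T` may be exchanged. -/
theorem Pair.symm (h : Pair S T W₁ W₂ U V) : Pair T S W₂ W₁ V U where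
  maxS := h.maxT
  maxT := h.maxS
  dataS := h.dataT
  dataT := h.dataS
  inter := by rw [inf_comm, h.inter, sup_comm]
  someII := h.someII.symm
  typeS := h.typeT
  typeT := h.typeS

end Cfsg.Agent.OddFinal
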