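import Cfsg.Agent.OddFinal.Chief
import Cfsg.Agent.OddFinal.Pair
import Cfsg.Agent.OddLocal.TypeSupportSet
import Cfsg.Agent.OddLocal.FittingCoreShape
import Cfsg.Agent.MaxClass.OddP
import Cfsg.Agent.S1387

/-!
# Members of type `P` that are not of Type II

For type `P` data `(M, W₁, U, W₂)` of a maximal subgroup not of Type II: `M' = M_σ`, and either
`U = 1`, `M' = M_F` is nilpotent and `W₁` acts without fixed points on its abelianisation (so for
prime `p = |W₂|` the Sylow `p`-subgroup is nonabelian, with `|P : P'| ≥ p ^ 2`), or `U ≠ 1` and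
`M` has a chief factor of order `p ^ q`.
-/

set_option autoImplicit false
set_option linter.unusedSectionVars false

namespace Cfsg.Agent.OddFinal.NotTwo

open Subgroup Cfsg Cfsg.Agent.OddLocal
open scoped commutatorElement

universe u

variable {G : Type u} [Group G] [Finite G] {M W₁ U W₂ : Subgroup G}

theorem coprime_W₁_derived (hd : IsTypePWith M W₁ U W₂) :
    (Nat.card W₁).Coprime (Nat.card ↥⁅M, M⁆) := by
  have h1 := Coprime.card_mul_relIndex_of_le hd.W₁_compl.2.1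
  rw [← IsComplIn.card_mul hd.W₁_compl, mul_comm (Nat.card ↥⁅M, M⁆)] at h1
  rw [← Nat.eq_of_mul_eq_mul_left Nat.card_pos h1]
  exact hd.W₁_hall

variable (hG : IsMinSimpleOddOrder G) (hM : IsCoatom M) (hd : IsTypePWith M W₁ U W₂)

include hG hM hd

/-- Type `P` data come from a standard factorisation with `K = W₁`. -/
theorem exists_kappa : ∃ U' : Subgroup G, IsSigmaDecomposition M W₁ U' ∧
    W₂ = kStar M W₁ := by
  obtain ⟨K, U₀, h⟩ := exists_decomposition hG hM
  obtain ⟨-, hcard, -⟩ := typeP_invariants hG hM h hd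
  have hW : IsPiHallOf (kappa M) W₁ M := by
    refine ⟨hd.W₁_compl.2.1, fun r hr hr' => h.hall.2.1 r hr (hcard ▸ hr'),
      fun r hr hrκ hr' => ?_⟩
    have h1 := Coprime.card_mul_relIndex_of_le hd.W₁_compl.2.1
    rw [← Coprime.card_mul_relIndex_of_le h.hall.1, hcard] at h1
    exact h.hall.2.2 r hr hrκ (Nat.eq_of_mul_eq_mul_left Nat.card_pos h1 ▸ hr')
  obtain ⟨c, hc, hcK⟩ := Coprime.exists_conj_isPiHallOf (isSolvable_coatom hG hM) h.hall hW
  have hcK' : K.map (MulAut.conj c).toMonoidHom = W₁ := hcK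
  have hd' := isSigmaDecomposition_map_conj h hc
  rw [hcK'] at hd'
  obtain ⟨x, hx, hx1⟩ := exists_mem_ne_one _ hd.W₁_ne
  exact ⟨_, hd', (hd.W₂_centralizer x hx hx1).symm.trans
    (derived_inf_centralizer hG hM hd' hd.W₁_ne hx hx1)⟩

variable (hII : ¬ IsOfTypeII M)

include hII

/-- `M' = M_σ`. -/
theorem derived_eq_sigmaCore : ⁅M, M⁆ = sigmaCore M := by
  obtain ⟨U', h, -⟩ := exists_kappa hG hM hd
  have hU : U' = ⊥ := by_contra fun hU => hII ((typeII_iff hG hM h).2 ⟨hd.W₁_ne, hU⟩)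
  rw [derived_eq hG hM h hd.W₁_ne, hU, bot_sup_eq]

/-- The two cases: `U = 1` exactly when `M_F = M_σ`. -/
theorem U_eq_bot_iff : U = ⊥ ↔ fittingHallOf M = sigmaCore M := by
  obtain ⟨U', h, -⟩ := exists_kappa hG hM hd
  have hU : U' = ⊥ := by_contra fun hU => hII ((typeII_iff hG hM h).2 ⟨hd.W₁_ne, hU⟩)
  obtain ⟨-, -, -, h1, h2⟩ := typeP_invariants hG hM h hd
  exact ⟨fun e => by_contra fun hne => (h1 hU hne).1 e, h2 hU⟩

/-- `M` is of Type III or IV when `U ≠ 1`. -/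
theorem typeIII_or_IV (hU : U ≠ ⊥) : IsOfTypeIII M ∨ IsOfTypeIV M := by
  obtain ⟨U', h, -⟩ := exists_kappa hG hM hd
  exact (typeIII_or_IV_iff hG hM h).2 ⟨hd.W₁_ne,
    by_contra fun hU' => hII ((typeII_iff hG hM h).2 ⟨hd.W₁_ne, hU'⟩),
    fun e => hU ((U_eq_bot_iff hG hM hd hII).2 e)⟩

section CaseOne

variable (hU : U = ⊥)
include hU

/-- In case (i) `M' = M_F`. -/
theorem derived_eq_fitting : ⁅M, M⁆ = fittingHallOf M := by
  rw [derived_eq_sigmaCore hG hM hd hII, (U_eq_bot_iff hG hM hd hII).1 hU]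

theorem derived_nilpotent : Group.IsNilpotent ↥⁅M, M⁆ :=
  (derived_eq_fitting hG hM hd hII hU) ▸ fittingHallOf_nilpotent M

omit hII hU in
/-- `W₂` lies in the second derived subgroup. -/
theorem W₂_le_second : W₂ ≤ ⁅⁅M, M⁆, ⁅M, M⁆⁆ := hd.W₂_le.trans inf_le_right

omit hII hU in
/-- `W₁` acts without fixed points on the abelianisation of `M'`. -/
theorem fpf_abelianisation {x y : G} (hx : x ∈ W₁) (hx1 : x ≠ 1) (hy : y ∈ ⁅M, M⁆)
    (h : x * y * x⁻¹ * y⁻¹ ∈ ⁅⁅M, M⁆, ⁅M, M⁆⁆) : y ∈ ⁅⁅M, M⁆, ⁅M, M⁆⁆ := by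
  set D := ⁅M, M⁆ with hD
  set D' := ⁅D, D⁆ with hD'
  have hMD : M ≤ normalizer (D : Set G) := by
    rw [hD]; exact le_normalizer_commutator_of Subgroup.le_normalizer Subgroup.le_normalizer
  have hMD' : M ≤ normalizer (D' : Set G) := le_normalizer_commutator_of hMD hMD
  have hxM : x ∈ M := hd.W₁_compl.2.1 hx
  have hDD : D' ≤ D := Subgroup.commutator_le_self D
  have hcop : (Nat.card (zpowers x)).Coprime (Nat.card D') :=
    ((coprime_W₁_derived hd).coprime_dvd_left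
      (card_dvd_of_le (zpowers_le.2 hx))).coprime_dvd_right (card_dvd_of_le hDD)
  have hyn : y ∈ normalizer (D' : Set G) := hMD' (commutator_le_self M hy)
  have h1 : y⁻¹ * (x * y * x⁻¹) ∈ D' := by
    have := (mem_normalizer_iff''.1 hyn _).1 h
    simpa [mul_assoc] using this
  have hpow : ∀ a ∈ zpowers x, y⁻¹ * (a * y * a⁻¹) ∈ D' := by
    intro a ha
    rw [← mem_powers_iff_mem_zpowers] at ha
    obtain ⟨n, rfl⟩ := ha
    simp only
    induction n with
    | zero => simp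
    | succ n ih =>
      have h2 : x * (y⁻¹ * (x ^ n * y * (x ^ n)⁻¹)) * x⁻¹ ∈ D' :=
        (mem_normalizer_iff.1 (hMD' hxM) _).1 ih
      have e : y⁻¹ * (x ^ (n + 1) * y * (x ^ (n + 1))⁻¹) =
          (y⁻¹ * (x * y * x⁻¹)) * (x * (y⁻¹ * (x ^ n * y * (x ^ n)⁻¹)) * x⁻¹) := by
        rw [pow_succ']; group
      rw [e]
      exact mul_mem h1 h2
  obtain ⟨n, hn, hc⟩ := Coprime.exists_fixed_mem_leftCoset (zpowers_le.2 (hMD' hxM)) hcop
    (Or.inr (Coprime.isSolvable_of_le (hDD.trans (commutator_le_self M))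
      (isSolvable_coatom hG hM))) hpow
  rw [centralizer_zpowers] at hc
  have h2 : y * n ∈ W₂ := by
    rw [← hd.W₂_centralizer x hx hx1]
    exact ⟨mul_mem hy (hDD hn), hc⟩
  have h3 := mul_mem (W₂_le_second hG hM hd h2) (inv_mem hn)
  simpa using h3

variable (hp : (Nat.card W₂).Prime)
include hp

/-- The Sylow `p`-subgroup of `M'` and its derived subgroup. -/
theorem sylow_facts :
    W₂ ≤ ⁅rPart (Nat.card W₂) ⁅M, M⁆, rPart (Nat.card W₂) ⁅M, M⁆⁆ ∧
      ¬ IsMulCommutative ↥(rPart (Nat.card W₂) ⁅M, M⁆) ∧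
      Nat.card W₂ ^ 2 ≤ ⁅rPart (Nat.card W₂) ⁅M, M⁆, rPart (Nat.card W₂) ⁅M, M⁆⁆.relIndex
        (rPart (Nat.card W₂) ⁅M, M⁆) := by
  haveI := Fact.mk hp
  set D := ⁅M, M⁆ with hD
  set P := rPart (Nat.card W₂) D with hP
  set O := rPrimePart (Nat.card W₂) D with hO
  have hDn := derived_nilpotent hG hM hd hII hU
  have hW₂P : W₂ ≤ P := le_rPart_of_isPGroup hDn
    ((W₂_le_second hG hM hd).trans (Subgroup.commutator_le_self D))
    (IsPGroup.of_card (pow_one _).symm)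
  have hDle : D ≤ P ⊔ O := (le_iSup_rPart hDn).trans (iSup_le fun s => by
    haveI := Fact.mk s.2
    rcases eq_or_ne (s : ℕ) (Nat.card W₂) with e | e
    · exact (e ▸ le_rfl : rPart (s : ℕ) D ≤ P).trans le_sup_left
    · exact (rPart_le_rPrimePart e).trans le_sup_right)
  have hOP : O ≤ centralizer (P : Set G) := rPrimePart_le_centralizer_rPart
  have hbot : P ⊓ O = ⊥ := Coprime.inf_eq_bot_of_coprime (by
    obtain ⟨k, hk⟩ := IsPGroup.iff_card.1 (isPGroup_rPart (r := Nat.card W₂) (F := D))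
    rw [hk]
    exact Nat.Coprime.pow_left _ coprime_card_rPrimePart.symm)
  have hcomm : ⁅D, D⁆ ≤ ⁅P, P⁆ ⊔ ⁅O, O⁆ := by
    refine Subgroup.commutator_le.2 fun g hg g' hg' => ?_
    obtain ⟨a, ha, b, hb, rfl⟩ := (Coprime.mem_sup_of_le_normalizer
      (hOP.trans (centralizer_le_normalizer _))).1 (hDle hg)
    obtain ⟨a', ha', b', hb', rfl⟩ := (Coprime.mem_sup_of_le_normalizer
      (hOP.trans (centralizer_le_normalizer _))).1 (hDle hg')
    have c1 : Commute a b' := mem_centralizer_iff.1 (hOP hb') a ha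
    have c2 : Commute a' b := mem_centralizer_iff.1 (hOP hb) a' ha'
    have c3 : Commute b (a * a' * a⁻¹) :=
      (mem_centralizer_iff.1 (hOP hb) _ (mul_mem (mul_mem ha ha') (inv_mem ha))).symm
    have e : ⁅a * b, a' * b'⁆ = ⁅a, a'⁆ * ⁅b, b'⁆ := by
      have d1 : Commute b a := (mem_centralizer_iff.1 (hOP hb) a ha).symm
      have d2 : Commute b' a' := (mem_centralizer_iff.1 (hOP hb') a' ha').symm
      simp only [commutatorElement_def, mul_inv_rev]
      calc a * b * (a' * b') * (b⁻¹ * a⁻¹) * (b'⁻¹ * a'⁻¹)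
          = a * (b * a') * (b' * b⁻¹) * (a⁻¹ * b'⁻¹) * a'⁻¹ := by group
        _ = a * (a' * b) * (b' * b⁻¹) * (b'⁻¹ * a⁻¹) * a'⁻¹ := by
            rw [← c2.eq, (c1.inv_inv).eq]
        _ = a * a' * ((b * b' * b⁻¹ * b'⁻¹) * a⁻¹) * a'⁻¹ := by group
        _ = a * a' * (a⁻¹ * (b * b' * b⁻¹ * b'⁻¹)) * a'⁻¹ := by
            have : Commute (b * b' * b⁻¹ * b'⁻¹) a⁻¹ :=
              (((d1.mul_left c1.symm).mul_left d1.inv_left).mul_left c1.symm.inv_left).inv_right
            rw [this.eq]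
        _ = a * a' * a⁻¹ * ((b * b' * b⁻¹ * b'⁻¹) * a'⁻¹) := by group
        _ = a * a' * a⁻¹ * (a'⁻¹ * (b * b' * b⁻¹ * b'⁻¹)) := by
            have : Commute (b * b' * b⁻¹ * b'⁻¹) a'⁻¹ :=
              (((c2.symm.mul_left d2).mul_left c2.symm.inv_left).mul_left d2.inv_left).inv_right
            rw [this.eq]
        _ = a * a' * a⁻¹ * a'⁻¹ * (b * b' * b⁻¹ * b'⁻¹) := by group
    rw [e]
    exact mul_mem_sup (commutator_mem_commutator ha ha') (commutator_mem_commutator hb hb')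
  have hW₂c : W₂ ≤ ⁅P, P⁆ := fun x hx => by
    have hPP : ⁅P, P⁆ ≤ P := Subgroup.commutator_le_self P
    have hn : ⁅O, O⁆ ≤ normalizer ((⁅P, P⁆ : Subgroup G) : Set G) :=
      (Subgroup.commutator_le_self O).trans ((hOP.trans (centralizer_le hPP)).trans
        (centralizer_le_normalizer _))
    obtain ⟨a, ha, b, hb, e⟩ :=
      (Coprime.mem_sup_of_le_normalizer hn).1 (hcomm (W₂_le_second hG hM hd hx))
    have hbP : b ∈ P := by
      have : b = a⁻¹ * x := by rw [← e]; group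
      rw [this]
      exact mul_mem (inv_mem (hPP ha)) (hW₂P hx)
    have hb1 : b ∈ P ⊓ O := ⟨hbP, Subgroup.commutator_le_self O hb⟩
    rw [hbot, mem_bot] at hb1
    rw [← e, hb1, mul_one]
    exact ha
  have hne : ⁅P, P⁆ ≠ ⊥ := fun e => hd.selfNormalizing.2.1 (le_bot_iff.1 (e ▸ hW₂c))
  have hce : _root_.commutator P = ⁅P, P⁆.subgroupOf P := by
    refine Subgroup.map_injective P.subtype_injective ?_
    rw [← commutator_eq_map_subtype, map_subgroupOf_eq_of_le (Subgroup.commutator_le_self P)]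
  refine ⟨hW₂c, fun hc => hne ?_, ?_⟩
  · refine le_bot_iff.1 (Subgroup.commutator_le.2 fun a ha b hb => mem_bot.2
      (commutatorElement_eq_one_iff_mul_comm.2 ?_))
    exact congrArg Subtype.val (hc.is_comm.comm (⟨a, ha⟩ : P) ⟨b, hb⟩)
  · have h2 := MaxClass.sq_dvd_index_commutator (isPGroup_rPart (r := Nat.card W₂) (F := D))
      fun e => hne (by
        have := congrArg (Subgroup.map P.subtype) e
        rwa [← commutator_eq_map_subtype, Subgroup.map_bot] at this)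
    rw [hce] at h2
    exact Nat.le_of_dvd (Nat.pos_of_ne_zero index_ne_zero_of_finite) h2

end CaseOne

section CaseTwo

variable (hU : U ≠ ⊥)
include hU

theorem coreData : CoreData M W₁ := by
  obtain ⟨U', h, -⟩ := exists_kappa hG hM hd
  exact (coreData_of_ne hG hM h fun e => hU ((U_eq_bot_iff hG hM hd hII).2 e)).2

theorem prime_W₂ : (Nat.card W₂).Prime := by
  obtain ⟨U', -, e⟩ := exists_kappa hG hM hd
  rw [e]
  exact (coreData hG hM hd hII hU).prime

theorem prime_W₁ : (Nat.card W₁).Prime := (coreData hG hM hd hII hU).card_K_prime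


/-- The structure of `M_F` in case (ii): its `p`-part `Q`, with `D = O U` a complement in `M_σ`. -/
theorem fitting_facts :
    coreSylow M W₁ = rPart (Nat.card W₂) (fittingHallOf M) ∧
    IsComplIn (coreSylow M W₁) (rPrimePart (Nat.card W₂) (fittingHallOf M) ⊔ U) (sigmaCore M) ∧
    W₁ ≤ normalizer
      ((rPrimePart (Nat.card W₂) (fittingHallOf M) ⊔ U : Subgroup G) : Set G) ∧
    coreSylow M W₁ ⊓ centralizer
        ((rPrimePart (Nat.card W₂) (fittingHallOf M) ⊔ U : Subgroup G) : Set G) =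
      rPart (Nat.card W₂) (fittingHallOf M) ⊓ centralizer (U : Set G) ∧
    fittingHallOf M ≤ rPart (Nat.card W₂) (fittingHallOf M) ⊔
      rPrimePart (Nat.card W₂) (fittingHallOf M) := by
  have hc := coreData hG hM hd hII hU
  have hp := prime_W₂ hG hM hd hII hU
  obtain ⟨U', -, e2⟩ := exists_kappa hG hM hd
  haveI := Fact.mk hp
  set p := Nat.card W₂ with hpdef
  set H := fittingHallOf M with hH
  set Q := rPart p H with hQ
  set O := rPrimePart p H with hO
  have hpk : Nat.card (kStar M W₁) = p := by rw [hpdef, e2]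
  have hHn : Group.IsNilpotent H := fittingHallOf_nilpotent M
  have hMH : M ≤ normalizer (H : Set G) := le_normalizer_fittingHallOf M
  have hHM : H ≤ M := fittingHallOf_le M
  have hCQ : coreSylow M W₁ = Q := by
    refine le_antisymm (le_rPart_of_isPGroup hHn hc.coreSylow_le_fittingHallOf ?_)
      (le_piCoreOf (rPart_le.trans hHM) (le_normalizer_rPart hMH)
        (piNum_of_isPGroup (by rw [hpk]; exact Set.mem_singleton p) isPGroup_rPart))
    have := coreSylow_isPGroup hc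
    rwa [hpk] at this
  have hOQ : O ≤ centralizer (Q : Set G) := rPrimePart_le_centralizer_rPart
  have hsplit : H ≤ Q ⊔ O := (le_iSup_rPart hHn).trans (iSup_le fun s => by
    haveI := Fact.mk s.2
    rcases eq_or_ne (s : ℕ) p with e | e
    · exact (e ▸ le_rfl : rPart (s : ℕ) H ≤ Q).trans le_sup_left
    · exact (rPart_le_rPrimePart e).trans le_sup_right)
  have hUM : U ≤ M := hd.U_compl.2.1.trans (commutator_le_self M)
  have hUO : U ≤ normalizer (O : Set G) := le_normalizer_rPrimePart (hUM.trans hMH)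
  have hMs : ⁅M, M⁆ = sigmaCore M := derived_eq_sigmaCore hG hM hd hII
  have hHs : H ≤ sigmaCore M := fittingHallOf_le_sigmaCore hG hM
  have hUs : U ≤ sigmaCore M := hMs ▸ hd.U_compl.2.1
  have hHU : H ⊓ U = ⊥ := hd.U_compl.2.2.1
  have hbot : Q ⊓ (O ⊔ U) = ⊥ := by
    refine Coprime.inf_eq_bot_of_coprime ?_
    rw [Coprime.card_sup_eq_mul hUO (eq_bot_iff.2
      ((inf_le_inf_right U rPrimePart_le).trans hHU.le))]
    obtain ⟨k, hk⟩ := IsPGroup.iff_card.1 (isPGroup_rPart (r := p) (F := H))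
    rw [hk]
    refine Nat.Coprime.pow_left _ (Nat.Coprime.mul_right coprime_card_rPrimePart.symm ?_)
    refine (OddLocal.coprime_of_inf_eq_bot hUM hHU).coprime_dvd_left ?_
    exact card_dvd_of_le (hd.W₂_le.trans inf_le_left : W₂ ≤ H)
  have hQn : O ⊔ U ≤ normalizer (Q : Set G) :=
    sup_le (hOQ.trans (centralizer_le_normalizer _)) (le_normalizer_rPart (hUM.trans hMH))
  have hmem : ∀ m ∈ sigmaCore M, ∃ a ∈ Q, ∃ b ∈ O ⊔ U, m = a * b := by
    intro m hm
    obtain ⟨h', hh', u, hu, rfl⟩ := hd.U_compl.2.2.2 m (hMs.symm ▸ hm)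
    obtain ⟨a, ha, b, hb, rfl⟩ := (Coprime.mem_sup_of_le_normalizer
      (hOQ.trans (centralizer_le_normalizer _))).1 (hsplit hh')
    exact ⟨a, ha, b * u, mul_mem_sup hb hu, mul_assoc a b u⟩
  refine ⟨hCQ, ?_, ?_, ?_, hsplit⟩
  · rw [hCQ]
    exact ⟨rPart_le.trans hHs, sup_le (rPrimePart_le.trans hHs) hUs, hbot, hmem⟩
  · intro w hw
    exact Coprime.le_normalizer_sup (le_normalizer_rPrimePart (hd.W₁_compl.2.1.trans hMH))
      hd.U_normal hw
  · rw [hCQ]
    refine le_antisymm (inf_le_inf_left _ (centralizer_le (le_sup_right : U ≤ O ⊔ U))) ?_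
    refine le_inf inf_le_left (le_centralizer_iff.1 (sup_le ?_ ?_))
    · exact hOQ.trans (centralizer_le inf_le_left)
    · exact le_centralizer_iff.1 inf_le_right

/-- The bottom `H₀ = C_Q(U) O_{p'}(H)` of the chief factor. -/
theorem exists_chief : ∃ H₀ : Subgroup G, Chief M W₁ U W₂ H₀ ∧
    fittingHallOf M ⊓ centralizer (U : Set G) ≤ H₀ := by
  obtain ⟨hCQ, hD, hKD, hfix, hsplit⟩ := fitting_facts hG hM hd hII hU
  have hc := coreData hG hM hd hII hU
  have hp := prime_W₂ hG hM hd hII hU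
  obtain ⟨U', -, e2⟩ := exists_kappa hG hM hd
  haveI := Fact.mk hp
  set p := Nat.card W₂ with hpdef
  set H := fittingHallOf M with hH
  set Q := rPart p H with hQ
  set O := rPrimePart p H with hO
  set Q₀ := Q ⊓ centralizer (U : Set G) with hQ₀
  have hpk : Nat.card (kStar M W₁) = p := by rw [hpdef, e2]
  have hMH : M ≤ normalizer (H : Set G) := le_normalizer_fittingHallOf M
  have hHM : H ≤ M := fittingHallOf_le M
  have hMQ₀ : M ≤ normalizer (Q₀ : Set G) := by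
    have := hc.fixed_invariant hD hKD; rwa [hfix] at this
  have hMO : M ≤ normalizer (O : Set G) := le_normalizer_rPrimePart hMH
  have hMQ : M ≤ normalizer (Q : Set G) := le_normalizer_rPart hMH
  have hOQ : O ≤ centralizer (Q : Set G) := rPrimePart_le_centralizer_rPart
  have hQO : Q ⊓ O = ⊥ := le_bot_iff.1 (hCQ ▸
    (inf_le_inf_left (coreSylow M W₁) (le_sup_left : O ≤ O ⊔ U)).trans hD.2.2.1.le)
  have hUM : U ≤ M := hd.U_compl.2.1.trans (commutator_le_self M)
  have hW₁M : W₁ ≤ M := hd.W₁_compl.2.1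
  have hdec : ∀ y ∈ H, ∃ a ∈ Q, ∃ b ∈ O, a * b = y := fun y hy =>
    (Coprime.mem_sup_of_le_normalizer (hOQ.trans (centralizer_le_normalizer _))).1 (hsplit hy)
  have hQ₀O : Q₀ ⊔ O ≤ H := sup_le (inf_le_left.trans rPart_le) rPrimePart_le
  have hOQ₀ : O ≤ normalizer (Q₀ : Set G) := rPrimePart_le.trans (hHM.trans hMQ₀)
  have hinf : (Q₀ ⊔ O) ⊓ Q = Q₀ := by
    refine le_antisymm (fun y hy => ?_) (le_inf le_sup_left inf_le_left)
    obtain ⟨a, ha, b, hb, e⟩ := (Coprime.mem_sup_of_le_normalizer hOQ₀).1 hy.1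
    have hb1 : b ∈ Q ⊓ O := ⟨by
      rw [show b = a⁻¹ * y by rw [← e]; group]
      exact Q.mul_mem (Q.inv_mem ha.1) hy.2, hb⟩
    rw [hQO, mem_bot] at hb1
    rw [← e, hb1, mul_one]; exact ha
  have hcomb : ∀ {a b : G}, a ∈ Q₀ → b ∈ O → a * b ∈ Q₀ ⊔ O := fun ha hb => mul_mem_sup ha hb
  have helem : ∀ a ∈ Q, ∀ a' ∈ Q, a ^ p ∈ Q₀ ∧ a * a' * a⁻¹ * a'⁻¹ ∈ Q₀ := by
    intro a ha a' ha'
    have := hc.quotient_elementary hD hKD a (hCQ.ge ha) a' (hCQ.ge ha')
    rwa [hfix, hpk] at this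
  have hcomm : ∀ y ∈ H, ∀ z ∈ H, y * z * y⁻¹ * z⁻¹ ∈ Q₀ ⊔ O := by
    intro y hy z hz
    obtain ⟨a, ha, b, hb, rfl⟩ := hdec y hy
    obtain ⟨a', ha', b', hb', rfl⟩ := hdec z hz
    have c2 : b * a' = a' * b := (mem_centralizer_iff.1 (hOQ hb) a' ha').symm
    have c1 : a * b' = b' * a := mem_centralizer_iff.1 (hOQ hb') a ha
    have e : a * b * (a' * b') * (a * b)⁻¹ * (a' * b')⁻¹ =
        (a * a' * a⁻¹ * a'⁻¹) * (b * b' * b⁻¹ * b'⁻¹) := by
      have hcomm' : ∀ t ∈ O, ∀ s ∈ Q, t * s = s * t := fun t ht s hs =>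
        (mem_centralizer_iff.1 (hOQ ht) s hs).symm
      calc a * b * (a' * b') * (a * b)⁻¹ * (a' * b')⁻¹
          = a * (b * a') * (b' * b⁻¹) * a⁻¹ * b'⁻¹ * a'⁻¹ := by group
        _ = a * a' * ((b * b' * b⁻¹) * a⁻¹) * b'⁻¹ * a'⁻¹ := by rw [c2]; group
        _ = a * a' * a⁻¹ * ((b * b' * b⁻¹ * b'⁻¹) * a'⁻¹) := by
            rw [hcomm' _ (mul_mem (mul_mem hb hb') (inv_mem hb)) _ (inv_mem ha)]; group
        _ = (a * a' * a⁻¹ * a'⁻¹) * (b * b' * b⁻¹ * b'⁻¹) := by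
            rw [hcomm' _ (mul_mem (mul_mem (mul_mem hb hb') (inv_mem hb)) (inv_mem hb')) _
              (inv_mem ha')]; group
    rw [e]
    exact hcomb (helem a ha a' ha').2 (mul_mem (mul_mem (mul_mem hb hb') (inv_mem hb)) (inv_mem hb'))
  have hHn₀ : M ≤ normalizer ((Q₀ ⊔ O : Subgroup G) : Set G) :=
    Coprime.le_normalizer_sup hMQ₀ hMO
  have hfixU : H ⊓ centralizer (U : Set G) ≤ Q₀ ⊔ O := by
    intro y hy
    obtain ⟨a, ha, b, hb, rfl⟩ := hdec y hy.1
    refine hcomb ⟨ha, mem_centralizer_iff.2 fun u hu => ?_⟩ hb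
    have h1 : u * (a * b) = a * b * u := mem_centralizer_iff.1 hy.2 u hu
    have ha' : u * a * u⁻¹ ∈ Q := (mem_normalizer_iff.1 (hMQ (hUM hu)) a).1 ha
    have hb' : u * b * u⁻¹ ∈ O := (mem_normalizer_iff.1 (hMO (hUM hu)) b).1 hb
    have h2 : a⁻¹ * (u * a * u⁻¹) = b * (u * b * u⁻¹)⁻¹ := by
      calc a⁻¹ * (u * a * u⁻¹) = a⁻¹ * (u * (a * b) * u⁻¹) * (u * b * u⁻¹)⁻¹ := by group
        _ = b * (u * b * u⁻¹)⁻¹ := by rw [h1]; group
    have h3 : a⁻¹ * (u * a * u⁻¹) ∈ Q ⊓ O :=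
      ⟨Q.mul_mem (Q.inv_mem ha) ha', h2 ▸ O.mul_mem hb (O.inv_mem hb')⟩
    rw [hQO, mem_bot, inv_mul_eq_one] at h3
    exact (mul_inv_eq_iff_eq_mul.1 h3.symm)
  refine ⟨Q₀ ⊔ O, ?_, hfixU⟩
  refine
    { prime_W₁ := prime_W₁ hG hM hd hII hU
      prime_W₂ := hp
      le := hQ₀O
      normal := hHn₀
      card_eq := ?_
      pow_mem := ?_
      comm_mem := hcomm
      inf_W₂ := ?_
      line := ?_
      fix_U := ?_
      irred := ?_
      derived_le := ?_ }
  · have h1 : Nat.card H = Nat.card Q * Nat.card O := by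
      rw [← Coprime.card_sup_eq_mul (hOQ.trans (centralizer_le_normalizer _)) hQO]
      exact congrArg (fun X : Subgroup G => Nat.card X)
        (le_antisymm hsplit (sup_le rPart_le rPrimePart_le))
    have h2 : Nat.card ↥(Q₀ ⊔ O) = Nat.card Q₀ * Nat.card O :=
      Coprime.card_sup_eq_mul hOQ₀ (eq_bot_iff.2 ((inf_le_inf_right O inf_le_left).trans hQO.le))
    have h3 := hc.card_eq_pow hD hKD le_rfl hd.W₁_ne
    rw [hfix, hCQ, hpk] at h3
    rw [← hpdef, h1, h2, h3]; ring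
  · intro y hy
    obtain ⟨a, ha, b, hb, rfl⟩ := hdec y hy
    have hab : Commute a b := mem_centralizer_iff.1 (hOQ hb) a ha
    rw [hab.mul_pow]
    exact hcomb (helem a ha a ha).1 (pow_mem hb _)
  · refine (eq_bot_or_eq_of_le_prime hp inf_le_right).resolve_right fun e => ?_
    have hW₂Q : W₂ ≤ Q := by rw [← hCQ, e2]; exact hc.kStar_le_coreSylow
    have h1 : W₂ ≤ Q₀ := (le_inf (inf_eq_right.1 e) hW₂Q).trans hinf.le
    have h2 := hc.fixed_joint hD hKD le_rfl hd.W₁_ne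
    have hbig : ((O ⊔ U) ⊔ W₁ : Subgroup G) ≤ centralizer (W₂ : Set G) := by
      refine sup_le (sup_le ?_ ?_) fun a ha => mem_centralizer_iff.2 fun b hb =>
        (hd.selfNormalizing.2.2.2.1 a ha b hb).symm
      · exact hOQ.trans (centralizer_le hW₂Q)
      · exact le_centralizer_iff.1 (h1.trans inf_le_right)
    refine hd.selfNormalizing.2.1 (le_bot_iff.1 (h2 ▸ le_inf ?_ (le_centralizer_iff.1 hbig)))
    rw [hCQ]; exact hW₂Q
  · intro y hy x hx hx1 hxy
    have hcop : (Nat.card (zpowers x)).Coprime (Nat.card ↥(Q₀ ⊔ O)) :=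
      ((coprime_W₁_derived hd).coprime_dvd_left
        (card_dvd_of_le (zpowers_le.2 hx))).coprime_dvd_right
        (card_dvd_of_le (hQ₀O.trans hd.U_compl.1))
    have h1 : y⁻¹ * (x * y * x⁻¹) ∈ Q₀ ⊔ O := by
      have := (mem_normalizer_iff''.1 (hHn₀ (hHM hy)) _).1 hxy
      simpa [mul_assoc] using this
    have hpow : ∀ a ∈ zpowers x, y⁻¹ * (a * y * a⁻¹) ∈ Q₀ ⊔ O := by
      intro a ha
      rw [← mem_powers_iff_mem_zpowers] at ha
      obtain ⟨n, rfl⟩ := ha
      simp only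
      induction n with
      | zero => simp
      | succ n ih =>
        have h2 : x * (y⁻¹ * (x ^ n * y * (x ^ n)⁻¹)) * x⁻¹ ∈ Q₀ ⊔ O :=
          (mem_normalizer_iff.1 (hHn₀ (hW₁M hx)) _).1 ih
        have e : y⁻¹ * (x ^ (n + 1) * y * (x ^ (n + 1))⁻¹) =
            (y⁻¹ * (x * y * x⁻¹)) * (x * (y⁻¹ * (x ^ n * y * (x ^ n)⁻¹)) * x⁻¹) := by
          rw [pow_succ']; group
        rw [e]
        exact mul_mem h1 h2
    obtain ⟨n, hn, hcn⟩ := Coprime.exists_fixed_mem_leftCoset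
      (zpowers_le.2 (hHn₀ (hW₁M hx))) hcop (Or.inr (Coprime.isSolvable_of_le
        (hQ₀O.trans hHM) (isSolvable_coatom hG hM))) hpow
    rw [centralizer_zpowers] at hcn
    have h3 : y * n ∈ W₂ := by
      rw [← hd.W₂_centralizer x hx hx1]
      exact ⟨hd.U_compl.1 (mul_mem hy (hQ₀O hn)), hcn⟩
    rw [show y = y * n * n⁻¹ by group]
    exact mul_mem (mem_sup_right h3) (mem_sup_left (inv_mem hn))
  · intro y hy hyU
    have hcop : (Nat.card U).Coprime (Nat.card ↥(Q₀ ⊔ O)) :=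
      (OddLocal.coprime_of_inf_eq_bot hUM hd.U_compl.2.2.1).symm.coprime_dvd_right
        (card_dvd_of_le hQ₀O)
    obtain ⟨n, hn, hcn⟩ := Coprime.exists_fixed_mem_leftCoset (hUM.trans hHn₀) hcop
      (Or.inr (Coprime.isSolvable_of_le (hQ₀O.trans hHM) (isSolvable_coatom hG hM)))
      (k := y) fun u hu => by
        have := (mem_normalizer_iff''.1 (hHn₀ (hHM hy)) _).1 (hyU u hu)
        simpa [mul_assoc] using this
    rw [show y = y * n * n⁻¹ by group]
    exact mul_mem (hfixU ⟨mul_mem hy (hQ₀O hn), hcn⟩) (inv_mem hn)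
  · intro N h0 hNH hN
    have hON : O ≤ N := le_sup_right.trans h0
    have hX : Q₀ ≤ N ⊓ Q := le_inf (le_sup_left.trans h0) inf_le_left
    have hDN : O ⊔ U ≤ normalizer ((N ⊓ Q : Subgroup G) : Set G) :=
      (le_inf (sup_le (hON.trans Subgroup.le_normalizer) (le_sup_left.trans hN))
        (sup_le (rPrimePart_le.trans (hHM.trans hMQ)) (hUM.trans hMQ))).trans
        inf_normalizer_le_normalizer_inf
    have hWN : W₁ ≤ normalizer ((N ⊓ Q : Subgroup G) : Set G) :=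
      (le_inf (le_sup_right.trans hN) (hW₁M.trans hMQ)).trans inf_normalizer_le_normalizer_inf
    have hN' : N = (N ⊓ Q) ⊔ O := by
      refine le_antisymm (fun y hy => ?_) (sup_le inf_le_left hON)
      obtain ⟨a, ha, b, hb, rfl⟩ := hdec y (hNH hy)
      refine mul_mem_sup ⟨?_, ha⟩ hb
      simpa using mul_mem hy (inv_mem (hON hb))
    rcases hc.dichotomy hD hKD (hfix.le.trans hX) (hCQ ▸ inf_le_right) hDN hWN with e | e
    · left; rw [hN', e, hfix]
    · right; rw [hN', e, hCQ]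
      exact le_antisymm (sup_le rPart_le rPrimePart_le) hsplit
  · refine Subgroup.commutator_le.2 fun u hu v hv => ?_
    have huv : ⁅u, v⁆ ∈ U := by
      rw [commutatorElement_def]
      exact mul_mem (mul_mem (mul_mem hu hv) (inv_mem hu)) (inv_mem hv)
    have h1 : ⁅u, v⁆ ∈ fittingOf M := by
      rw [← hd.fitting_eq]
      exact hd.derived_two_le (commutator_mem_commutator (hd.U_compl.2.1 hu) (hd.U_compl.2.1 hv))
    rw [Cfsg.Agent.S1387.result M W₁ U W₂ hd] at h1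
    have hCn : U ⊓ centralizer (H : Set G) ≤ normalizer (H : Set G) :=
      inf_le_left.trans (hUM.trans hMH)
    obtain ⟨h', hh', c, hc', e⟩ := (Coprime.mem_sup_of_le_normalizer hCn).1 h1
    have hh1 : h' ∈ H ⊓ U := ⟨hh', by
      rw [show h' = ⁅u, v⁆ * c⁻¹ by rw [← e]; group]
      exact U.mul_mem huv (U.inv_mem hc'.1)⟩
    rw [hd.U_compl.2.2.1, mem_bot] at hh1
    rw [← e, hh1, one_mul]
    refine mem_modCent.2 ⟨hMH (hUM hc'.1), hHn₀ (hUM hc'.1), fun y hy => ?_⟩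
    rw [← mem_centralizer_iff.1 hc'.2 y hy, mul_inv_cancel_right, mul_inv_cancel]
    exact one_mem _

end CaseTwo


end Cfsg.Agent.OddFinal.NotTwo

namespace Cfsg.Agent.OddFinal

open Subgroup Cfsg

/-- In a pair whose first member is not of Type II the order of `W₂` is prime. -/
theorem Pair.prime_W₂_of_not_II {G : Type*} [Group G] [Finite G] {S T W₁ W₂ U V : Subgroup G}
    (hG : IsMinSimpleOddOrder G) (h : Pair S T W₁ W₂ U V) (hS : ¬ IsOfTypeII S) :
    (Nat.card W₂).Prime := by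
  have hT := h.someII.resolve_left hS
  obtain ⟨K, U', hd⟩ := OddLocal.exists_decomposition hG h.maxT
  obtain ⟨-, hcard, -⟩ := OddLocal.typeP_invariants hG h.maxT hd h.dataT
  obtain ⟨W, U'', X, hd', -, hprime, -⟩ := hT
  obtain ⟨-, hcard', -⟩ := OddLocal.typeP_invariants hG h.maxT hd hd'
  rw [hcard, ← hcard']
  exact hprime

end Cfsg.Agent.OddFinal
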