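import Mathlib
import Cfsg.Agent.Coherence.Basic
import Cfsg.Agent.Char.Perm

/-!
# Parity of real virtual characters of a group of odd order

For two real generalized characters `X`, `Y` of a group of odd order, `⟨X,Y⟩ ≡ ⟨X,1⟩⟨Y,1⟩ (mod 2)`.
-/

set_option autoImplicit false
set_option linter.unusedSectionVars false

namespace Cfsg.Agent.OddFinal

open scoped ComplexConjugate

universe u

variable {G : Type u} [Group G] [Fintype G]

theorem classInner_sub_sub (a b c d : G → ℂ) :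
    classInner (a - b) (c - d) =
      classInner a c - classInner a d - classInner b c + classInner b d := by
  simp only [Char.classInner_sub_left, Char.classInner_sub_right]
  ring

/-- In a group of odd order only the principal character is equal to its conjugate. -/
theorem eq_one_of_conjFun_eq (hodd : Odd (Nat.card G)) {χ : G → ℂ} (hχ : IsIrrCharacter G χ)
    (h : conjFun χ = χ) : χ = fun _ => 1 :=
  Char.real_irr_eq_one hodd hχ fun g => Complex.conj_eq_iff_im.1 (congrFun h g)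

/-- The inner product of two real generalized characters is congruent modulo `2` to the product
of their inner products with the principal character. -/
theorem real_inner_parity (hodd : Odd (Nat.card G)) {X Y : G → ℂ}
    (hX : IsGeneralizedCharacter G X) (hY : IsGeneralizedCharacter G Y)
    (hXr : conjFun X = X) (hYr : conjFun Y = Y) :
    ∃ n : ℤ, classInner X Y -
      classInner X (fun _ => 1) * classInner Y (fun _ => 1) = 2 * (n : ℂ) := by
  classical
  obtain ⟨m, hm, -, -⟩ := Char.IsGen.exists_mult hX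
  obtain ⟨k, hk, -, -⟩ := Char.IsGen.exists_mult hY
  let e : IrrCharacter G → IrrCharacter G := fun ψ =>
    ⟨conjFun ψ.1, Coherence.isIrr_conjFun ψ.2⟩
  let o : IrrCharacter G := ⟨fun _ => 1, Char.isIrrCharacter_one⟩
  have key : ∀ (Z : G → ℂ) (z : IrrCharacter G → ℤ), (∀ ψ : IrrCharacter G,
      classInner Z (ψ : G → ℂ) = z ψ) → conjFun Z = Z → ∀ ψ, z (e ψ) = z ψ := by
    intro Z z hz hZ ψ
    have h1 := hz (e ψ)
    rw [show ((e ψ : IrrCharacter G) : G → ℂ) = conjFun ψ.1 from rfl, ← hZ,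
      Coherence.classInner_conjFun, ← Char.classInner_conj_symm, hz, map_intCast] at h1
    exact_mod_cast h1.symm
  have hsum : classInner X Y = ((∑ ψ, m ψ * k ψ : ℤ) : ℂ) := by
    rw [Char.classInner_eq_sum (Char.IsGen.isClassFunction hX), Int.cast_sum]
    refine Finset.sum_congr rfl fun ψ _ => ?_
    rw [hm, ← Char.classInner_conj_symm Y (ψ : G → ℂ), hk, map_intCast, Int.cast_mul]
  have hev : (((∑ ψ ∈ Finset.univ.erase o, m ψ * k ψ) : ℤ) : ZMod 2) = 0 := by
    rw [Int.cast_sum]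
    refine Finset.sum_involution (fun ψ _ => e ψ) (fun ψ _ => ?_) (fun ψ hψ _ h => ?_)
      (fun ψ hψ => ?_) (fun ψ _ => ?_)
    · rw [key X m hm hXr, key Y k hk hYr]
      exact CharTwo.add_self_eq_zero _
    · exact (Finset.mem_erase.1 hψ).1
        (Subtype.ext (eq_one_of_conjFun_eq hodd ψ.2 (congrArg Subtype.val h)))
    · refine Finset.mem_erase.2 ⟨fun h => (Finset.mem_erase.1 hψ).1 ?_, Finset.mem_univ _⟩
      apply Subtype.ext
      have h1 : conjFun ψ.1 = fun _ => (1 : ℂ) := congrArg Subtype.val h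
      rw [← Coherence.conjFun_conjFun ψ.1, h1]
      funext g
      simp [conjFun, o]
    · exact Subtype.ext (Coherence.conjFun_conjFun ψ.1)
  obtain ⟨n, hn⟩ := (ZMod.intCast_zmod_eq_zero_iff_dvd _ 2).1 hev
  refine ⟨n, ?_⟩
  rw [hsum, ← Finset.add_sum_erase _ _ (Finset.mem_univ o), hn,
    show (fun _ => (1 : ℂ)) = (o : G → ℂ) from rfl, hm, hk]
  push_cast
  ring

/-- The parity consequence used with bridge characters. -/
theorem parity_cross (hodd : Odd (Nat.card G)) {Y₁ Y₂ χ₁ χ₂ : G → ℂ}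
    (hY₁ : IsGeneralizedCharacter G Y₁) (hY₂ : IsGeneralizedCharacter G Y₂)
    (hχ₁ : IsGeneralizedCharacter G χ₁) (hχ₂ : IsGeneralizedCharacter G χ₂)
    (hr₁ : conjFun (Y₁ + χ₁) = Y₁ + χ₁) (hr₂ : conjFun (Y₂ + χ₂) = Y₂ + χ₂)
    (h11 : classInner Y₁ (fun _ => 1) = 1) (h21 : classInner Y₂ (fun _ => 1) = 1)
    (h10 : classInner χ₁ (fun _ => 1) = 0) (h20 : classInner χ₂ (fun _ => 1) = 0)
    (hY : classInner Y₁ Y₂ = 0) (hχ : classInner χ₁ χ₂ = 0) :
    ∃ n : ℤ, classInner Y₁ χ₂ + classInner χ₁ Y₂ = 2 * (n : ℂ) + 1 := by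
  obtain ⟨n, hn⟩ := real_inner_parity hodd (Char.isGeneralized_add hY₁ hχ₁)
    (Char.isGeneralized_add hY₂ hχ₂) hr₁ hr₂
  refine ⟨n, ?_⟩
  simp only [Char.classInner_add_left, Char.classInner_add_right, h11, h21, h10, h20, hY, hχ]
    at hn
  linear_combination hn

/-- Two signed irreducible characters, neither equal to its conjugate, whose differences with
their conjugates are orthogonal are orthogonal to each other and to each other's conjugate. -/
theorem orth_of_diff_orth {χ₁ χ₂ : G → ℂ}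
    (h₁ : IsIrrCharacter G χ₁ ∨ IsIrrCharacter G (-χ₁))
    (h₂ : IsIrrCharacter G χ₂ ∨ IsIrrCharacter G (-χ₂))
    (hne₁ : conjFun χ₁ ≠ χ₁) (hne₂ : conjFun χ₂ ≠ χ₂)
    (h : classInner (χ₁ - conjFun χ₁) (χ₂ - conjFun χ₂) = 0) :
    classInner χ₁ χ₂ = 0 ∧ classInner χ₁ (conjFun χ₂) = 0 ∧
      classInner (conjFun χ₁) χ₂ = 0 := by
  classical
  have hneg : ∀ ψ : G → ℂ, conjFun (-ψ) = -conjFun ψ := fun ψ => funext fun g => by
    simp [conjFun]
  have norm : ∀ ψ : G → ℂ, IsIrrCharacter G ψ ∨ IsIrrCharacter G (-ψ) → conjFun ψ ≠ ψ →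
      ∃ θ : G → ℂ, ∃ s : ℂ, IsIrrCharacter G θ ∧ (s = 1 ∨ s = -1) ∧ conjFun θ ≠ θ ∧
        ψ = s • θ ∧ conjFun ψ = s • conjFun θ := by
    intro ψ hψ hne
    rcases hψ with hψ | hψ
    · exact ⟨ψ, 1, hψ, Or.inl rfl, hne, by simp, by simp⟩
    · refine ⟨-ψ, -1, hψ, Or.inr rfl, fun h => hne ?_, by simp, by simp [hneg]⟩
      rw [hneg] at h
      exact neg_injective h
  obtain ⟨θ₁, s, hθ₁, hs, hn₁, e₁, e₁'⟩ := norm χ₁ h₁ hne₁
  obtain ⟨θ₂, t, hθ₂, ht, hn₂, e₂, e₂'⟩ := norm χ₂ h₂ hne₂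
  have hcs : ∀ z : ℂ, (z = 1 ∨ z = -1) → conj z = z ∧ z ≠ 0 := by
    rintro z (rfl | rfl) <;> simp
  obtain ⟨hsc, hs0⟩ := hcs s hs
  obtain ⟨htc, ht0⟩ := hcs t ht
  rw [e₁', e₂', e₁, e₂, classInner_sub_sub] at h
  simp only [Char.classInner_smul_left, Char.classInner_smul_right, htc,
    Coherence.classInner_conjFun] at h
  have hc12 : classInner (conjFun θ₁) θ₂ = classInner (conjFun θ₂) θ₁ := by
    rw [← Coherence.classInner_conjFun θ₁ (conjFun θ₂), Coherence.conjFun_conjFun]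
  rw [hc12, ← Char.classInner_conj_symm θ₁ θ₂, ← Char.classInner_conj_symm θ₁ (conjFun θ₂),
    Char.classInner_irr hθ₁ hθ₂, Char.classInner_irr hθ₁ (Coherence.isIrr_conjFun hθ₂)] at h
  have z1 : θ₁ ≠ θ₂ := by
    intro e
    subst e
    rw [if_pos rfl, if_neg (Ne.symm hn₁)] at h
    simp only [map_one, map_zero, mul_zero, sub_zero, mul_one] at h
    have : s * t = 0 := by linear_combination h / 2
    exact mul_ne_zero hs0 ht0 this
  have z2 : θ₁ ≠ conjFun θ₂ := by
    intro e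
    rw [if_neg z1, if_pos e] at h
    simp only [map_one, map_zero, mul_zero, zero_sub, mul_one, add_zero] at h
    have : s * t = 0 := by linear_combination -h / 2
    exact mul_ne_zero hs0 ht0 this
  have o1 : classInner θ₁ θ₂ = 0 := Char.classInner_irr_ne hθ₁ hθ₂ z1
  have o2 : classInner θ₁ (conjFun θ₂) = 0 :=
    Char.classInner_irr_ne hθ₁ (Coherence.isIrr_conjFun hθ₂) z2
  refine ⟨?_, ?_, ?_⟩
  · rw [e₁, e₂, Char.classInner_smul_left, Char.classInner_smul_right, o1, mul_zero, mul_zero]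
  · rw [e₁, e₂', Char.classInner_smul_left, Char.classInner_smul_right, o2, mul_zero, mul_zero]
  · rw [e₁', e₂, Char.classInner_smul_left, Char.classInner_smul_right, hc12,
      ← Char.classInner_conj_symm θ₁ (conjFun θ₂), o2, map_zero, mul_zero, mul_zero]

end Cfsg.Agent.OddFinal
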