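import Mathlib
import Cfsg.Agent.OddFinal.EtaBasic
import Cfsg.Agent.OddFinal.EtaParity

/-!
# Uniqueness of the family of a self-normalizing cyclic pair and its consequences

The family is unique, hence commutes with complex conjugation and does not depend on the order of
the two factors.  On elements of order prime to `|W₁|` the values on one side sum to an odd
integer.
-/

set_option autoImplicit false
set_option linter.unusedSectionVars false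

namespace Cfsg.Agent.OddFinal

open scoped ComplexConjugate

universe u

variable {G : Type u} [Group G] [Fintype G] {W₁ W₂ : Subgroup G}
  {χ χ' : (↥(W₁ ⊔ W₂) →* ℂˣ) → (G → ℂ)}

theorem hom_eq_one_of_const (hW : IsSelfNormalizingCyclic W₁ W₂)
    (hodd : Odd (Nat.card ↥(W₁ ⊔ W₂))) {ρ : ↥(W₁ ⊔ W₂) →* ℂˣ} {c : ℂ}
    (h : ∀ w : ↥(W₁ ⊔ W₂), (w : G) ∈ vSet W₁ W₂ → (ρ w : ℂ) = c) : ρ = 1 ∧ c = 1 := by
  have hmem : ∀ (a b : ↥(W₁ ⊔ W₂)), (a : G) ∈ W₁ → (b : G) ∈ W₂ → a ≠ 1 → b ≠ 1 →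
      ((a * b : ↥(W₁ ⊔ W₂)) : G) ∈ vSet W₁ W₂ := by
    intro a b ha hb ha1 hb1
    refine ⟨(a * b).2, fun h1 => hb1 ?_, fun h2 => ha1 ?_⟩
    · apply Subtype.ext
      have : (b : G) ∈ W₁ ⊓ W₂ := ⟨by simpa using W₁.mul_mem (W₁.inv_mem ha) h1, hb⟩
      rw [hW.2.2.1, Subgroup.mem_bot] at this
      exact this
    · apply Subtype.ext
      have : (a : G) ∈ W₁ ⊓ W₂ := ⟨ha, by simpa using W₂.mul_mem h2 (W₂.inv_mem hb)⟩
      rw [hW.2.2.1, Subgroup.mem_bot] at this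
      exact this
  have hsq : ∀ a : ↥(W₁ ⊔ W₂), a ≠ 1 → a * a ≠ 1 := by
    intro a ha h2
    have h3 : orderOf a ∣ 2 := orderOf_dvd_of_pow_eq_one (by rw [pow_two, h2])
    rcases (Nat.dvd_prime Nat.prime_two).1 h3 with h4 | h4
    · exact ha (orderOf_eq_one_iff.1 h4)
    · exact Nat.not_even_iff_odd.2 hodd (even_iff_two_dvd.2 (h4 ▸ orderOf_dvd_natCard a))
  obtain ⟨a, ha, ha1⟩ : ∃ a : ↥(W₁ ⊔ W₂), (a : G) ∈ W₁ ∧ a ≠ 1 := by
    obtain ⟨a, ha, ha1⟩ := W₁.bot_or_exists_ne_one.resolve_left hW.1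
    exact ⟨⟨a, Subgroup.mem_sup_left ha⟩, ha, fun e => ha1 (congrArg Subtype.val e)⟩
  obtain ⟨b, hb, hb1⟩ : ∃ b : ↥(W₁ ⊔ W₂), (b : G) ∈ W₂ ∧ b ≠ 1 := by
    obtain ⟨b, hb, hb1⟩ := W₂.bot_or_exists_ne_one.resolve_left hW.2.1
    exact ⟨⟨b, Subgroup.mem_sup_right hb⟩, hb, fun e => hb1 (congrArg Subtype.val e)⟩
  have hA : ∀ x : ↥(W₁ ⊔ W₂), (x : G) ∈ W₁ → ρ x = 1 := by
    intro x hx
    by_cases hx1 : x = 1
    · rw [hx1, map_one]
    have e : (ρ (x * b) : ℂ) = ρ (x * x * b) := by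
      rw [h _ (hmem x b hx hb hx1 hb1),
        h _ (hmem (x * x) b (W₁.mul_mem hx hx) hb (hsq x hx1) hb1)]
    rw [map_mul, map_mul, map_mul, Units.val_mul, Units.val_mul, Units.val_mul, mul_assoc] at e
    exact Units.ext (mul_right_cancel₀ (mul_ne_zero (Units.ne_zero _) (Units.ne_zero _))
      (e.symm.trans (one_mul _).symm))
  have hB : ∀ x : ↥(W₁ ⊔ W₂), (x : G) ∈ W₂ → ρ x = 1 := by
    intro x hx
    by_cases hx1 : x = 1
    · rw [hx1, map_one]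
    have e : (ρ (a * x) : ℂ) = ρ (a * (x * x)) := by
      rw [h _ (hmem a x ha hx ha1 hx1),
        h _ (hmem a (x * x) ha (W₂.mul_mem hx hx) ha1 (hsq x hx1))]
    rw [map_mul, map_mul, map_mul, Units.val_mul, Units.val_mul, Units.val_mul, hA a ha] at e
    simp only [Units.val_one, one_mul] at e
    exact Units.ext (mul_right_cancel₀ (Units.ne_zero (ρ x)) (e.symm.trans (one_mul _).symm))
  have h1 : ρ = 1 := CyclicTI.eq_one_of_trivial hW.2.2.2.1 ρ hA hB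
  refine ⟨h1, ?_⟩
  rw [← h _ (hmem a b ha hb ha1 hb1), h1, MonoidHom.one_apply, Units.val_one]

/-- The family attached to a self-normalizing cyclic pair is unique. -/
theorem eta_unique (hW : IsSelfNormalizingCyclic W₁ W₂) (hodd : Odd (Nat.card ↥(W₁ ⊔ W₂)))
    (hχ : IsCyclicTIFamily W₁ W₂ χ) (hχ' : IsCyclicTIFamily W₁ W₂ χ') : χ' = χ := by
  classical
  funext ω
  obtain ⟨w, hw⟩ : ∃ w : ↥(W₁ ⊔ W₂), (w : G) ∈ vSet W₁ W₂ := by
    by_contra! hemp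
    have h1 := hom_eq_one_of_const hW hodd (ρ := (1 : ↥(W₁ ⊔ W₂) →* ℂˣ)) (c := 2)
      fun v hv => absurd hv (hemp v)
    exact absurd h1.2 (by norm_num)
  obtain ⟨ω', hω'⟩ : ∃ ω', classInner (χ' ω) (χ ω') ≠ 0 := by
    by_contra! h0
    have := CyclicTI.vanish hW hχ (eta_isClassFunction hχ' ω) h0 hw.2.1 hw.2.2
    rw [hχ'.eq_on ω w hw.2.1 hw.2.2] at this
    exact Units.ne_zero _ this
  obtain ⟨s, hs⟩ : ∃ s : ℂ, χ' ω = s • χ ω' := by
    have norm : ∀ ψ : G → ℂ, IsIrrCharacter G ψ ∨ IsIrrCharacter G (-ψ) →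
        ∃ θ : G → ℂ, ∃ t : ℂ, IsIrrCharacter G θ ∧ (t = 1 ∨ t = -1) ∧ ψ = t • θ := by
      rintro ψ (h | h)
      · exact ⟨ψ, 1, h, Or.inl rfl, by simp⟩
      · exact ⟨-ψ, -1, h, Or.inr rfl, by simp⟩
    obtain ⟨θ, t, hθ, ht, e⟩ := norm _ (hχ'.irr_or_neg ω)
    obtain ⟨θ', t', hθ', ht', e'⟩ := norm _ (hχ.irr_or_neg ω')
    by_cases he : θ = θ'
    · refine ⟨t * t', ?_⟩
      rw [e, e', he, smul_smul, mul_assoc]
      rcases ht' with rfl | rfl <;> simp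
    · refine absurd ?_ hω'
      rw [e, e', Char.classInner_smul_left, Char.classInner_smul_right,
        Char.classInner_irr_ne hθ hθ' he, mul_zero, mul_zero]
  have hρ : ∀ v : ↥(W₁ ⊔ W₂), (v : G) ∈ vSet W₁ W₂ → ((ω * ω'⁻¹) v : ℂ) = s := by
    intro v hv
    have e := congrFun hs v
    rw [hχ'.eq_on ω v hv.2.1 hv.2.2, Pi.smul_apply, hχ.eq_on ω' v hv.2.1 hv.2.2, smul_eq_mul]
      at e
    rw [MonoidHom.mul_apply, MonoidHom.inv_apply, Units.val_mul, Units.val_inv_eq_inv_val, e,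
      mul_assoc, mul_inv_cancel₀ (Units.ne_zero _), mul_one]
  obtain ⟨h1, rfl⟩ := hom_eq_one_of_const hW hodd hρ
  have h2 : ω = ω' := MonoidHom.ext fun v => by
    have := DFunLike.congr_fun h1 v
    rwa [MonoidHom.mul_apply, MonoidHom.inv_apply, MonoidHom.one_apply, mul_inv_eq_one] at this
  rw [hs, one_smul, h2]

theorem conjFun_indFun (H : Subgroup G) (f : H → ℂ) :
    conjFun (indFun H f) = indFun H (fun h => conj (f h)) := by
  funext g
  rw [conjFun, Char.indFun_apply, Char.indFun_apply, map_mul, map_inv₀, map_natCast, map_sum]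
  congr 1
  refine Finset.sum_congr rfl fun x _ => ?_
  by_cases hx : x⁻¹ * g * x ∈ H
  · rw [Char.extendByZero_of_mem _ _ hx, Char.extendByZero_of_mem _ _ hx]
  · rw [Char.extendByZero_of_not_mem _ _ hx, Char.extendByZero_of_not_mem _ _ hx, map_zero]

theorem conj_hom (ω : ↥(W₁ ⊔ W₂) →* ℂˣ) (w : ↥(W₁ ⊔ W₂)) :
    conj (ω w : ℂ) = ((ω⁻¹ : ↥(W₁ ⊔ W₂) →* ℂˣ) w : ℂ) := by
  rw [MonoidHom.inv_apply, Units.val_inv_eq_inv_val,
    ← Complex.inv_eq_conj (Complex.norm_eq_one_of_pow_eq_one (n := Nat.card ↥(W₁ ⊔ W₂)) ?_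
      Nat.card_pos.ne')]
  rw [← Units.val_pow_eq_pow_val, ← MonoidHom.pow_apply, coe_hom_pow_card]
  rfl

/-- Complex conjugation sends `η ω` to `η ω⁻¹`. -/
theorem eta_conj (hW : IsSelfNormalizingCyclic W₁ W₂) (hodd : Odd (Nat.card ↥(W₁ ⊔ W₂)))
    (hχ : IsCyclicTIFamily W₁ W₂ χ) (ω : ↥(W₁ ⊔ W₂) →* ℂˣ) :
    conjFun (χ ω) = χ ω⁻¹ := by
  have hneg : ∀ ψ : G → ℂ, -conjFun ψ = conjFun (-ψ) := fun ψ => funext fun g => by
    simp [conjFun]
  have hinv : ∀ (f f' : ↥(W₁ ⊔ W₂) →* ℂˣ), (f * f')⁻¹ = f⁻¹ * f'⁻¹ := fun f f' =>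
    MonoidHom.ext fun w => mul_inv (f w) (f' w)
  have hii : ∀ f : ↥(W₁ ⊔ W₂) →* ℂˣ, f⁻¹⁻¹ = f := fun f =>
    MonoidHom.ext fun w => inv_inv (f w)
  have h1i : (1 : ↥(W₁ ⊔ W₂) →* ℂˣ)⁻¹ = 1 := MonoidHom.ext fun w => inv_one
  have hne1 : ∀ f : ↥(W₁ ⊔ W₂) →* ℂˣ, f ≠ 1 → f⁻¹ ≠ 1 := fun f hf h =>
    hf (by rw [← hii f, h, h1i])
  have h : IsCyclicTIFamily W₁ W₂ (fun ω => conjFun (χ ω⁻¹)) := by
    refine ⟨fun ω => (hχ.irr_or_neg ω⁻¹).imp Coherence.isIrr_conjFun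
        fun h => by rw [hneg]; exact Coherence.isIrr_conjFun h, fun ω ω' => ?_, ?_,
      fun ω w h1 h2 => ?_, fun φ ψ hφ hψ hφ₂ hψ₁ => ?_⟩
    · rw [Coherence.classInner_conjFun, hχ.orthonormal]
      by_cases he : ω = ω'
      · rw [if_pos he, if_pos (by rw [he])]
      · rw [if_neg he, if_neg fun e => he (by rw [← hii ω, ← e, hii])]
    · show conjFun (χ (1 : ↥(W₁ ⊔ W₂) →* ℂˣ)⁻¹) = _
      rw [h1i, hχ.map_one]
      funext g
      simp [conjFun]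
    · show conjFun (χ ω⁻¹) (w : G) = _
      rw [conjFun, hχ.eq_on ω⁻¹ w h1 h2, conj_hom, hii]
    · have h0 := congrArg conjFun (hχ.induced_eq φ⁻¹ ψ⁻¹ (hne1 φ hφ) (hne1 ψ hψ)
        (fun w hw => by rw [MonoidHom.inv_apply, hφ₂ w hw, inv_one])
        (fun w hw => by rw [MonoidHom.inv_apply, hψ₁ w hw, inv_one]))
      rw [conjFun_indFun] at h0
      simp only [map_add, map_sub, map_one, map_mul, conj_hom, hii, ← hinv] at h0
      rw [h0]
      funext g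
      simp [conjFun]
  have h1 := congrFun (eta_unique hW hodd hχ h) ω⁻¹
  simp only [hii] at h1
  exact h1

/-- On elements of order prime to `|W₁|` the sum of the `η φ`, `φ` trivial on `W₂`, is odd. -/
theorem left_sum_odd (hW : IsSelfNormalizingCyclic W₁ W₂) (hodd : Odd (Nat.card ↥(W₁ ⊔ W₂)))
    (hχ : IsCyclicTIFamily W₁ W₂ χ) {g : G} (hg : (orderOf g).Coprime (Nat.card W₁)) :
    ∃ n : ℤ, Odd n ∧ ∑ φ : Left W₁ W₂, χ φ.1 g = n := by
  classical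
  choose m hm using fun φ : Left W₁ W₂ => left_int hW hodd hχ φ hg
  refine ⟨∑ φ, m φ, ?_, by push_cast; exact Finset.sum_congr rfl fun φ _ => hm φ⟩
  have hinvm : ∀ φ, m (leftInv φ) = m φ := by
    intro φ
    have h1 := congrFun (eta_conj hW hodd hχ φ.1) g
    rw [conjFun, hm φ, map_intCast] at h1
    have h2 : χ (leftInv φ).1 g = χ φ.1⁻¹ g := rfl
    rw [hm (leftInv φ), ← h1] at h2
    exact_mod_cast h2
  rw [← Finset.add_sum_erase _ _ (Finset.mem_univ (leftOne : Left W₁ W₂))]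
  have h1 : m leftOne = 1 := by
    have := hm (leftOne : Left W₁ W₂)
    simp only [leftOne, hχ.map_one] at this
    exact_mod_cast this.symm
  have hev : ((∑ φ ∈ Finset.univ.erase (leftOne : Left W₁ W₂), m φ : ℤ) : ZMod 2) = 0 := by
    rw [Int.cast_sum]
    refine Finset.sum_involution (fun φ _ => leftInv φ) (fun φ _ => ?_) (fun φ hφ _ h => ?_)
      (fun φ hφ => ?_) (fun φ _ => Subtype.ext (inv_inv φ.1))
    · rw [hinvm]
      exact CharTwo.add_self_eq_zero _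
    · refine (Finset.mem_erase.1 hφ).1 (Subtype.ext ?_)
      have h2 : φ.1 ^ 2 = 1 := MonoidHom.ext fun w => by
        have : (φ.1 w)⁻¹ = φ.1 w := DFunLike.congr_fun (congrArg Subtype.val h) w
        rw [MonoidHom.pow_apply, MonoidHom.one_apply, pow_two]
        nth_rw 1 [← this]
        exact inv_mul_cancel _
      exact orderOf_eq_one_iff.1 (Nat.eq_one_of_dvd_coprimes
        (Nat.coprime_two_right.2 hodd) (orderOf_dvd_of_pow_eq_one (coe_hom_pow_card φ.1))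
        (orderOf_dvd_of_pow_eq_one h2))
    · refine Finset.mem_erase.2 ⟨fun h => (Finset.mem_erase.1 hφ).1 (Subtype.ext ?_),
        Finset.mem_univ _⟩
      refine MonoidHom.ext fun w => ?_
      exact inv_eq_one.1 (DFunLike.congr_fun (congrArg Subtype.val h) w)
  obtain ⟨k, hk⟩ := (ZMod.intCast_zmod_eq_zero_iff_dvd _ 2).1 hev
  rw [h1, hk]
  exact ⟨k, by push_cast; ring⟩

theorem left_sum_ne_zero (hW : IsSelfNormalizingCyclic W₁ W₂)
    (hodd : Odd (Nat.card ↥(W₁ ⊔ W₂))) (hχ : IsCyclicTIFamily W₁ W₂ χ) {g : G}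
    (hg : (orderOf g).Coprime (Nat.card W₁)) : ∑ φ : Left W₁ W₂, χ φ.1 g ≠ 0 := by
  obtain ⟨n, hn, e⟩ := left_sum_odd hW hodd hχ hg
  rw [e, Int.cast_ne_zero]
  rintro rfl
  simp at hn

/-! ### Exchanging the factors -/

/-- A linear character of `W₂ ⊔ W₁` as one of `W₁ ⊔ W₂`. -/
noncomputable def swapHom (f : ↥(W₂ ⊔ W₁) →* ℂˣ) : ↥(W₁ ⊔ W₂) →* ℂˣ :=
  f.comp (Subgroup.inclusion (sup_comm W₁ W₂).le)

theorem swapHom_apply (f : ↥(W₂ ⊔ W₁) →* ℂˣ) (w : ↥(W₁ ⊔ W₂)) :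
    swapHom f w = f ⟨w, (sup_comm W₁ W₂).le w.2⟩ := rfl

theorem swapHom_swapHom (f : ↥(W₂ ⊔ W₁) →* ℂˣ) : swapHom (swapHom f) = f := rfl

theorem swapHom_one : swapHom (1 : ↥(W₂ ⊔ W₁) →* ℂˣ) = 1 := rfl

theorem swapHom_mul (f f' : ↥(W₂ ⊔ W₁) →* ℂˣ) :
    swapHom (f * f') = swapHom f * swapHom f' := rfl

theorem swapHom_injective :
    Function.Injective (swapHom : (↥(W₂ ⊔ W₁) →* ℂˣ) → (↥(W₁ ⊔ W₂) →* ℂˣ)) := fun f f' h => by
  rw [← swapHom_swapHom f, h, swapHom_swapHom]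

/-- `Left` of the exchanged pair is `Right`. -/
noncomputable def swapLeft : Left W₂ W₁ ≃ Right W₁ W₂ where
  toFun f := ⟨swapHom f.1, fun _ hw => f.2 _ hw⟩
  invFun f := ⟨swapHom f.1, fun _ hw => f.2 _ hw⟩
  left_inv f := Subtype.ext (swapHom_swapHom f.1)
  right_inv f := Subtype.ext (swapHom_swapHom f.1)

theorem indFun_congr {H K : Subgroup G} (e : H = K) (f : K → ℂ) :
    indFun H (fun h => f ⟨h, e ▸ h.2⟩) = indFun K f := by
  subst e
  rfl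

theorem isSelfNormalizingCyclic_swap (hW : IsSelfNormalizingCyclic W₁ W₂) :
    IsSelfNormalizingCyclic W₂ W₁ := by
  obtain ⟨h1, h2, h3, h4, h5, h6⟩ := hW
  refine ⟨h2, h1, by rw [inf_comm, h3], fun a ha b hb => (h4 b hb a ha).symm,
    by rw [sup_comm]; exact h5, ?_⟩
  intro X hX hne
  rw [sup_comm]
  refine h6 X ?_ hne
  rw [sup_comm W₂ W₁, Set.union_comm] at hX
  exact hX

/-- The definition of the family is symmetric in the two factors. -/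
theorem eta_swap (hχ : IsCyclicTIFamily W₁ W₂ χ) :
    IsCyclicTIFamily W₂ W₁ (fun f => χ (swapHom f)) := by
  classical
  refine ⟨fun f => hχ.irr_or_neg _, fun f f' => ?_, hχ.map_one, fun f w h1 h2 => ?_,
    fun φ ψ hφ hψ hφ₂ hψ₁ => ?_⟩
  · rw [hχ.orthonormal]
    simp only [swapHom_injective.eq_iff]
    split_ifs <;> rfl
  · exact hχ.eq_on (swapHom f) ⟨w, (sup_comm W₂ W₁).le w.2⟩ h2 h1
  · have h := hχ.induced_eq (swapHom ψ) (swapHom φ) (fun e => hψ (swapHom_injective e))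
      (fun e => hφ (swapHom_injective e)) (fun w hw => hψ₁ _ hw) (fun w hw => hφ₂ _ hw)
    have e : indFun (W₂ ⊔ W₁) (fun w => 1 - (φ w : ℂ) - (ψ w : ℂ) + (φ w : ℂ) * (ψ w : ℂ)) =
        indFun (W₁ ⊔ W₂) (fun w => 1 - (swapHom ψ w : ℂ) - (swapHom φ w : ℂ) +
          (swapHom ψ w : ℂ) * (swapHom φ w : ℂ)) := by
      rw [← indFun_congr (sup_comm W₂ W₁)]
      refine congrArg _ (funext fun w => ?_)
      simp only [swapHom_apply, Subtype.coe_eta]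
      ring
    rw [e, h, show swapHom ψ * swapHom φ = swapHom (φ * ψ) from MonoidHom.ext fun w => mul_comm _ _]
    funext g
    ring

end Cfsg.Agent.OddFinal
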