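import Cfsg.Agent.OddFinal.GenericData
import Cfsg.Agent.OddFinal.EtaUnique

/-!
# The bridge characters of a member of the pair

`π` stands for the character of `M` on the cosets of `K W₁`; `π - μ ψ` is supported on the trivial
intersection set, and its image links the family with the characters of `M' / K`.
-/

set_option autoImplicit false
set_option linter.unusedSectionVars false

namespace Cfsg.Agent.OddFinal

open Cfsg Char CyclicTI
open scoped ComplexConjugate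
open scoped _root_.Classical

universe u

variable {G : Type u} [Group G] [Fintype G]

/-- The character on the cosets of `K W₁` and what is needed about it. -/
structure IsBridge (M W₁ W₂ K : Subgroup G) [Fintype ↥M] (d : ℕ)
    (X : Finset (↥M → ℂ)) (μ : (↥(W₁ ⊔ W₂) →* ℂˣ) → ↥M → ℂ) (π : ↥M → ℂ) : Prop where
  char : IsCharacter ↥M π
  real : ∀ x : M, conj (π x) = π x
  val_K : ∀ x : M, (x : G) ∈ K → π x = (d : ℂ)
  val_V : ∀ x : M, (x : G) ∈ vSet W₁ W₂ → π x = 1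
  supp : ∀ ψ : Right W₁ W₂, ψ.1 ≠ 1 → ∀ x : M,
    (x : G) ∉ sharp K ∪ conjIn M (vSet W₁ W₂) → π x = μ ψ.1 x
  res : ∀ (φ : Left W₁ W₂) (ψ : Right W₁ W₂), ψ.1 ≠ 1 → ∀ x : M, (x : G) ∈ K →
    μ (φ.1 * ψ.1) x = μ ψ.1 x
  inner_one : classInner π (fun _ => 1) = 1
  inner_self : (Nat.card W₁ : ℂ) * classInner π π = (Nat.card W₁ : ℂ) + (d : ℂ) - 1
  orth_mu : ∀ ψ : Right W₁ W₂, ψ.1 ≠ 1 → classInner π (μ ψ.1) = 0
  mu_conj : ∀ ψ ψ' : Right W₁ W₂, ψ.1 ≠ 1 → ψ'.1 = ψ.1⁻¹ → conjFun (μ ψ.1) = μ ψ'.1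

end Cfsg.Agent.OddFinal
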