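import Cfsg.Agent.OddFinal.Average
import Cfsg.Agent.OddFinal.Bridge
import Cfsg.Agent.OddFinal.EtaUnique

/-!
# The images of the bridge characters

`indFun M (π - μ ψ) = 1 - η ψ + Γ` with `Γ` real, orthogonal to `1` and independent of `ψ ≠ 1`;
the image of `q d 1_K - Σ_φ μ(φψ)` has coefficient `≡ 1 (mod q)` at every `η φ`, `φ ≠ 1`.
-/

set_option autoImplicit false
set_option linter.unusedSectionVars false

namespace Cfsg.Agent.OddFinal

open Cfsg Char CyclicTI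
open scoped ComplexConjugate
open scoped _root_.Classical

universe u

variable {G : Type u} [Group G] [Fintype G] {M W₁ W₂ K : Subgroup G} [Fintype ↥M] {d : ℕ}
  {X : Finset (↥M → ℂ)} {μ : (↥(W₁ ⊔ W₂) →* ℂˣ) → ↥M → ℂ}
  {η : (↥(W₁ ⊔ W₂) →* ℂˣ) → G → ℂ} {B : Set G} {π : ↥M → ℂ}

/-- An induced function vanishes off the conjugates of the support. -/
theorem indFun_eq_zero_of {f : ↥M → ℂ} {A : Set G} (hf : ∀ x : M, (x : G) ∉ A → f x = 0) {g : G}
    (hg : g ∉ conjAll A) : indFun M f g = 0 := by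
  rw [indFun_apply, Finset.sum_eq_zero, mul_zero]
  intro x _
  by_cases hx : x⁻¹ * g * x ∈ M
  · rw [extendByZero_of_mem M f hx]
    exact hf ⟨_, hx⟩ fun h' => hg ⟨x, _, h', by group⟩
  · rw [extendByZero_of_not_mem M f hx]

theorem conjAll_conjIn_subset {A : Set G} : conjAll (conjIn M A) ⊆ conjAll A := by
  rintro g ⟨x, a, ⟨m, -, v, hv, rfl⟩, rfl⟩
  exact ⟨x * m, v, hv, by group⟩

/-- `q d` on `K`, zero elsewhere: the character induced from the trivial one of `K`. -/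
noncomputable def kerChar (M W₁ K : Subgroup G) (d : ℕ) : ↥M → ℂ :=
  fun x => if (x : G) ∈ K then ((Nat.card W₁ * d : ℕ) : ℂ) else 0

variable (h : Ctx M W₁ W₂ K d X μ η B) (hb : IsBridge M W₁ W₂ K d X μ π)

include h

theorem Ctx.isClassFunction_kerChar : IsClassFunction ↥M (kerChar M W₁ K d) := fun g k => by
  have hiff : ((k * g * k⁻¹ : ↥M) : G) ∈ K ↔ (g : G) ∈ K := by
    simp only [Subgroup.coe_mul, Subgroup.coe_inv]
    exact (Subgroup.mem_normalizer_iff.1 (h.side.normal k.2) g).symm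
  simp only [kerChar, hiff]

/-- Inner products with `kerChar` only see the kernel. -/
theorem Ctx.inner_kerChar (F : ↥M → ℂ) :
    classInner F (kerChar M W₁ K d) =
      (Nat.card K : ℂ)⁻¹ * ∑ k : K, F ⟨k.1, h.side.K_le k.2⟩ := by
  have hc : (Nat.card M : ℂ) = ((Nat.card W₁ * d : ℕ) : ℂ) * Nat.card K := by
    rw [h.side.card_eq]; push_cast; ring
  have hne : ((Nat.card W₁ * d : ℕ) : ℂ) ≠ 0 := by
    intro e; rw [e, zero_mul] at hc
    exact Nat.cast_ne_zero.2 Nat.card_pos.ne' hc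
  have hsum : ∑ x : M, F x * conj (kerChar M W₁ K d x) =
      ((Nat.card W₁ * d : ℕ) : ℂ) * ∑ k : K, F ⟨k.1, h.side.K_le k.2⟩ := by
    rw [Finset.mul_sum, ← Finset.sum_subset
      (Finset.subset_univ (Finset.univ.filter fun x : M => (x : G) ∈ K))
      fun x _ hx => by
        rw [show kerChar M W₁ K d x = 0 from if_neg (by simpa using hx), map_zero, mul_zero]]
    refine Finset.sum_bij' (fun (x : ↥M) hx => (⟨(x : G), (Finset.mem_filter.1 hx).2⟩ : ↥K))
      (fun k _ => (⟨k.1, h.side.K_le k.2⟩ : ↥M)) (by simp) (by simp) (by simp) (by simp) ?_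
    intro x hx
    rw [show kerChar M W₁ K d x = _ from if_pos (Finset.mem_filter.1 hx).2, map_natCast, mul_comm]
  simp only [classInner]
  rw [hsum, hc]
  field_simp

include hb

theorem Ctx.mu_ne_one {ψ : Right W₁ W₂} (hψ : ψ.1 ≠ 1) : μ ψ.1 ≠ fun _ => 1 := by
  intro e
  have h1 := h.side.orth_mu leftOne ψ hψ
  rw [show (leftOne : Left W₁ W₂).1 * ψ.1 = ψ.1 by ext w; simp [leftOne], e] at h1
  simp only [Finset.sum_const, Finset.card_univ, nsmul_eq_mul, mul_one, Nat.cast_eq_zero] at h1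
  exact Fintype.card_ne_zero h1

theorem Ctx.beta_spec {ψ : Right W₁ W₂} (hψ : ψ.1 ≠ 1) :
    IsClassFunction ↥M (π - μ ψ.1) ∧ IsGeneralizedCharacter ↥M (π - μ ψ.1) ∧
      (∀ x : M, (x : G) ∉ sharp K ∪ conjIn M (vSet W₁ W₂) → (π - μ ψ.1) x = 0) := by
  have hg : IsGeneralizedCharacter ↥M (π - μ ψ.1) :=
    isGeneralized_sub (isGeneralized_of_isCharacter hb.char)
      (isGeneralized_of_isCharacter (IsIrr.isCharacter (h.side.irr_mu _)))
  exact ⟨IsGen.isClassFunction hg, hg, fun x hx => by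
    rw [Pi.sub_apply, hb.supp ψ hψ x hx, sub_self]⟩

/-- The bridge image. -/
theorem Ctx.tau_beta : ∃ Γ : G → ℂ, IsGeneralizedCharacter G Γ ∧ conjFun Γ = Γ ∧
    classInner Γ (fun _ => 1) = 0 ∧
    ∀ ψ : Right W₁ W₂, ψ.1 ≠ 1 →
      indFun M (π - μ ψ.1) = (fun _ => 1) - η ψ.1 + Γ ∧
      classInner (indFun M (π - μ ψ.1)) (indFun M (π - μ ψ.1)) = classInner π π + 1 ∧
      classInner (indFun M (π - μ ψ.1)) (fun _ => 1) = 1 := by
  obtain ⟨ψ₀, hψ₀⟩ := h.exists_right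
  have hone : ∀ ψ : Right W₁ W₂, (leftOne : Left W₁ W₂).1 * ψ.1 = ψ.1 := fun ψ => by
    ext w; simp [leftOne]
  have hdiff : ∀ ψ : Right W₁ W₂, ψ.1 ≠ 1 →
      indFun M (π - μ ψ.1) - indFun M (π - μ ψ₀.1) = η ψ₀.1 - η ψ.1 := fun ψ hψ => by
    rw [← Char.indFun_sub, show (π - μ ψ.1) - (π - μ ψ₀.1) = μ ψ₀.1 - μ ψ.1 by abel]
    have := h.side.tau_mu leftOne ψ₀ ψ hψ₀ hψ
    rwa [hone, hone] at this
  set Γ : G → ℂ := indFun M (π - μ ψ₀.1) - (fun _ => 1) + η ψ₀.1 with hΓ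
  have heq : ∀ ψ : Right W₁ W₂, ψ.1 ≠ 1 →
      indFun M (π - μ ψ.1) = (fun _ => 1) - η ψ.1 + Γ := fun ψ hψ => by
    rw [← sub_add_cancel (indFun M (π - μ ψ.1)) (indFun M (π - μ ψ₀.1)), hdiff ψ hψ, hΓ]
    abel
  have hinner : ∀ ψ : Right W₁ W₂, ψ.1 ≠ 1 →
      classInner (indFun M (π - μ ψ.1)) (indFun M (π - μ ψ.1)) = classInner π π + 1 ∧
      classInner (indFun M (π - μ ψ.1)) (fun _ => 1) = 1 := fun ψ hψ => by
    obtain ⟨hc, -, hs⟩ := h.beta_spec hb hψ
    constructor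
    · rw [inner_ind h.side.dade hc hs hs]
      simp only [classInner_sub_left, classInner_sub_right, hb.orth_mu ψ hψ,
        classInner_irr_self (h.side.irr_mu _)]
      rw [← classInner_conj_symm π (μ ψ.1), hb.orth_mu ψ hψ, map_zero]
      ring
    · rw [classInner_indFun_left M _ (fun _ _ => rfl)]
      rw [show (fun x : M => (fun _ : G => (1 : ℂ)) x) = fun _ => 1 from rfl, classInner_sub_left,
        hb.inner_one, classInner_irr_ne (h.side.irr_mu _) isIrrCharacter_one (h.mu_ne_one hb hψ),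
        sub_zero]
  refine ⟨Γ, ?_, ?_, ?_, fun ψ hψ => ⟨heq ψ hψ, hinner ψ hψ⟩⟩
  · exact isGeneralized_add (isGeneralized_sub (isGeneralized_indFun M (h.beta_spec hb hψ₀).2.1)
      (isGeneralized_of_isCharacter isCharacter_one)) (h.eta_gen _)
  · let ψ₁ : Right W₁ W₂ := ⟨ψ₀.1⁻¹, fun w hw => by simp [ψ₀.2 w hw]⟩
    have hψ₁ : ψ₁.1 ≠ 1 := fun e => hψ₀ (MonoidHom.ext fun w => by
      simpa [ψ₁] using DFunLike.congr_fun e w)
    have e1 : conjFun (indFun M (π - μ ψ₀.1)) = indFun M (π - μ ψ₁.1) := by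
      rw [conjFun_indFun]
      congr 1
      funext x
      rw [Pi.sub_apply, map_sub, hb.real, Pi.sub_apply, ← hb.mu_conj ψ₀ ψ₁ hψ₀ rfl]
      rfl
    have hWodd : Odd (Nat.card ↥(W₁ ⊔ W₂)) :=
      h.odd.of_dvd_nat (Subgroup.card_subgroup_dvd_card _)
    have e2 : conjFun (η ψ₀.1) = η ψ₁.1 := eta_conj h.selfN hWodd h.fam ψ₀.1
    have e3 : ∀ a b : G → ℂ, conjFun (a - (fun _ => 1) + b) =
        conjFun a - (fun _ => 1) + conjFun b := fun a b => by
      funext g; simp [conjFun]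
    rw [hΓ, e3, e1, e2, heq ψ₁ hψ₁, hΓ]
    abel
  · rw [hΓ, classInner_add_left, classInner_sub_left, (hinner ψ₀ hψ₀).2,
      eta_inner_one h.fam hψ₀, classInner_irr_self isIrrCharacter_one]
    ring

/-- The coefficient of the image of `kerChar - Σ_φ μ(φψ)` at `η φ` is `1` modulo `q`. -/
theorem Ctx.ker_coeff {φ : Left W₁ W₂} (hφ : φ.1 ≠ 1) {ψ : Right W₁ W₂} (hψ : ψ.1 ≠ 1) :
    ∃ c : ℤ, classInner (indFun M (kerChar M W₁ K d - colChar μ ψ)) (η φ.1) =
      (Nat.card W₁ : ℂ) * c + 1 := by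
  obtain ⟨-, hβg, hβs⟩ := h.beta_spec hb hψ
  obtain ⟨c, hc⟩ := classInner_generalized_int (isGeneralized_indFun M hβg) (h.eta_gen φ.1)
  refine ⟨c, ?_⟩
  set q : ℂ := (Nat.card W₁ : ℂ) with hq
  set r : ↥M → ℂ := kerChar M W₁ K d - colChar μ ψ - q • (π - μ ψ.1) with hr
  let f : ↥(W₁ ⊔ W₂) → ℂ := fun w => if (w : G) ∈ vSet W₁ W₂ then 1 - (ψ.1 w : ℂ) else 0
  have hrA : ∀ x : M, (x : G) ∉ conjIn M (vSet W₁ W₂) → r x = 0 := by
    intro x hx
    simp only [hr, Pi.sub_apply, Pi.smul_apply, smul_eq_mul, colChar, Finset.sum_apply, kerChar]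
    by_cases hK : (x : G) ∈ K
    · rw [if_pos hK, Finset.sum_congr rfl fun φ' _ => hb.res φ' ψ hψ x hK, Finset.sum_const,
        Finset.card_univ, h.card_left, hb.val_K x hK, nsmul_eq_mul, hq, Nat.cast_mul]
      ring
    · have := hβs x fun hh => hh.elim (fun hh => hK hh.1) hx
      rw [Pi.sub_apply] at this
      rw [if_neg hK, h.side.supp_sum ψ hψ x hK, this]
      ring
  have hfA : ∀ w : ↥(W₁ ⊔ W₂), (w : G) ∉ vSet W₁ W₂ → f w = 0 := fun w hw => if_neg hw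
  have hfc : IsClassFunction ↥(W₁ ⊔ W₂) f := fun g k => by
    rw [show k * g * k⁻¹ = g by
      rw [h.selfN.2.2.2.2.1.isMulCommutative.is_comm.comm k g, mul_inv_cancel_right]]
  have hrc : IsClassFunction ↥M r := fun g k => by
    have h1 := h.isClassFunction_kerChar g k
    have h2 : colChar μ ψ (k * g * k⁻¹) = colChar μ ψ g := by
      simp only [colChar, Finset.sum_apply,
        fun φ' : Left W₁ W₂ => isClassFunction_of_isIrr (h.side.irr_mu (φ'.1 * ψ.1)) g k]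
    have h3 := (h.beta_spec hb hψ).1 g k
    simp only [hr, Pi.sub_apply, Pi.smul_apply] at h1 h2 h3 ⊢
    rw [h1, h2, h3]
  have hM : ∀ {v : G}, v ∈ vSet W₁ W₂ → v ∈ M := fun hv => h.side.W_le hv.1
  have hrD : ∀ x : M, (x : G) ∉ sharp K ∪ conjIn M (vSet W₁ W₂) → r x = 0 :=
    fun x hx => hrA x fun hh => hx (Or.inr hh)
  have key : indFun M r = (-q) • indFun (W₁ ⊔ W₂) f := by
    funext g
    rw [Pi.smul_apply, smul_eq_mul]
    by_cases hg : g ∈ conjAll (vSet W₁ W₂)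
    · obtain ⟨y, v, hv, rfl⟩ := hg
      rw [isClassFunction_indFun M r v y, isClassFunction_indFun _ f v y]
      have hvA : v ∈ conjIn M (vSet W₁ W₂) := ⟨1, M.one_mem, v, hv, by group⟩
      rw [indFun_coe h.side.dade hrc hrD (a := ⟨v, hM hv⟩) (Or.inr hvA),
        indFun_coe (dade_vSet h.selfN) hfc hfA (a := ⟨v, hv.1⟩) hv]
      have hK : v ∉ K := fun hh => Set.disjoint_left.1 h.side.disjoint
        ⟨hh, fun e => hv.2.1 (by rw [Set.mem_singleton_iff] at e; rw [e]; exact one_mem _)⟩ hvA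
      have hval := h.side.mu_val leftOne ψ ⟨v, hM hv⟩ hv.1 hv.2.2 hψ
      rw [show (leftOne : Left W₁ W₂).1 * ψ.1 = ψ.1 by ext w; simp [leftOne]] at hval
      simp only [hr, Pi.sub_apply, Pi.smul_apply, smul_eq_mul, colChar, Finset.sum_apply, kerChar,
        if_neg hK, f, if_pos hv, h.side.supp_sum ψ hψ ⟨v, hM hv⟩ hK]
      rw [hb.val_V ⟨v, hM hv⟩ hv, hval]
      ring
    · rw [indFun_eq_zero_of hrA fun hh => hg (conjAll_conjIn_subset hh),
        indFun_eq_zero_of hfA hg, mul_zero]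
  have hWcard : (Nat.card ↥(W₁ ⊔ W₂) : ℂ) = q * Nat.card W₂ := by
    rw [hq, CyclicTI.card_sup h.selfN, Nat.cast_mul]
  have hf : classInner (indFun (W₁ ⊔ W₂) f) (η φ.1) = -q⁻¹ := by
    rw [classInner_indFun_left _ f (eta_isClassFunction h.fam _)]
    have hval : ∀ w : ↥(W₁ ⊔ W₂), f w * conj (η φ.1 w) =
        (1 - (ψ.1 w : ℂ)) * conj (φ.1 w : ℂ) -
          (if (w : G) ∈ W₂ then 1 - (ψ.1 w : ℂ) else 0) := by
      intro w
      by_cases hv : (w : G) ∈ vSet W₁ W₂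
      · simp only [f, if_pos hv, if_neg hv.2.2]
        rw [h.fam.eq_on φ.1 w hv.2.1 hv.2.2, sub_zero]
      · simp only [f, if_neg hv, zero_mul]
        rcases em ((w : G) ∈ W₂) with h2 | h2
        · rw [if_pos h2, φ.2 w h2, Units.val_one, map_one, mul_one, sub_self]
        · have h1 : (w : G) ∈ W₁ := by
            by_contra h1; exact hv ⟨w.2, h1, h2⟩
          rw [if_neg h2, ψ.2 w h1]; simp
    have hne : φ.1 ≠ ψ.1 := fun e => hφ (CyclicTI.eq_one_of_trivial h.selfN.2.2.2.1 φ.1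
      (fun w hw => by rw [e]; exact ψ.2 w hw) φ.2)
    have s1 := classInner_hom (1 : ↥(W₁ ⊔ W₂) →* ℂˣ) φ.1
    rw [if_neg (Ne.symm hφ)] at s1
    have s2 := classInner_hom ψ.1 φ.1
    rw [if_neg (Ne.symm hne)] at s2
    simp only [classInner, MonoidHom.one_apply, Units.val_one] at s1 s2
    simp only [classInner, hval, Finset.sum_sub_distrib, sub_mul, mul_sub, s1, s2]
    have hW2 : ∑ w : ↥(W₁ ⊔ W₂), (if (w : G) ∈ W₂ then 1 - (ψ.1 w : ℂ) else 0) =
        (Nat.card W₂ : ℂ) := by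
      let i : ↥W₂ →* ↥(W₁ ⊔ W₂) := Subgroup.inclusion le_sup_right
      rw [← Finset.sum_filter, Finset.sum_bij'
        (fun (w : ↥(W₁ ⊔ W₂)) hw => (⟨(w : G), (Finset.mem_filter.1 hw).2⟩ : ↥W₂))
        (fun v _ => i v) (t := Finset.univ) (g := fun v : ↥W₂ => 1 - ((ψ.1.comp i) v : ℂ))
        (by simp) (fun v _ => by simp [i]) (fun w _ => rfl) (fun v _ => rfl) (fun w _ => rfl)]
      have hnt : ψ.1.comp i ≠ 1 := fun e => hψ (CyclicTI.eq_one_of_trivial h.selfN.2.2.2.1 ψ.1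
        ψ.2 fun w hw => by
          exact DFunLike.congr_fun e ⟨(w : G), hw⟩)
      have s3 := classInner_hom (ψ.1.comp i) 1
      rw [if_neg hnt] at s3
      simp only [classInner, MonoidHom.one_apply, Units.val_one, map_one, mul_one] at s3
      have hs0 : ∑ v : ↥W₂, ((ψ.1.comp i) v : ℂ) = 0 := by
        rcases mul_eq_zero.1 s3 with e | e
        · exact absurd e (inv_ne_zero (Nat.cast_ne_zero.2 Nat.card_pos.ne'))
        · exact e
      rw [Finset.sum_sub_distrib, hs0, sub_zero, Finset.sum_const, Finset.card_univ, nsmul_eq_mul,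
        mul_one, Nat.card_eq_fintype_card]
    rw [hW2, hWcard]
    have hp : (Nat.card W₂ : ℂ) ≠ 0 := Nat.cast_ne_zero.2 Nat.card_pos.ne'
    field_simp
    ring
  have hq0 : q ≠ 0 := Nat.cast_ne_zero.2 Nat.card_pos.ne'
  have hsplit : kerChar M W₁ K d - colChar μ ψ = r + q • (π - μ ψ.1) := by rw [hr]; abel
  rw [hsplit, Char.indFun_add, classInner_add_left, key, classInner_smul_left, hf,
    Char.indFun_smul, classInner_smul_left, hc]
  field_simp
  ring

end Cfsg.Agent.OddFinal
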