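import Cfsg.Agent.OddFinal.OvergroupFamily
import Cfsg.Agent.OddFinal.BridgeImage

/-!
# The bridge characters seen by the overgroup, and the conclusion `K = U`
-/

set_option autoImplicit false
set_option linter.unusedSectionVars false

namespace Cfsg.Agent.OddFinal

open Cfsg Char
open scoped ComplexConjugate

universe u

variable {G : Type u} [Group G] [Fintype G] {W₁ W₂ : Subgroup G}
  {η : (↥(W₁ ⊔ W₂) →* ℂˣ) → G → ℂ} {ι ι' : Type*} [Fintype ι] [Fintype ι']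
  {S S' : Set G} {Y Y' : G → ℂ} {F : ι → G → ℂ} {n : ι → ℤ} {i₀ i₁ : ι}
  {F' : ι' → G → ℂ} {n' : ι' → ℤ} {j₀ j₁ : ι'}

theorem hom_inv_ne (hodd : Odd (Nat.card G)) {ω : ↥(W₁ ⊔ W₂) →* ℂˣ} (hω : ω ≠ 1) : ω⁻¹ ≠ ω := by
  intro e
  refine hω (MonoidHom.ext fun w => ?_)
  obtain ⟨m, hm⟩ : Odd (Nat.card ↥(W₁ ⊔ W₂)) := hodd.of_dvd_nat (Subgroup.card_subgroup_dvd_card _)
  have h1 : ω w * ω w = 1 := by
    calc ω w * ω w = ω⁻¹ w * ω w := by rw [e]
      _ = 1 := inv_mul_cancel _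
  have h2 : ω w ^ Nat.card ↥(W₁ ⊔ W₂) = 1 := by rw [← map_pow, pow_card_eq_one', map_one]
  rw [hm, pow_succ, pow_mul, sq, h1, one_pow, one_mul] at h2
  exact h2

/-- A bridge character over `η ω` vanishing on `S`, of norm `N` with `r (N - 2) ≤ D`. -/
def HasFrameOff (S : Set G) (η : (↥(W₁ ⊔ W₂) →* ℂˣ) → G → ℂ) (r : ℕ) (D : ℤ)
    (ω : ↥(W₁ ⊔ W₂) →* ℂˣ) : Prop :=
  ∃ (N : ℤ) (Z : G → ℂ), Frame N Z (η ω) (η ω⁻¹) ∧ (r : ℤ) * (N - 2) ≤ D ∧ ∀ g ∈ S, Z g = 0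

theorem HasFrameOff.hasFrame {e k r : ℕ} {D : ℤ} {ω : ↥(W₁ ⊔ W₂) →* ℂˣ}
    (h : HasFrameOff S η r D ω) (hL : IsOverFamily S η e k Y F n i₀ i₁) :
    HasFrame η Y F n i₀ r D ω := by
  obtain ⟨N, Z, h1, h2, h3⟩ := h
  exact ⟨N, Z, h1, h2, hL.inner_eq_zero h3⟩

/-- A bridge character of a member is a frame for everything living off its trivial intersection set. -/
theorem hasFrame_of_bridge {M K : Subgroup G} [Fintype ↥M] {d : ℕ} {X : Finset (↥M → ℂ)}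
    {μ : (↥(W₁ ⊔ W₂) →* ℂˣ) → ↥M → ℂ} {B : Set G} {π : ↥M → ℂ} (h : Ctx M W₁ W₂ K d X μ η B)
    (hb : IsBridge M W₁ W₂ K d X μ π)
    (hdis : Disjoint S (conjAll (sharp K ∪ conjIn M (vSet W₁ W₂))))
    {ψ : Right W₁ W₂} (hψ : ψ.1 ≠ 1) :
    HasFrameOff S η (Nat.card W₁) ((d : ℤ) - 1) ψ.1 := by
  obtain ⟨Γ, hΓg, hΓr, -, hΓ⟩ := h.tau_beta hb
  obtain ⟨heq, hnorm, hone⟩ := hΓ ψ hψ
  obtain ⟨-, hβg, hβs⟩ := h.beta_spec hb hψ
  set Z := indFun M (π - μ ψ.1) with hZ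
  have hπg : IsGeneralizedCharacter ↥M π := isGeneralized_of_isCharacter hb.char
  obtain ⟨c, hc⟩ := classInner_generalized_int hπg hπg
  have hZ0 : ∀ g ∈ S, Z g = 0 := fun g hg =>
    indFun_eq_zero_of hβs (Set.disjoint_left.1 hdis hg)
  have hW : Odd (Nat.card ↥(W₁ ⊔ W₂)) := h.odd.of_dvd_nat (Subgroup.card_subgroup_dvd_card _)
  have hψ' : ψ.1⁻¹ ≠ 1 := fun e => hψ (MonoidHom.ext fun w => by
    simpa using DFunLike.congr_fun e w)
  refine ⟨c + 1, Z, ?_, le_of_eq ?_, hZ0⟩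
  · exact
      { gen := isGeneralized_indFun M hβg
        gen₀ := eta_isGeneralized h.fam _
        gen₁ := eta_isGeneralized h.fam _
        norm := by rw [hnorm, hc]; push_cast; ring
        one := hone
        unit₀ := eta_norm h.fam _
        unit₁ := eta_norm h.fam _
        orth := by rw [h.fam.orthonormal, if_neg (hom_inv_ne h.odd hψ).symm]
        one₀ := eta_inner_one h.fam hψ
        one₁ := eta_inner_one h.fam hψ'
        conj₀ := eta_conj h.selfN hW h.fam _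
        real := by
          rw [heq, show (fun _ : G => (1 : ℂ)) - η ψ.1 + Γ + η ψ.1 = (fun _ => 1) + Γ by abel,
            conjFun_add', hΓr]
          congr 1
          funext g; simp [conjFun] }
  · have h1 := hb.inner_self
    rw [hc] at h1
    have h2 : ((Nat.card W₁ : ℤ) * c : ℂ) = ((Nat.card W₁ : ℤ) + (d : ℤ) - 1 : ℤ) := by
      push_cast
      linear_combination h1
    have h3 : (Nat.card W₁ : ℤ) * c = (Nat.card W₁ : ℤ) + (d : ℤ) - 1 := by exact_mod_cast h2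
    linear_combination h3

theorem HasFrameOff.mono {r : ℕ} {D D' : ℤ} {ω : ↥(W₁ ⊔ W₂) →* ℂˣ}
    (h : HasFrameOff S η r D ω) (hD : D ≤ D') : HasFrameOff S η r D' ω := by
  obtain ⟨N, Z, h1, h2, h3⟩ := h
  exact ⟨N, Z, h1, h2.trans hD, h3⟩

theorem HasFrameOff.swap {r : ℕ} {D : ℤ} {f : ↥(W₂ ⊔ W₁) →* ℂˣ}
    (h : HasFrameOff S (fun g => η (swapHom g)) r D f) :
    HasFrameOff S η r D (swapHom f) := by
  obtain ⟨N, Z, h1, h2, h3⟩ := h
  exact ⟨N, Z, h1, h2, h3⟩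

/-- The frames on the other axis, from the bridge of the other member. -/
theorem hasFrame_of_bridge_swap {T K' : Subgroup G} [Fintype ↥T] {d' : ℕ} {X' : Finset (↥T → ℂ)}
    {μ' : (↥(W₂ ⊔ W₁) →* ℂˣ) → ↥T → ℂ} {B' : Set G} {π' : ↥T → ℂ}
    (h : Ctx T W₂ W₁ K' d' X' μ' (fun f => η (swapHom f)) B')
    (hb : IsBridge T W₂ W₁ K' d' X' μ' π')
    (hdis : Disjoint S (conjAll (sharp K' ∪ conjIn T (vSet W₂ W₁))))
    {D : ℤ} (hD : (d' : ℤ) - 1 ≤ D) (φ : Left W₁ W₂) (hφ : φ.1 ≠ 1) :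
    HasFrameOff S η (Nat.card W₂) D φ.1 := by
  let ψ : Right W₂ W₁ := ⟨swapHom φ.1, fun _ hw => φ.2 _ hw⟩
  have hψ : ψ.1 ≠ 1 := fun e => hφ (swapHom_injective (e.trans swapHom_one.symm))
  simpa [ψ, swapHom_swapHom] using ((hasFrame_of_bridge h hb hdis hψ).mono hD).swap

/-- If the kernel of `L` is `U` then `L` normalises `U`. -/
theorem le_normalizer_of_kernel {L U : Subgroup G} (hUK : U ≤ fittingHallOf L)
    (hcard : Nat.card (fittingHallOf L) = Nat.card U) :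
    U = fittingHallOf L ∧ L ≤ Subgroup.normalizer (U : Set G) := by
  have h : U = fittingHallOf L := Subgroup.eq_of_le_of_card_ge hUK hcard.le
  exact ⟨h, h ▸ OddLocal.le_normalizer_fittingHallOf L⟩

/-- With complement of order `q = |W₁|` and kernel `U` the overgroup is `U W₁`. -/
theorem eq_sup_of_kernel {L U : Subgroup G} (hUK : U ≤ fittingHallOf L)
    (hcard : Nat.card (fittingHallOf L) = Nat.card U) (hW₁L : W₁ ≤ L)
    (hinf : U ⊓ W₁ = ⊥) (hidx : (fittingHall L).index = Nat.card W₁) : L = U ⊔ W₁ := by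
  obtain ⟨hU, hN⟩ := le_normalizer_of_kernel hUK hcard
  have hKL : fittingHallOf L ≤ L := Subgroup.map_subtype_le _
  have hle : U ⊔ W₁ ≤ L := sup_le (hUK.trans hKL) hW₁L
  refine (Subgroup.eq_of_le_of_card_ge hle (le_of_eq ?_)).symm
  have h1 : Nat.card L = Nat.card U * Nat.card W₁ := by
    rw [← hcard, fittingHallOf, Subgroup.card_map_of_injective L.subtype_injective, ← hidx,
      Subgroup.card_mul_index]
  refine le_antisymm ?_ (Subgroup.card_le_of_le hle)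
  rw [h1, ← Nat.card_prod]
  refine Nat.card_le_card_of_injective
    (fun x : U × W₁ => (⟨(x.1 : G) * x.2,
      Subgroup.mul_mem_sup x.1.2 x.2.2⟩ : ↥(U ⊔ W₁))) fun x y h => ?_
  exact Subgroup.mul_injective_of_disjoint (disjoint_iff.2 hinf) (congrArg Subtype.val h)

end Cfsg.Agent.OddFinal
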