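import Cfsg.Agent.OddFinal.Pair
import Cfsg.Agent.OddTypeOne.Uncond

/-!
# Existence of the pair

In a minimal simple group of odd order there is a `Pair S T W₁ W₂ U V` with `|W₁| < |W₂|`, and
every maximal subgroup is of Type I or conjugate to `S` or to `T`.
-/

set_option autoImplicit false

namespace Cfsg.Agent.OddFinal

open Subgroup Cfsg Cfsg.Agent.OddLocal Cfsg.Agent.OddTypeOne

universe u

variable {G : Type u} [Group G] [Finite G]

/-- Every maximal subgroup is of Type I or conjugate to `S` or to `T`. -/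
def Covers (S T : Subgroup G) : Prop :=
  ∀ M : Subgroup G, IsCoatom M → IsOfTypeI M ∨
    ∃ g : G, M = S.map (MulAut.conj g).toMonoidHom ∨ M = T.map (MulAut.conj g).toMonoidHom

omit [Finite G] in
theorem Covers.symm {S T : Subgroup G} (h : Covers S T) : Covers T S := fun M hM =>
  (h M hM).imp_right fun ⟨g, hg⟩ => ⟨g, hg.symm⟩

omit [Finite G] in
/-- In a cyclic group subgroups of coprime intersection `⊥` have different orders unless trivial. -/
theorem card_ne_of_inf_eq_bot [Finite G] {A B : Subgroup G} (hA : A ≠ ⊥) (hAB : A ⊓ B = ⊥)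
    (hc : IsCyclic ↥(A ⊔ B)) : Nat.card A ≠ Nat.card B := fun e =>
  hA (by rwa [← eq_of_card_eq_of_isCyclic hc le_sup_left le_sup_right e, inf_idem] at hAB)

/-- Type `P` data with `W₁ = K`. -/
theorem exists_data (hG : IsMinSimpleOddOrder G) {M K U : Subgroup G} (hM : IsCoatom M)
    (h : IsSigmaDecomposition M K U) (hK : K ≠ ⊥) :
    ∃ V : Subgroup G, IsTypePWith M K V (sigmaCore M ⊓ centralizer (K : Set G)) := by
  obtain ⟨V, hVn, hKV, hV, -, -⟩ := exists_typeP_compl hG hM h hK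
  exact ⟨V, isTypePWith_of_compl hG hM h hK hVn hKV hV⟩

/-- The pair of maximal subgroups of type `P` exists. -/
theorem exists_pair (hG : IsMinSimpleOddOrder G) :
    ∃ S T W₁ W₂ U V : Subgroup G, Pair S T W₁ W₂ U V ∧ Nat.card W₁ < Nat.card W₂ ∧
      Covers S T := by
  have hT := tau2Empty hG
  obtain ⟨S, hS, hSI⟩ := exists_not_typeI hT hG
  obtain ⟨K, U, h, hK⟩ := ((typeI_or_decomp hT hG hS).resolve_left hSI).2
  obtain ⟨T, ⟨hTm, hKst, hKH⟩, -⟩ := Cfsg.Agent.S1366.result hG S hS K U h hK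
  have hW := isSelfNormalizingCyclic_kappa hG hS h.hall hK
  have hst : sigmaCore S ⊓ centralizer (K : Set G) ≠ ⊥ := hW.2.1
  obtain ⟨⟨U', h'⟩, -⟩ := Cfsg.Agent.S1352.result hG T hTm _
    ((Cfsg.Agent.S1351.result hG T hTm).2 _ hKH) hKH
  obtain ⟨hU, hconj⟩ := Cfsg.Agent.S1369.result hG S hS K U h hK T hTm hKst hKH
  obtain ⟨V₁, hd₁⟩ := exists_data hG hS h hK
  obtain ⟨V₂, hd₂⟩ := exists_data hG hTm h' hst
  replace hd₂ : IsTypePWith T (sigmaCore S ⊓ centralizer (K : Set G)) V₂ K := by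
    rw [coe_inf] at hd₂
    have e : K = sigmaCore T ⊓ centralizer ((sigmaCore S : Set G) ∩
        (centralizer (K : Set G) : Set G)) := hKst
    rwa [← e] at hd₂
  have hp : Pair S T K (sigmaCore S ⊓ centralizer (K : Set G)) V₁ V₂ :=
    { maxS := hS
      maxT := hTm
      dataS := hd₁
      dataT := hd₂
      inter := (Cfsg.Agent.S1368.result hG S hS K U h hK T hTm hKst hKH).1
      someII := hU.imp (fun hU1 => (typeII_iff hG hS h).2 ⟨hK, hU1⟩)
        fun hU1 => (typeII_iff hG hTm h').2 ⟨hst, hU1 U' h'⟩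
      typeS := typeP_kind hG hS h hK
      typeT := typeP_kind hG hTm h' hst }
  have hcov : Covers S T := fun M hM => by
    by_cases hκ : kappa M = ∅
    · exact Or.inl ((typeI_iff_kappa hT hG hM).2 hκ)
    · exact Or.inr (hconj M hM (Set.nonempty_iff_ne_empty.2 hκ))
  rcases lt_or_gt_of_ne (card_ne_of_inf_eq_bot hK hW.2.2.1 hW.2.2.2.2.1) with hlt | hlt
  · exact ⟨S, T, _, _, _, _, hp, hlt, hcov⟩
  · exact ⟨T, S, _, _, _, _, hp.symm, hlt, hcov.symm⟩

end Cfsg.Agent.OddFinal
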