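import Cfsg.Agent.OddFinal.Pair
import Cfsg.Agent.OddLocal.TypeSupportSet
import Cfsg.Agent.SylowNumber.Induction
import Cfsg.Agent.Coprime.Basic
import Cfsg.Agent.S1545

/-!
# The structure of a maximal subgroup of Type II

For any type `P` data `(M, W₁, U, W₂)` of a maximal subgroup of Type II, with `P = M_F`,
`q = |W₁|` and `p = |W₂|`: the order formula `|P| = p ^ q`, and for prime `p` the action of `U W₁`
on `P` is irreducible, the stabiliser in `U` of a fixed point of `W₁` in `P` (or of a fixed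
homomorphism from `P`) is `C = U ∩ C(P)`, and such fixed points lie in distinct `U`-orbits.
-/

set_option autoImplicit false
set_option linter.unusedSectionVars false

namespace Cfsg.Agent.OddFinal.TypeTwo

open Subgroup Cfsg

universe u

variable {G : Type u} [Group G] [Finite G] {M W₁ U W₂ : Subgroup G}

theorem mem_normalizer_centralizer {S : Set G} {g : G} (hg : g ∈ normalizer S) :
    g ∈ normalizer (centralizer S : Set G) := by
  refine mem_normalizer_iff.2 fun c => ?_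
  simp only [mem_centralizer_iff]
  constructor
  · intro hc s hs
    have h1 : g⁻¹ * s * g * c = c * (g⁻¹ * s * g) :=
      hc _ ((hg _).2 (by simpa [mul_assoc] using hs))
    calc s * (g * c * g⁻¹) = g * ((g⁻¹ * s * g) * c) * g⁻¹ := by group
      _ = g * c * g⁻¹ * s := by rw [h1]; group
  · intro hc s hs
    have h1 := hc _ ((hg s).1 hs)
    calc s * c = g⁻¹ * ((g * s * g⁻¹) * (g * c * g⁻¹)) * g := by group
      _ = c * s := by rw [h1]; group

theorem mem_normalizer_of_conj_mem {X : Subgroup G} {g : G} (h : ∀ x ∈ X, g * x * g⁻¹ ∈ X) :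
    g ∈ normalizer (X : Set G) := by
  refine OddLocal.mem_normalizer_of_map_conj (eq_of_le_of_card_ge ?_ ?_)
  · rintro _ ⟨x, hx, rfl⟩
    exact h x hx
  · rw [card_map_of_injective (MulAut.conj g).injective]

variable (hG : IsMinSimpleOddOrder G) (hM : IsCoatom M) (hd : IsTypePWith M W₁ U W₂)
  (hII : IsOfTypeII M)

include hM hd

omit hM in
theorem derived_le : ⁅M, M⁆ ≤ M := Subgroup.commutator_le_self M

omit hM in
theorem U_le : U ≤ M := hd.U_compl.2.1.trans (derived_le hd)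

omit hM in
theorem W₁_le : W₁ ≤ M := hd.W₁_compl.2.1

omit hM in
theorem fitting_le_derived : fittingHallOf M ≤ ⁅M, M⁆ := hd.U_compl.1

omit hM in
theorem W₂_le : W₂ ≤ fittingHallOf M := hd.W₂_le.trans inf_le_left

omit hM in
theorem W₁_centralizes_W₂ : W₁ ≤ centralizer (W₂ : Set G) := fun a ha =>
  mem_centralizer_iff.2 fun b hb => (hd.selfNormalizing.2.2.2.1 a ha b hb).symm

omit hM in
/-- The fixed points of a non-identity element of `W₁` on `M_F`. -/
theorem fitting_inf_centralizer_singleton {x : G} (hx : x ∈ W₁) (hx1 : x ≠ 1) :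
    fittingHallOf M ⊓ centralizer ({x} : Set G) = W₂ := by
  refine le_antisymm ?_ (le_inf (W₂_le hd) fun y hy => ?_)
  · rw [← hd.W₂_centralizer x hx hx1]
    exact inf_le_inf_right _ (fitting_le_derived hd)
  · exact mem_centralizer_singleton_iff.2 (hd.selfNormalizing.2.2.2.1 x hx y hy).symm

omit hM in
/-- The fixed points of `W₁` on `M_F`. -/
theorem fitting_inf_centralizer_W₁ : fittingHallOf M ⊓ centralizer (W₁ : Set G) = W₂ := by
  obtain ⟨x, hx, hx1⟩ := OddLocal.exists_mem_ne_one _ hd.W₁_ne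
  refine le_antisymm ?_ (le_inf (W₂_le hd) fun y hy => mem_centralizer_iff.2 fun w hw =>
    hd.selfNormalizing.2.2.2.1 w hw y hy)
  exact le_trans (inf_le_inf_left _ (centralizer_le (Set.singleton_subset_iff.2 hx)))
    (fitting_inf_centralizer_singleton hd hx hx1).le

omit hM in
/-- `W₁` acts without fixed points on `U`. -/
theorem U_inf_centralizer {x : G} (hx : x ∈ W₁) (hx1 : x ≠ 1) :
    U ⊓ centralizer ({x} : Set G) = ⊥ := by
  refine eq_bot_iff.2 fun y hy => ?_
  have h1 : y ∈ W₂ := by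
    rw [← hd.W₂_centralizer x hx hx1]
    exact ⟨hd.U_compl.2.1 hy.1, hy.2⟩
  rw [← hd.U_compl.2.2.1]
  exact ⟨W₂_le hd h1, hy.1⟩

omit hM in
theorem fitting_inf_W₁ : fittingHallOf M ⊓ W₁ = ⊥ :=
  le_bot_iff.1 (hd.W₁_compl.2.2.1 ▸ inf_le_inf_right _ (fitting_le_derived hd))

omit hM in
theorem U_inf_W₁ : U ⊓ W₁ = ⊥ :=
  le_bot_iff.1 (hd.W₁_compl.2.2.1 ▸ inf_le_inf_right _ hd.U_compl.2.1)

omit hM in
/-- `M_F` has order prime to that of `U W₁`. -/
theorem coprime_sup : (Nat.card (fittingHallOf M)).Coprime (Nat.card ↥(U ⊔ W₁)) := by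
  rw [Coprime.card_sup_eq_mul hd.U_normal (U_inf_W₁ hd)]
  exact Nat.Coprime.mul_right
    (OddLocal.coprime_of_inf_eq_bot (U_le hd) hd.U_compl.2.2.1)
    (OddLocal.coprime_of_inf_eq_bot (W₁_le hd) (fitting_inf_W₁ hd))

omit hM in
theorem sup_le_normalizer : U ⊔ W₁ ≤ normalizer (fittingHallOf M : Set G) :=
  (sup_le (U_le hd) (W₁_le hd)).trans (OddLocal.le_normalizer_fittingHallOf M)

include hG hII

theorem exists_decomposition :
    fittingHallOf M = sigmaCore M ∧ ∃ K : Subgroup G, IsSigmaDecomposition M K U ∧ K ≠ ⊥ ∧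
      U ≠ ⊥ ∧ Nat.card W₁ = Nat.card K := by
  obtain ⟨he, K, h, hc⟩ := OddLocal.decomposition_of_typeI_or_II hG hM (Or.inr ⟨hII, hd.U_compl⟩)
  obtain ⟨hK1, hU1⟩ := (OddLocal.typeII_iff hG hM h).1 hII
  exact ⟨he, K, h, hK1, hU1, (OddLocal.typeP_invariants hG hM h hd).2.1⟩

theorem fitting_eq_sigmaCore : fittingHallOf M = sigmaCore M :=
  (exists_decomposition hG hM hd hII).1

theorem U_ne_bot : U ≠ ⊥ := by
  obtain ⟨-, K, -, -, hU1, -⟩ := exists_decomposition hG hM hd hII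
  exact hU1

theorem U_comm : IsMulCommutative U := by
  obtain ⟨-, K, h, hK1, -, -⟩ := exists_decomposition hG hM hd hII
  exact (OddLocal.sigmaDecomposition_structure hG hM h hK1).1

/-- The order `q` of `W₁` is prime. -/
theorem card_W₁_prime : (Nat.card W₁).Prime := by
  obtain ⟨-, K, h, hK1, hU1, hc⟩ := exists_decomposition hG hM hd hII
  exact hc ▸ OddLocal.card_kappa_prime hG hM h hK1 hU1

theorem W₁_eq_zpowers {x : G} (hx : x ∈ W₁) (hx1 : x ≠ 1) : zpowers x = W₁ := by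
  have := Fact.mk (card_W₁_prime hG hM hd hII)
  refine eq_of_le_of_card_ge (zpowers_le.2 hx) (Nat.le_of_dvd Nat.card_pos ?_)
  have h1 := Subgroup.orderOf_dvd_natCard W₁ hx
  rcases (Nat.dvd_prime (card_W₁_prime hG hM hd hII)).1 h1 with e | e
  · exact absurd (orderOf_eq_one_iff.1 e) hx1
  · rw [Nat.card_zpowers, e]

/-- `U` has no fixed point on `M_F`. -/
theorem fitting_inf_centralizer_U : fittingHallOf M ⊓ centralizer (U : Set G) = ⊥ := by
  obtain ⟨he, K, h, hK1, hU1, -⟩ := exists_decomposition hG hM hd hII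
  rw [he]
  exact OddLocal.sigmaCore_inf_centralizer_U hG hM h hK1 hU1

/-- Centralisers of non-identity elements of `M_F` lie in `M`. -/
theorem centralizer_le_of_mem {x : G} (hx : x ∈ fittingHallOf M) (hx1 : x ≠ 1) :
    centralizer ({x} : Set G) ≤ M := by
  obtain ⟨he, K, h, hK1, hU1, -⟩ := exists_decomposition hG hM hd hII
  exact OddLocal.centralizer_le_of_P2 hG hM h hK1 hU1 (he ▸ hx) hx1

/-- Wielandt's formula on a `U W₁`-invariant subgroup of `M_F`. -/
theorem card_invariant {N : Subgroup G} (hN : N ≤ fittingHallOf M)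
    (hn : U ⊔ W₁ ≤ normalizer (N : Set G)) :
    Nat.card N = Nat.card ↥(N ⊓ W₂) ^ Nat.card W₁ := by
  have hcop : (Nat.card N).Coprime (Nat.card ↥(U ⊔ W₁)) :=
    (coprime_sup hd).coprime_dvd_left (card_dvd_of_le hN)
  have h := Cfsg.Agent.S1545.result U W₁ N (U_ne_bot hG hM hd hII) hd.W₁_ne (U_inf_W₁ hd)
    (fun e he u hu => (mem_normalizer_iff.1 (hd.U_normal he) u).1 hu)
    (fun e he he1 u hu huc => mem_bot.1 (U_inf_centralizer hd he he1 ▸
      ⟨hu, mem_centralizer_singleton_iff.2 huc.symm⟩))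
    (fun x hx v hv => (mem_normalizer_iff.1 (hn hx) v).1 hv)
    (Coprime.inf_eq_bot_of_coprime hcop)
    (Coprime.isSolvable_of_le (hN.trans (OddLocal.fittingHallOf_le M))
      (OddLocal.isSolvable_coatom hG hM)) hcop
  have hU : N ⊓ centralizer (U : Set G) = ⊥ :=
    le_bot_iff.1 (fitting_inf_centralizer_U hG hM hd hII ▸ inf_le_inf_right _ hN)
  have hUE : N ⊓ centralizer ((U ⊔ W₁ : Subgroup G) : Set G) = ⊥ :=
    le_bot_iff.1 (hU ▸ inf_le_inf_left _ (centralizer_le (SetLike.coe_subset_coe.2 le_sup_left)))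
  have hE : N ⊓ centralizer (W₁ : Set G) = N ⊓ W₂ := by
    rw [← fitting_inf_centralizer_W₁ hd, ← inf_assoc, inf_eq_left.2 hN]
  rw [hU, hUE, hE] at h
  simpa using h

/-- `|M_F| = |W₂| ^ |W₁|`. -/
theorem card_fitting : Nat.card (fittingHallOf M) = Nat.card W₂ ^ Nat.card W₁ := by
  have h := card_invariant hG hM hd hII le_rfl (sup_le_normalizer hd)
  rwa [inf_eq_right.2 (W₂_le hd)] at h

variable (hp : (Nat.card W₂).Prime)
include hp

theorem isPGroup_fitting : IsPGroup (Nat.card W₂) (fittingHallOf M) :=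
  IsPGroup.of_card (card_fitting hG hM hd hII)

/-- `U W₁` acts irreducibly on `M_F`. -/
theorem eq_bot_or_eq {N : Subgroup G} (hN : N ≤ fittingHallOf M)
    (hn : U ⊔ W₁ ≤ normalizer (N : Set G)) : N = ⊥ ∨ N = fittingHallOf M := by
  have h := card_invariant hG hM hd hII hN hn
  rcases (Nat.dvd_prime hp).1 (card_dvd_of_le (inf_le_right : N ⊓ W₂ ≤ W₂)) with e | e
  · rw [e, one_pow] at h
    exact Or.inl (Subgroup.card_eq_one.1 h)
  · rw [e, ← card_fitting hG hM hd hII] at h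
    exact Or.inr (eq_of_le_of_card_ge hN h.ge)

theorem fitting_ne_bot : fittingHallOf M ≠ ⊥ := fun e => by
  have h := card_fitting hG hM hd hII
  rw [e, card_bot] at h
  exact (Nat.one_lt_pow (card_W₁_prime hG hM hd hII).ne_zero hp.one_lt).ne h

theorem fitting_comm : IsMulCommutative (fittingHallOf M) := by
  set P := fittingHallOf M with hP
  have := Fact.mk hp
  have hN : P ⊓ centralizer (P : Set G) = P := by
    refine (eq_bot_or_eq hG hM hd hII hp inf_le_left ?_).resolve_left fun e => ?_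
    · exact (sup_le_normalizer hd).trans
        (le_trans (le_inf le_rfl fun x hx => mem_normalizer_centralizer hx)
          inf_normalizer_le_normalizer_inf)
    · have := (nontrivial_iff_ne_bot _).2 (fitting_ne_bot hG hM hd hII hp)
      have := (isPGroup_fitting hG hM hd hII hp).center_nontrivial
      obtain ⟨z, hz⟩ := exists_ne (1 : center P)
      refine hz (Subtype.ext (Subtype.ext ?_))
      have hmem : ((z : P) : G) ∈ P ⊓ centralizer (P : Set G) :=
        ⟨(z : P).2, mem_centralizer_iff.2 fun y hy =>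
          congrArg Subtype.val (mem_center_iff.1 z.2 ⟨y, hy⟩)⟩
      rw [e] at hmem
      exact mem_bot.1 hmem
  exact ⟨⟨fun a b => Subtype.ext
    (mem_centralizer_iff.1 (hN.ge b.2).2 (a : G) a.2)⟩⟩

/-- `M_F` is elementary abelian. -/
theorem fitting_elementary : IsElementaryAbelian (Nat.card W₂) (fittingHallOf M) := by
  set P := fittingHallOf M with hP
  have := fitting_comm hG hM hd hII hp
  have := Fact.mk hp
  refine ⟨inferInstance, ?_⟩
  let N : Subgroup G :=
    { carrier := {a | a ∈ P ∧ a ^ Nat.card W₂ = 1}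
      one_mem' := ⟨P.one_mem, one_pow _⟩
      inv_mem' := fun {a} ha => ⟨P.inv_mem ha.1, by rw [inv_pow, ha.2, inv_one]⟩
      mul_mem' := fun {a b} ha hb => ⟨P.mul_mem ha.1 hb.1, by
        have hc : Commute a b := congrArg Subtype.val
          (IsMulCommutative.is_comm.comm (⟨a, ha.1⟩ : P) ⟨b, hb.1⟩)
        rw [hc.mul_pow, ha.2, hb.2, one_mul]⟩ }
  have hN : N = P := by
    refine (eq_bot_or_eq hG hM hd hII hp (N := N) (fun a ha => ha.1) ?_).resolve_left fun e => ?_
    · intro g hg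
      refine mem_normalizer_of_conj_mem fun b hb => ?_
      exact ⟨(mem_normalizer_iff.1 (sup_le_normalizer hd hg) b).1 hb.1,
        by rw [conj_pow, hb.2, mul_one, mul_inv_cancel]⟩
    · have hdvd : Nat.card W₂ ∣ Nat.card P :=
        card_dvd_of_le (W₂_le hd)
      obtain ⟨x, hx⟩ := exists_prime_orderOf_dvd_card' (G := P) (Nat.card W₂) hdvd
      have hmem : (x : G) ∈ N := ⟨x.2, by rw [← SubgroupClass.coe_pow, ← hx, pow_orderOf_eq_one]; rfl⟩
      rw [e, mem_bot] at hmem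
      rw [show x = 1 from Subtype.ext hmem, orderOf_one] at hx
      exact hp.one_lt.ne hx
  intro a ha
  exact (hN.ge ha).2

omit hp

/-- The kernel `C` of the action of `U` on `M_F` is normalised by `U W₁`. -/
theorem sup_le_normalizer_C :
    U ⊔ W₁ ≤ normalizer ((U ⊓ centralizer (fittingHallOf M : Set G) : Subgroup G) : Set G) := by
  refine le_trans (le_inf (sup_le Subgroup.le_normalizer hd.U_normal) ?_)
    inf_normalizer_le_normalizer_inf
  exact fun x hx => mem_normalizer_centralizer (sup_le_normalizer hd hx)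

theorem C_lt_U : U ⊓ centralizer (fittingHallOf M : Set G) < U := by
  refine lt_of_le_of_ne inf_le_left fun e => ?_
  have hPU : fittingHallOf M ≤ centralizer (U : Set G) := fun x hx =>
    mem_centralizer_iff.2 fun y hy =>
      (mem_centralizer_iff.1 (inf_eq_left.1 e hy) x hx).symm
  have h := fitting_inf_centralizer_U hG hM hd hII
  rw [inf_eq_left.2 hPU] at h
  exact OddLocal.fittingHallOf_ne_bot hG hM h

/-- An element of `U` fixed by `W₁` modulo `C` lies in `C`. -/
theorem mem_C_of_commutator {u w : G} (hu : u ∈ U) (hw : w ∈ W₁) (hw1 : w ≠ 1)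
    (h : w * u * w⁻¹ * u⁻¹ ∈ U ⊓ centralizer (fittingHallOf M : Set G)) :
    u ∈ U ⊓ centralizer (fittingHallOf M : Set G) := by
  set C := U ⊓ centralizer (fittingHallOf M : Set G) with hC
  have := U_comm hG hM hd hII
  have hCn : W₁ ≤ normalizer (C : Set G) := le_sup_right.trans (sup_le_normalizer_C hG hM hd hII)
  have hwU : w * u * w⁻¹ ∈ U := (mem_normalizer_iff.1 (hd.U_normal hw) u).1 hu
  have hcomm : Commute (w * u * w⁻¹) u⁻¹ := congrArg Subtype.val
    (IsMulCommutative.is_comm.comm (⟨_, hwU⟩ : U) ⟨_, inv_mem hu⟩)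
  have h1 : u⁻¹ * (w * u * w⁻¹) ∈ C := hcomm.eq ▸ h
  have hpow : ∀ n : ℕ, u⁻¹ * (w ^ n * u * (w ^ n)⁻¹) ∈ C := by
    intro n
    induction n with
    | zero => simp
    | succ n ih =>
      have h2 : w * (u⁻¹ * (w ^ n * u * (w ^ n)⁻¹)) * w⁻¹ ∈ C :=
        (mem_normalizer_iff.1 (hCn hw) _).1 ih
      have e : u⁻¹ * (w ^ (n + 1) * u * (w ^ (n + 1))⁻¹) =
          (u⁻¹ * (w * u * w⁻¹)) * (w * (u⁻¹ * (w ^ n * u * (w ^ n)⁻¹)) * w⁻¹) := by
        rw [pow_succ']; group
      rw [e]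
      exact mul_mem h1 h2
  have hcop : (Nat.card W₁).Coprime (Nat.card C) := by
    refine (Nat.Coprime.symm ?_).coprime_dvd_right (card_dvd_of_le inf_le_left)
    have h2 := (hd.W₁_hall.coprime_dvd_right
      (dvd_of_eq rfl : W₁.relIndex M ∣ W₁.relIndex M)).symm
    refine h2.coprime_dvd_left ?_
    have h3 : Nat.card U * Nat.card W₁ ∣ Nat.card M := by
      rw [← Coprime.card_sup_eq_mul hd.U_normal (U_inf_W₁ hd)]
      exact card_dvd_of_le (sup_le (U_le hd) (W₁_le hd))
    rw [← Coprime.card_mul_relIndex_of_le (W₁_le hd), mul_comm (Nat.card U)] at h3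
    exact Nat.dvd_of_mul_dvd_mul_left Nat.card_pos h3
  obtain ⟨n, hn, hc⟩ := Coprime.exists_fixed_mem_leftCoset hCn hcop
    (Or.inl (Coprime.isSolvable_of_le (W₁_le hd) (OddLocal.isSolvable_coatom hG hM)))
    (k := u) fun a ha => by
      rw [← W₁_eq_zpowers hG hM hd hII hw hw1, ← mem_powers_iff_mem_zpowers] at ha
      obtain ⟨m, rfl⟩ := ha
      exact hpow m
  have hunU : u * n ∈ U := mul_mem hu hn.1
  have hbot : u * n = 1 := mem_bot.1 (U_inf_centralizer hd hw hw1 ▸
    ⟨hunU, centralizer_le (Set.singleton_subset_iff.2 hw) hc⟩)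
  rw [mul_eq_one_iff_eq_inv.1 hbot]
  exact inv_mem hn

/-- `|C|`, `|U|` and `|U : C|` are `1` modulo `q`. -/
theorem relIndex_modEq :
    Nat.card ↥(U ⊓ centralizer (fittingHallOf M : Set G)) ≡ 1 [MOD Nat.card W₁] ∧
    Nat.card U ≡ 1 [MOD Nat.card W₁] ∧
    (U ⊓ centralizer (fittingHallOf M : Set G)).relIndex U ≡ 1 [MOD Nat.card W₁] := by
  have := Fact.mk (card_W₁_prime hG hM hd hII)
  have key : ∀ L : Subgroup G, L ≤ U → W₁ ≤ normalizer (L : Set G) →
      Nat.card L ≡ 1 [MOD Nat.card W₁] := fun L hL hn => by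
    have h := SylowNumber.card_modEq_inf_centralizer (IsPGroup.of_card (pow_one _).symm) hn
    obtain ⟨x, hx, hx1⟩ := OddLocal.exists_mem_ne_one _ hd.W₁_ne
    have he : L ⊓ centralizer (W₁ : Set G) = ⊥ :=
      le_bot_iff.1 (U_inf_centralizer hd hx hx1 ▸
        inf_le_inf hL (centralizer_le (Set.singleton_subset_iff.2 hx)))
    rwa [he, card_bot] at h
  have h1 := key U le_rfl hd.U_normal
  have h2 := key (U ⊓ centralizer (fittingHallOf M : Set G)) inf_le_left
    (le_sup_right.trans (sup_le_normalizer_C hG hM hd hII))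
  refine ⟨h2, h1, ?_⟩
  have h3 := Coprime.card_mul_relIndex_of_le
    (inf_le_left : U ⊓ centralizer (fittingHallOf M : Set G) ≤ U)
  rw [← h3] at h1
  have := (h2.mul_right ((U ⊓ centralizer (fittingHallOf M : Set G)).relIndex U)).symm.trans h1
  rwa [one_mul] at this

include hp

/-- A `W₁`-fixed point of `M_F` is only fixed by `C`. -/
theorem stabilizer_fixed {x : G} (hx : x ∈ W₂) (hx1 : x ≠ 1) :
    U ⊓ centralizer ({x} : Set G) = U ⊓ centralizer (fittingHallOf M : Set G) := by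
  refine le_antisymm ?_ (inf_le_inf_left _ (centralizer_le
    (Set.singleton_subset_iff.2 (W₂_le hd hx))))
  have := U_comm hG hM hd hII
  set D := U ⊓ centralizer ({x} : Set G) with hD
  have hDn : U ⊔ W₁ ≤ normalizer (D : Set G) := by
    refine sup_le ?_ ?_
    · refine le_trans (fun u hu => ?_) (centralizer_le_normalizer (D : Set G))
      exact mem_centralizer_iff.2 fun v hv => congrArg Subtype.val
        (IsMulCommutative.is_comm.comm (⟨v, hv.1⟩ : U) ⟨u, hu⟩)
    · refine le_trans (le_inf hd.U_normal fun w hw => ?_) inf_normalizer_le_normalizer_inf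
      refine mem_normalizer_centralizer (centralizer_le_normalizer _ ?_)
      exact mem_centralizer_singleton_iff.2 (hd.selfNormalizing.2.2.2.1 w hw x hx)
  set N := fittingHallOf M ⊓ centralizer (D : Set G) with hN
  have hNn : U ⊔ W₁ ≤ normalizer (N : Set G) :=
    (le_inf (sup_le_normalizer hd) (hDn.trans fun g hg =>
      mem_normalizer_centralizer hg)).trans
        inf_normalizer_le_normalizer_inf
  have hxN : x ∈ N := ⟨W₂_le hd hx,
    mem_centralizer_iff.2 fun v hv => mem_centralizer_singleton_iff.1 hv.2⟩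
  rcases eq_bot_or_eq hG hM hd hII hp inf_le_left hNn with e | e
  · exact absurd (mem_bot.1 (e ▸ hxN)) hx1
  · exact fun v hv => ⟨hv.1, mem_centralizer_iff.2 fun y hy =>
      (mem_centralizer_iff.1 (e.ge hy).2 v hv).symm⟩

/-- Distinct `W₁`-fixed points of `M_F` lie in distinct orbits of `U`. -/
theorem orbit_fixed {x y u : G} (hx : x ∈ W₂) (hx1 : x ≠ 1) (hy : y ∈ W₂) (hu : u ∈ U)
    (h : u * x * u⁻¹ = y) :
    u ∈ U ⊓ centralizer (fittingHallOf M : Set G) ∧ x = y := by
  obtain ⟨w, hw, hw1⟩ := OddLocal.exists_mem_ne_one _ hd.W₁_ne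
  have hy1 : y ≠ 1 := fun e => hx1 (conj_eq_one_iff.1 (h.trans e))
  have hwU : w * u * w⁻¹ ∈ U := (mem_normalizer_iff.1 (hd.U_normal hw) u).1 hu
  have hwx : w⁻¹ * x * w = x := by
    rw [mul_assoc, ← hd.selfNormalizing.2.2.2.1 w hw x hx, inv_mul_cancel_left]
  have hwy : w * y * w⁻¹ = y := by
    rw [hd.selfNormalizing.2.2.2.1 w hw y hy, mul_inv_cancel_right]
  have h2 : (w * u * w⁻¹ * u⁻¹) * y * (w * u * w⁻¹ * u⁻¹)⁻¹ = y := by
    have e : (w * u * w⁻¹ * u⁻¹) * y * (w * u * w⁻¹ * u⁻¹)⁻¹ =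
        w * (u * (w⁻¹ * (u⁻¹ * y * u) * w) * u⁻¹) * w⁻¹ := by group
    rw [e, show u⁻¹ * y * u = x by rw [← h]; group, hwx, h, hwy]
  have hmem : w * u * w⁻¹ * u⁻¹ ∈ U ⊓ centralizer ({y} : Set G) :=
    mem_inf.2 ⟨U.mul_mem hwU (U.inv_mem hu), mem_centralizer_singleton_iff.2 (mul_inv_eq_iff_eq_mul.1 h2)⟩
  rw [stabilizer_fixed hG hM hd hII hp hy hy1] at hmem
  have huC := mem_C_of_commutator hG hM hd hII hu hw hw1 hmem
  refine ⟨huC, ?_⟩
  have h3 := mem_centralizer_iff.1 huC.2 x (W₂_le hd hx)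
  rw [← h, ← h3, mul_inv_cancel_right]

/-- `(p - 1) |U : C| ≤ p ^ q - 1`. -/
theorem fixed_orbit_count :
    (Nat.card W₂ - 1) * (U ⊓ centralizer (fittingHallOf M : Set G)).relIndex U ≤
      Nat.card W₂ ^ Nat.card W₁ - 1 := by
  classical
  set P := fittingHallOf M with hP
  set C := U ⊓ centralizer (P : Set G) with hC
  have hne : ∀ H : Subgroup G, Nat.card {x : H // x ≠ 1} = Nat.card H - 1 := fun H => by
    have := Fintype.ofFinite H
    rw [Nat.card_eq_fintype_card, Nat.card_eq_fintype_card, Fintype.card_subtype_compl,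
      Fintype.card_subtype_eq]
  rw [Subgroup.relIndex, ← card_fitting hG hM hd hII, ← hne, ← hne, index_eq_card,
    ← Nat.card_prod]
  have hconj : ∀ (x : W₂) (u : U), (u : G) * x * (u : G)⁻¹ ∈ P := fun x u =>
    (mem_normalizer_iff.1 (sup_le_normalizer hd (mem_sup_left u.2)) _).1 (W₂_le hd x.2)
  refine Nat.card_le_card_of_injective
    (fun a => ⟨⟨(a.2.out : U) * (a.1.1 : G) * ((a.2.out : U) : G)⁻¹, hconj _ _⟩, fun e =>
      a.1.2 (Subtype.ext (conj_eq_one_iff.1 (congrArg Subtype.val e)))⟩) ?_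
  rintro ⟨⟨x, hx⟩, a⟩ ⟨⟨y, hy⟩, b⟩ e
  have e' : ((a.out : U) : G) * x * ((a.out : U) : G)⁻¹ =
      ((b.out : U) : G) * y * ((b.out : U) : G)⁻¹ := congrArg (fun z => (z.1 : G)) e
  have h1 := orbit_fixed hG hM hd hII hp x.2 (fun h => hx (Subtype.ext h)) y.2
    (mul_mem (inv_mem b.out.2) a.out.2) (by
      calc ((b.out : U) : G)⁻¹ * (a.out : U) * x * (((b.out : U) : G)⁻¹ * (a.out : U))⁻¹
          = ((b.out : U) : G)⁻¹ * (((a.out : U) : G) * x * ((a.out : U) : G)⁻¹) *
              (b.out : U) := by group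
        _ = y := by rw [e']; group)
  refine Prod.ext (Subtype.ext (Subtype.ext h1.2)) ?_
  rw [← a.out_eq, ← b.out_eq]
  exact (QuotientGroup.eq (a := a.out) (b := b.out)).2 (mem_subgroupOf.2 (by
    have := inv_mem h1.1
    rwa [mul_inv_rev, inv_inv] at this))

section Hom

variable {A : Type*} [CommGroup A] {F F' : G → A}
  (hF : ∀ x ∈ fittingHallOf M, ∀ y ∈ fittingHallOf M, F (x * y) = F x * F y)
  (hFne : ∃ x ∈ fittingHallOf M, F x ≠ 1)
  (hFW : ∀ w ∈ W₁, ∀ x ∈ fittingHallOf M, F (w * x * w⁻¹) = F x)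
include hF hFne hFW

/-- The same for a nontrivial `W₁`-invariant homomorphism on `M_F`. -/
theorem stabilizer_hom {u : G} (hu : u ∈ U)
    (hfix : ∀ x ∈ fittingHallOf M, F (u * x * u⁻¹) = F x) :
    u ∈ U ⊓ centralizer (fittingHallOf M : Set G) := by
  set P := fittingHallOf M with hP
  have := U_comm hG hM hd hII
  have hnP := sup_le_normalizer hd
  have hone : F 1 = 1 := by
    have := hF 1 P.one_mem 1 P.one_mem
    rwa [mul_one, left_eq_mul] at this
  have hinv : ∀ x ∈ P, F x⁻¹ = (F x)⁻¹ := fun x hx => eq_inv_of_mul_eq_one_left (by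
    rw [← hF _ (inv_mem hx) _ hx, inv_mul_cancel, hone])
  let Ker : Subgroup G :=
    { carrier := {x | x ∈ P ∧ F x = 1}
      one_mem' := ⟨P.one_mem, hone⟩
      inv_mem' := fun {x} hx => ⟨inv_mem hx.1, by rw [hinv x hx.1, hx.2, inv_one]⟩
      mul_mem' := fun {x y} hx hy => ⟨mul_mem hx.1 hy.1, by
        rw [hF x hx.1 y hy.1, hx.2, hy.2, mul_one]⟩ }
  let S : Set G := {z | ∃ v ∈ U, (∀ x ∈ P, F (v * x * v⁻¹) = F x) ∧
    ∃ x ∈ P, z = v * x * v⁻¹ * x⁻¹}
  have hSK : closure S ≤ Ker := by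
    rw [closure_le]
    rintro _ ⟨v, hv, hfv, x, hx, rfl⟩
    have h1 := (mem_normalizer_iff.1 (hnP (mem_sup_left hv)) x).1 hx
    exact ⟨mul_mem h1 (inv_mem hx), by
      rw [hF _ h1 _ (inv_mem hx), hinv x hx, hfv x hx, mul_inv_cancel]⟩
  have hFinv : ∀ g ∈ W₁, ∀ x ∈ P, F (g * x * g⁻¹) = F x := hFW
  have hn : U ⊔ W₁ ≤ normalizer (closure S : Set G) := by
    intro g hg
    refine OddLocal.mem_normalizer_of_map_conj (eq_of_le_of_card_ge ?_ (le_of_eq
      (card_map_of_injective (MulAut.conj g).injective).symm))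
    rw [MonoidHom.map_closure, closure_le]
    rintro _ ⟨_, ⟨v, hv, hfv, x, hx, rfl⟩, rfl⟩
    refine subset_closure ?_
    refine ⟨g * v * g⁻¹, ?_, fun y hy => ?_, g * x * g⁻¹, (mem_normalizer_iff.1 (hnP hg) x).1 hx,
      by simp [MulEquiv.coe_toMonoidHom, MulAut.conj_apply, mul_assoc]⟩
    · exact (mem_normalizer_iff.1 (sup_le Subgroup.le_normalizer hd.U_normal hg) v).1 hv
    · obtain ⟨a, ha, b, hb, rfl⟩ := (Coprime.mem_sup_of_le_normalizer hd.U_normal).1 hg
      have hbv : b * v * b⁻¹ ∈ U := (mem_normalizer_iff.1 (hd.U_normal hb) v).1 hv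
      have e : a * b * v * (a * b)⁻¹ = b * v * b⁻¹ := by
        have hc : a * (b * v * b⁻¹) = b * v * b⁻¹ * a := congrArg Subtype.val
          (IsMulCommutative.is_comm.comm (⟨a, ha⟩ : U) ⟨_, hbv⟩)
        calc a * b * v * (a * b)⁻¹ = a * (b * v * b⁻¹) * a⁻¹ := by group
          _ = _ := by rw [hc, mul_inv_cancel_right]
      rw [e]
      have hy' : b⁻¹ * y * b ∈ P :=
        (mem_normalizer_iff''.1 (hnP (mem_sup_right hb)) y).1 hy
      calc F (b * v * b⁻¹ * y * (b * v * b⁻¹)⁻¹)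
          = F (b * (v * (b⁻¹ * y * b) * v⁻¹) * b⁻¹) := by congr 1; group
        _ = F (b⁻¹ * y * b) := by
            rw [hFinv b hb _ ((mem_normalizer_iff.1 (hnP (mem_sup_left hv)) _).1 hy'), hfv _ hy']
        _ = F y := by
            rw [← hFinv b hb _ hy']; congr 1; group
  rcases eq_bot_or_eq hG hM hd hII hp (hSK.trans fun x hx => hx.1) hn with e | e
  · refine ⟨hu, mem_centralizer_iff.2 fun x hx => ?_⟩
    have h1 : u * x * u⁻¹ * x⁻¹ ∈ closure S := subset_closure ⟨u, hu, hfix, x, hx, rfl⟩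
    rw [e, mem_bot, mul_inv_eq_one, mul_inv_eq_iff_eq_mul] at h1
    exact h1.symm
  · obtain ⟨x, hx, hx1⟩ := hFne
    exact absurd (hSK (e.ge hx)).2 hx1

/-- Distinct invariant homomorphisms lie in distinct orbits of `U`. -/
theorem orbit_hom {u : G} (hu : u ∈ U)
    (hFW' : ∀ w ∈ W₁, ∀ x ∈ fittingHallOf M, F' (w * x * w⁻¹) = F' x)
    (h : ∀ x ∈ fittingHallOf M, F' x = F (u * x * u⁻¹)) :
    u ∈ U ⊓ centralizer (fittingHallOf M : Set G) ∧ ∀ x ∈ fittingHallOf M, F' x = F x := by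
  set P := fittingHallOf M with hP
  have hnP := sup_le_normalizer hd
  obtain ⟨w, hw, hw1⟩ := OddLocal.exists_mem_ne_one _ hd.W₁_ne
  have hwU : w * u * w⁻¹ ∈ U := (mem_normalizer_iff.1 (hd.U_normal hw) u).1 hu
  have hv : w * u * w⁻¹ * u⁻¹ ∈ U := mul_mem hwU (inv_mem hu)
  have hvC := stabilizer_hom hG hM hd hII hp hF hFne hFW hv fun y hy => by
    have hy1 : u⁻¹ * y * u ∈ P := (mem_normalizer_iff''.1 (hnP (mem_sup_left hu)) y).1 hy
    have hy2 : w⁻¹ * (u⁻¹ * y * u) * w ∈ P :=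
      (mem_normalizer_iff''.1 (hnP (mem_sup_right hw)) _).1 hy1
    calc F (w * u * w⁻¹ * u⁻¹ * y * (w * u * w⁻¹ * u⁻¹)⁻¹)
        = F (w * (u * (w⁻¹ * (u⁻¹ * y * u) * w) * u⁻¹) * w⁻¹) := by congr 1; group
      _ = F' (w⁻¹ * (u⁻¹ * y * u) * w) := by
          rw [hFW w hw _ ((mem_normalizer_iff.1 (hnP (mem_sup_left hu)) _).1 hy2), h _ hy2]
      _ = F' (u⁻¹ * y * u) := by rw [← hFW' w hw _ hy2]; congr 1; group
      _ = F y := by rw [h _ hy1]; congr 1; group
  have huC := mem_C_of_commutator hG hM hd hII hu hw hw1 hvC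
  refine ⟨huC, fun x hx => ?_⟩
  rw [h x hx, ← mem_centralizer_iff.1 huC.2 x hx, mul_inv_cancel_right]

end Hom

omit hp

/-- If `U` is cyclic it acts on `M_F` without fixed points. -/
theorem fpf_of_isCyclic (hU : IsCyclic U) {x : G} (hx : x ∈ fittingHallOf M) (hx1 : x ≠ 1) :
    U ⊓ centralizer ({x} : Set G) = ⊥ := by
  obtain ⟨he, K, h, -, -, -⟩ := exists_decomposition hG hM hd hII
  obtain ⟨U₀, hU₀, hexp, hfpf⟩ := OddLocal.exists_fpf_exponent hG hM h
  have := hU
  have : IsCyclic U₀ := OddLocal.isCyclic_of_le hU hU₀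
  rw [IsCyclic.exponent_eq_card, IsCyclic.exponent_eq_card] at hexp
  obtain rfl := eq_of_le_of_card_ge hU₀ hexp.ge
  refine eq_bot_iff.2 fun y hy => mem_bot.2 (hfpf y hy.1 ?_)
  exact OddLocal.sigmaHat_of_mem hG hM (U_le hd hy.1) (he ▸ hx) hx1
    (mem_centralizer_singleton_iff.1 hy.2)

theorem C_eq_bot_of_isCyclic (hU : IsCyclic U) :
    U ⊓ centralizer (fittingHallOf M : Set G) = ⊥ := by
  obtain ⟨x, hx, hx1⟩ := OddLocal.exists_mem_ne_one _ (OddLocal.fittingHallOf_ne_bot hG hM)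
  exact le_bot_iff.1 (fpf_of_isCyclic hG hM hd hII hU hx hx1 ▸
    inf_le_inf_left _ (centralizer_le (Set.singleton_subset_iff.2 hx)))

/-- `U` has rank at most two. -/
theorem rankLE_two_U : RankLE 2 U := by
  intro r hr
  obtain ⟨-, K, h, -, -, -⟩ := exists_decomposition hG hM hd hII
  have := Fact.mk hr
  by_cases hd' : r ∣ Nat.card U
  · refine OddLocal.pRankLE_of_injective (inclusion (U_le hd)) (inclusion_injective _) ?_
    by_contra hne
    exact ((OddLocal.sigmaDecomposition_compl hG hM h).2 r hr hd').2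
      (OddLocal.alpha_subset_sigma hG hM ⟨hr, hne⟩)
  · intro A hA hAp
    have : Nat.card A = 1 := by
      by_contra hne
      obtain ⟨s, hs, hsd⟩ := Nat.exists_prime_and_dvd hne
      have := Fact.mk hs
      obtain ⟨a, ha⟩ := exists_prime_orderOf_dvd_card' s hsd
      have h1 : orderOf (a : U) = s := by rw [orderOf_coe, ha]
      have h2 : s ∣ r := h1 ▸ orderOf_dvd_of_pow_eq_one (hAp a a.2)
      exact hd' (((Nat.prime_dvd_prime_iff_eq hs hr).1 h2) ▸
        hsd.trans (card_subgroup_dvd_card A))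
    rw [this]
    exact Nat.one_le_pow _ _ hr.pos

end Cfsg.Agent.OddFinal.TypeTwo
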