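import Cfsg.Agent.OddFinal.Disjoint
import Cfsg.Agent.OddFinal.PairExists
import Cfsg.Agent.OddFinal.TypeTwo
import Cfsg.Agent.OddFinal.NotTwo

/-!
# The overgroup of the normalizer of `U` (Peterfalvi 14.2, local part)

For a pair `S, T` with `S` of Type II and a maximal `L ≥ N(U)`: `L` is of Type I and is a Frobenius
group with kernel `L_F ≥ U`; a complement `E ∋ W₁` centralises `W₁`, hence lies in `T`.
-/

set_option autoImplicit false
set_option linter.unusedSectionVars false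
set_option linter.style.haveILetI false

namespace Cfsg.Agent.OddFinal

open Subgroup Cfsg OddLocal

universe u

variable {G : Type u} [Group G] [Finite G] {S T L W₁ W₂ U V : Subgroup G}

variable (hG : IsMinSimpleOddOrder G)
include hG

/-- For type `P` data `(T, W₂, V, W₁)` the centraliser of `W₁` lies in `T`. -/
theorem centralizer_le_of_data (hT : IsCoatom T) (hd : IsTypePWith T W₂ V W₁)
    (hn : IsTypeNotI T) : centralizer (W₁ : Set G) ≤ T := by
  obtain ⟨x, hx, hx1⟩ := OddLocal.exists_mem_ne_one _ hd.selfNormalizing.2.1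
  refine (Subgroup.centralizer_le (Set.singleton_subset_iff.2 hx)).trans
    (no_support hG hT hn (typeA_subset_typeA0 hG hT (sharp_fittingOf_subset hG hT ⟨_, _, _, hd⟩ ?_)))
  exact ⟨fittingHallOf_le_fittingOf T ((hd.W₂_le.trans inf_le_left) hx), hx1⟩

/-- `N(W₁) = C(W₁)`. -/
theorem normalizer_eq_centralizer (hT : IsCoatom T) (hd : IsTypePWith T W₂ V W₁)
    (hn : IsTypeNotI T) : normalizer (W₁ : Set G) = centralizer (W₁ : Set G) := by
  refine le_antisymm (fun g hg => ?_) (centralizer_le_normalizer _)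
  have hW₁D : W₁ ≤ ⁅T, T⁆ := (hd.W₂_le.trans inf_le_left).trans hd.U_compl.1
  have hgT : g ∈ T := by
    obtain ⟨x, hx, hx1⟩ := OddLocal.exists_mem_ne_one _ hd.selfNormalizing.2.1
    have hsub : ∀ y ∈ W₁, y ≠ 1 → y ∈ typeA0 T := fun y hy hy1 =>
      typeA_subset_typeA0 hG hT (sharp_fittingOf_subset hG hT ⟨_, _, _, hd⟩
        ⟨fittingHallOf_le_fittingOf T ((hd.W₂_le.trans inf_le_left) hy), hy1⟩)
    exact mem_of_typeA0_conj hG hT hn (hsub x hx hx1)
      (hsub _ ((mem_normalizer_iff.1 hg x).1 hx) fun e => hx1 (conj_eq_one_iff.1 e))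
  obtain ⟨d, hdD, z, hz, rfl⟩ := hd.W₁_compl.2.2.2 g hgT
  have hzc : z ∈ centralizer (W₁ : Set G) := mem_centralizer_iff.2 fun a ha =>
    (hd.selfNormalizing.2.2.2.1 z hz a ha).symm
  refine mul_mem ?_ hzc
  have hdn : d ∈ normalizer (W₁ : Set G) := by
    have h1 := mul_mem hg (inv_mem (centralizer_le_normalizer (W₁ : Set G) hzc))
    rwa [mul_inv_cancel_right] at h1
  set C := ⁅T, T⁆ ⊓ centralizer (W₁ : Set G) with hC
  have hW₂c : W₂ ≤ centralizer (W₁ : Set G) := fun b hb => mem_centralizer_iff.2 fun a ha =>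
    (hd.selfNormalizing.2.2.2.1 b hb a ha).symm
  have hW₂D : W₂ ≤ normalizer ((⁅T, T⁆ : Subgroup G) : Set G) :=
    hd.W₁_compl.2.1.trans le_normalizer_commutator
  have hn2 : W₂ ≤ normalizer (C : Set G) :=
    Coprime.le_normalizer_inf_of_le hW₂D hW₂c
  have hcop : (Nat.card W₂).Coprime (Nat.card C) := by
    refine (NotTwo.coprime_W₁_derived hd).coprime_dvd_right (card_dvd_of_le inf_le_left)
  haveI := hd.selfNormalizing.2.2.2.2.1
  obtain ⟨n, hn', hc⟩ := Coprime.exists_fixed_mem_leftCoset hn2 hcop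
    (Or.inl (Coprime.isSolvable_of_le hd.W₁_compl.2.1 (isSolvable_coatom hG hT))) (k := d)
    fun b hb => by
      refine mem_inf.2 ⟨mul_mem (inv_mem hdD) ((mem_normalizer_iff.1 (hW₂D hb) d).1 hdD),
        mem_centralizer_iff.2 fun a ha => ?_⟩
      have e1 : d * a * d⁻¹ * b = b * (d * a * d⁻¹) :=
        (hd.selfNormalizing.2.2.2.1 b hb _ ((mem_normalizer_iff.1 hdn a).1 ha)).symm
      have e2 : a * b = b * a := (hd.selfNormalizing.2.2.2.1 b hb a ha).symm
      calc a * (d⁻¹ * (b * d * b⁻¹)) = d⁻¹ * (d * a * d⁻¹ * b) * d * b⁻¹ := by group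
        _ = d⁻¹ * b * d * (a * b⁻¹) := by rw [e1]; group
        _ = d⁻¹ * b * d * (b⁻¹ * (b * a) * b⁻¹) := by group
        _ = d⁻¹ * b * d * (b⁻¹ * (a * b) * b⁻¹) := by rw [e2]
        _ = d⁻¹ * (b * d * b⁻¹) * a := by group
  obtain ⟨z', hz', hz1⟩ := OddLocal.exists_mem_ne_one _ hd.W₁_ne
  have h1 : d * n ∈ W₁ := by
    rw [← hd.W₂_centralizer z' hz' hz1]
    exact ⟨mul_mem hdD hn'.1, Subgroup.centralizer_le (Set.singleton_subset_iff.2 hz') hc⟩
  have h2 : d * n ∈ centralizer (W₁ : Set G) := by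
    refine mem_centralizer_iff.2 fun a ha => ?_
    have hcomm := hd.selfNormalizing.2.2.2.2.1
    exact congrArg Subtype.val (IsCyclic.commGroup.mul_comm
      (⟨a, le_sup_right (a := W₂) ha⟩ : ↥(W₂ ⊔ W₁)) ⟨d * n, le_sup_right (a := W₂) h1⟩)
  have := mul_mem h2 (inv_mem hn'.2)
  rwa [mul_inv_cancel_right] at this

/-- Every maximal subgroup is of Type I or conjugate to a member of the pair. -/
theorem Pair.covers (h : Pair S T W₁ W₂ U V) : Covers S T := by
  obtain ⟨S', T', -, -, -, -, -, -, hc⟩ := exists_pair hG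
  intro M hM
  rcases hc M hM with hI | hM'
  · exact Or.inl hI
  refine Or.inr ?_
  have hSc := (hc S h.maxS).resolve_left (not_typeI hG h.maxS h.typeS)
  have hTc := (hc T h.maxT).resolve_left (not_typeI hG h.maxT h.typeT)
  have key : ∀ {X Y Z : Subgroup G} {a b : G}, X = Z.map (MulAut.conj a).toMonoidHom →
      Y = Z.map (MulAut.conj b).toMonoidHom → X = Y.map (MulAut.conj (a * b⁻¹)).toMonoidHom :=
    fun hX hY => by rw [hX, hY, map_conj_map_conj, inv_mul_cancel_right]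
  obtain ⟨a, ha⟩ := hM'
  obtain ⟨b, hb⟩ := hSc
  obtain ⟨c, hc'⟩ := hTc
  rcases ha with ha | ha <;> rcases hb with hb | hb <;> rcases hc' with hc' | hc'
  all_goals first
    | exact ⟨_, Or.inl (key ha hb)⟩
    | exact ⟨_, Or.inr (key ha hc')⟩
    | exact absurd (key hb hc').symm (h.nonconj _)

variable (h : Pair S T W₁ W₂ U V) (hII : IsOfTypeII S)
include h hII

theorem W₁_le_normalizer_le (hNU : normalizer (U : Set G) ≤ L) : U ≤ L ∧ W₁ ≤ L :=
  ⟨Subgroup.le_normalizer.trans hNU, h.dataS.U_normal.trans hNU⟩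

/-- A `W₁`-invariant part of `U` in a normal nilpotent subgroup containing `W₁` is trivial. -/
theorem U_eq_bot_of_nilpotent {N : Subgroup G} (hN : Group.IsNilpotent N) (hW : W₁ ≤ N)
    (hUn : U ≤ normalizer (N : Set G)) : False := by
  have hq := TypeTwo.card_W₁_prime hG h.maxS h.dataS hII
  obtain ⟨w, hw, hw1⟩ := OddLocal.exists_mem_ne_one _ h.dataS.W₁_ne
  have hcop : (Nat.card W₁).Coprime (Nat.card U) :=
    (NotTwo.coprime_W₁_derived h.dataS).coprime_dvd_right (card_dvd_of_le h.dataS.U_compl.2.1)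
  obtain ⟨u, hu, hu1⟩ := OddLocal.exists_mem_ne_one _
    (TypeTwo.U_ne_bot hG h.maxS h.dataS hII)
  have hc : u * w * u⁻¹ * w⁻¹ ∈ U ⊓ N := by
    refine mem_inf.2 ⟨?_, mul_mem ((mem_normalizer_iff.1 (hUn hu) w).1 (hW hw)) (inv_mem (hW hw))⟩
    rw [show u * w * u⁻¹ * w⁻¹ = u * (w * u⁻¹ * w⁻¹) by group]
    exact mul_mem hu ((mem_normalizer_iff.1 (h.dataS.U_normal hw) u⁻¹).1 (inv_mem hu))
  have hcomm : Commute (u * w * u⁻¹ * w⁻¹) w := commute_of_mem hN hc.2 (hW hw)
    ((hcop.symm.coprime_dvd_left (Subgroup.orderOf_dvd_natCard _ hc.1)).coprime_dvd_right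
      (Subgroup.orderOf_dvd_natCard _ hw))
  have h1 : u * w * u⁻¹ * w⁻¹ ∈ U ⊓ centralizer ({w} : Set G) :=
    ⟨hc.1, mem_centralizer_singleton_iff.2 hcomm.eq⟩
  rw [TypeTwo.U_inf_centralizer h.dataS hw hw1, mem_bot] at h1
  have h2 : u ∈ U ⊓ centralizer ({w} : Set G) :=
    ⟨hu, mem_centralizer_singleton_iff.2 (by
      calc u * w = u * w * u⁻¹ * w⁻¹ * (w * u) := by group
        _ = w * u := by rw [h1, one_mul])⟩
  rw [TypeTwo.U_inf_centralizer h.dataS hw hw1, mem_bot] at h2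
  exact hu1 h2

/-- A maximal overgroup of `N(U)` is not conjugate to `S`. -/
theorem not_conj_left (hNU : normalizer (U : Set G) ≤ L) (g : G) :
    L ≠ S.map (MulAut.conj g).toMonoidHom := by
  intro e
  obtain ⟨-, K, hd, hK1, hU1, -⟩ := TypeTwo.exists_decomposition hG h.maxS h.dataS hII
  obtain ⟨hUL, hWL⟩ := W₁_le_normalizer_le hG h hII hNU
  have hi : Function.Injective (MulAut.conj g).toMonoidHom := (MulAut.conj g).injective
  have hUD : U ≤ ⁅L, L⁆ := by
    obtain ⟨x, hx, hx1⟩ := OddLocal.exists_mem_ne_one _ h.dataS.W₁_ne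
    refine (le_commutator_of_free hx (h.dataS.U_normal hx)
      (TypeTwo.U_inf_centralizer h.dataS hx hx1)).trans ?_
    exact commutator_mono hUL hWL
  have hidx : ∀ {X : Subgroup G} (f : G ≃* G) {Y : Subgroup G},
      Nat.card (X.map f.toMonoidHom) = Nat.card X ∧
        (X.map f.toMonoidHom).relIndex (Y.map f.toMonoidHom) = X.relIndex Y := fun {X} f {Y} =>
    ⟨card_map_of_injective f.injective, relIndex_map_map_of_injective _ _ f.injective⟩
  have hLD : ⁅L, L⁆ = (⁅S, S⁆ : Subgroup G).map (MulAut.conj g).toMonoidHom := by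
    rw [e, map_commutator]
  set π := {r | ¬ r ∣ Nat.card (fittingHallOf S)} with hπ
  have hUh : IsPiHallOf π U ⁅S, S⁆ :=
    isPiHallOf_typeP_compl (commutator_le_self S) h.dataS.U_compl
  have hUg : IsPiHallOf π (U.map (MulAut.conj g).toMonoidHom) ⁅L, L⁆ := by
    rw [hLD]
    refine ⟨map_mono hUh.1, fun r hr hd' => hUh.2.1 r hr ((hidx _ (Y := U)).1 ▸ hd'),
      fun r hr hrπ hd' => hUh.2.2 r hr hrπ ((hidx _).2 ▸ hd')⟩
  have hU' : IsPiHallOf π U ⁅L, L⁆ := by
    refine ⟨hUD, hUh.2.1, fun r hr hrπ hd' => hUg.2.2 r hr hrπ ?_⟩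
    have h1 := Coprime.card_mul_relIndex_of_le hUD
    rw [← Coprime.card_mul_relIndex_of_le hUg.1, card_map_of_injective hi] at h1
    rwa [Nat.eq_of_mul_eq_mul_left Nat.card_pos h1] at hd'
  obtain ⟨k, hk, hkU⟩ := Coprime.exists_conj_isPiHallOf
    (Coprime.isSolvable_of_le (commutator_le_self L) (by
      rw [e]; exact isSolvable_coatom hG (isCoatom_map_conj h.maxS g))) hUg hU'
  rw [Coprime.conj_smul_eq_map, map_conj_map_conj] at hkU
  refine (typeP_invariants hG h.maxS hd h.dataS).2.2.1 hU1 |>.2.2 fun n hn => ?_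
  have hkg : k * g ∈ normalizer (U : Set G) := OddLocal.mem_normalizer_of_map_conj hkU
  have h1 : (k * g) * n * (k * g)⁻¹ ∈ L := hNU (mul_mem (mul_mem hkg hn) (inv_mem hkg))
  have h2 := mul_mem (mul_mem (inv_mem (commutator_le_self L hk)) h1) (commutator_le_self L hk)
  rw [show k⁻¹ * (k * g * n * (k * g)⁻¹) * k = g * n * g⁻¹ by group, e, mem_map_conj_iff] at h2
  simpa [mul_assoc] using h2

/-- A maximal overgroup of `N(U)` is not conjugate to `T`. -/
theorem not_conj_right (hNU : normalizer (U : Set G) ≤ L) (g : G) :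
    L ≠ T.map (MulAut.conj g).toMonoidHom := by
  intro e
  obtain ⟨hUL, hWL⟩ := W₁_le_normalizer_le hG h hII hNU
  have hq := TypeTwo.card_W₁_prime hG h.maxS h.dataS hII
  haveI := Fact.mk hq
  set F := (fittingHallOf T).map (MulAut.conj g).toMonoidHom with hF
  have hFn : L ≤ normalizer (F : Set G) := by
    intro x hx
    rw [e, mem_map_conj_iff] at hx
    refine mem_normalizer_iff.2 fun y => ?_
    rw [mem_map_conj_iff, mem_map_conj_iff]
    have := mem_normalizer_iff.1 (le_normalizer_fittingHallOf T hx) (g⁻¹ * y * g)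
    rwa [show g⁻¹ * x * g * (g⁻¹ * y * g) * (g⁻¹ * x * g)⁻¹ = g⁻¹ * (x * y * x⁻¹) * g by group]
      at this
  refine U_eq_bot_of_nilpotent hG h hII (N := F) ?_ ?_ (hUL.trans hFn)
  · haveI := fittingHallOf_nilpotent T
    exact Group.nilpotent_of_mulEquiv ((fittingHallOf T).equivMapOfInjective _
      (MulAut.conj g).injective)
  · intro w hw
    rw [mem_map_conj_iff]
    have hwT : g⁻¹ * w * g ∈ T := by
      have := hWL hw
      rwa [e, mem_map_conj_iff] at this
    haveI : ((fittingHallOf T).subgroupOf T).Normal :=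
      normal_subgroupOf_of_le_normalizer (le_normalizer_fittingHallOf T)
    have hWF : W₁ ≤ fittingHallOf T := h.dataT.W₂_le.trans inf_le_left
    have hcop : (Nat.card W₁).Coprime ((fittingHallOf T).subgroupOf T).index :=
      ((coprime_index_fittingHallOf hG h.maxT).coprime_dvd_left
        (card_dvd_of_le hWF)).coprime_dvd_right (relIndex_dvd_index_of_le (fittingHallOf_le T))
    have hord : orderOf (g⁻¹ * w * g) ∣ Nat.card W₁ := by
      rw [show g⁻¹ * w * g = g⁻¹ * w * g⁻¹⁻¹ by group, ← MulAut.conj_apply, MulEquiv.orderOf_eq]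
      exact Subgroup.orderOf_dvd_natCard _ hw
    have := Core.le_of_coprime_index (N := (fittingHallOf T).subgroupOf T)
      (H := zpowers (⟨_, hwT⟩ : T))
      (by rw [Nat.card_zpowers, orderOf_mk]; exact hcop.coprime_dvd_left hord)
      (mem_zpowers _)
    exact mem_subgroupOf.1 this

/-- `L` is of Type I. -/
theorem typeI_of_normalizer_le (hL : IsCoatom L) (hNU : normalizer (U : Set G) ≤ L) :
    IsOfTypeI L :=
  (h.covers hG L hL).resolve_right fun ⟨g, hg⟩ => hg.elim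
    (not_conj_left hG h hII hNU g) (not_conj_right hG h hII hNU g)

variable (hL : IsCoatom L) (hNU : normalizer (U : Set G) ≤ L)
include hL hNU

/-- `L` is a Frobenius group with kernel `L_F`. -/
theorem kernel_facts :
    fittingHallOf L = sigmaCore L ∧ ∃ E₀ : Subgroup G, IsComplIn E₀ (sigmaCore L) L ∧
      kappa L = ∅ ∧ ∀ E : Subgroup G, IsComplIn E (sigmaCore L) L →
        ∀ e ∈ E, ∀ x ∈ sigmaCore L, x ≠ 1 → Commute e x → e = 1 := by
  have hT2 := OddTypeOne.tau2Empty hG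
  obtain ⟨K, E₀, hd⟩ := OddLocal.exists_decomposition hG hL
  obtain rfl := eq_bot_of_typeI hG hL hd (typeI_of_normalizer_le hG h hII hL hNU)
  have hκ := OddTypeOne.kappa_eq_empty hd.hall rfl
  refine ⟨OddTypeOne.fittingHallOf_eq hG hL hd rfl, E₀, OddTypeOne.compl_of_bot hG hL hd, hκ,
    fun E hE e he x hx hx1 hex => ?_⟩
  have h1 := OddTypeOne.inf_centralizer_le hT2 hG hL hκ hx hx1
    ⟨hE.1 he, mem_centralizer_singleton_iff.2 hex.eq⟩
  exact mem_bot.1 (hE.2.2.1 ▸ ⟨he, h1⟩)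

/-- `W₁` meets `L_F` trivially. -/
theorem inf_W₁_eq_bot : fittingHallOf L ⊓ W₁ = ⊥ := by
  have hq := TypeTwo.card_W₁_prime hG h.maxS h.dataS hII
  obtain ⟨hUL, -⟩ := W₁_le_normalizer_le hG h hII hNU
  rcases (Nat.dvd_prime hq).1 (card_dvd_of_le (inf_le_right : fittingHallOf L ⊓ W₁ ≤ W₁))
    with e | e
  · exact Subgroup.card_eq_one.1 e
  · exfalso
    have hle : W₁ ≤ fittingHallOf L :=
      (eq_of_le_of_card_ge inf_le_right e.ge).ge.trans inf_le_left
    exact U_eq_bot_of_nilpotent hG h hII (fittingHallOf_nilpotent L) hle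
      (hUL.trans (le_normalizer_fittingHallOf L))

theorem not_sigma : ∀ r : ℕ, r.Prime → r ∣ Nat.card W₁ → r ∉ sigma L := fun r hr hd hs => by
  have hq := TypeTwo.card_W₁_prime hG h.maxS h.dataS hII
  obtain ⟨-, hWL⟩ := W₁_le_normalizer_le hG h hII hNU
  obtain ⟨he, -⟩ := kernel_facts hG h hII hL hNU
  have hle : W₁ ≤ sigmaCore L := le_sigmaCore hG hL hWL fun s hs' hd' => by
    rwa [(Nat.prime_dvd_prime_iff_eq hs' hq).1 hd', ← (Nat.prime_dvd_prime_iff_eq hr hq).1 hd]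
  have := inf_W₁_eq_bot hG h hII hL hNU
  rw [he, inf_eq_right.2 hle] at this
  exact h.dataS.W₁_ne this

/-- A fixed point free `W₁`-invariant subgroup of a complement is trivial. -/
theorem eq_bot_of_invariant {E X : Subgroup G} (hE : IsComplIn E (sigmaCore L) L) (hWE : W₁ ≤ E)
    (hX : X ≤ E) (hXn : W₁ ≤ normalizer (X : Set G))
    (hfree : X ⊓ centralizer (W₁ : Set G) = ⊥) : X = ⊥ := by
  have hq := TypeTwo.card_W₁_prime hG h.maxS h.dataS hII
  obtain ⟨-, -, -, -, hfix⟩ := kernel_facts hG h hII hL hNU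
  obtain ⟨y, hy, hy1⟩ := OddLocal.exists_mem_ne_one _ (sigmaCore_ne_bot hG hL)
  obtain ⟨v, hv, hv1⟩ := OddLocal.exists_mem_ne_one _ h.dataS.W₁_ne
  have hz := TypeTwo.W₁_eq_zpowers hG h.maxS h.dataS hII hv hv1
  have hvo : (orderOf v).Prime := by rw [← Nat.card_zpowers, hz]; exact hq
  have hcv : centralizer ({v} : Set G) = centralizer (W₁ : Set G) := by
    rw [← hz, FixedPointFree.centralizer_zpowers]
  have hv0 : sigmaCore L ⊓ centralizer ({v} : Set G) = ⊥ := eq_bot_iff.2 fun x hx =>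
    mem_bot.2 (by_contra fun hx1 => hv1 (hfix E hE v (hWE hv) x hx.1 hx1
      (mem_centralizer_singleton_iff.1 hx.2).symm))
  have hXc := fpf_centralizes hG hL hE (hWE hv) hvo hv0 hX (hXn hv) (by rw [hcv]; exact hfree)
  exact eq_bot_iff.2 fun x hx => mem_bot.2
    (hfix E hE x (hX hx) y hy hy1 (mem_centralizer_iff.1 (hXc hx) y hy).symm)

/-- `U ≤ L_F`. -/
theorem U_le_kernel : U ≤ fittingHallOf L := by
  have hq := TypeTwo.card_W₁_prime hG h.maxS h.dataS hII
  obtain ⟨hUL, hWL⟩ := W₁_le_normalizer_le hG h hII hNU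
  obtain ⟨he, -⟩ := kernel_facts hG h hII hL hNU
  have hcop : (Nat.card W₁).Coprime (Nat.card U) :=
    (NotTwo.coprime_W₁_derived h.dataS).coprime_dvd_right (card_dvd_of_le h.dataS.U_compl.2.1)
  have hUs : Group.IsSolvable U := Coprime.isSolvable_of_le hUL (isSolvable_coatom hG hL)
  obtain ⟨H, hH, hHn⟩ := Coprime.exists_invariant_hall (π := {r | r ∉ sigma L}) h.dataS.U_normal
    hcop hUs
  have hHWπ : ∀ r : ℕ, r.Prime → r ∣ Nat.card ↥(H ⊔ W₁) → r ∉ sigma L := fun r hr hd => by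
    rw [Coprime.card_sup_eq_mul hHn (le_bot_iff.1 (TypeTwo.U_inf_W₁ h.dataS ▸
      inf_le_inf_right _ hH.1))] at hd
    exact (hr.dvd_mul.1 hd).elim (fun h1 => hH.2.1 r hr h1)
      (fun h1 => not_sigma hG h hII hL hNU r hr h1)
  obtain ⟨E, hE, hle⟩ := exists_compl_ge_of_not_sigma hG hL (sup_le (hH.1.trans hUL) hWL) hHWπ
  have hbot : H = ⊥ := eq_bot_of_invariant hG h hII hL hNU hE (le_sup_right.trans hle)
    (le_sup_left.trans hle) hHn (by
      obtain ⟨x, hx, hx1⟩ := OddLocal.exists_mem_ne_one _ h.dataS.W₁_ne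
      exact le_bot_iff.1 (TypeTwo.U_inf_centralizer h.dataS hx hx1 ▸
        inf_le_inf hH.1 (Subgroup.centralizer_le (Set.singleton_subset_iff.2 hx))))
  rw [he]
  refine le_sigmaCore hG hL hUL fun r hr hd => by_contra fun hrπ => hH.2.2 r hr hrπ ?_
  rwa [hbot, relIndex_bot_left]

/-- A complement of `L_F` containing `W₁` centralises it. -/
theorem exists_complement : ∃ E : Subgroup G, IsComplIn (fittingHallOf L) E L ∧ W₁ ≤ E ∧
    E ≤ centralizer (W₁ : Set G) ∧ E ≤ T ∧ IsZGroup E ∧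
    ∀ e ∈ E, ∀ x ∈ fittingHallOf L, e * x = x * e → e = 1 ∨ x = 1 := by
  have hq := TypeTwo.card_W₁_prime hG h.maxS h.dataS hII
  haveI := Fact.mk hq
  set q := Nat.card W₁ with hqdef
  obtain ⟨-, hWL⟩ := W₁_le_normalizer_le hG h hII hNU
  obtain ⟨he, -, -, hκ, hfix⟩ := kernel_facts hG h hII hL hNU
  obtain ⟨E, hE, hWE⟩ := exists_compl_ge_of_not_sigma hG hL hWL (not_sigma hG h hII hL hNU)
  have hτ := OddTypeOne.tau2Empty hG L hL hκ
  have hZ : IsZGroup E := compl_isZGroup hG hL hE le_rfl fun r hr hd => by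
    haveI := Fact.mk hr
    rcases tau_cases hG hL hE hd with h' | h' | h'
    · exact h'.2.2.2.2
    · rw [hτ] at h'; exact h'.elim
    · exact h'.2.2.2
  have hEs : Group.IsSolvable E := Coprime.isSolvable_of_le hE.1 (isSolvable_coatom hG hL)
  have hFE := fittingOf_le E
  have hEF : E ≤ normalizer (fittingOf E : Set G) :=
    (Subgroup.le_normalizer).trans (LocalStructure.le_normalizer_map_characteristic
      (le_refl (normalizer (E : Set G))) (fittingSubgroup ↥E))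
  haveI hFn : Group.IsNilpotent ↥(fittingOf E) := OddLocal.isNilpotent_fittingOf E
  have hFcyc : IsCyclic ↥(fittingOf E) := by
    haveI := hZ
    haveI : IsZGroup ↥(fittingOf E) := IsZGroup.of_injective (f := inclusion hFE)
      (inclusion_injective hFE)
    infer_instance
  have hWc : W₁ ≤ centralizer (fittingOf E : Set G) := by
    rw [le_centralizer_iff]
    refine (le_iSup_rPart hFn).trans (iSup_le fun s => ?_)
    haveI := Fact.mk s.2
    by_cases hsq : (s : ℕ) = q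
    · have hp : IsPGroup q ↥(rPart (s : ℕ) (fittingOf E) ⊔ W₁) := by
        rw [hsq]
        exact (isPGroup_rPart).to_sup_of_normal_left' (IsPGroup.of_card (pow_one _).symm)
          (le_normalizer_rPart (hWE.trans hEF))
      have hle : rPart (s : ℕ) (fittingOf E) ⊔ W₁ ≤ E := sup_le ((rPart_le).trans hFE) hWE
      haveI : IsZGroup ↥(rPart (s : ℕ) (fittingOf E) ⊔ W₁) :=
        haveI := hZ; IsZGroup.of_injective (f := inclusion hle) (inclusion_injective hle)
      haveI := hp.isNilpotent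
      exact fun x hx => mem_centralizer_iff.2 fun y hy => congrArg Subtype.val
        (IsCyclic.commGroup.mul_comm (⟨y, mem_sup_right hy⟩ : ↥(rPart (s : ℕ) (fittingOf E) ⊔ W₁))
          ⟨x, mem_sup_left hx⟩)
    · refine (rPart_le_rPrimePart (s := q) hsq).trans ?_
      set N := rPrimePart q (fittingOf E) with hN
      haveI : IsMulCommutative N := by
        haveI := hFcyc
        haveI : IsCyclic N := Subgroup.isCyclic_of_le rPrimePart_le
        exact ⟨⟨fun a b => IsCyclic.commGroup.mul_comm a b⟩⟩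
      have hNn : W₁ ≤ normalizer (N : Set G) := le_normalizer_rPrimePart (hWE.trans hEF)
      have hcop : (Nat.card W₁).Coprime (Nat.card N) :=
        (coprime_card_rPrimePart (r := q) (F := fittingOf E)).symm
      obtain ⟨hd1, hd2⟩ := Coprime.abelian_decomposition hNn hcop
      have hcN : ⁅N, W₁⁆ ≤ N := Coprime.commutator_le_of_le_normalizer hNn
      have hX : ⁅N, W₁⁆ = ⊥ := eq_bot_of_invariant hG h hII hL hNU hE hWE
        ((hcN.trans rPrimePart_le).trans hFE) (le_sup_right.trans Coprime.le_normalizer_commutator) (by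
          refine le_bot_iff.1 (le_trans ?_ hd1.le)
          exact le_inf (inf_le_inf_right _ hcN) inf_le_left)
      rw [hX, sup_bot_eq] at hd2
      exact hd2.ge.trans inf_le_right
  have hWF : W₁ ≤ fittingOf E :=
    (le_inf hWE hWc).trans (inf_centralizer_fittingOf_le hEs)
  have hEn : E ≤ normalizer (W₁ : Set G) := fun e he' => by
    refine OddLocal.mem_normalizer_of_map_conj (eq_of_card_eq_of_isCyclic hFcyc ?_ hWF
      (card_map_of_injective (MulAut.conj e).injective))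
    rintro _ ⟨w, hw, rfl⟩
    exact (mem_normalizer_iff.1 (hEF he') w).1 (hWF hw)
  rw [normalizer_eq_centralizer hG h.maxT h.dataT h.typeT] at hEn
  refine ⟨E, by rw [he]; exact isComplIn_symm hE, hWE, hEn,
    hEn.trans (centralizer_le_of_data hG h.maxT h.dataT h.typeT), hZ, fun e he' x hx hex => ?_⟩
  rw [he] at hx
  exact or_iff_not_imp_right.2 fun hx1 => hfix E hE e he' x hx hx1 hex

/-- The complement modulo `T'`, and the conjugate of `W₂` in it. -/
theorem complement_card {E : Subgroup G} (hWE : W₁ ≤ E) (hEc : E ≤ centralizer (W₁ : Set G))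
    (hET : E ≤ T) (hZ : IsZGroup E)
    (hCT : ∀ X : Subgroup G, IsCyclic X → X ≤ ⁅T, T⁆ → W₁ ≤ X → X = W₁) :
    E ⊓ ⁅T, T⁆ = W₁ ∧ (∃ m, m ∣ Nat.card W₂ ∧ Nat.card E = Nat.card W₁ * m) ∧
      (Nat.card E = Nat.card W₁ * Nat.card W₂ →
        ∃ y ∈ fittingHallOf T, y ∈ centralizer (W₁ : Set G) ∧
          W₂.map (MulAut.conj y).toMonoidHom ≤ E) := by
  have hW₁D : W₁ ≤ ⁅T, T⁆ := (h.dataT.W₂_le.trans inf_le_left).trans h.dataT.U_compl.1
  obtain ⟨w, hw, hw1⟩ := OddLocal.exists_mem_ne_one _ h.dataS.W₁_ne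
  have hz := TypeTwo.W₁_eq_zpowers hG h.maxS h.dataS hII hw hw1
  have hdvd : ∀ x : G, x ∈ ⁅T, T⁆ → x ∈ centralizer (W₁ : Set G) →
      (orderOf x).Coprime (Nat.card W₁) → x = 1 := fun x hxD hxc hcop => by
    have hxW := hCT (zpowers x ⊔ W₁) (isCyclic_sup_of_coprime inferInstance h.dataS.W₁_cyclic
      (zpowers_le.2 hxc) (by rwa [Nat.card_zpowers]))
      (sup_le (zpowers_le.2 hxD) hW₁D) le_sup_right
    have hxW' : x ∈ W₁ := hxW.le (mem_sup_left (mem_zpowers x))
    exact orderOf_eq_one_iff.1 (Nat.eq_one_of_dvd_coprimes hcop dvd_rfl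
      (Subgroup.orderOf_dvd_natCard _ hxW'))
  have hinf : E ⊓ ⁅T, T⁆ = W₁ := by
    refine le_antisymm (fun x hx => ?_) (le_inf hWE hW₁D)
    have hle : zpowers x ⊔ W₁ ≤ E := sup_le (zpowers_le.2 hx.1) hWE
    haveI : IsZGroup ↥(zpowers x ⊔ W₁) :=
      haveI := hZ; IsZGroup.of_injective (f := inclusion hle) (inclusion_injective hle)
    haveI : Group.IsNilpotent ↥(zpowers x ⊔ W₁) := by
      refine Core.isNilpotent_of_commutator_le_center (H := zpowers x ⊔ W₁) (C := ⊥) ?_ ?_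
      · rw [le_bot_iff, commutator_eq_bot_iff_le_centralizer]
        have hxc : zpowers x ≤ centralizer (W₁ : Set G) := zpowers_le.2 (hEc hx.1)
        have hWW : W₁ ≤ centralizer (W₁ : Set G) := fun a ha => mem_centralizer_iff.2 fun b hb =>
          congrArg Subtype.val ((h.dataS.W₁_cyclic).commGroup.mul_comm ⟨b, hb⟩ ⟨a, ha⟩)
        have hxx : zpowers x ≤ centralizer (zpowers x : Set G) := zpowers_le.2
          (mem_centralizer_iff.2 fun b hb => by
            obtain ⟨k, rfl⟩ := hb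
            exact (Commute.zpow_self x k).eq)
        refine sup_le (le_centralizer_iff.1 (sup_le hxx (le_centralizer_iff.1 hxc)))
          (le_centralizer_iff.1 (sup_le hxc hWW))
      · exact fun a _ => mem_centralizer_iff.2 fun b hb => by
          rw [mem_bot.1 hb, one_mul, mul_one]
    exact (hCT _ inferInstance (sup_le (zpowers_le.2 hx.2) hW₁D) le_sup_right).le
      (mem_sup_left (mem_zpowers x))
  haveI hDn : ((⁅T, T⁆ : Subgroup G).subgroupOf T).Normal :=
    normal_subgroupOf_of_le_normalizer le_normalizer_commutator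
  have hcard : Nat.card E ∣ Nat.card W₁ * Nat.card W₂ := by
    have h1 := Core.card_sup_mul_card_inf (E.subgroupOf T) ((⁅T, T⁆ : Subgroup G).subgroupOf T)
    rw [show E.subgroupOf T ⊓ (⁅T, T⁆ : Subgroup G).subgroupOf T =
        (E ⊓ ⁅T, T⁆).subgroupOf T from (comap_inf _ _ _).symm,
      hinf, Coprime.card_subgroupOf (hWE.trans hET), Coprime.card_subgroupOf hET,
      Coprime.card_subgroupOf (commutator_le_self T)] at h1
    have h2 := card_subgroup_dvd_card (E.subgroupOf T ⊔ (⁅T, T⁆ : Subgroup G).subgroupOf T)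
    rw [← IsComplIn.card_mul h.dataT.W₁_compl] at h2
    have h3 := Nat.mul_dvd_mul_right h2 (Nat.card W₁)
    rw [h1] at h3
    refine Nat.dvd_of_mul_dvd_mul_right (Nat.card_pos (α := ↥⁅T, T⁆)) ?_
    refine h3.trans (dvd_of_eq ?_)
    ring
  obtain ⟨m, hm⟩ := card_dvd_of_le hWE
  refine ⟨hinf, ⟨m, Nat.dvd_of_mul_dvd_mul_left Nat.card_pos (hm ▸ hcard), hm⟩, fun hpq => ?_⟩
  have hEW : W₁.relIndex E = Nat.card W₂ :=
    Nat.eq_of_mul_eq_mul_left Nat.card_pos ((Coprime.card_mul_relIndex_of_le hWE).trans hpq)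
  have hcopW : (Nat.card W₂).Coprime (Nat.card W₁) :=
    (NotTwo.coprime_W₁_derived h.dataT).coprime_dvd_right (card_dvd_of_le hW₁D)
  -- a Hall subgroup of `C_T(W₁)` for the primes of `W₂`
  set π := {r | r ∣ Nat.card W₂} with hπ
  set C := T ⊓ centralizer (W₁ : Set G) with hC
  have hCs : Group.IsSolvable C := Coprime.isSolvable_of_le inf_le_left (isSolvable_coatom hG h.maxT)
  have hW₂C : W₂ ≤ C := le_inf h.dataT.W₁_compl.2.1 fun b hb => mem_centralizer_iff.2 fun a ha =>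
    (h.dataT.selfNormalizing.2.2.2.1 b hb a ha).symm
  have hCdec : ∀ c ∈ C, ∃ d ∈ ⁅T, T⁆ ⊓ centralizer (W₁ : Set G), ∃ b ∈ W₂, c = d * b := by
    intro c hc
    obtain ⟨d, hd', b, hb, rfl⟩ := h.dataT.W₁_compl.2.2.2 c hc.1
    refine ⟨d, mem_inf.2 ⟨hd', ?_⟩, b, hb, rfl⟩
    have := mul_mem (mem_inf.1 hc).2 (inv_mem (mem_inf.1 (hW₂C hb)).2)
    rwa [mul_inv_cancel_right] at this
  have hCq : ∀ r : ℕ, r.Prime → r ∣ Nat.card ↥(⁅T, T⁆ ⊓ centralizer (W₁ : Set G)) →
      r ∣ Nat.card W₁ := fun r hr hd => by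
    haveI := Fact.mk hr
    by_contra hnd
    obtain ⟨x, hx⟩ := exists_prime_orderOf_dvd_card' r hd
    have hx' : orderOf (x : G) = r := (orderOf_coe x).trans hx
    refine hr.one_lt.ne ?_
    rw [← hx', hdvd x x.2.1 x.2.2 (hx' ▸ (hr.coprime_iff_not_dvd.2 hnd)), orderOf_one]
  have hDC : IsComplIn (⁅T, T⁆ ⊓ centralizer (W₁ : Set G)) W₂ C :=
    ⟨inf_le_inf_right _ (commutator_le_self T), hW₂C,
      le_bot_iff.1 (h.dataT.W₁_compl.2.2.1 ▸ inf_le_inf_right _ inf_le_left), hCdec⟩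
  have hW₂h : IsPiHallOf π W₂ C := ⟨hW₂C, fun _ _ hd => hd, fun r hr hrπ hd => by
    have h1 := Coprime.card_mul_relIndex_of_le hW₂C
    rw [← IsComplIn.card_mul hDC, mul_comm (Nat.card ↥(⁅T, T⁆ ⊓ centralizer (W₁ : Set G)))] at h1
    rw [Nat.eq_of_mul_eq_mul_left Nat.card_pos h1] at hd
    exact hr.not_dvd_one (hcopW.gcd_eq_one ▸ Nat.dvd_gcd hrπ (hCq r hr hd))⟩
  obtain ⟨X, hX⟩ := Coprime.exists_isPiHallOf (Coprime.isSolvable_of_le hET
    (isSolvable_coatom hG h.maxT)) π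
  have hXcard : Nat.card X = Nat.card W₂ := by
    refine Coprime.card_eq_of_isPiHallOf (K := C) ⟨hX.1.trans (le_inf hET hEc), hX.2.1,
      fun r hr hrπ hd => ?_⟩ hW₂h
    have h2 : Nat.card E * E.relIndex C =
        Nat.card ↥(⁅T, T⁆ ⊓ centralizer (W₁ : Set G)) * Nat.card W₂ :=
      (Coprime.card_mul_relIndex_of_le (le_inf hET hEc)).trans (IsComplIn.card_mul hDC).symm
    rw [hpq, mul_right_comm, mul_comm _ (Nat.card W₂)] at h2
    rw [← relIndex_mul_relIndex X E C hX.1 (le_inf hET hEc)] at hd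
    rcases hr.dvd_mul.1 hd with hd | hd
    · exact hX.2.2 r hr hrπ hd
    · have h3 : r ∣ Nat.card ↥(⁅T, T⁆ ⊓ centralizer (W₁ : Set G)) := by
        rw [← Nat.eq_of_mul_eq_mul_left Nat.card_pos (h2.trans (mul_comm _ _))]
        exact hd.mul_left _
      exact hr.not_dvd_one (hcopW.gcd_eq_one ▸ Nat.dvd_gcd hrπ (hCq r hr h3))
  obtain ⟨c, hc, hcX⟩ := Coprime.exists_conj_isPiHallOf hCs hW₂h
    (⟨hX.1.trans (le_inf hET hEc), hX.2.1, fun r hr hrπ hd => hW₂h.2.2 r hr hrπ (by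
      have h1 := Coprime.card_mul_relIndex_of_le hW₂C
      rw [← Coprime.card_mul_relIndex_of_le (hX.1.trans (le_inf hET hEc)), hXcard] at h1
      rwa [Nat.eq_of_mul_eq_mul_left Nat.card_pos h1])⟩ : IsPiHallOf π X C)
  rw [Coprime.conj_smul_eq_map] at hcX
  obtain ⟨d, hd', b, hb, rfl⟩ := hCdec c hc
  refine ⟨d, ?_, hd'.2, le_trans (le_of_eq ?_) hX.1⟩
  · haveI : ((fittingHallOf T).subgroupOf T).Normal :=
      normal_subgroupOf_of_le_normalizer (le_normalizer_fittingHallOf T)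
    have hcop : (orderOf d).Coprime ((fittingHallOf T).subgroupOf T).index := by
      refine Nat.coprime_of_dvd fun r hr hr1 hr2 => ?_
      have h1 := hCq r hr (hr1.trans (Subgroup.orderOf_dvd_natCard _ hd'))
      exact hr.not_dvd_one ((((coprime_index_fittingHallOf hG h.maxT).coprime_dvd_left
        (card_dvd_of_le (h.dataT.W₂_le.trans inf_le_left))).coprime_dvd_right
        (relIndex_dvd_index_of_le (fittingHallOf_le T))).gcd_eq_one ▸ Nat.dvd_gcd h1 hr2)
    exact mem_subgroupOf.1 (Core.le_of_coprime_index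
      (N := (fittingHallOf T).subgroupOf T)
      (H := zpowers (⟨d, commutator_le_self T hd'.1⟩ : T))
      (by rw [Nat.card_zpowers, orderOf_mk]; exact hcop) (mem_zpowers _))
  · rw [← hcX, ← map_conj_map_conj, map_conj_eq_self_of_mem (Subgroup.le_normalizer hb)]

omit hG h hII hL hNU in
/-- A criterion for the hypothesis on cyclic subgroups used in `complement_card`. -/
theorem cyclic_eq_of_quotient {q : ℕ} (hq : q.Prime) {H₀ : Subgroup G}
    (hW : Nat.card W₁ = q) (hp : IsPGroup q (fittingHallOf T))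
    (hpow : ∀ x ∈ fittingHallOf T, x ^ q ∈ H₀) (hinf : H₀ ⊓ W₁ = ⊥)
    (hC : ∀ x ∈ ⁅T, T⁆, x ∈ centralizer (W₁ : Set G) → x ∈ fittingHallOf T)
    (X : Subgroup G) (hX : IsCyclic X) (hXD : X ≤ ⁅T, T⁆) (hWX : W₁ ≤ X) : X = W₁ := by
  haveI := Fact.mk hq
  haveI := hX
  obtain ⟨x, hx⟩ := IsCyclic.exists_generator (α := X)
  have hXc : X ≤ centralizer (W₁ : Set G) := fun a ha => mem_centralizer_iff.2 fun b hb =>
    congrArg Subtype.val (IsCyclic.commGroup.mul_comm (⟨b, hWX hb⟩ : X) ⟨a, ha⟩)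
  have hxF : (x : G) ∈ fittingHallOf T := hC _ (hXD x.2) (hXc x.2)
  have hXz : X = zpowers (x : G) := le_antisymm (fun a ha => by
    obtain ⟨k, hk⟩ := mem_zpowers_iff.1 (hx ⟨a, ha⟩)
    exact ⟨k, congrArg Subtype.val hk⟩) (zpowers_le.2 x.2)
  obtain ⟨k, hk⟩ : ∃ k : ℕ, (x : G) ^ q ^ k = 1 := by
    obtain ⟨k, hk⟩ := hp ⟨x, hxF⟩
    exact ⟨k, congrArg Subtype.val hk⟩
  obtain ⟨n, -, hn⟩ := (Nat.dvd_prime_pow hq).1 (orderOf_dvd_of_pow_eq_one hk)
  have hcardX : Nat.card X = q ^ n := by rw [hXz, Nat.card_zpowers, hn]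
  refine (eq_of_le_of_card_ge hWX ?_).symm
  rw [hW, hcardX]
  by_contra hlt
  push Not at hlt
  have hn2 : 2 ≤ n := by
    by_contra h'
    interval_cases n <;> simp at hlt <;> have := hq.one_lt <;> omega
  set z := (x : G) ^ q ^ (n - 1) with hz
  have hzo : orderOf z = q := by
    rw [hz, orderOf_pow' _ (pow_ne_zero _ hq.ne_zero), hn,
      Nat.gcd_eq_right (pow_dvd_pow _ (Nat.sub_le _ _)),
      Nat.pow_div (Nat.sub_le _ _) hq.pos, show n - (n - 1) = 1 by omega, pow_one]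
  have hzW : zpowers z = W₁ := eq_of_card_eq_of_isCyclic hX
    (zpowers_le.2 (pow_mem x.2 _)) hWX (by rw [Nat.card_zpowers, hzo, hW])
  have hzH : z ∈ H₀ := by
    rw [hz, show n - 1 = (n - 2) + 1 by omega, pow_succ, pow_mul]
    exact hpow _ (pow_mem hxF _)
  have h1 : z ∈ H₀ ⊓ W₁ := ⟨hzH, hzW ▸ mem_zpowers z⟩
  rw [hinf, mem_bot] at h1
  rw [h1, orderOf_one] at hzo
  exact hq.one_lt.ne hzo

/-- Peterfalvi (14.2): the overgroup of `N(U)` when `|W₂|` is prime. -/
theorem overgroup_facts (hp : (Nat.card W₂).Prime)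
    (hCT : ∀ X : Subgroup G, IsCyclic X → X ≤ ⁅T, T⁆ → W₁ ≤ X → X = W₁) :
    IsOfTypeI L ∧ U ≤ fittingHallOf L ∧ ∃ E : Subgroup G, IsComplIn (fittingHallOf L) E L ∧
      W₁ ≤ E ∧ E ≤ centralizer (W₁ : Set G) ∧ E ≤ T ∧
      (∀ e ∈ E, ∀ x ∈ fittingHallOf L, e * x = x * e → e = 1 ∨ x = 1) ∧
      (E = W₁ ∨ (Nat.card E = Nat.card W₁ * Nat.card W₂ ∧
        ∃ y ∈ fittingHallOf T, y ∈ centralizer (W₁ : Set G) ∧
          W₂.map (MulAut.conj y).toMonoidHom ≤ E)) := by
  obtain ⟨E, hE, hWE, hEc, hET, hZ, hfree⟩ := exists_complement hG h hII hL hNU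
  obtain ⟨-, ⟨m, hm, hEm⟩, hy⟩ := complement_card hG h hII hL hNU hWE hEc hET hZ hCT
  refine ⟨typeI_of_normalizer_le hG h hII hL hNU, U_le_kernel hG h hII hL hNU, E, hE, hWE, hEc,
    hET, hfree, ?_⟩
  rcases (Nat.dvd_prime hp).1 hm with rfl | rfl
  · exact Or.inl (eq_of_le_of_card_ge hWE (by rw [hEm, mul_one])).symm
  · exact Or.inr ⟨hEm, hy hEm⟩

omit hL hNU in
/-- For `T` of Type II with `V` faithful on `T_F`, `W₁` is a maximal cyclic subgroup of `T'`. -/
theorem cyclic_eq_of_typeII (hIIT : IsOfTypeII T)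
    (hC : V ⊓ centralizer (fittingHallOf T : Set G) = ⊥) (X : Subgroup G) (hX : IsCyclic X)
    (hXD : X ≤ ⁅T, T⁆) (hWX : W₁ ≤ X) : X = W₁ := by
  have hq := TypeTwo.card_W₁_prime hG h.maxS h.dataS hII
  have hea := TypeTwo.fitting_elementary hG h.maxT h.dataT hIIT hq
  have hWF : W₁ ≤ fittingHallOf T := h.dataT.W₂_le.trans inf_le_left
  refine cyclic_eq_of_quotient hq (H₀ := ⊥) rfl (TypeTwo.isPGroup_fitting hG h.maxT h.dataT hIIT hq)
    (fun x hx => mem_bot.2 (hea.2 x hx)) (bot_inf_eq _) ?_ X hX hXD hWX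
  intro x hxD hxc
  obtain ⟨a, ha, b, hb, rfl⟩ := h.dataT.U_compl.2.2.2 x hxD
  obtain ⟨v, hv, hv1⟩ := OddLocal.exists_mem_ne_one _ h.dataS.W₁_ne
  have hvb : b * v * b⁻¹ ∈ fittingHallOf T := (mem_normalizer_iff.1
    (le_normalizer_fittingHallOf T (TypeTwo.U_le h.dataT hb)) v).1 (hWF hv)
  have e1 : a * (b * v * b⁻¹) = v * a := by
    calc a * (b * v * b⁻¹) = a * b * v * b⁻¹ := by group
      _ = v * (a * b) * b⁻¹ := by rw [mem_centralizer_iff.1 hxc v hv]
      _ = v * a := by group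
  haveI := hea.1
  have e2 : a * (b * v * b⁻¹) = b * v * b⁻¹ * a :=
    congrArg Subtype.val (IsMulCommutative.is_comm.comm (⟨a, ha⟩ : fittingHallOf T) ⟨_, hvb⟩)
  have e3 : b * v * b⁻¹ = v := mul_right_cancel (e2.symm.trans e1)
  have hbm : b ∈ V ⊓ centralizer ({v} : Set G) := by
    refine mem_inf.2 ⟨hb, mem_centralizer_singleton_iff.2 ?_⟩
    rwa [mul_inv_eq_iff_eq_mul] at e3
  rw [TypeTwo.stabilizer_fixed hG h.maxT h.dataT hIIT hq hv hv1, hC, mem_bot] at hbm
  rwa [hbm, mul_one]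

end Cfsg.Agent.OddFinal
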