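import Cfsg.Agent.OddFinal.OvergroupSecond
import Cfsg.Agent.OddFinal.OvergroupLocal

/-!
# A conjugate of `W₂` normalises `U` (Peterfalvi 14)

Both members of the pair of Type II, with kernels of the maximal possible size: a conjugate `W₂ ^ y`, `y ∈ T_F`
centralising `W₁`, normalises `U`.
-/

set_option autoImplicit false
set_option linter.unusedSectionVars false

namespace Cfsg.Agent.OddFinal

open Cfsg Char

universe u

variable {G : Type u} [Group G] [Fintype G]

theorem overSet_subset (L : Subgroup G) : overSet L ⊆ tildeOf L (typeA L) := by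
  rintro g ⟨a, ha, r, hr, x, hx⟩
  exact ⟨a, ha, r, hr, x⁻¹, by rw [← hx]; group⟩

/-- `Ã(L)` avoids what the bridge of a member lives on. -/
theorem disjoint_overSet_member (hG : IsMinSimpleOddOrder G) {L M W₁ W₂ U K : Subgroup G}
    (hL : IsCoatom L) (hI : IsOfTypeI L) (hM : IsCoatom M) (hd : IsTypePWith M W₁ U W₂)
    (hn : IsTypeNotI M) (hK : sharp K ⊆ typeA1 M) :
    Disjoint (overSet L) (conjAll (sharp K ∪ conjIn M (vSet W₁ W₂))) := by
  rw [Set.disjoint_left]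
  rintro g hg ⟨x, a, ha, rfl⟩
  have hg' := overSet_subset L hg
  rcases ha with ha | ⟨m, -, v, hv, rfl⟩
  · exact Set.disjoint_left.1 (disjoint_tilde_typeA1 hG hL hI hM hn) hg' ⟨x, a, hK ha, rfl⟩
  · exact Set.disjoint_left.1 (disjoint_tilde_vSet hG hL hI hM hd) hg'
      ⟨x * m, v, hv, by group⟩

/-- Nonconjugate subgroups of type I have disjoint sets. -/
theorem disjoint_overSet (hG : IsMinSimpleOddOrder G) {L L' : Subgroup G} (hL : IsCoatom L)
    (hI : IsOfTypeI L) (hL' : IsCoatom L') (hI' : IsOfTypeI L')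
    (hnc : ∀ g : G, L' ≠ L.map (MulAut.conj g).toMonoidHom) :
    Disjoint (overSet L) (overSet L') := by
  refine Disjoint.mono (overSet_subset L) (overSet_subset L') ?_
  rw [typeA_eq_of_typeI hG hL hI, typeA_eq_of_typeI hG hL' hI', OddLocal.typeA1_eq hG hL,
    OddLocal.typeA1_eq hG hL', Set.disjoint_iff_inter_eq_empty]
  exact OddLocal.tildeOf_sigma_disjoint hG hL hL' hnc

/-- The index of the kernel is the order of a complement. -/
theorem index_eq_card_compl {L E : Subgroup G} (h : IsComplIn (fittingHallOf L) E L) :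
    (fittingHall L).index = Nat.card E := by
  have h1 := OddLocal.IsComplIn.card_mul h
  rw [fittingHallOf, Subgroup.card_map_of_injective L.subtype_injective,
    ← Subgroup.card_mul_index (fittingHall L)] at h1
  exact (Nat.eq_of_mul_eq_mul_left Nat.card_pos h1).symm

/-- An invariant subgroup of a cyclic kernel is normal. -/
theorem le_normalizer_of_cyclic {L U : Subgroup G} (hK : IsCyclic (fittingHallOf L))
    (hUK : U ≤ fittingHallOf L) : L ≤ Subgroup.normalizer (U : Set G) := by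
  intro x hx
  have hxn := OddLocal.le_normalizer_fittingHallOf L hx
  have h : U.map (MulAut.conj x).toMonoidHom = U :=
    OddLocal.eq_of_card_eq_of_isCyclic hK
      (by
        rintro _ ⟨y, hy, rfl⟩
        exact (Subgroup.mem_normalizer_iff.1 hxn y).1 (hUK hy)) hUK
      (Subgroup.card_map_of_injective (MulAut.conj x).injective)
  exact OddLocal.mem_normalizer_of_map_conj h

theorem seven_le_of_mod {d q : ℕ} (hd : d % q = 1) (hd1 : 1 < d) (hdo : Odd d) (hqo : Odd q) :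
    2 * q + 1 ≤ d := by
  have h := Nat.mod_add_div d q
  rw [hd] at h
  obtain ⟨i, hi⟩ := hdo
  obtain ⟨j, hj⟩ := hqo
  rcases Nat.lt_or_ge (d / q) 2 with h2 | h2
  · interval_cases hm : d / q <;> omega
  · nlinarith

variable {S T W₁ W₂ U V : Subgroup G} {η : (↥(W₁ ⊔ W₂) →* ℂˣ) → G → ℂ}

/-- Peterfalvi (14.2): the overgroup of `N(U)` has a complement `E` of order `q p` meeting a conjugate of `W₂`. -/
theorem overgroup_exists (hG : IsMinSimpleOddOrder G) (h : Pair S T W₁ W₂ U V)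
    (hII : IsOfTypeII S) (hII' : IsOfTypeII T) {p q : ℕ} (hq₁ : Nat.card W₁ = q)
    (hp₂ : Nat.card W₂ = p) (hqp : q < p)
    (hCV : V ⊓ Subgroup.centralizer (fittingHallOf T : Set G) = ⊥)
    [Fintype ↥S] {KS : Subgroup G} {d : ℕ} {X : Finset (↥S → ℂ)}
    {μ : (↥(W₁ ⊔ W₂) →* ℂˣ) → ↥S → ℂ} {BS : Set G} {π : ↥S → ℂ}
    (hc : Ctx S W₁ W₂ KS d X μ η BS) (hb : IsBridge S W₁ W₂ KS d X μ π)
    (hKS : sharp KS ⊆ typeA1 S) (hdU : d ≤ Nat.card U) :
    ∃ L E : Subgroup G, ∃ y : G, IsCoatom L ∧ IsOfTypeI L ∧ U ≤ fittingHallOf L ∧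
      IsComplIn (fittingHallOf L) E L ∧ (fittingHall L).index = p * q ∧
      (∀ e ∈ E, ∀ x ∈ fittingHallOf L, e * x = x * e → e = 1 ∨ x = 1) ∧
      y ∈ fittingHallOf T ∧ y ∈ Subgroup.centralizer (W₁ : Set G) ∧
      W₂.map (MulAut.conj y).toMonoidHom ≤ E := by
  have hqP : q.Prime := hq₁ ▸ TypeTwo.card_W₁_prime hG h.maxS h.dataS hII
  have hpP : p.Prime := hp₂ ▸ TypeTwo.card_W₁_prime hG h.maxT h.dataT hII'
  obtain ⟨L, hL, hNU⟩ := OddLocal.exists_coatom_ge_normalizer hG h.maxS (TypeTwo.U_le h.dataS)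
    (TypeTwo.U_ne_bot hG h.maxS h.dataS hII)
  obtain ⟨hI, hUK, E, hE, hWE, -, -, hfpf, hcases⟩ := overgroup_facts hG h hII hL hNU
    (hp₂ ▸ hpP) fun X hX => cyclic_eq_of_typeII hG h hII hII' hCV X hX
  rcases hcases with hEW | ⟨hcardE, y, hy, hyc, hyE⟩
  · exfalso
    refine false_of_small hG hc.odd hc.selfN hc.fam hq₁ hp₂ hqp hL hI h.maxS ?_ (TypeTwo.U_le h.dataS)
      h.dataS.W₁_compl.2.1 (hWE.trans hE.2.1) hUK (TypeTwo.U_inf_W₁ h.dataS)
      ((disjoint_tilde_vSet hG hL hI h.maxS h.dataS).mono (overSet_subset L)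
        (fun v (hv : v ∈ vSet W₁ W₂) => (⟨1, v, hv, by group⟩ : v ∈ conjAll (vSet W₁ W₂))))
      ?_ hdU (fun ψ hψ => hq₁ ▸
        hasFrame_of_bridge hc hb (disjoint_overSet_member hG hL hI h.maxS h.dataS h.typeS hKS) hψ)
    · intro e
      refine not_conj_left hG h hII hNU 1 (e.trans ?_)
      ext x
      simp
    · rw [index_eq_card_compl hE, hEW, hq₁]
  exact ⟨L, E, y, hL, hI, hUK, hE, by rw [index_eq_card_compl hE, hcardE, hq₁, hp₂, mul_comm],
    hfpf, hy, hyc, hyE⟩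

/-- Peterfalvi (14): a conjugate of `W₂` in the overgroup normalises `U`. -/
theorem overgroup_normalizes (hG : IsMinSimpleOddOrder G) (h : Pair S T W₁ W₂ U V)
    (hII : IsOfTypeII S) (hII' : IsOfTypeII T) {p q : ℕ} (hq₁ : Nat.card W₁ = q)
    (hp₂ : Nat.card W₂ = p) (hqp : q < p)
    (hCU : U ⊓ Subgroup.centralizer (fittingHallOf S : Set G) = ⊥)
    (hCV : V ⊓ Subgroup.centralizer (fittingHallOf T : Set G) = ⊥) (hVc : IsCyclic V)
    (hV : Nat.card V = (q ^ p - 1) / (q - 1))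
    (hU : Nat.card U = (p ^ q - 1) / (p - 1) ∨ q * Nat.card U = (p ^ q - 1) / (p - 1))
    (hUq : Nat.card U % q = 1)
    [Fintype ↥S] {KS : Subgroup G} {d : ℕ} {X : Finset (↥S → ℂ)}
    {μ : (↥(W₁ ⊔ W₂) →* ℂˣ) → ↥S → ℂ} {BS : Set G} {π : ↥S → ℂ}
    (hc : Ctx S W₁ W₂ KS d X μ η BS) (hb : IsBridge S W₁ W₂ KS d X μ π)
    (hKS : sharp KS ⊆ typeA1 S) (hd1 : 1 < d) (hdU : d ≤ Nat.card U)
    [Fintype ↥T] {KT : Subgroup G} {d' : ℕ} {X' : Finset (↥T → ℂ)}
    {μ' : (↥(W₂ ⊔ W₁) →* ℂˣ) → ↥T → ℂ} {BT : Set G} {π' : ↥T → ℂ}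
    (hc' : Ctx T W₂ W₁ KT d' X' μ' (fun f => η (swapHom f)) BT)
    (hb' : IsBridge T W₂ W₁ KT d' X' μ' π')
    (hKT : sharp KT ⊆ typeA1 T) (hd'1 : 1 < d') (hd'V : d' ≤ Nat.card V)
    {L : Subgroup G} (hL : IsCoatom L) (hI : IsOfTypeI L) (hUK : U ≤ fittingHallOf L)
    (hidx : (fittingHall L).index = p * q) {y : G} (hWy : ∀ x ∈ W₂, y * x * y⁻¹ ∈ L) :
    ∀ x ∈ W₂, y * x * y⁻¹ ∈ Subgroup.normalizer (U : Set G) := by
  have hodd : Odd (Nat.card G) := hc.odd
  have hW := hc.selfN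
  have hχ := hc.fam
  have hqP : q.Prime := hq₁ ▸ TypeTwo.card_W₁_prime hG h.maxS h.dataS hII
  have hpP : p.Prime := hp₂ ▸ TypeTwo.card_W₁_prime hG h.maxT h.dataT hII'
  have hqo : Odd q := hq₁ ▸ hodd.of_dvd_nat (Subgroup.card_subgroup_dvd_card W₁)
  have hpo : Odd p := hp₂ ▸ hodd.of_dvd_nat (Subgroup.card_subgroup_dvd_card W₂)
  -- the other overgroup
  obtain ⟨L', hL', hNV⟩ := OddLocal.exists_coatom_ge_normalizer hG h.maxT (TypeTwo.U_le h.dataT)
    (TypeTwo.U_ne_bot hG h.maxT h.dataT hII')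
  obtain ⟨hI', hVK, E', hE', hWE', -, -, -, hcases'⟩ := overgroup_facts hG h.symm hII' hL' hNV
    (hq₁ ▸ hqP) fun X hX => cyclic_eq_of_typeII hG h.symm hII' hII hCU X hX
  have hidx' : (fittingHall L').index = p ∨ (fittingHall L').index = p * q := by
    rw [index_eq_card_compl hE']
    rcases hcases' with rfl | ⟨e, -⟩
    · exact Or.inl hp₂
    · exact Or.inr (by rw [e, hp₂, hq₁])
  -- disjointness and frames
  have hVL := fun {M : Subgroup G} (hM : IsCoatom M) (hMI : IsOfTypeI M) =>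
    (disjoint_tilde_vSet hG hM hMI h.maxS h.dataS).mono (overSet_subset M)
      (fun v (hv : v ∈ vSet W₁ W₂) => (⟨1, v, hv, by group⟩ : v ∈ conjAll (vSet W₁ W₂)))
  have hSf : ∀ {M : Subgroup G}, IsCoatom M → IsOfTypeI M → ∀ ψ : Right W₁ W₂, ψ.1 ≠ 1 →
      HasFrameOff (overSet M) η q ((d : ℤ) - 1) ψ.1 := fun hM hMI ψ hψ => hq₁ ▸
    hasFrame_of_bridge hc hb (disjoint_overSet_member hG hM hMI h.maxS h.dataS h.typeS hKS) hψ
  have hTf : ∀ {M : Subgroup G}, IsCoatom M → IsOfTypeI M → ∀ {D : ℤ}, (d' : ℤ) - 1 ≤ D →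
      ∀ φ : Left W₁ W₂, φ.1 ≠ 1 → HasFrameOff (overSet M) η p D φ.1 := fun hM hMI _ hD φ hφ => hp₂ ▸
    hasFrame_of_bridge_swap hc' hb'
      (disjoint_overSet_member hG hM hMI h.maxT h.dataT h.typeT hKT) hD φ hφ
  -- values off the kernels
  have hval : ∀ g, g ∉ conjAll (sharp KS) → g ∉ conjAll (sharp KT) → g ∉ vG W₁ W₂ →
      ∃ a b : ℤ, (∀ φ : Left W₁ W₂, φ.1 ≠ 1 → η φ.1 g = a) ∧
        ∀ ψ : Right W₁ W₂, ψ.1 ≠ 1 → η ψ.1 g = b := by
    intro g h1 h2 h3
    rw [← conjAll_vSet_eq] at h3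
    obtain ⟨a, ha⟩ := (rowUniform_of_swap hc'.side).left_value hW hodd hχ h2 h3
    obtain ⟨b, hb0⟩ := hc.side.right_value hW hodd hχ h1 h3
    exact ⟨a, b, ha, hb0⟩
  have hdo : Odd d := by
    refine hodd.of_dvd_nat (dvd_trans ?_ (Subgroup.card_subgroup_dvd_card S))
    rw [hc.side.card_eq]; exact (dvd_mul_left _ _).mul_right _
  have hd'o : Odd d' := by
    refine hodd.of_dvd_nat (dvd_trans ?_ (Subgroup.card_subgroup_dvd_card T))
    rw [hc'.side.card_eq]; exact (dvd_mul_left _ _).mul_right _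
  have hd7 := seven_le_of_mod (hq₁ ▸ hc.side.d_mod) hd1 hdo hqo
  have hd'q := seven_le_of_mod (hp₂ ▸ hc'.side.d_mod) hd'1 hd'o hpo
  have hdN : d ≤ (p ^ q - 1) / (p - 1) := hdU.trans (by
    rcases hU with e | e
    · exact e.le
    · exact e ▸ Nat.le_mul_of_pos_left _ hqP.pos)
  -- the kernel of `L'` is `V`
  have hkV : Nat.card (fittingHallOf L') = (q ^ p - 1) / (q - 1) :=
    card_kernel_second hG hodd hW hχ hpP hqP hqp hq₁ hp₂ hL' hI' (hVL hL' hI') hidx'
      (hV ▸ Subgroup.card_dvd_of_le hVK) hdN (hV ▸ hd'V) (by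
        have := hqP.two_le
        obtain ⟨j, hj⟩ := hqo
        omega)
      (by omega) (hSf hL' hI') (hTf hL' hI' le_rfl) hval
      (hq₁ ▸ hc.mass_sharp_le) (hp₂ ▸ hc'.mass_sharp_le)
  by_cases hconj : ∃ g : G, L' = L.map (MulAut.conj g).toMonoidHom
  · -- the kernel is cyclic
    obtain ⟨g, hg⟩ := hconj
    have hVeq : V = fittingHallOf L' :=
      Subgroup.eq_of_le_of_card_ge hVK (hkV.le.trans hV.ge)
    have hcyc : IsCyclic (fittingHallOf L') := hVeq ▸ hVc
    let f := L.equivMapOfInjective (MulAut.conj g).toMonoidHom (MulAut.conj g).injective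
    have hle : (fittingHall L).map f.toMonoidHom ≤ fittingHall (L.map (MulAut.conj g).toMonoidHom) := by
      rw [Subgroup.map_le_iff_le_comap]
      refine sSup_le fun N hN => Subgroup.map_le_iff_le_comap.1 (le_sSup ?_)
      obtain ⟨hn, hnil, hcop⟩ := hN
      refine ⟨Subgroup.Normal.map hn _ f.surjective, Group.nilpotent_of_mulEquiv
        (N.equivMapOfInjective f.toMonoidHom f.injective), ?_⟩
      rw [Subgroup.card_map_of_injective (f := f.toMonoidHom) f.injective,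
        Subgroup.index_map_of_bijective (f := f.toMonoidHom) f.bijective]
      exact hcop
    subst hg
    have h0 : IsCyclic (fittingHall L) := by
      have h1 : IsCyclic (fittingHall (L.map (MulAut.conj g).toMonoidHom)) :=
        ((fittingHall _).equivMapOfInjective _
          (L.map (MulAut.conj g).toMonoidHom).subtype_injective).isCyclic.2 hcyc
      exact ((fittingHall L).equivMapOfInjective f.toMonoidHom f.injective).isCyclic.2
        (Subgroup.isCyclic_of_le hle)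
    have hcK : IsCyclic (fittingHallOf L) :=
      ((fittingHall L).equivMapOfInjective _ L.subtype_injective).isCyclic.1 h0
    exact fun x hx => le_normalizer_of_cyclic hcK hUK (hWy x hx)
  · push Not at hconj
    obtain ⟨ι', _, Y', F', n', j₀, j₁, hF'⟩ :=
      exists_overFamily hG hodd hL' hI' hW hχ (hVL hL' hI')
    refine conj_mem_normalizer hUK ?_ hWy
    refine card_kernel_of_large hG hodd hW hχ hpP hqP hqp hq₁ hp₂ hL hI (hVL hL hI) ?_
      (Subgroup.card_dvd_of_le hUK) hUq hdU hU (hSf hL hI) hF'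
      (disjoint_overSet hG hL hI hL' hI' hconj) hkV.ge ?_
    · exact hidx
    · refine hidx'.imp_right fun e => ⟨e, hTf hL hI ?_⟩
      have : d' ≤ (q ^ p - 1) / (q - 1) := hV ▸ hd'V
      omega

end Cfsg.Agent.OddFinal
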