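import Cfsg.Agent.OddFinal.DegenerateCases
import Cfsg.Agent.OddFinal.DegenerateCyclic
import Cfsg.Agent.OddFinal.OvergroupConfig
import Cfsg.Agent.OddFinal.NoSupport
import Cfsg.Agent.OddFinal.NotTwo
import Cfsg.Agent.OddFinal.OvergroupBridge
import Cfsg.Agent.OddLocal.TypeCore

/-!
# A member outside Type II has a non-trivial complement (section E5 of the endgame)

At a degenerate member `M` exactness makes the image `Y` of the overgroup `L` of `N(V)` meet every
column, `χ` and the images of the irreducible members: more than its norm `|E| + 1` allows.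
-/

set_option autoImplicit false
set_option linter.unusedSectionVars false

namespace Cfsg.Agent.OddFinal

open Subgroup Cfsg Cfsg.Agent.Char CyclicTI
open scoped ComplexConjugate
open scoped _root_.Classical

universe u

variable {G : Type u}

theorem sum_shift_sq {α : Type*} [Fintype α] (a : α → ℤ) (x : ℤ) :
    ∑ i, (a i + x) ^ 2 = ∑ i, a i ^ 2 + 2 * x * ∑ i, a i + (Fintype.card α : ℤ) * x ^ 2 := by
  simp only [add_sq, Finset.sum_add_distrib, Finset.sum_const, Finset.card_univ, nsmul_eq_mul]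
  rw [Finset.mul_sum]
  congr 2
  exact Finset.sum_congr rfl fun i _ => by ring

variable [Group G] [Fintype G] {M W₁ W₂ : Subgroup G} [Fintype ↥M]
  {μ : (↥(W₁ ⊔ W₂) →* ℂˣ) → ↥M → ℂ} {η : (↥(W₁ ⊔ W₂) →* ℂˣ) → G → ℂ}
  {δ : Right W₁ W₂ → ℤ} {d : Right W₁ W₂ → ℕ}

namespace Degen

variable (h : Degen M W₁ W₂) (hμ : Chars (M := M) (W₁ := W₁) (W₂ := W₂) μ δ d)
  (hη : IsCyclicTIFamily W₁ W₂ η)

include h hμ hη

/-- The images that `Y` cannot see. -/
theorem test_spec {ζ : ↥M → ℂ} {χ : G → ℂ} {T : Finset (↥M → ℂ)}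
    (hE : ExactData W₁ μ η δ d ζ χ T) {Y : G → ℂ}
    (hY : ∀ g ∈ conjAll (aSet M W₁ W₂), Y g = 0) :
    classInner Y (yFun ζ) = 0 ∧
      (∀ ψ : Right W₁ W₂, ψ.1 ≠ 1 →
        classInner Y (indFun M (testFn ζ (d ψ) (colSum μ ψ))) = 0) ∧
      ∀ Φ ∈ T, classInner Y (indFun M (testFn ζ (degN W₁ Φ) Φ)) = 0 ∧
        IsGeneralizedCharacter G (psiFn W₁ ζ χ Φ) := by
  have hkey : ∀ f : ↥M → ℂ, (∀ x, x ∉ kin M → f x = 0) → f 1 = 0 →
      classInner Y (indFun M f) = 0 := fun f h0 h1 => by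
    refine classInner_eq_zero_of_disjoint fun g => ?_
    by_cases hg : g ∈ conjAll (aSet M W₁ W₂)
    · exact Or.inl (hY g hg)
    · exact Or.inr (indFun_eq_zero_of (h.supp_of_kin h0 h1) hg)
  have hoff : ∀ Φ : ↥M → ℂ, Φ ∈ inducedIrrAbove (kin M) ⊥ → ∀ x, x ∉ kin M → Φ x = 0 := by
    intro Φ hΦ x hx
    obtain ⟨θ, -, rfl⟩ := OddChars.mem_inducedIrrAbove.1 hΦ
    exact indFun_apply_of_normal _ θ hx
  have hζoff := hoff ζ hE.base.mem
  refine ⟨?_, fun ψ hψ => ?_, fun Φ hΦ => ?_⟩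
  · refine hkey _ (fun x hx => ?_) ?_
    · rw [Pi.sub_apply, indFun_apply_of_normal _ _ hx, hζoff x hx, sub_zero]
    · rw [Pi.sub_apply, indFun_apply_one, h.index_kin, hE.base.one, mul_one, sub_self]
  · refine hkey _ (fun x hx => ?_) ?_
    · simp [testFn, hζoff x hx, hoff _ (h.col_mem hμ hη hψ) x hx]
    · simp only [testFn, Pi.sub_apply, Pi.smul_apply, smul_eq_mul, hE.base.one, colSum,
        Finset.sum_apply, hμ.deg, Finset.sum_const, Finset.card_univ, nsmul_eq_mul,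
        card_left h.selfNorm]
      ring
  · obtain ⟨hmem, hirr, hdeg⟩ := hE.mem Φ hΦ
    refine ⟨hkey _ (fun x hx => ?_) ?_, ?_⟩
    · simp [testFn, hζoff x hx, hoff _ hmem x hx]
    · simp only [testFn, Pi.sub_apply, Pi.smul_apply, smul_eq_mul, hE.base.one, hdeg]
      ring
    · refine isGeneralized_sub ?_ (isGeneralized_indFun M (isGeneralized_sub ?_
        (isGeneralized_of_isCharacter (IsIrr.isCharacter hirr))))
      · simpa using isGeneralized_intCast_smul (degN W₁ Φ : ℤ) hE.base.sirr.isGeneralized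
      · simpa using isGeneralized_intCast_smul (degN W₁ Φ : ℤ)
          (isGeneralized_of_isCharacter (IsIrr.isCharacter hE.base.irr))

/-- What the norm of `Y` has to accommodate. -/
theorem over_bound {Y F₀ : G → ℂ} {N : ℕ} (hYg : IsGeneralizedCharacter G Y)
    (hF₀ : IsGeneralizedCharacter G F₀)
    (hYn : classInner Y Y = ((N : ℤ) + 1 : ℤ)) (hY1 : classInner Y (fun _ => 1) = 1)
    (hreal : conjFun (Y + F₀) = Y + F₀) (hperp : ∀ ω, classInner F₀ (η ω) = 0)
    (hYA : ∀ g ∈ conjAll (aSet M W₁ W₂), Y g = 0) :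
    (Nat.card W₂ - 1 : ℤ) * (4 * Nat.card W₁ - 3) + 1 ≤ N ∧
      3 * Nat.card W₁ + 2 * Nat.card ↥⁅M, M⁆ ≤ 3 * (Nat.card W₁ * N) := by
  obtain ⟨ζ, χ, T, hE⟩ := h.exists_exact hμ hη
  obtain ⟨tY, tC, tP⟩ := h.test_spec hμ hη hE hYA
  have hW := h.selfNorm
  have hgen : ∀ ω, IsGeneralizedCharacter G (η ω) := eta_isGeneralized hη
  choose a ha using fun φ : Left W₁ W₂ => classInner_generalized_int hYg (hgen φ.1)
  choose b hb using fun ψ : Right W₁ W₂ => classInner_generalized_int hYg (hgen ψ.1)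
  have ha1 : a leftOne = 1 := by
    have := ha leftOne
    rw [show (leftOne : Left W₁ W₂).1 = 1 from rfl, hη.map_one, hY1] at this
    exact_mod_cast this.symm
  have hb1 : b rightOne = 1 := by
    have := hb rightOne
    rw [show (rightOne : Right W₁ W₂).1 = 1 from rfl, hη.map_one, hY1] at this
    exact_mod_cast this.symm
  have hgrid : ∀ φ ψ, classInner Y (η (φ.1 * ψ.1)) = ((a φ + b ψ - 1 : ℤ) : ℂ) := fun φ ψ => by
    rw [eta_coeff hη (IsGen.isClassFunction hYg) (fun w hw =>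
      hYA w ⟨1, w, h.vSet_subset hw, by group⟩), ha, hb, hY1]
    push_cast; ring
  -- `g = Σ a` is odd
  set g := ∑ φ, a φ with hg
  have hg0 : g ≠ 0 := by
    have hinv : ∀ φ : Left W₁ W₂, a (leftInv φ) = a φ := fun φ => by
      have e1 : classInner (Y + F₀) (η φ.1) = (a φ : ℂ) := by
        rw [classInner_add_left, ha, hperp, add_zero]
      have e2 : classInner (conjFun (Y + F₀)) (conjFun (η φ.1)) = (a φ : ℂ) := by
        rw [Coherence.classInner_conjFun, ← classInner_conj_symm, e1, map_intCast]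
      rw [hreal, eta_conj hW h.oddW hη, show φ.1⁻¹ = (leftInv φ).1 from rfl,
        classInner_add_left, ha, hperp, add_zero] at e2
      exact_mod_cast e2
    have hev : ((∑ φ ∈ Finset.univ.erase (leftOne : Left W₁ W₂), a φ : ℤ) : ZMod 2) = 0 := by
      rw [Int.cast_sum]
      refine Finset.sum_involution (fun φ _ => leftInv φ) (fun φ _ => ?_) (fun φ hφ _ e => ?_)
        (fun φ hφ => ?_) (fun φ _ => ?_)
      · rw [hinv]; exact CharTwo.add_self_eq_zero _
      · exact hom_inv_ne h.oddG (fun e' => (Finset.mem_erase.1 hφ).1 (Subtype.ext e'))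
          (congrArg Subtype.val e)
      · refine Finset.mem_erase.2 ⟨fun e => (Finset.mem_erase.1 hφ).1 ?_, Finset.mem_univ _⟩
        apply Subtype.ext
        have e' : φ.1⁻¹ = 1 := congrArg Subtype.val e
        exact MonoidHom.ext fun w => inv_eq_one.1 (DFunLike.congr_fun e' w)
      · exact Subtype.ext (inv_inv φ.1)
    obtain ⟨k, hk⟩ := (ZMod.intCast_zmod_eq_zero_iff_dvd _ 2).1 hev
    rw [hg, ← Finset.add_sum_erase _ _ (Finset.mem_univ leftOne), ha1, hk]
    push_cast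
    omega
  have hg2 : 1 ≤ g ^ 2 := by have := sq_pos_of_ne_zero hg0; omega
  have he : (3 : ℤ) ≤ Nat.card W₁ := by exact_mod_cast h.card_W₁_three
  have hcol0 : classInner Y (colSum η (rightOne : Right W₁ W₂)) = (g : ℂ) := by
    rw [colSum, classInner_sum_right, hg, Int.cast_sum]
    exact Finset.sum_congr rfl fun φ _ => by rw [hgrid, hb1]; push_cast; ring
  have hYχ : classInner Y χ = (g : ℂ) := by
    rw [hE.caseA, classInner_sub_right, hcol0] at tY
    linear_combination -tY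
  have hA : g ^ 2 ≤ (Nat.card W₁ : ℤ) * ∑ φ, a φ ^ 2 := by
    have := sq_sum_le_card_mul_sum_sq (s := (Finset.univ : Finset (Left W₁ W₂))) (f := a)
    rwa [Finset.card_univ, card_left hW] at this
  have hA1 : 1 ≤ ∑ φ, a φ ^ 2 := by
    have := Finset.single_le_sum (f := fun φ => a φ ^ 2) (fun φ _ => sq_nonneg _)
      (Finset.mem_univ (leftOne : Left W₁ W₂))
    simpa [ha1] using this
  -- the columns
  have hcost : ∀ ψ : Right W₁ W₂, ψ.1 ≠ 1 →
      4 * (Nat.card W₁ : ℤ) - 3 ≤ ∑ φ, (a φ + b ψ - 1) ^ 2 ∧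
        (d ψ : ℤ) ^ 2 ≤ (Nat.card W₁ : ℤ) * ∑ φ, (a φ + b ψ - 1) ^ 2 := by
    intro ψ hψ
    obtain ⟨n, hn⟩ := hμ.deg_mod ψ
    have hd := h.d_ge hμ hψ
    have hsum : classInner Y (colSum η ψ) = ((g + Nat.card W₁ * (b ψ - 1) : ℤ) : ℂ) := by
      rw [colSum, classInner_sum_right, Finset.sum_congr rfl fun φ _ => hgrid φ ψ,
        ← Int.cast_sum]
      congr 1
      rw [show (fun φ => a φ + b ψ - 1) = fun φ => a φ + (b ψ - 1) from funext fun _ => by ring,
        Finset.sum_add_distrib, Finset.sum_const, Finset.card_univ, card_left hW, nsmul_eq_mul]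
    have t := tC ψ hψ
    rw [hE.col ψ hψ, classInner_sub_right, classInner_smul_right, classInner_smul_right,
      map_natCast, map_intCast, hYχ, hsum] at t
    have t' : (d ψ : ℤ) * g = δ ψ * (g + Nat.card W₁ * (b ψ - 1)) := by
      exact_mod_cast sub_eq_zero.1 t
    set x := b ψ - 1 with hx
    have hδ2 : δ ψ * δ ψ = 1 := by rcases hμ.sign ψ with e | e <;> rw [e] <;> norm_num
    have hxv : x = δ ψ * n * g := mul_left_cancel₀ (show (Nat.card W₁ : ℤ) ≠ 0 by omega)
      (by linear_combination (-δ ψ) * t' + δ ψ * g * hn +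
        (-(g + (Nat.card W₁ : ℤ) * x) + g) * hδ2)
    have hn2 : 2 ≤ n := by
      by_contra hlt
      rcases hμ.sign ψ with e | e <;> rw [e] at hn <;>
        nlinarith [mul_le_mul_of_nonneg_right (show n ≤ 1 by omega)
          (Int.natCast_nonneg (Nat.card W₁))]
    have hsh : ∑ φ, (a φ + b ψ - 1) ^ 2 =
        ∑ φ, a φ ^ 2 + 2 * x * g + (Nat.card W₁ : ℤ) * x ^ 2 := by
      rw [show (fun φ => (a φ + b ψ - 1) ^ 2) = fun φ => (a φ + x) ^ 2 from
        funext fun _ => by rw [hx]; ring, sum_shift_sq, card_left hW]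
    rw [hsh]
    constructor
    · have h1 : 4 * (Nat.card W₁ : ℤ) - 4 ≤
          g ^ 2 * (2 * δ ψ * n + (Nat.card W₁ : ℤ) * n ^ 2) := by
        have h2 : 4 * (Nat.card W₁ : ℤ) - 4 ≤ 2 * δ ψ * n + (Nat.card W₁ : ℤ) * n ^ 2 := by
          rcases hμ.sign ψ with e | e <;> rw [e] <;>
            nlinarith [mul_nonneg (mul_nonneg (show (0:ℤ) ≤ n - 2 by omega)
              (show (0:ℤ) ≤ n by omega)) (show (0:ℤ) ≤ (Nat.card W₁ : ℤ) - 1 by omega)]
        exact h2.trans (le_mul_of_one_le_left (by omega) hg2)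
      have h3 : (δ ψ * n * g) ^ 2 = n ^ 2 * g ^ 2 := by rw [mul_pow, mul_pow, sq (δ ψ), hδ2, one_mul]
      rw [hxv, h3]
      linarith
    · have h1 : ((d ψ : ℤ) * g) ^ 2 = (g + (Nat.card W₁ : ℤ) * x) ^ 2 := by
        rw [t', mul_pow, sq (δ ψ), hδ2, one_mul]
      have h2 : (d ψ : ℤ) ^ 2 ≤ ((d ψ : ℤ) * g) ^ 2 := by
        rw [mul_pow]; exact le_mul_of_one_le_right (sq_nonneg _) hg2
      rw [h1] at h2
      nlinarith
  -- the images of the members
  have hpsi : ∀ Φ : ↥T, classInner Y (psiFn W₁ ζ χ Φ.1) =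
      (((degN W₁ Φ.1 : ℤ) * g : ℤ) : ℂ) := fun Φ => by
    rw [psiFn, classInner_sub_right, classInner_smul_right, map_natCast, hYχ,
      (tP _ Φ.2).1, sub_zero]
    push_cast; rfl
  have hB := OddFinal.bessel hYg hYn
    (Sum.elim (fun x : Left W₁ W₂ × Right W₁ W₂ => η (x.1.1 * x.2.1))
      fun o : Option ↥T => o.elim χ fun Φ => psiFn W₁ ζ χ Φ.1)
    (by rintro (x | _ | Φ); exacts [hgen _, hE.base.sirr.isGeneralized, (tP _ Φ.2).2])
    (by rintro (x | _ | Φ); exacts [eta_norm hη _, hE.base.sirr.inner_self, hE.self _ Φ.2])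
    (by
      rintro (x | _ | Φ) (y | _ | Φ') hne
      · show classInner (η _) (η _) = 0
        rw [hη.orthonormal, if_neg fun e => hne (congrArg _ ((mulBij hW).1 e))]
      · exact inner_zero_symm (hE.base.orth _)
      · exact inner_zero_symm (hE.orth_eta _ Φ'.2 _)
      · exact hE.base.orth _
      · exact absurd rfl hne
      · exact inner_zero_symm (hE.orth_chi _ Φ'.2)
      · exact hE.orth_eta _ Φ.2 _
      · exact hE.orth_chi _ Φ.2
      · exact hE.orth _ Φ.2 _ Φ'.2 fun e => hne (by rw [Subtype.ext e]))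
    (Sum.elim (fun x => a x.1 + b x.2 - 1)
      fun o => o.elim g fun Φ => (degN W₁ Φ.1 : ℤ) * g)
    (by rintro (x | _ | Φ); exacts [hgrid _ _, hYχ, hpsi Φ])
  simp only [Fintype.sum_sum_type, Sum.elim_inl, Sum.elim_inr, Fintype.sum_option,
    Option.elim] at hB
  rw [Fintype.sum_prod_type, Finset.sum_comm,
    ← Finset.add_sum_erase _ _ (Finset.mem_univ rightOne),
    Finset.sum_congr rfl (g := fun φ => a φ ^ 2) fun φ _ => by rw [hb1]; ring] at hB
  set R : Finset (Right W₁ W₂) := Finset.univ.erase rightOne with hR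
  have hRne : ∀ ψ ∈ R, ψ.1 ≠ 1 := fun ψ hψ e => (Finset.mem_erase.1 hψ).1 (Subtype.ext e)
  have hRc : (R.card : ℤ) = (Nat.card W₂ : ℤ) - 1 := by
    rw [hR, Finset.card_erase_of_mem (Finset.mem_univ _), Finset.card_univ, card_right hW,
      Nat.cast_sub Nat.card_pos, Nat.cast_one]
  have hmem : ∀ Φ : ↥T, (degN W₁ Φ.1 : ℤ) ^ 2 ≤ ((degN W₁ Φ.1 : ℤ) * g) ^ 2 := fun Φ => by
    rw [mul_pow]; exact le_mul_of_one_le_right (sq_nonneg _) hg2
  have hT : (∑ Φ ∈ T, (degN W₁ Φ : ℤ) ^ 2) ≤ ∑ Φ : ↥T, ((degN W₁ Φ.1 : ℤ) * g) ^ 2 := by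
    rw [← Finset.sum_coe_sort T]
    exact Finset.sum_le_sum fun Φ _ => hmem Φ
  have hTnn : (0 : ℤ) ≤ ∑ Φ ∈ T, (degN W₁ Φ : ℤ) ^ 2 := Finset.sum_nonneg fun _ _ => sq_nonneg _
  constructor
  · have hs : ((Nat.card W₂ : ℤ) - 1) * (4 * Nat.card W₁ - 3) ≤
        ∑ ψ ∈ R, ∑ φ, (a φ + b ψ - 1) ^ 2 := by
      rw [← hRc, ← nsmul_eq_mul, ← Finset.sum_const]
      exact Finset.sum_le_sum fun ψ hψ => (hcost ψ (hRne ψ hψ)).1
    linarith
  · have hd : ∑ ψ ∈ R, (d ψ : ℤ) ^ 2 ≤
        (Nat.card W₁ : ℤ) * ∑ ψ ∈ R, ∑ φ, (a φ + b ψ - 1) ^ 2 := by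
      rw [Finset.mul_sum]
      exact Finset.sum_le_sum fun ψ hψ => (hcost ψ (hRne ψ hψ)).2
    have hl := hE.large
    rw [show (Finset.univ.filter fun ψ : Right W₁ W₂ => ψ.1 ≠ 1) = R by
      ext ψ; simp [hR, Subtype.ext_iff, rightOne]] at hl
    have hl' : (2 : ℤ) * Nat.card ↥⁅M, M⁆ ≤ 3 * ((Nat.card W₁ : ℤ) *
        (∑ Φ ∈ T, (degN W₁ Φ : ℤ) ^ 2) + ∑ ψ ∈ R, (d ψ : ℤ) ^ 2) := by exact_mod_cast hl
    have h5 := mul_le_mul_of_nonneg_left hB (show (0 : ℤ) ≤ Nat.card W₁ by omega)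
    have h6 := mul_le_mul_of_nonneg_left hT (show (0 : ℤ) ≤ Nat.card W₁ by omega)
    have h7 := mul_le_mul_of_nonneg_left hA1 (show (0 : ℤ) ≤ Nat.card W₁ by omega)
    have h8 := mul_le_mul_of_nonneg_left hg2 (show (0 : ℤ) ≤ Nat.card W₁ by omega)
    have : (3 : ℤ) * Nat.card W₁ + 2 * Nat.card ↥⁅M, M⁆ ≤ 3 * (Nat.card W₁ * N) := by linarith
    exact_mod_cast this

end Degen

/-- A member not of Type II has a non-trivial complement. -/
theorem not_degenerate (hG : IsMinSimpleOddOrder G) {S T W₁ W₂ U V : Subgroup G}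
    (hp : Pair S T W₁ W₂ U V) (hII : ¬ IsOfTypeII S) : U ≠ ⊥ := by
  intro hU
  have hTII := hp.someII.resolve_left hII
  have hsub := sharp_derived_subset hG hp.maxS hp.typeS hII
  have hd := hp.dataS
  have h : Degen S W₁ W₂ :=
    { oddG := hG.1
      maxM := hp.maxS
      nil := NotTwo.derived_nilpotent hG hp.maxS hd hII hU
      W₁_ne := hd.W₁_ne
      W₁_cyclic := hd.W₁_cyclic
      W₁_hall := hd.W₁_hall
      W₁_compl := hd.W₁_compl
      prime₂ := hp.prime_W₂_of_not_II hG hII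
      W₂_derived := hd.W₂_le.trans inf_le_right
      W₂_centralizer := hd.W₂_centralizer
      selfNorm := hd.selfNormalizing
      dade := (dade_side hG hp.maxS hp.typeS hd hsub le_normalizer_commutator).1 }
  obtain ⟨μ, δ, d, hμ⟩ := h.exists_chars
  obtain ⟨η, hη⟩ := CyclicTI.exists_family h.selfNorm h.oddW
  have hp' := hp.symm
  obtain ⟨L, hL, hNV⟩ := OddLocal.exists_coatom_ge_normalizer hG hp.maxT
    (TypeTwo.U_le hp.dataT) (TypeTwo.U_ne_bot hG hp.maxT hp.dataT hTII)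
  have hI := typeI_of_normalizer_le hG hp' hTII hL hNV
  obtain ⟨E, hE, hWE, hEc, hEM, hZ, hfree⟩ := exists_complement hG hp' hTII hL hNV
  have hidx := index_eq_card_compl hE
  have hK1 : sharp ⁅S, S⁆ ⊆ typeA1 S :=
    typeA_eq_typeA1 hG hp.maxS hp.typeS hII ▸ hsub
  have hdisj := disjoint_overSet_member hG hL hI hp.maxS hd hp.typeS hK1
  obtain ⟨ι, hιf, Y, F, n, i₀, i₁, hY⟩ := exists_overFamily hG hG.1 hL hI h.selfNorm hη
    (hdisj.mono_right fun v (hv : v ∈ vSet W₁ W₂) =>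
      (⟨1, v, Or.inr ⟨1, S.one_mem, v, hv, by group⟩, by group⟩ :
        v ∈ conjAll (sharp ⁅S, S⁆ ∪ conjIn S (vSet W₁ W₂))))
  obtain ⟨b1, b2⟩ := h.over_bound hμ hη hY.frame.gen hY.frame.gen₀ hY.frame.norm hY.frame.one
    hY.frame.real (hY.perp i₀) (fun g hg => hY.off g (Set.disjoint_right.1 hdisj hg))
  rw [hidx] at b1 b2
  by_cases hEK : E ≤ ⁅S, S⁆
  · haveI := h.nil
    haveI : Group.IsNilpotent E := Group.nilpotent_of_mulEquiv
      (subgroupOfEquivOfLe hEK : E.subgroupOf ⁅S, S⁆ ≃* E)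
    haveI := hZ
    have h1 := h.relIndex_cyclic_gt hEK inferInstance hWE
    have h2 := Coprime.card_mul_relIndex_of_le hEK
    have h3 : 2 * Nat.card W₁ * Nat.card E ≤ Nat.card ↥⁅S, S⁆ := by
      rw [← h2, mul_comm (Nat.card E)]; exact Nat.mul_le_mul_right _ h1.le
    have h4 : 0 < Nat.card W₁ := Nat.card_pos
    nlinarith
  · set K := fittingHallOf L with hK
    haveI : Group.IsNilpotent K := OddLocal.fittingHallOf_nilpotent L
    have hVK := U_le_kernel hG hp' hTII hL hNV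
    haveI : Nontrivial K := (nontrivial_iff_ne_bot K).2 fun e =>
      TypeTwo.U_ne_bot hG hp.maxT hp.dataT hTII (le_bot_iff.1 (e ▸ hVK))
    set C : Subgroup G := (center ↥K).map K.subtype with hC
    have hCK : C ≤ K := map_subtype_le _
    have hfpf : OddLocal.CN.FPF E C :=
      { abelian := ⟨⟨fun x y => by
          obtain ⟨x', hx, ex⟩ := x.2
          obtain ⟨y', -, ey⟩ := y.2
          apply Subtype.ext
          show (x : G) * y = y * x
          rw [← ex, ← ey]
          exact (congrArg Subtype.val (mem_center_iff.1 hx y')).symm⟩⟩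
        ne_bot := fun e => by
          rw [hC, map_eq_bot_iff_of_injective _ K.subtype_injective] at e
          refine Core.inf_center_ne_bot (G := ↥K) (N := ⊤) top_ne_bot ?_
          rw [top_inf_eq, e]
        norm := LocalStructure.le_normalizer_map_characteristic
          (hE.2.1.trans (OddLocal.le_normalizer_fittingHallOf L)) (center ↥K)
        cop := by
          refine (Nat.Coprime.coprime_dvd_right (card_dvd_of_le hCK) ?_)
          refine (Nat.Coprime.coprime_dvd_right ?_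
            (OddLocal.coprime_index_fittingHallOf hG hL)).symm
          refine ⟨L.index, Nat.eq_of_mul_eq_mul_left (Nat.card_pos (α := K)) ?_⟩
          rw [← mul_assoc, OddLocal.IsComplIn.card_mul hE, L.card_mul_index, K.card_mul_index]
        free := fun e he he1 => eq_bot_iff.2 fun x hx => mem_bot.2
          ((hfree e he x (hCK hx.1) (mem_centralizer_singleton_iff.1 hx.2).symm).resolve_left he1) }
    have h1 := h.card_compl_le hfpf hEM hWE hEK hEc
    have h2 := h.card_W₁_three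
    have h3 := h.card_W₂_three
    zify at h1 h2 h3
    nlinarith [mul_le_mul h2 h3 (by norm_num) (by omega)]

end Cfsg.Agent.OddFinal
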