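import Cfsg.Prelude.Def_OddOrder
import Cfsg.Agent.S1472
import Cfsg.Agent.S1546

/-!
# The end of the odd order theorem

`false_of_config_coprime`: the final configuration yields the field of Peterfalvi's Appendix C, hence `p ≤ q`.
`solvable_of_no_minSimple`: without minimal simple groups of odd order, odd order groups are solvable.
-/

set_option autoImplicit false
set_option linter.style.haveILetI false

namespace Cfsg.Agent.OddFinal

universe u

/-- Without minimal simple groups of odd order every group of odd order is solvable. -/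
theorem solvable_of_no_minSimple
    (h : ∀ (G : Type u) [Group G] [Finite G], Cfsg.IsMinSimpleOddOrder G → False)
    {G : Type u} [Group G] [Finite G] (hG : Odd (Nat.card G)) : Group.IsSolvable G := by
  obtain ⟨n, hn⟩ : ∃ n, Nat.card G = n := ⟨_, rfl⟩
  induction n using Nat.strong_induction_on generalizing G with
  | _ n IH =>
    by_contra hns
    subst hn
    have hsub : ∀ H : Subgroup G, H ≠ ⊤ → Group.IsSolvable H := fun H hH =>
      IH _ (lt_of_le_of_ne H.card_le_card_group fun e => hH (H.card_eq_iff_eq_top.1 e))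
        (hG.of_dvd_nat H.card_subgroup_dvd_card) rfl
    haveI : Nontrivial G := by
      by_contra hnt
      rw [not_nontrivial_iff_subsingleton] at hnt
      exact hns inferInstance
    refine h G ⟨hG, ⟨fun N hN => ?_⟩, fun hc => hns ?_, hsub⟩
    · by_contra hN'
      rw [not_or] at hN'
      obtain ⟨hN1, hN2⟩ := hN'
      haveI := hsub N hN2
      have h1 : 1 < Nat.card N := by
        rwa [Subgroup.one_lt_card_iff_ne_bot]
      have hq : Nat.card (G ⧸ N) < Nat.card G := by
        have h2 := N.card_eq_card_quotient_mul_card_subgroup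
        have h3 : 0 < Nat.card (G ⧸ N) := Nat.card_pos
        nlinarith
      haveI : Group.IsSolvable (G ⧸ N) := IH _ hq (hG.of_dvd_nat N.card_quotient_dvd_card) rfl
      exact hns (solvable_of_ker_le_range N.subtype (QuotientGroup.mk' N) (by simp))
    · haveI := hc
      exact isSolvable_of_comm fun a b => hc.is_comm.comm a b

variable {G : Type u} [Group G] [Finite G]

/-- Elements of a field of characteristic `p` with `a ^ p = a` lie in the prime field. -/
theorem exists_cast_of_pow_eq {F : Type u} [Field F] [Finite F] {p : ℕ} [Fact p.Prime] [Algebra (ZMod p) F] (a : F)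
    (h : a ^ p = a) : ∃ k : ZMod p, algebraMap (ZMod p) F k = a := by
  classical
  by_contra hc
  push Not at hc
  have hp : 1 < p := (Fact.out : p.Prime).one_lt
  have h0 : (Polynomial.X ^ p - Polynomial.X : Polynomial F) ≠ 0 := FiniteField.X_pow_card_sub_X_ne_zero F hp
  have h1 : insert a (Finset.univ.image (algebraMap (ZMod p) F)) ⊆
      (Polynomial.X ^ p - Polynomial.X : Polynomial F).roots.toFinset := by
    intro x hx
    rw [Multiset.mem_toFinset, Polynomial.mem_roots h0]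
    simp only [Polynomial.IsRoot.def, Polynomial.eval_sub, Polynomial.eval_pow, Polynomial.eval_X, sub_eq_zero]
    rcases Finset.mem_insert.1 hx with rfl | hx
    · exact h
    · obtain ⟨k, -, rfl⟩ := Finset.mem_image.1 hx
      rw [← map_pow, ZMod.pow_card]
  have h2 := (Finset.card_le_card h1).trans ((Multiset.toFinset_card_le _).trans (Polynomial.card_roots' _))
  rw [FiniteField.X_pow_card_sub_X_natDegree_eq F hp, Finset.card_insert_of_notMem (by simpa using hc),
    Finset.card_image_of_injective _ (algebraMap (ZMod p) F).injective, Finset.card_univ, ZMod.card] at h2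
  omega

/-- `le_of_config` in terms of a module isomorphic to `P`. -/
theorem le_of_module {p q : ℕ} [Fact p.Prime] [Fact q.Prime] (hA : Nat.Coprime ((p ^ q - 1) / (p - 1)) (p - 1))
    (P U W₂ Q : Subgroup G) {V : Type u} [AddCommGroup V] [Module (ZMod p) V] [Finite V] (hcardV : Nat.card V = p ^ q)
    (ι : V → P) (hι : Function.Bijective ι) (hadd : ∀ a b, (ι (a + b) : G) = ι a * ι b)
    (act : U → V →+ V) (hact : ∀ u v, (ι (act u v) : G) = u * ι v * (u : G)⁻¹)
    (hUP : U ≤ Subgroup.normalizer (P : Set G)) (hUab : IsMulCommutative U)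
    (hUcard : Nat.card U = (p ^ q - 1) / (p - 1)) (hfix' : ∀ u : U, u ≠ 1 → ∀ v : V, act u v = v → v = 0)
    (v₀ : V) (hv₀0 : v₀ ≠ 0) (hline : ∀ k : ZMod p, (ι (k • v₀) : G) ∈ W₂)
    (hQ : IsMulCommutative Q) (hQp : (Nat.card Q).Coprime p)
    (hW₂Q : W₂ ≤ Subgroup.normalizer (Q : Set G)) (y : G) (hy : y ∈ Q)
    (hyU : ∀ x ∈ W₂, y * x * y⁻¹ ∈ Subgroup.normalizer (U : Set G)) : p ≤ q := by
  classical
  have hp : p.Prime := Fact.out
  have hq : q.Prime := Fact.out
  let ρ : U →* Module.End (ZMod p) V :=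
    { toFun := fun u => (act u).toZModLinearMap p
      map_one' := LinearMap.ext fun v => hι.1 (Subtype.ext (by
        rw [AddMonoidHom.coe_toZModLinearMap, hact, Module.End.one_apply]; simp))
      map_mul' := fun a b => LinearMap.ext fun v => hι.1 (Subtype.ext (by
        rw [Module.End.mul_apply, AddMonoidHom.coe_toZModLinearMap, AddMonoidHom.coe_toZModLinearMap,
          AddMonoidHom.coe_toZModLinearMap, hact, hact, hact]
        simp [mul_assoc])) }
  have hρ : ∀ u v, (ι (ρ u v) : G) = u * ι v * (u : G)⁻¹ := fun u v => hact u v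
  have hfix : ∀ u : U, u ≠ 1 → ∀ v : V, ρ u v = v → v = 0 := fun u hu v hv => hfix' u hu v hv
  have hp1 : 1 < p := hp.one_lt
  have hN : Nat.card U * (p - 1) = p ^ q - 1 := by
    rw [hUcard, Nat.div_mul_cancel]
    simpa using Nat.sub_dvd_pow_sub_pow p 1 q
  -- irreducibility
  have hirr : ∀ W : Submodule (ZMod p) V, W ≠ ⊥ → (∀ u, ∀ v ∈ W, ρ u v ∈ W) → W = ⊤ := by
    intro W hW0 hWinv
    by_contra hWt
    obtain ⟨v, hv, hv0⟩ := W.ne_bot_iff.1 hW0
    have hinj : Function.Injective (fun u : Option U => u.elim (⟨0, W.zero_mem⟩ : W) fun u => ⟨ρ u v, hWinv u v hv⟩) := by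
      have hne : ∀ u, ρ u v ≠ 0 := fun u h => hv0 (by
        have := congrArg (ρ u⁻¹) h
        rwa [← Module.End.mul_apply, ← map_mul, inv_mul_cancel, map_one, map_zero, Module.End.one_apply] at this)
      rintro (_ | a) (_ | b) hab
      · rfl
      · exact absurd (congrArg Subtype.val hab).symm (hne b)
      · exact absurd (congrArg Subtype.val hab) (hne a)
      · refine congrArg some (inv_mul_eq_one.1 ?_).symm
        by_contra hu
        refine hv0 (hfix _ hu v ?_)
        rw [map_mul, Module.End.mul_apply]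
        have h1 : ρ a v = ρ b v := congrArg Subtype.val hab
        rw [h1, ← Module.End.mul_apply, ← map_mul, inv_mul_cancel, map_one, Module.End.one_apply]
    have h1 := Nat.card_le_card_of_injective _ hinj
    rw [Finite.card_option] at h1
    obtain ⟨k, hk, hk'⟩ := (Nat.dvd_prime_pow hp).1
      (hcardV ▸ W.toAddSubgroup.card_addSubgroup_dvd_card)
    have hkq : k < q := lt_of_le_of_ne hk fun e => hWt
      (Submodule.toAddSubgroup_injective (AddSubgroup.eq_top_of_card_eq _ (by rw [hk', hcardV, e])))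
    have h3 : Nat.card W * p ≤ p ^ q := by
      rw [show Nat.card W = p ^ k from hk', ← pow_succ]
      exact Nat.pow_le_pow_right hp.pos hkq
    have h4 : Nat.card U * (p - 1) + (p - 1) ≤ Nat.card W * (p - 1) := by
      rw [← Nat.succ_mul]
      exact Nat.mul_le_mul_right _ h1
    have h5 : 0 < p ^ q := pow_pos hp.pos q
    have h6 : 0 < Nat.card W := Nat.card_pos
    obtain ⟨m, rfl⟩ := Nat.exists_eq_add_of_le' hp1
    rw [show m + Nat.succ 1 - 1 = m + 1 by omega] at h4 hN
    have h7 : Nat.card W * (m + 1) + Nat.card W = Nat.card W * (m + Nat.succ 1) := by ring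
    omega
  -- the field
  let R : Subalgebra (ZMod p) (Module.End (ZMod p) V) := Algebra.adjoin (ZMod p) (Set.range ρ)
  have hgcom : ∀ a ∈ Set.range ρ, ∀ b ∈ Set.range ρ, a * b = b * a := by
    rintro _ ⟨a, rfl⟩ _ ⟨b, rfl⟩
    rw [← map_mul, hUab.is_comm.comm, map_mul]
  letI : CommRing R := { (inferInstance : Ring R) with
    mul_comm := fun a b => Subtype.ext (Algebra.commute_of_mem_adjoin_of_forall_mem_commute (s := Set.range ρ) b.2
      fun y hy => (Algebra.commute_of_mem_adjoin_of_forall_mem_commute (s := Set.range ρ) a.2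
        fun z hz => hgcom y hy z hz).symm) }
  have hρR : ∀ u, ρ u ∈ R := fun u => Algebra.subset_adjoin ⟨u, rfl⟩
  have hcomm : ∀ (r : R) u v, (r : Module.End (ZMod p) V) (ρ u v) = ρ u ((r : Module.End (ZMod p) V) v) :=
    fun r u v => LinearMap.congr_fun (congrArg Subtype.val (mul_comm r ⟨ρ u, hρR u⟩)) v
  have hker : ∀ r : R, r ≠ 0 → ∀ v, (r : Module.End (ZMod p) V) v = 0 → v = 0 := by
    intro r hr v hv
    by_contra hv0
    refine hr (Subtype.ext (LinearMap.ker_eq_top.1 (hirr _ ?_ fun u w hw => ?_)))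
    · exact fun e => hv0 (by simpa [e] using (LinearMap.mem_ker.2 hv : v ∈ LinearMap.ker (r : Module.End (ZMod p) V)))
    · rw [LinearMap.mem_ker, hcomm, LinearMap.mem_ker.1 hw, map_zero]
  haveI : Nontrivial V := Finite.one_lt_card_iff_nontrivial.1 (by rw [hcardV]; exact Nat.one_lt_pow hq.ne_zero hp1)
  haveI : Finite (Module.End (ZMod p) V) :=
    Finite.of_injective (fun g : Module.End (ZMod p) V => (g : V → V)) DFunLike.coe_injective
  haveI : Nontrivial R := ⟨0, 1, fun e => by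
    obtain ⟨v, hv⟩ := exists_ne (0 : V)
    exact hv (LinearMap.congr_fun (congrArg Subtype.val e) v).symm⟩
  haveI : NoZeroDivisors R := ⟨fun {a b} hab => by
    by_contra! hne
    obtain ⟨v, hv⟩ := exists_ne (0 : V)
    refine hv (hker b hne.2 v (hker a hne.1 _ ?_))
    exact LinearMap.congr_fun (congrArg Subtype.val hab) v⟩
  haveI : IsDomain R := NoZeroDivisors.to_isDomain R
  letI : Fintype R := Fintype.ofFinite R
  letI : Field R := Fintype.fieldOfDomain R
  let ev : R →ₗ[ZMod p] V :=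
    { toFun := fun r => (r : Module.End (ZMod p) V) v₀
      map_add' := fun _ _ => rfl
      map_smul' := fun _ _ => rfl }
  have hevi : Function.Injective ev := (injective_iff_map_eq_zero ev).2 fun r hr => by
    by_contra hr0
    exact hv₀0 (hker r hr0 v₀ hr)
  have hevs : Function.Surjective ev := LinearMap.range_eq_top.1 (hirr _ (fun e => hv₀0 (by
      have h1 : v₀ ∈ LinearMap.range ev := ⟨1, rfl⟩
      simpa [e] using h1)) (by
      rintro u _ ⟨r, rfl⟩
      exact ⟨⟨ρ u, hρR u⟩ * r, rfl⟩))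
  let e := LinearEquiv.ofBijective ev ⟨hevi, hevs⟩
  have hcardR : Fintype.card R = p ^ q := by
    rw [← Nat.card_eq_fintype_card, Nat.card_congr e.toEquiv, hcardV]
  let ι' := Equiv.ofBijective ι hι
  let f : G → R := fun x => if hx : x ∈ P then e.symm (ι'.symm ⟨x, hx⟩) else 0
  let ψ : G → R := fun x => if hx : x ∈ U then ⟨ρ ⟨x, hx⟩, hρR _⟩ else 0
  have hf : ∀ x (hx : x ∈ P), f x = e.symm (ι'.symm ⟨x, hx⟩) := fun x hx => dif_pos hx
  have hψ : ∀ u (hu : u ∈ U), ψ u = ⟨ρ ⟨u, hu⟩, hρR _⟩ := fun u hu => dif_pos hu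
  have hι' : ∀ v (h : (ι v : G) ∈ P), ι'.symm ⟨ι v, h⟩ = v := fun v h => ι'.symm_apply_apply v
  have hPf : ∀ x, x ∈ P → f x ^ p = f x → x ∈ W₂ := by
    intro x hx hfx
    obtain ⟨k, hk⟩ := exists_cast_of_pow_eq (f x) hfx
    have h1 : ι'.symm ⟨x, hx⟩ = k • v₀ := by
      rw [← e.apply_symm_apply (ι'.symm ⟨x, hx⟩), ← hf x hx, ← hk, Algebra.algebraMap_eq_smul_one, map_smul]
      rfl
    have h2 : (ι (k • v₀) : G) = x := by
      rw [← h1]
      exact congrArg Subtype.val (ι'.apply_symm_apply ⟨x, hx⟩)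
    rw [← h2]
    exact hline k
  refine Cfsg.Agent.S1472.result p q hA R hcardR P U Q f ψ ⟨fun _ _ => trivial, ?_, ?_⟩ ?_ hUP ?_ ?_ ?_ hN hQ hQp
    (fun x hx hfx => hW₂Q (hPf x hx hfx)) y hy (fun x hx hfx => hyU x (hPf x hx hfx))
  · intro a ha b hb hab
    rw [hf a ha, hf b hb] at hab
    exact congrArg Subtype.val (ι'.symm.injective (e.symm.injective hab))
  · intro r _
    refine ⟨ι (e r), (ι (e r)).2, ?_⟩
    rw [hf _ (ι (e r)).2, hι']
    exact e.symm_apply_apply r
  · intro a ha b hb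
    rw [hf a ha, hf b hb, hf _ (mul_mem ha hb), ← map_add]
    refine congrArg e.symm (hι.1 (Subtype.ext ?_))
    rw [hadd]
    simp only [ι', Equiv.ofBijective_apply_symm_apply]
  · intro u hu
    refine ⟨fun h0 => ?_, fun x hx => ?_⟩
    · rw [hψ u hu] at h0
      have h1 := congrArg Subtype.val h0
      have h2 : ρ ⟨u, hu⟩⁻¹ * ρ ⟨u, hu⟩ = 1 := by rw [← map_mul, inv_mul_cancel, map_one]
      rw [show ρ ⟨u, hu⟩ = 0 from h1, mul_zero] at h2
      exact one_ne_zero (α := Module.End (ZMod p) V) h2.symm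
    · rw [hf x hx, hf _ ((Subgroup.mem_normalizer_iff.1 (hUP hu) x).1 hx), hψ u hu, e.symm_apply_eq]
      show _ = ρ ⟨u, hu⟩ (e (e.symm (ι'.symm ⟨x, hx⟩)))
      rw [e.apply_symm_apply]
      refine hι.1 (Subtype.ext ?_)
      rw [hρ]
      simp only [ι', Equiv.ofBijective_apply_symm_apply]
  · intro a ha b hb
    rw [hψ a ha, hψ b hb, hψ _ (mul_mem ha hb)]
    exact Subtype.ext (map_mul ρ ⟨a, ha⟩ ⟨b, hb⟩)
  · intro a ha b hb hab
    rw [hψ a ha, hψ b hb] at hab
    have h1 : ρ ⟨a, ha⟩ = ρ ⟨b, hb⟩ := congrArg Subtype.val hab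
    by_contra hne
    obtain ⟨v, hv⟩ := exists_ne (0 : V)
    refine hv (hfix ((⟨b, hb⟩ : U)⁻¹ * ⟨a, ha⟩) (fun e => hne ?_) v ?_)
    · exact (congrArg Subtype.val (inv_mul_eq_one.1 e)).symm
    · rw [map_mul, h1, ← map_mul, inv_mul_cancel, map_one]
      rfl

/-- The final configuration: an abelian `U` of order `(p^q - 1)/(p - 1)` acting fixed point freely on an elementary
abelian `P` of order `p^q`, a line `W₂ ≤ P` normalising an abelian `p'`-subgroup `Q`, and `y ∈ Q` carrying `W₂` into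
the normaliser of `U`. -/
theorem le_of_config {p q : ℕ} (hp : p.Prime) (hq : q.Prime) (hA : Nat.Coprime ((p ^ q - 1) / (p - 1)) (p - 1))
    (P U W₂ Q : Subgroup G) (hPab : IsMulCommutative P) (hPexp : ∀ x ∈ P, x ^ p = 1) (hPcard : Nat.card P = p ^ q)
    (hUP : U ≤ Subgroup.normalizer (P : Set G)) (hUab : IsMulCommutative U)
    (hUcard : Nat.card U = (p ^ q - 1) / (p - 1)) (hfpf : ∀ u ∈ U, u ≠ 1 → ∀ x ∈ P, u * x * u⁻¹ = x → x = 1)
    (hW₂P : W₂ ≤ P) (hW₂ : Nat.card W₂ = p) (hQ : IsMulCommutative Q) (hQp : (Nat.card Q).Coprime p)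
    (hW₂Q : W₂ ≤ Subgroup.normalizer (Q : Set G)) (y : G) (hy : y ∈ Q)
    (hyU : ∀ x ∈ W₂, y * x * y⁻¹ ∈ Subgroup.normalizer (U : Set G)) : p ≤ q := by
  classical
  haveI : Fact p.Prime := ⟨hp⟩
  haveI : Fact q.Prime := ⟨hq⟩
  obtain ⟨x₀, hx₀, hx₀1⟩ : ∃ x ∈ W₂, x ≠ 1 := by
    refine (W₂.bot_or_exists_ne_one).resolve_left ?_
    rw [← ne_eq, ← Subgroup.one_lt_card_iff_ne_bot, hW₂]
    exact hp.one_lt
  letI : CommGroup P := { (inferInstance : Group P) with mul_comm := hPab.is_comm.comm }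
  letI mod : Module (ZMod p) (Additive P) := AddCommGroup.zmodModule fun x => by
    show Additive.ofMul (x.toMul ^ p) = 0
    rw [show x.toMul ^ p = 1 from Subtype.ext (hPexp _ x.toMul.2)]
    rfl
  have hmem : ∀ (u : U) (x : P), (u : G) * x * (u : G)⁻¹ ∈ P := fun u x =>
    (Subgroup.mem_normalizer_iff.1 (hUP u.2) x).1 x.2
  let act : U → Additive P →+ Additive P := fun u =>
    AddMonoidHom.mk' (fun v : Additive P => Additive.ofMul (⟨u * (v.toMul : P) * (u : G)⁻¹, hmem u _⟩ : P))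
      fun a b => congrArg Additive.ofMul (Subtype.ext (by
        show (u : G) * ((a.toMul : P) * (b.toMul : P) : G) * (u : G)⁻¹ =
          (u * (a.toMul : P) * (u : G)⁻¹ : G) * ((u : G) * (b.toMul : P) * (u : G)⁻¹)
        group))
  refine @le_of_module _ _ _ p q _ _ hA P U W₂ Q (Additive P) _ mod _ hPcard Additive.toMul Additive.toMul.bijective
    (fun a b => rfl) act (fun u v => rfl) hUP hUab hUcard ?_ (Additive.ofMul ⟨x₀, hW₂P hx₀⟩)
    (fun e => hx₀1 (congrArg (fun z : Additive P => ((z.toMul : P) : G)) e)) ?_ hQ hQp hW₂Q y hy hyU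
  · exact fun u hu v hv => congrArg Additive.ofMul (Subtype.ext (hfpf u u.2 (fun e => hu (Subtype.ext e)) _
      (v.toMul : P).2 (congrArg (fun z : Additive P => ((z.toMul : P) : G)) hv)))
  · intro k
    rw [← ZMod.natCast_zmod_val k, Nat.cast_smul_eq_nsmul, toMul_nsmul]
    exact pow_mem hx₀ _

/-- A group of prime order `q` acting fixed point freely on a subgroup makes its order prime to `q`. -/
theorem not_dvd_card_of_fpf {q : ℕ} (hq : q.Prime) (U W₁ : Subgroup G) (hW₁ : Nat.card W₁ = q)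
    (hW₁U : W₁ ≤ Subgroup.normalizer (U : Set G)) (hfpf : U ⊓ Subgroup.centralizer (W₁ : Set G) = ⊥) :
    ¬ q ∣ Nat.card U := by
  classical
  haveI : Fact q.Prime := ⟨hq⟩
  intro hdvd
  letI : MulAction W₁ U :=
    { smul := fun w u => ⟨w * u * (w : G)⁻¹, (Subgroup.mem_normalizer_iff.1 (hW₁U w.2) u).1 u.2⟩
      one_smul := fun u => Subtype.ext (by show (1 : G) * u * (1 : G)⁻¹ = u; group)
      mul_smul := fun a b u => Subtype.ext (by
        show ((a : G) * b) * u * ((a : G) * b)⁻¹ = a * (b * u * (b : G)⁻¹) * (a : G)⁻¹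
        group) }
  have hpg : IsPGroup q W₁ := IsPGroup.of_card (n := 1) (by rw [pow_one, hW₁])
  have h1 : (1 : U) ∈ MulAction.fixedPoints W₁ U := fun w => Subtype.ext (by
    show (w : G) * (1 : G) * (w : G)⁻¹ = 1; group)
  obtain ⟨b, hb, hb1⟩ := hpg.exists_fixed_point_of_prime_dvd_card_of_fixed_point U hdvd h1
  have h2 : (b : G) ∈ U ⊓ Subgroup.centralizer (W₁ : Set G) := by
    refine ⟨b.2, Subgroup.mem_centralizer_iff.2 fun w hw => ?_⟩
    have h3 : w * b * w⁻¹ = b := congrArg Subtype.val (hb ⟨w, hw⟩)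
    exact mul_inv_eq_iff_eq_mul.1 h3
  rw [hfpf, Subgroup.mem_bot] at h2
  exact hb1 (Subtype.ext h2.symm)

/-- The final contradiction (`F1`): as `le_of_config`, with `W₁` of order `q < p` fixed point free on `U`. -/
theorem false_of_config (hodd : Odd (Nat.card G)) {p q : ℕ} (hp : p.Prime) (hq : q.Prime) (hqp : q < p)
    (P U W₁ W₂ Q : Subgroup G) (hPab : IsMulCommutative P) (hPexp : ∀ x ∈ P, x ^ p = 1) (hPcard : Nat.card P = p ^ q)
    (hUP : U ≤ Subgroup.normalizer (P : Set G)) (hUab : IsMulCommutative U)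
    (hUcard : Nat.card U = (p ^ q - 1) / (p - 1)) (hfpf : ∀ u ∈ U, u ≠ 1 → ∀ x ∈ P, u * x * u⁻¹ = x → x = 1)
    (hW₁ : Nat.card W₁ = q) (hW₁U : W₁ ≤ Subgroup.normalizer (U : Set G))
    (hUW₁ : U ⊓ Subgroup.centralizer (W₁ : Set G) = ⊥)
    (hW₂P : W₂ ≤ P) (hW₂ : Nat.card W₂ = p) (hQ : IsMulCommutative Q) (hQp : (Nat.card Q).Coprime p)
    (hW₂Q : W₂ ≤ Subgroup.normalizer (Q : Set G)) (y : G) (hy : y ∈ Q)
    (hyU : ∀ x ∈ W₂, y * x * y⁻¹ ∈ Subgroup.normalizer (U : Set G)) : False := by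
  have h2 : ∀ r : ℕ, r.Prime → r ∣ Nat.card G → r ≠ 2 := fun r _ hr e => by
    subst e
    exact Nat.not_even_iff_odd.2 hodd (even_iff_two_dvd.2 hr)
  have hp2 : p ≠ 2 := h2 p hp (hW₂ ▸ W₂.card_subgroup_dvd_card)
  have hq2 : q ≠ 2 := h2 q hq (hW₁ ▸ W₁.card_subgroup_dvd_card)
  obtain ⟨-, hdiv, hcop⟩ := Cfsg.Agent.S1546.result p q hp hq hp2 hq2
  have hnd := not_dvd_card_of_fpf hq U W₁ hW₁ hW₁U hUW₁
  have hne : p % q ≠ 1 := fun h => hnd (hUcard ▸ hdiv h)
  have := le_of_config hp hq (hcop hne).1 P U W₂ Q hPab hPexp hPcard hUP hUab hUcard hfpf hW₂P hW₂ hQ hQp hW₂Q y hy hyU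
  omega

end Cfsg.Agent.OddFinal
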