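import Cfsg.Agent.OddFinal.Assembly
import Cfsg.Agent.OddFinal.DegenerateFinal
import Cfsg.Agent.OddFinal.Final

/-!
# There is no minimal simple group of odd order
-/

set_option autoImplicit false

namespace Cfsg.Agent.OddFinal

open Cfsg
open scoped _root_.Classical

universe u

theorem nonDegenerate {G : Type u} [Group G] [Fintype G] (hG : IsMinSimpleOddOrder G) :
    NonDegenerate G := fun S _ _ _ _ _ h hII =>
  haveI := Fintype.ofFinite ↥S
  not_degenerate hG h hII

/-- There is no minimal simple group of odd order. -/
theorem no_minSimple {G : Type u} [Group G] [Finite G] (hG : IsMinSimpleOddOrder G) : False := by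
  haveI := Fintype.ofFinite G
  exact false_of_nonDegenerate hG (nonDegenerate hG)

end Cfsg.Agent.OddFinal
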