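import Cfsg.Agent.OddFinal.KitExists
import Cfsg.Agent.OddFinal.NotTwo

/-!
# The chief factor gives the frame, hence the kit

With `K = H C` and `K₀ = H₀ C` the factor `K / K₀` is abelian and meets the image of `W₂`
faithfully, so every character of `W₂` extends invariantly to `K`; an invariant character is
trivial on `H₀` and on `C`, as `W₁` fixes no nontrivial point of either, and its stabiliser is
`C` on `U` by irreducibility.
-/

set_option autoImplicit false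
set_option linter.unusedSectionVars false

namespace Cfsg.Agent.OddFinal

open Subgroup Cfsg CyclicTI
open scoped _root_.Classical

universe u

/-- An invariant character is trivial on an invariant subgroup meeting `W₂` trivially. -/
theorem Fixed.apply_eq_one_of_inf {L : Type u} [Group L] [Finite L] {N K W₁ W₂ : Subgroup L}
    [K.Normal] (hP : PrimePair N W₁ W₂) (hKN : K ≤ N) {D : Subgroup L} (hDK : D ≤ K)
    (hb : W₂ ⊓ D = ⊥) {a : L} (ha : a ∈ W₁) (ha1 : a ≠ 1) (hn : ∀ x ∈ D, a * x * a⁻¹ ∈ D)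
    {g : ↥K →* ℂˣ} (hg : Fixed.Inv W₁ g) {x : L} (hx : x ∈ D) : g ⟨x, hDK hx⟩ = 1 := by
  let F : ↥D → ↥D := fun k => ⟨(k : L)⁻¹ * (a * k * a⁻¹), D.mul_mem (D.inv_mem k.2) (hn k k.2)⟩
  have hinj : Function.Injective F := by
    rintro ⟨k, hk⟩ ⟨l, hl⟩ e
    have e1 : k⁻¹ * (a * k * a⁻¹) = l⁻¹ * (a * l * a⁻¹) := congrArg Subtype.val e
    have h1 : a * (k * l⁻¹) = k * l⁻¹ * a := by
      calc a * (k * l⁻¹) = k * (k⁻¹ * (a * k * a⁻¹)) * (a * l⁻¹) := by group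
        _ = k * (l⁻¹ * (a * l * a⁻¹)) * (a * l⁻¹) := by rw [e1]
        _ = k * l⁻¹ * a := by group
    have h2 : k * l⁻¹ ∈ W₂ ⊓ D := by
      refine ⟨?_, D.mul_mem hk (D.inv_mem hl)⟩
      rw [← hP.cent a ha ha1]
      exact ⟨hKN (hDK (D.mul_mem hk (D.inv_mem hl))), mem_centralizer_singleton_iff.2 h1.symm⟩
    rw [hb, mem_bot, mul_inv_eq_one] at h2
    exact Subtype.ext h2
  obtain ⟨⟨k, hk⟩, e⟩ := (Finite.injective_iff_surjective.1 hinj) ⟨x, hx⟩
  have e1 : k⁻¹ * (a * k * a⁻¹) = x := congrArg Subtype.val e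
  have h2 : g ⟨a * k * a⁻¹, hDK (hn k hk)⟩ = g ⟨k, hDK hk⟩ := by
    have h3 := DFunLike.congr_fun (hg a ha) ⟨a * k * a⁻¹, hDK (hn k hk)⟩
    rw [Fixed.cj_apply] at h3
    refine h3.symm.trans (congrArg g (Subtype.ext ?_))
    simp only
    group
  rw [show (⟨x, hDK hx⟩ : ↥K) = (⟨k, hDK hk⟩ : ↥K)⁻¹ * ⟨a * k * a⁻¹, hDK (hn k hk)⟩ from
    Subtype.ext e1.symm, map_mul, map_inv, h2, inv_mul_cancel]

variable {G : Type u} [Group G] [Fintype G] {M W₁ U W₂ H₀ : Subgroup G}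

variable (hG : IsMinSimpleOddOrder G) (hM : IsCoatom M) (hd : IsTypePWith M W₁ U W₂)
include hG hd

/-- The pair inside a member of type `P`. -/
theorem pair_of_typeP :
    PrimePair (⁅M, M⁆.subgroupOf M) (W₁.subgroupOf M) (W₂.subgroupOf M) := by
  have h1 : W₁ ≤ M := TypeTwo.W₁_le hd
  have hD : ⁅M, M⁆ ≤ M := Subgroup.commutator_le_self M
  have h2 : W₂ ≤ M := (W₂_le_derived hd).trans hD
  obtain ⟨hne₁, hne₂, -, -, hcyc, -⟩ := hd.selfNormalizing
  refine ⟨?_, ?_, ?_, ?_, ?_, ?_, ?_, ?_, ?_, ?_⟩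
  · ext x
    simp only [mem_inf, mem_subgroupOf, mem_bot]
    constructor
    · rintro ⟨hx, hx'⟩
      have h3 : (x : G) ∈ ⁅M, M⁆ ⊓ W₁ := ⟨hx, hx'⟩
      rw [hd.W₁_compl.2.2.1, mem_bot] at h3
      exact Subtype.ext h3
    · rintro rfl
      exact ⟨one_mem _, one_mem _⟩
  · refine eq_top_iff.2 fun x _ => ?_
    obtain ⟨a, ha, b, hb, e⟩ := hd.W₁_compl.2.2.2 x x.2
    rw [show x = (⟨a, hD ha⟩ : ↥M) * ⟨b, h1 hb⟩ from Subtype.ext e]
    exact mul_mem_sup ha hb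
  · intro e
    rw [Subgroup.subgroupOf_eq_bot, disjoint_iff, inf_eq_left.2 h1] at e
    exact hne₁ e
  · have := hd.W₁_cyclic
    exact isCyclic_of_surjective _ (Subgroup.subgroupOfEquivOfLe h1).symm.surjective
  · rw [Nat.card_congr (Subgroup.subgroupOfEquivOfLe h1).toEquiv]
    exact hd.W₁_hall
  · intro e
    rw [Subgroup.subgroupOf_eq_bot, disjoint_iff, inf_eq_left.2 h2] at e
    exact hne₂ e
  · have : IsCyclic ↥W₂ :=
      isCyclic_of_injective _ (Subgroup.inclusion_injective (le_sup_right : W₂ ≤ W₁ ⊔ W₂))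
    exact isCyclic_of_surjective _ (Subgroup.subgroupOfEquivOfLe h2).symm.surjective
  · exact fun x hx => W₂_le_derived hd hx
  · intro x hx hx1
    have hc := hd.W₂_centralizer x hx (fun e => hx1 (Subtype.ext e))
    ext y
    simp only [Subgroup.mem_inf, Subgroup.mem_subgroupOf, ← hc,
      Subgroup.mem_centralizer_singleton_iff, Subtype.ext_iff, Subgroup.coe_mul]
  · exact hG.1.of_dvd_nat (((Subgroup.card_subgroup_dvd_card _).trans
      (Subgroup.card_subgroup_dvd_card M)))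

variable (hc : Chief M W₁ U W₂ H₀)
include hc

/-- The kernel is normal in the member. -/
theorem kerK_normal : ((kerK M U H₀).subgroupOf M).Normal :=
  (Subgroup.normal_subgroupOf_iff_le_normalizer
    ((hc.kernel_facts hd).2.2.2.1.trans (Subgroup.commutator_le_self M))).2 (hc.kernel_facts hd).1

/-- `H₀ C` is normal in the member. -/
theorem bottom_normal : ((H₀ ⊔ cKer M U H₀).subgroupOf M).Normal := by
  set H := fittingHallOf M with hH
  set C := cKer M U H₀ with hC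
  have hUW₀ := hc.sup_le_normalizer₀ hd
  have hCn : C ≤ normalizer (H₀ : Set G) :=
    (inf_le_left.trans le_sup_left).trans hUW₀
  have hle : H₀ ⊔ C ≤ M :=
    sup_le ((hc.le.trans hd.U_compl.1).trans (Subgroup.commutator_le_self M))
      (inf_le_left.trans (TypeTwo.U_le hd))
  refine (Subgroup.normal_subgroupOf_iff_le_normalizer hle).2 ?_
  intro g hg
  obtain ⟨d, hd', b, hb, rfl⟩ := hd.W₁_compl.2.2.2 g hg
  obtain ⟨h, hh, v, hv, rfl⟩ := hd.U_compl.2.2.2 d hd'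
  have hUW : ∀ z ∈ U ⊔ W₁, z ∈ normalizer ((H₀ ⊔ C : Subgroup G) : Set G) :=
    fun z hz => (Coprime.le_normalizer_sup hUW₀ (hc.sup_le_normalizer_C hd)) hz
  refine mul_mem (mul_mem ?_ (hUW v (mem_sup_left hv))) (hUW b (mem_sup_right hb))
  refine TypeTwo.mem_normalizer_of_conj_mem fun x hx => ?_
  obtain ⟨a, ha, c, hc', rfl⟩ := (Coprime.mem_sup_of_le_normalizer hCn).1 hx
  have h1 : h * a * h⁻¹ ∈ H₀ :=
    (mem_normalizer_iff.1 (hc.normal ((hd.U_compl.1.trans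
      (Subgroup.commutator_le_self M)) hh)) a).1 ha
  have h2 : h * c * h⁻¹ * c⁻¹ ∈ H₀ := by
    have := inv_mem ((mem_modCent.1 (mem_inf.1 hc').2).2.2 h hh)
    rwa [show (c * h * c⁻¹ * h⁻¹)⁻¹ = h * c * h⁻¹ * c⁻¹ by group] at this
  rw [show h * (a * c) * h⁻¹ = h * a * h⁻¹ * (h * c * h⁻¹ * c⁻¹) * c by group]
  exact mul_mem_sup (mul_mem h1 h2) hc'

/-- `W₂` meets `H₀ C` trivially. -/
theorem inf_bottom : W₂ ⊓ (H₀ ⊔ cKer M U H₀) = ⊥ := by
  refine le_bot_iff.1 ?_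
  rintro x ⟨hx, hx'⟩
  obtain ⟨a, ha, c, hc', rfl⟩ := (Coprime.mem_sup_of_le_normalizer
    ((inf_le_left.trans le_sup_left).trans (hc.sup_le_normalizer₀ hd))).1 hx'
  have h1 : c ∈ fittingHallOf M ⊓ U := ⟨by
    simpa using mul_mem (inv_mem (hc.le ha)) (TypeTwo.W₂_le hd hx), (mem_inf.1 hc').1⟩
  rw [hd.U_compl.2.2.1, mem_bot] at h1
  subst h1
  rw [mul_one] at hx ⊢
  rw [← hc.inf_W₂]
  exact ⟨ha, hx⟩

include hM

/-- **The frame of a chief factor.** -/
theorem frame_of_chief [(⁅M, M⁆.subgroupOf M).Normal] [((kerK M U H₀).subgroupOf M).Normal] :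
    Fixed.Frame (⁅M, M⁆.subgroupOf M) ((kerK M U H₀).subgroupOf M) (W₁.subgroupOf M)
      (W₂.subgroupOf M) := by
  set H := fittingHallOf M with hH
  set C := cKer M U H₀ with hC
  have hP := pair_of_typeP hG hd
  have hf := hc.kernel_facts hd
  have hKN : (kerK M U H₀).subgroupOf M ≤ ⁅M, M⁆.subgroupOf M :=
    fun x hx => hf.2.2.2.1 hx
  have hKM : kerK M U H₀ ≤ M := hf.2.2.2.1.trans (Subgroup.commutator_le_self M)
  have h2 : W₂.subgroupOf M ≤ (kerK M U H₀).subgroupOf M :=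
    fun x hx => mem_sup_left (TypeTwo.W₂_le hd hx)
  have hW₁ := TypeTwo.W₁_le hd
  have hHK : H ≤ kerK M U H₀ := le_sup_left
  have hCH : C ≤ normalizer (H : Set G) :=
    (inf_le_left.trans le_sup_left).trans (TypeTwo.sup_le_normalizer hd)
  refine ⟨hP, hKN, h2, fun f => ?_, fun g hg hg1 x hx hxg => ?_⟩
  · -- extension
    haveI := bottom_normal hG hd hc
    refine Fixed.ext_of_quotient hP hKN h2 (K₀ := (H₀ ⊔ C).subgroupOf M) (fun x hx y hy => ?_) ?_ f
    · let q := QuotientGroup.mk' ((H₀ ⊔ C).subgroupOf M)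
      have hq : ∀ z : ↥M, q z = 1 ↔ (z : G) ∈ H₀ ⊔ C := fun z =>
        (QuotientGroup.eq_one_iff z).trans Iff.rfl
      obtain ⟨a, ha, c, hc', e⟩ := (Coprime.mem_sup_of_le_normalizer hCH).1 hx
      obtain ⟨a', ha', c', hc'', e'⟩ := (Coprime.mem_sup_of_le_normalizer hCH).1 hy
      have ex : x = (⟨a, hKM (mem_sup_left ha)⟩ : ↥M) * ⟨c, hKM (mem_sup_right hc')⟩ :=
        Subtype.ext e.symm
      have ey : y = (⟨a', hKM (mem_sup_left ha')⟩ : ↥M) * ⟨c', hKM (mem_sup_right hc'')⟩ :=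
        Subtype.ext e'.symm
      have e1 : q ⟨c, hKM (mem_sup_right hc')⟩ = 1 := (hq _).2 (mem_sup_right hc')
      have e2 : q ⟨c', hKM (mem_sup_right hc'')⟩ = 1 := (hq _).2 (mem_sup_right hc'')
      have e3 : q (⟨a, hKM (mem_sup_left ha)⟩ * ⟨a', hKM (mem_sup_left ha')⟩ *
          ⟨a, hKM (mem_sup_left ha)⟩⁻¹ * ⟨a', hKM (mem_sup_left ha')⟩⁻¹) = 1 :=
        (hq _).2 (mem_sup_left (hc.comm_mem a ha a' ha'))
      refine (QuotientGroup.eq_one_iff _).1 ?_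
      show q (x * y * x⁻¹ * y⁻¹) = 1
      rw [ex, ey]
      simp only [map_mul, map_inv, e1, e2, mul_one] at e3 ⊢
      exact e3
    · refine le_bot_iff.1 fun x hx => ?_
      have h3 : (x : G) ∈ W₂ ⊓ (H₀ ⊔ C) := hx
      rw [inf_bottom hG hd hc, mem_bot] at h3
      exact Subtype.ext h3
  · -- stabiliser
    obtain ⟨w, hw, hw1⟩ := OddLocal.exists_mem_ne_one _ hd.W₁_ne
    have kill : ∀ D : Subgroup G, D ≤ kerK M U H₀ → W₁ ≤ normalizer (D : Set G) → W₂ ⊓ D = ⊥ →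
        ∀ y (hy : y ∈ D) (hyK : y ∈ kerK M U H₀),
          g ⟨⟨y, hKM hyK⟩, hyK⟩ = 1 := by
      intro D hDK hn hb y hy hyK
      refine Fixed.apply_eq_one_of_inf hP hKN (D := D.subgroupOf M) (fun z hz => hDK hz) ?_
        (a := ⟨w, hW₁ hw⟩) hw (fun e => hw1 (congrArg Subtype.val e))
        (fun z hz => (mem_normalizer_iff.1 (hn hw) z).1 hz) hg (x := ⟨y, hKM hyK⟩) hy
      refine le_bot_iff.1 fun z hz => ?_
      have h3 : (z : G) ∈ W₂ ⊓ D := hz
      rw [hb, mem_bot] at h3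
      exact Subtype.ext h3
    have hb₀ : W₂ ⊓ H₀ = ⊥ := by rw [inf_comm]; exact hc.inf_W₂
    have hbC : W₂ ⊓ C = ⊥ :=
      le_bot_iff.1 ((inf_le_inf (TypeTwo.W₂_le hd) inf_le_left).trans hd.U_compl.2.2.1.le)
    obtain ⟨h, hh, v, hv, e⟩ := hd.U_compl.2.2.2 (x : G) hx
    have hvM : v ∈ M := TypeTwo.U_le hd hv
    have hhM : h ∈ M := hKM (hHK hh)
    have ex : x = (⟨h, hhM⟩ : ↥M) * ⟨v, hvM⟩ := Subtype.ext e
    rw [ex, Fixed.cj_mul, Fixed.cj_of_mem (show (⟨h, hhM⟩ : ↥M) ∈ (kerK M U H₀).subgroupOf M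
      from hHK hh)] at hxg
    let F : G → ℂˣ := fun y =>
      if hy : y ∈ kerK M U H₀ then g ⟨⟨y, hKM hy⟩, hy⟩ else 1
    have hF : ∀ (y : G) (hy : y ∈ kerK M U H₀), F y = g ⟨⟨y, hKM hy⟩, hy⟩ := fun y hy =>
      dif_pos hy
    have hconjH : ∀ z ∈ U ⊔ W₁, ∀ y ∈ H, z * y * z⁻¹ ∈ H := fun z hz y hy =>
      (mem_normalizer_iff.1 (TypeTwo.sup_le_normalizer hd hz) y).1 hy
    have hvC : v ∈ C := by
      refine hc.stabilizer_hom hG hM hd (F := F) ?_ ?_ ?_ ?_ hv ?_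
      · intro y hy z hz
        rw [hF _ (hHK (mul_mem hy hz)), hF _ (hHK hy), hF _ (hHK hz), ← map_mul]
        exact congrArg g (Subtype.ext (Subtype.ext rfl))
      · intro y hy
        rw [hF _ (hHK (hc.le hy))]
        exact kill H₀ (hc.le.trans hHK) (le_sup_right.trans (hc.sup_le_normalizer₀ hd)) hb₀ y hy _
      · by_contra! hall
        refine hg1 (MonoidHom.ext fun k => ?_)
        obtain ⟨a, ha, c, hc', e'⟩ := (Coprime.mem_sup_of_le_normalizer hCH).1 k.2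
        have hcK : c ∈ kerK M U H₀ := mem_sup_right hc'
        rw [show k = (⟨⟨a, hKM (hHK ha)⟩, hHK ha⟩ : ↥((kerK M U H₀).subgroupOf M)) *
          ⟨⟨c, hKM hcK⟩, hcK⟩ from Subtype.ext (Subtype.ext e'.symm), map_mul,
          kill C le_sup_right (le_sup_right.trans (hc.sup_le_normalizer_C hd)) hbC c hc' hcK,
          mul_one, ← hF a (hHK ha), hall a ha]
        rfl
      · intro z hz y hy
        have h1 := hconjH z (mem_sup_right hz) y hy
        rw [hF _ (hHK h1), hF _ (hHK hy)]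
        refine (DFunLike.congr_fun (hg ⟨z, hW₁ hz⟩ hz) _).symm.trans ?_
        rw [Fixed.cj_apply]
        exact congrArg g (Subtype.ext (Subtype.ext (by simp [mul_assoc])))
      · intro y hy
        have h1 := hconjH v (mem_sup_left hv) y hy
        rw [hF _ (hHK h1), hF _ (hHK hy)]
        refine (DFunLike.congr_fun hxg _).symm.trans ?_
        rw [Fixed.cj_apply]
        exact congrArg g (Subtype.ext (Subtype.ext (by simp [mul_assoc])))
    show (x : G) ∈ kerK M U H₀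
    rw [e]
    exact mul_mem_sup hh hvC

variable (hn : IsTypeNotI M)
include hn

/-- **The kit of a chief factor**, whose bottom is trivial for Type II. -/
theorem kit_of_chief [Fintype ↥M] (h0 : IsOfTypeII M → H₀ = ⊥)
    {η : (↥(W₁ ⊔ W₂) →* ℂˣ) → G → ℂ} (hη : IsCyclicTIFamily W₁ W₂ η) :
    Kit M W₁ U W₂ H₀ η := by
  haveI : (⁅M, M⁆.subgroupOf M).Normal :=
    (Subgroup.normal_subgroupOf_iff_le_normalizer (Subgroup.commutator_le_self M)).2
      le_normalizer_commutator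
  haveI := kerK_normal hG hd hc
  rcases sharp_kerK_subset hG hM hd hn hc with hsub | ⟨hII, hne⟩
  · exact kit_of_frame hG hM hd hn hc hsub hη (frame_of_chief hG hM hd hc)
  · exact absurd (h0 hII) hne

omit hc

/-- **The kit of a member**: for Type II with prime `W₂`, or outside it with `U ≠ 1`. -/
theorem exists_kit [Fintype ↥M] {η : (↥(W₁ ⊔ W₂) →* ℂˣ) → G → ℂ}
    (hη : IsCyclicTIFamily W₁ W₂ η)
    (hcase : (IsOfTypeII M ∧ (Nat.card W₂).Prime) ∨ (¬ IsOfTypeII M ∧ U ≠ ⊥)) :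
    ∃ H₀ : Subgroup G, Kit M W₁ U W₂ H₀ η ∧ (IsOfTypeII M → H₀ = ⊥) := by
  rcases hcase with ⟨hII, hp⟩ | ⟨hII, hU⟩
  · exact ⟨⊥, kit_of_chief hG hM hd (chief_of_typeII hG hM hd hII hp) hn (fun _ => rfl) hη,
      fun _ => rfl⟩
  · obtain ⟨H₀, hc, -⟩ := NotTwo.exists_chief hG hM hd hII hU
    exact ⟨H₀, kit_of_chief hG hM hd hc hn (fun h => absurd h hII) hη, fun h => absurd h hII⟩

end Cfsg.Agent.OddFinal
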