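import Cfsg.Agent.OddFinal.EtaBasic
import Cfsg.Agent.OddFinal.EtaParity

/-!
# Bridge characters and families: the tools of the overgroup argument

A `Frame N Y χ₀ χ₁` is a generalized character `Y` of norm `N` with `⟨Y, 1⟩ = 1` such that `Y + χ₀` is real, where
`χ₁` is the conjugate of `χ₀`.  Two orthogonal frames have an odd cross product, and an odd cross product with a
member of a proportional family forces the norm to be large.
-/

set_option autoImplicit false
set_option linter.unusedSectionVars false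

namespace Cfsg.Agent.OddFinal

open Cfsg Char
open scoped ComplexConjugate

universe u

variable {G : Type u} [Group G] [Fintype G]

theorem inner_zero_symm {X Y : G → ℂ} (h : classInner X Y = 0) : classInner Y X = 0 := by
  rw [← classInner_conj_symm, h, map_zero]

theorem inner_int_symm {X Y : G → ℂ} {a : ℤ} (h : classInner X Y = a) : classInner Y X = a := by
  rw [← classInner_conj_symm, h, map_intCast]

/-- Bessel's inequality for generalized characters. -/
theorem bessel {ι : Type*} [Fintype ι] {Y : G → ℂ} (hY : IsGeneralizedCharacter G Y) {N : ℤ}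
    (hN : classInner Y Y = (N : ℂ)) (F : ι → G → ℂ) (hF : ∀ i, IsGeneralizedCharacter G (F i))
    (ho : ∀ i, classInner (F i) (F i) = 1) (hp : ∀ i j, i ≠ j → classInner (F i) (F j) = 0)
    (c : ι → ℤ) (hc : ∀ i, classInner Y (F i) = (c i : ℂ)) : ∑ i, c i ^ 2 ≤ N := by
  classical
  set P := ∑ k, (c k : ℂ) • F k with hP
  have hPi : ∀ i, classInner P (F i) = c i := fun i => by
    rw [hP, classInner_sum_left, Finset.sum_eq_single i]
    · rw [classInner_smul_left, ho, mul_one]
    · intro k _ hk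
      rw [classInner_smul_left, hp k i hk, mul_zero]
    · simp
  have hsum : ∀ Z : G → ℂ, classInner Z P = ∑ k, (c k : ℂ) * classInner Z (F k) := fun Z => by
    rw [hP, classInner_sum_right]
    refine Finset.sum_congr rfl fun k _ => ?_
    rw [classInner_smul_right, map_intCast]
  have hPP : classInner P P = ((∑ k, c k ^ 2 : ℤ) : ℂ) := by
    rw [hsum]; push_cast; exact Finset.sum_congr rfl fun k _ => by rw [hPi]; ring
  have hYP : classInner Y P = ((∑ k, c k ^ 2 : ℤ) : ℂ) := by
    rw [hsum]; push_cast; exact Finset.sum_congr rfl fun k _ => by rw [hc]; ring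
  obtain ⟨n, -, -, hn⟩ := IsGen.exists_mult
    (isGeneralized_sub hY (isGeneralized_sum _ _ fun k _ => isGeneralized_intCast_smul _ (hF k)) :
      IsGeneralizedCharacter G (Y - P))
  have h1 : classInner (Y - P) (Y - P) = ((N - ∑ k, c k ^ 2 : ℤ) : ℂ) := by
    simp only [classInner_sub_left, classInner_sub_right, hPP, hYP, inner_int_symm hYP, hN]
    push_cast
    ring
  rw [hn] at h1
  have h2 : ∑ ψ, n ψ ^ 2 = N - ∑ k, c k ^ 2 := by exact_mod_cast h1
  have h3 : (0 : ℤ) ≤ ∑ ψ, n ψ ^ 2 := Finset.sum_nonneg fun _ _ => sq_nonneg _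
  omega

/-- A bridge character `Y` of norm `N` over the pair `χ₀`, `χ₁`. -/
structure Frame (N : ℤ) (Y χ₀ χ₁ : G → ℂ) : Prop where
  gen : IsGeneralizedCharacter G Y
  gen₀ : IsGeneralizedCharacter G χ₀
  gen₁ : IsGeneralizedCharacter G χ₁
  norm : classInner Y Y = (N : ℂ)
  one : classInner Y (fun _ => 1) = 1
  unit₀ : classInner χ₀ χ₀ = 1
  unit₁ : classInner χ₁ χ₁ = 1
  orth : classInner χ₀ χ₁ = 0
  one₀ : classInner χ₀ (fun _ => 1) = 0
  one₁ : classInner χ₁ (fun _ => 1) = 0
  conj₀ : conjFun χ₀ = χ₁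
  real : conjFun (Y + χ₀) = Y + χ₀

/-- A family of orthonormal generalized characters orthogonal to `1`, with degrees. -/
structure Fam {ι : Type*} (F : ι → G → ℂ) (n : ι → ℤ) (i₀ : ι) : Prop where
  gen : ∀ i, IsGeneralizedCharacter G (F i)
  unit : ∀ i, classInner (F i) (F i) = 1
  orth : ∀ i j, i ≠ j → classInner (F i) (F j) = 0
  one : ∀ i, classInner (F i) (fun _ => 1) = 0
  base : n i₀ = 1

variable {N N' : ℤ} {Y Y' χ₀ χ₁ χ₀' χ₁' : G → ℂ}

/-- The norm of a frame bounds its products with an orthonormal family apart from the frame. -/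
theorem Frame.bound (f : Frame N Y χ₀ χ₁) {ι : Type*} [Fintype ι] (F : ι → G → ℂ)
    (hF : ∀ i, IsGeneralizedCharacter G (F i))
    (ho : ∀ i, classInner (F i) (F i) = 1) (hp : ∀ i j, i ≠ j → classInner (F i) (F j) = 0)
    (h1 : ∀ i, classInner (F i) (fun _ => 1) = 0) (h₀ : ∀ i, classInner (F i) χ₀ = 0)
    (h₁ : ∀ i, classInner (F i) χ₁ = 0) (c : ι → ℤ) (hc : ∀ i, classInner Y (F i) = (c i : ℂ)) :
    2 + ∑ i, c i ^ 2 ≤ N := by
  classical
  obtain ⟨a, ha⟩ := classInner_generalized_int f.gen f.gen₀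
  have ha₁ : classInner Y χ₁ = ((a + 1 : ℤ) : ℂ) := by
    have h2 : classInner (Y + χ₀) χ₁ = ((a + 1 : ℤ) : ℂ) := by
      rw [← f.real, ← f.conj₀, Coherence.classInner_conjFun]
      refine inner_int_symm ?_
      rw [classInner_add_left, ha, f.unit₀]
      push_cast
      ring
    rwa [classInner_add_left, f.orth, add_zero] at h2
  have hone : classInner (fun _ : G => (1 : ℂ)) (fun _ => 1) = 1 :=
    classInner_irr_self isIrrCharacter_one
  let T : Fin 3 → G → ℂ := ![fun _ => 1, χ₀, χ₁]
  have hT : ∀ i, IsGeneralizedCharacter G (T i) := by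
    intro i
    fin_cases i
    exacts [isGeneralized_of_isCharacter (IsIrr.isCharacter isIrrCharacter_one), f.gen₀, f.gen₁]
  have hTo : ∀ i, classInner (T i) (T i) = 1 := by
    intro i
    fin_cases i
    exacts [hone, f.unit₀, f.unit₁]
  have hTp : ∀ i j, i ≠ j → classInner (T i) (T j) = 0 := by
    intro i j
    fin_cases i <;> fin_cases j <;>
      simp [T, f.one₀, f.one₁, f.orth, inner_zero_symm f.one₀, inner_zero_symm f.one₁,
        inner_zero_symm f.orth]
  have hTF : ∀ i j, classInner (T i) (F j) = 0 := by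
    intro i j
    fin_cases i
    exacts [inner_zero_symm (h1 j), inner_zero_symm (h₀ j), inner_zero_symm (h₁ j)]
  have hTc : ∀ i, classInner Y (T i) = ((![1, a, a + 1] i : ℤ) : ℂ) := by
    intro i
    fin_cases i
    · simpa [T] using f.one
    · simpa [T] using ha
    · simpa [T] using ha₁
  have key := bessel f.gen f.norm (Sum.elim T F)
    (by rintro (i | i); exacts [hT i, hF i])
    (by rintro (i | i); exacts [hTo i, ho i])
    (by
      rintro (i | i) (j | j) hne
      exacts [hTp i j fun e => hne (congrArg Sum.inl e), hTF i j, inner_zero_symm (hTF j i),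
        hp i j fun e => hne (congrArg Sum.inr e)])
    (Sum.elim ![1, a, a + 1] c)
    (by rintro (i | i); exacts [hTc i, hc i])
  rw [Fintype.sum_sum_type] at key
  simp only [Sum.elim_inl, Sum.elim_inr, Fin.sum_univ_three, Matrix.cons_val_zero, Matrix.cons_val_one,
    Matrix.cons_val, one_pow] at key
  have h3 : 1 ≤ (a + 1) ^ 2 + a ^ 2 := by
    rcases le_or_gt 0 a with h | h
    · nlinarith
    · nlinarith
  omega

/-- Two orthogonal frames with orthogonal bases have an odd cross product. -/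
theorem Frame.parity (hodd : Odd (Nat.card G)) (f : Frame N Y χ₀ χ₁) (f' : Frame N' Y' χ₀' χ₁')
    (hY : classInner Y Y' = 0) (hχ : classInner χ₀ χ₀' = 0) :
    ∃ a b : ℤ, classInner Y χ₀' = (a : ℂ) ∧ classInner Y' χ₀ = (b : ℂ) ∧ (Odd a ∨ Odd b) := by
  obtain ⟨a, ha⟩ := classInner_generalized_int f.gen f'.gen₀
  obtain ⟨b, hb⟩ := classInner_generalized_int f'.gen f.gen₀
  obtain ⟨n, hn⟩ := parity_cross hodd f.gen f'.gen f.gen₀ f'.gen₀ f.real f'.real f.one f'.one
    f.one₀ f'.one₀ hY hχ
  rw [ha, inner_int_symm hb] at hn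
  have h1 : a + b = 2 * n + 1 := by exact_mod_cast hn
  refine ⟨a, b, ha, hb, ?_⟩
  rcases Int.even_or_odd a with h2 | h2
  · right
    rcases h2 with ⟨m, rfl⟩
    exact ⟨n - m, by linarith⟩
  · exact Or.inl h2

/-- A non-zero product with one member of a proportional family puts the whole family into the norm, together with
any further orthonormal characters with non-zero products. -/
theorem Frame.family_bound (f : Frame N Y χ₀ χ₁) {ι κ : Type*} [Fintype ι] [Fintype κ] {F : ι → G → ℂ}
    {n : ι → ℤ} {i₀ : ι} (hF : Fam F n i₀) (h₀ : ∀ i, classInner (F i) χ₀ = 0)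
    (h₁ : ∀ i, classInner (F i) χ₁ = 0)
    (hdiff : ∀ i, classInner Y (F i - (n i : ℂ) • F i₀) = 0) {a : ℤ}
    (ha : classInner Y (F i₀) = (a : ℂ)) (ha0 : a ≠ 0)
    (E : κ → G → ℂ) (hE : ∀ k, IsGeneralizedCharacter G (E k))
    (hEo : ∀ k, classInner (E k) (E k) = 1) (hEp : ∀ k l, k ≠ l → classInner (E k) (E l) = 0)
    (hE1 : ∀ k, classInner (E k) (fun _ => 1) = 0) (hE₀ : ∀ k, classInner (E k) χ₀ = 0)
    (hE₁ : ∀ k, classInner (E k) χ₁ = 0) (hEF : ∀ i k, classInner (F i) (E k) = 0)
    (hEc : ∀ k, classInner Y (E k) ≠ 0) :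
    2 + ∑ i, n i ^ 2 + (Fintype.card κ : ℤ) ≤ N := by
  classical
  choose c hc using fun k => classInner_generalized_int f.gen (hE k)
  have hFc : ∀ i, classInner Y (F i) = ((a * n i : ℤ) : ℂ) := fun i => by
    have h := hdiff i
    rw [classInner_sub_right, classInner_smul_right, map_intCast, ha, sub_eq_zero] at h
    rw [h]
    push_cast
    ring
  have key := f.bound (Sum.elim F E) (by rintro (i | k); exacts [hF.gen i, hE k])
    (by rintro (i | k); exacts [hF.unit i, hEo k])
    (by
      rintro (i | k) (j | l) hne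
      exacts [hF.orth i j fun e => hne (congrArg Sum.inl e), hEF i l, inner_zero_symm (hEF j k),
        hEp k l fun e => hne (congrArg Sum.inr e)])
    (by rintro (i | k); exacts [hF.one i, hE1 k]) (by rintro (i | k); exacts [h₀ i, hE₀ k])
    (by rintro (i | k); exacts [h₁ i, hE₁ k]) (Sum.elim (fun i => a * n i) c)
    (by rintro (i | k); exacts [hFc i, hc k])
  rw [Fintype.sum_sum_type] at key
  simp only [Sum.elim_inl, Sum.elim_inr] at key
  have h2 : ∑ i, n i ^ 2 ≤ ∑ i, (a * n i) ^ 2 := Finset.sum_le_sum fun i _ => by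
    have ha2 : 1 ≤ a ^ 2 := by
      have := sq_pos_of_ne_zero ha0
      omega
    rw [mul_pow]
    exact le_mul_of_one_le_left (sq_nonneg _) ha2
  have h3 : (Fintype.card κ : ℤ) ≤ ∑ k, c k ^ 2 := by
    have h4 : ∀ k ∈ (Finset.univ : Finset κ), (1 : ℤ) ≤ c k ^ 2 := fun k _ => by
      have h5 : c k ≠ 0 := fun e => hEc k (by rw [hc k, e, Int.cast_zero])
      have := sq_pos_of_ne_zero h5
      omega
    have h6 := Finset.sum_le_sum h4
    rw [Finset.sum_const, Finset.card_univ, nsmul_eq_mul, mul_one] at h6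
    exact h6
  omega

/-- `Frame.family_bound` without further characters. -/
theorem Frame.family_bound' (f : Frame N Y χ₀ χ₁) {ι : Type*} [Fintype ι] {F : ι → G → ℂ}
    {n : ι → ℤ} {i₀ : ι} (hF : Fam F n i₀) (h₀ : ∀ i, classInner (F i) χ₀ = 0)
    (h₁ : ∀ i, classInner (F i) χ₁ = 0)
    (hdiff : ∀ i, classInner Y (F i - (n i : ℂ) • F i₀) = 0) {a : ℤ}
    (ha : classInner Y (F i₀) = (a : ℂ)) (ha0 : a ≠ 0) : 2 + ∑ i, n i ^ 2 ≤ N := by
  have h := f.family_bound hF h₀ h₁ hdiff ha ha0 (κ := Fin 0) (fun k => k.elim0) (fun k => k.elim0)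
    (fun k => k.elim0) (fun k => k.elim0) (fun k => k.elim0) (fun k => k.elim0) (fun k => k.elim0)
    (fun _ k => k.elim0) (fun k => k.elim0)
  simpa using h

end Cfsg.Agent.OddFinal
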