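import Cfsg.Agent.OddFinal.Derived
import Cfsg.Agent.OddFinal.OvergroupFrame
import Cfsg.Agent.OddChars.IrrCriteria

/-!
# The second pattern bounds the partner

If the images of `q 1_N - ζ` have coefficient `0` at every `η φ`, `φ ≠ 1`, then the characters `ρ ζ`
of a coherent extension are orthogonal to the family, and the parity of the inner product with the
bridge image `Γ` of the partner gives `p |Z| + 1 ≤ d'`.
-/

set_option autoImplicit false
set_option linter.unusedSectionVars false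

namespace Cfsg.Agent.OddFinal

open Cfsg Char CyclicTI
open scoped ComplexConjugate
open scoped _root_.Classical

universe u

variable {G : Type u} [Group G] [Fintype G] {M W₁ W₂ K N : Subgroup G} [Fintype ↥M] {d : ℕ}
  {X : Finset (↥M → ℂ)} {μ : (↥(W₁ ⊔ W₂) →* ℂˣ) → ↥M → ℂ}
  {η : (↥(W₁ ⊔ W₂) →* ℂˣ) → G → ℂ} {A : Set G} {π : ↥M → ℂ} {Z : Finset (↥M → ℂ)}

theorem conjFun_map_sub {α : Type*} (f g : α → ℂ) : conjFun (f - g) = conjFun f - conjFun g :=
  funext fun x => by simp [conjFun]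

theorem conjFun_map_add {α : Type*} (f g : α → ℂ) : conjFun (f + g) = conjFun f + conjFun g :=
  funext fun x => by simp [conjFun]

theorem isGeneralized_conj {f : G → ℂ} (hf : IsGeneralizedCharacter G f) :
    IsGeneralizedCharacter G (conjFun f) := by
  obtain ⟨a, b, ha, hb, rfl⟩ := hf
  exact ⟨conjFun a, conjFun b, isCharacter_conj ha, isCharacter_conj hb, conjFun_map_sub a b⟩

variable (hD : IsDerived M W₁ W₂ K N d μ π Z)

include hD

/-- Induction is coherent on the characters of `Z`. -/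
theorem IsDerived.exists_rho (h2 : 2 ≤ Z.card) : ∃ ρ : (↥M → ℂ) → G → ℂ,
    (∀ ζ ∈ Z, IsGeneralizedCharacter G (ρ ζ)) ∧
      (∀ ζ ∈ Z, ∀ ζ' ∈ Z, classInner (ρ ζ) (ρ ζ') = if ζ = ζ' then 1 else 0) ∧
      ∀ ζ ∈ Z, ∀ ζ' ∈ Z, ρ ζ - ρ ζ' = indFun M (ζ - ζ') := by
  have hgen : ∀ α ∈ zspanOn (↑Z : Set (↥M → ℂ)) {1}ᶜ, IsGeneralizedCharacter ↥M α :=
    fun α hα => Coherence.isGeneralized_zspan (fun χ hχ =>
      isGeneralized_of_isCharacter (IsIrr.isCharacter (hD.irr χ (by simpa using hχ)))) hα.1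
  have hoff : ∀ α ∈ zspanOn (↑Z : Set (↥M → ℂ)) {1}ᶜ,
      ∀ x : M, (x : G) ∉ sharp N → α x = 0 := by
    intro α hα x hx
    by_cases hN : (x : G) ∈ N
    · have hx1 : x = 1 := by
        by_contra hne
        exact hx ⟨hN, fun e => hne (Subtype.ext e)⟩
      rw [hx1]
      exact (Coherence.mem_zspanOn_compl_one.1 hα).2
    · exact Coherence.zspan_induction (P := fun α => α x = 0) hα.1
        (fun χ hχ => hD.supp χ (by simpa using hχ) x hN) rfl
        (fun β γ _ _ hb hc => by simp [hb, hc]) (fun n β _ hb => by simp [hb])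
  have hI : OddChars.IrrIso (↑Z : Set (↥M → ℂ)) (fun α : ↥M → ℂ => indFun M α) := by
    refine ⟨fun χ hχ => hD.irr χ (by simpa using hχ), ⟨fun α _ β _ => indFun_add _ α β,
      fun α _ n => ?_, fun α hα β hβ => ?_,
      fun α hα => isGeneralized_indFun _ (hgen α hα)⟩, fun α hα => ?_⟩
    · show indFun M (n • α) = n • indFun M α
      rw [← Int.cast_smul_eq_zsmul ℂ, indFun_smul, Int.cast_smul_eq_zsmul]
    · exact inner_ind hD.dade (IsGen.isClassFunction (hgen β hβ)) (hD.big (hoff β hβ))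
        (hD.big (hoff α hα))
    · refine hD.ind_eq_zero (hoff α hα) ?_
      rintro ⟨x, a, ha, e⟩
      exact ha.2 (conj_eq_one_iff.1 e.symm)
  obtain ⟨ζ₁, h₁, ζ₂, h₂, hne⟩ := Finset.one_lt_card.1 h2
  obtain ⟨-, τ, hτ, hag⟩ := OddChars.irr_coherent_const_degree hI
    ⟨ζ₁, by simpa using h₁, ζ₂, by simpa using h₂, hne⟩
    (fun χ hχ χ' hχ' => by rw [hD.deg χ (by simpa using hχ), hD.deg χ' (by simpa using hχ')])
  have hm : ∀ ζ ∈ Z, ζ ∈ zspan (↑Z : Set (↥M → ℂ)) := fun ζ hζ =>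
    Coherence.mem_zspan_of_mem (by simpa using hζ)
  refine ⟨τ, fun ζ hζ => hτ.2.2.2 ζ (hm ζ hζ), fun ζ hζ ζ' hζ' => ?_, fun ζ hζ ζ' hζ' => ?_⟩
  · rw [hτ.2.2.1 ζ (hm ζ hζ) ζ' (hm ζ' hζ'), hD.zeta_zeta hζ hζ']
  · rw [← Coherence.iso_zspan_sub hτ (hm ζ hζ) (hm ζ' hζ')]
    exact hag _ (Coherence.mem_zspanOn_compl_one.2 ⟨Coherence.zspan_sub (hm ζ hζ) (hm ζ' hζ'),
      by rw [Pi.sub_apply, hD.deg ζ hζ, hD.deg ζ' hζ', sub_self]⟩)

omit hD in
theorem derY_sub (ζ ζ' : ↥M → ℂ) :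
    derY M W₁ N ζ' - derY M W₁ N ζ = indFun M (ζ - ζ') := by
  rw [derY, derY, ← Char.indFun_sub, sub_sub_sub_cancel_left]

variable {ρ : (↥M → ℂ) → G → ℂ} (hg : ∀ ζ ∈ Z, IsGeneralizedCharacter G (ρ ζ))
  (ho : ∀ ζ ∈ Z, ∀ ζ' ∈ Z, classInner (ρ ζ) (ρ ζ') = if ζ = ζ' then 1 else 0)
  (hs : ∀ ζ ∈ Z, ∀ ζ' ∈ Z, ρ ζ - ρ ζ' = indFun M (ζ - ζ'))

include hg ho hs

/-- The extension commutes with complex conjugation. -/
theorem IsDerived.rho_conj (h3 : 3 ≤ Z.card) {ζ : ↥M → ℂ} (hζ : ζ ∈ Z) :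
    conjFun (ρ ζ) = ρ (conjFun ζ) := by
  set E : G → ℂ := conjFun (ρ ζ) - ρ (conjFun ζ) with hE
  have hconst : ∀ w ∈ Z, conjFun (ρ w) - ρ (conjFun w) = E := fun w hw => by
    have e1 := congrArg conjFun (hs w hw ζ hζ)
    rw [conjFun_map_sub, conjFun_indFun,
      show (fun x : M => conj ((w - ζ) x)) = conjFun w - conjFun ζ by
        funext x; simp [conjFun],
      ← hs _ (hD.conj_mem w hw) _ (hD.conj_mem ζ hζ)] at e1
    rw [hE]
    linear_combination e1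
  have hEg : IsGeneralizedCharacter G E :=
    isGeneralized_sub (isGeneralized_conj (hg ζ hζ)) (hg _ (hD.conj_mem ζ hζ))
  obtain ⟨n, hn⟩ := classInner_generalized_int hEg hEg
  have hint : ∀ w : ↥Z, ∃ e : ℤ, classInner E (ρ w.1) = e := fun w =>
    classInner_generalized_int hEg (hg _ w.2)
  choose e he using hint
  have he2 : ∀ w : ↥Z, 2 * e w = -n := by
    intro w
    have hw' := hD.conj_mem w.1 w.2
    have hE' := hconst _ hw'
    rw [Coherence.conjFun_conjFun] at hE'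
    obtain ⟨x, hx⟩ := classInner_generalized_int (isGeneralized_conj (hg _ hw')) (hg _ w.2)
    have hcc : classInner (conjFun (ρ (conjFun w.1))) (conjFun (ρ (conjFun w.1))) = 1 := by
      rw [Coherence.classInner_conjFun, ho _ hw' _ hw', if_pos rfl]
    have hn' := hn
    have hw2 := he w
    rw [← hE'] at hn' hw2
    simp only [classInner_sub_left, classInner_sub_right, hx, inner_int_symm hx, hcc,
      ho _ w.2 _ w.2, if_true] at hn' hw2
    exact_mod_cast (by linear_combination (-2 : ℂ) * hw2 - hn' : (2 : ℂ) * e w = -n)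
  have hb := OddFinal.bessel hEg hn (fun w : ↥Z => ρ w.1) (fun w => hg _ w.2)
    (fun w => by rw [ho _ w.2 _ w.2, if_pos rfl])
    (fun w w' hne => by rw [ho _ w.2 _ w'.2, if_neg fun h' => hne (Subtype.ext h')]) e he
  obtain ⟨w₀, hw₀⟩ : Z.Nonempty := Finset.card_pos.1 (by omega)
  have hall : ∀ w : ↥Z, e w = e ⟨w₀, hw₀⟩ := fun w => by
    have := he2 w; have := he2 ⟨w₀, hw₀⟩; omega
  rw [Finset.sum_congr rfl fun w _ => by rw [hall w], Finset.sum_const, Finset.card_univ,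
    Fintype.card_coe, nsmul_eq_mul] at hb
  have hn0 : n = 0 := by
    have h' := he2 ⟨w₀, hw₀⟩
    set c := e ⟨w₀, hw₀⟩
    have h3' : (3 : ℤ) ≤ Z.card := by exact_mod_cast h3
    rcases lt_trichotomy c 0 with hc | hc | hc <;> nlinarith
  rw [hn0, Int.cast_zero, classInner_self_eq_zero, hE, sub_eq_zero] at hn
  exact hn

variable (h : Ctx M W₁ W₂ K d X μ η (conjAll A))
  (hNA : Disjoint (conjAll (sharp N)) (conjAll A))

include h hNA

/-- The extension is orthogonal to the family. -/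
theorem IsDerived.rho_eta (h2 : 2 ≤ Z.card) {ζ : ↥M → ℂ} (hζ : ζ ∈ Z)
    (ω : ↥(W₁ ⊔ W₂) →* ℂˣ) : classInner (ρ ζ) (η ω) = 0 := by
  obtain ⟨a, -, -, hpat⟩ := hD.pattern h hNA
  obtain ⟨⟨φ, ψ⟩, rfl⟩ := (mulBij h.selfN).2 ω
  have hval : ∀ w ∈ Z, classInner (derY M W₁ N w) (η (φ.1 * ψ.1)) =
      (if φ.1 = 1 then (1 : ℂ) else a) + (if ψ.1 = 1 then (1 : ℂ) else 1 - a) - 1 := fun w hw => by
    obtain ⟨-, hgen, hsw, h1⟩ := hD.base_spec hw
    obtain ⟨c1, -, -⟩ := hD.coeff h hNA hgen hsw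
    have h11 : classInner (derY M W₁ N w) (η 1) = 1 := by
      rw [h.fam.map_one, derY, inner_ind_one, h1]
    rw [derY, c1 φ ψ, h1, ← derY]
    congr 1
    congr 1
    · split_ifs with e
      · rw [e, h11]
      · exact (hpat w hw).1 φ e
    · split_ifs with e
      · rw [e, h11]
      · exact (hpat w hw).2 ψ e
  obtain ⟨c, hc⟩ := classInner_generalized_int (hg ζ hζ) (h.eta_gen (φ.1 * ψ.1))
  have hall : ∀ w ∈ Z, classInner (η (φ.1 * ψ.1)) (ρ w) = c := fun w hw => by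
    refine inner_int_symm ?_
    rw [← hc]
    have e1 := congrArg (fun Y => classInner Y (η (φ.1 * ψ.1))) (hs w hw ζ hζ)
    simp only [← derY_sub (M := M) (W₁ := W₁) (N := N), classInner_sub_left, hval w hw,
      hval ζ hζ, sub_self] at e1
    exact sub_eq_zero.1 e1
  have hb := OddFinal.bessel (h.eta_gen (φ.1 * ψ.1)) (N := 1)
    (by rw [eta_norm h.fam, Int.cast_one]) (fun w : ↥Z => ρ w.1) (fun w => hg _ w.2)
    (fun w => by rw [ho _ w.2 _ w.2, if_pos rfl])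
    (fun w w' hne => by rw [ho _ w.2 _ w'.2, if_neg fun h' => hne (Subtype.ext h')])
    (fun _ => c) (fun w => hall _ w.2)
  rw [Finset.sum_const, Finset.card_univ, Fintype.card_coe, nsmul_eq_mul] at hb
  have hc0 : c = 0 := by
    by_contra hne
    have h4 : 0 < c ^ 2 := sq_pos_of_ne_zero hne
    have h2' : (2 : ℤ) ≤ Z.card := by exact_mod_cast h2
    nlinarith
  rw [show classInner (ρ ζ) (η (φ.1 * ψ.1)) = (c : ℂ) from hc, hc0, Int.cast_zero]

omit hg ho hs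

variable {T K' : Subgroup G} [Fintype ↥T] {d' : ℕ} {X' : Finset (↥T → ℂ)}
  {μ' : (↥(W₂ ⊔ W₁) →* ℂˣ) → ↥T → ℂ} {B' : Set G} {π' : ↥T → ℂ}

/-- The second pattern bounds the partner. -/
theorem IsDerived.partner_bound
    (h0 : ∀ ζ ∈ Z, ∀ φ : Left W₁ W₂, φ.1 ≠ 1 → classInner (derY M W₁ N ζ) (η φ.1) = 0)
    (h' : Ctx T W₂ W₁ K' d' X' μ' (fun f => η (swapHom f)) B')
    (hb' : IsBridge T W₂ W₁ K' d' X' μ' π')
    (hNK : Disjoint (conjAll (sharp N)) (conjAll (sharp K'))) (h3 : 3 ≤ Z.card) :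
    Nat.card W₂ * Z.card + 1 ≤ d' := by
  obtain ⟨ρ, hg, ho, hs⟩ := hD.exists_rho (by omega)
  have hη0 : ∀ ζ ∈ Z, ∀ ω, classInner (ρ ζ) (η ω) = 0 := fun ζ hζ ω =>
    hD.rho_eta hg ho hs h hNA (by omega) hζ ω
  have hρ1 : ∀ ζ ∈ Z, classInner (ρ ζ) (fun _ => 1) = 0 := fun ζ hζ => by
    rw [← h.fam.map_one]; exact hη0 ζ hζ 1
  have hrc : ∀ ζ ∈ Z, conjFun (ρ ζ) = ρ (conjFun ζ) := fun ζ hζ =>
    hD.rho_conj hg ho hs h3 hζ
  have hT0r : ∀ ζ ∈ Z, conjFun (derY M W₁ N ζ + ρ ζ) = derY M W₁ N ζ + ρ ζ := fun ζ hζ => by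
    rw [conjFun_map_add, hrc ζ hζ, derY, conjFun_indFun,
      show (fun x : M => conj ((kerChar M W₁ N 1 - ζ) x)) = kerChar M W₁ N 1 - conjFun ζ by
        funext x
        simp only [Pi.sub_apply, map_sub, kerChar, conjFun]
        split_ifs <;> simp]
    have e1 := hs _ (hD.conj_mem ζ hζ) _ hζ
    rw [← derY_sub (M := M) (W₁ := W₁) (N := N)] at e1
    simp only [derY] at e1 ⊢
    linear_combination e1
  obtain ⟨Γ, hΓg, hΓr, hΓ1, hτ⟩ := h'.tau_beta hb'
  obtain ⟨χ₀, hχ₀⟩ := h'.exists_right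
  have htz : ∀ ζ : ↥Z, ∃ t : ℤ, classInner Γ (ρ ζ.1) = ((2 * t + 1 : ℤ) : ℂ) := by
    rintro ⟨ζ, hζ⟩
    obtain ⟨-, hgen, hsz, h1⟩ := hD.base_spec hζ
    obtain ⟨τ0, -, -⟩ := hτ χ₀ hχ₀
    obtain ⟨-, -, hβs⟩ := h'.beta_spec hb' hχ₀
    have hzero : classInner (indFun T (π' - μ' χ₀.1)) (derY M W₁ N ζ) = 0 := by
      refine classInner_eq_zero_of_disjoint fun g => ?_
      by_cases hg' : g ∈ conjAll (sharp N)
      · left
        refine indFun_eq_zero_of hβs ?_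
        rintro ⟨x, a, ha | ha, rfl⟩
        · exact Set.disjoint_left.1 hNK hg' ⟨x, a, ha, rfl⟩
        · have hV := conjAll_conjIn_subset (M := T) ⟨x, a, ha, rfl⟩
          rw [vSet_comm] at hV
          exact Set.disjoint_left.1 hD.sharp_disjoint hg' hV
      · exact Or.inr (hD.ind_eq_zero hsz hg')
    have hη' : classInner (η (swapHom χ₀.1)) (derY M W₁ N ζ) = 0 :=
      inner_zero_symm (h0 ζ hζ ⟨swapHom χ₀.1, fun _ hw => χ₀.2 _ hw⟩ fun e =>
        hχ₀ (swapHom_injective (e.trans swapHom_one.symm)))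
    have hone : classInner (derY M W₁ N ζ) (fun _ => 1) = 1 := by rw [derY, inner_ind_one, h1]
    have hone' : classInner (fun _ : G => (1 : ℂ)) (derY M W₁ N ζ) = 1 := by
      rw [← classInner_conj_symm, hone, map_one]
    rw [τ0, classInner_add_left, classInner_sub_left] at hzero
    rw [hone', hη', sub_zero] at hzero
    obtain ⟨k, hk⟩ := real_inner_parity h.odd hΓg
      (isGeneralized_add (isGeneralized_indFun M hgen) (hg ζ hζ)) hΓr
      (by simpa only [derY] using hT0r ζ hζ)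
    rw [hΓ1, zero_mul, sub_zero, classInner_add_right, ← derY] at hk
    exact ⟨k, by push_cast; linear_combination hk - hzero⟩
  choose t ht using htz
  obtain ⟨n, hn⟩ := classInner_generalized_int hΓg hΓg
  have hcint : ∀ χ : {χ : Right W₂ W₁ // χ ≠ rightOne}, ∃ c : ℤ,
      classInner Γ (η (swapHom χ.1.1)) = c := fun χ =>
    classInner_generalized_int hΓg (h.eta_gen _)
  choose c hc using hcint
  have hne : ∀ χ : {χ : Right W₂ W₁ // χ ≠ rightOne}, χ.1.1 ≠ 1 := fun χ e =>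
    χ.2 (Subtype.ext e)
  have hnorm : ∀ χ, (Nat.card W₂ : ℤ) * (n - 2 * c χ) = (d' : ℤ) - 1 := by
    intro χ
    obtain ⟨e1, e2, -⟩ := hτ χ.1 (hne χ)
    have hΓ1' : classInner (fun _ : G => (1 : ℂ)) Γ = 0 := inner_zero_symm hΓ1
    have hη1 : classInner (η (swapHom χ.1.1)) (fun _ => 1) = 0 :=
      eta_inner_one h.fam fun e => hne χ (swapHom_injective (e.trans swapHom_one.symm))
    have hi := hb'.inner_self
    rw [e1] at e2
    simp only [classInner_add_left, classInner_add_right, classInner_sub_left,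
      classInner_sub_right, hΓ1, hΓ1', hη1, inner_zero_symm hη1, eta_norm h.fam,
      classInner_irr_self isIrrCharacter_one, hc χ, inner_int_symm (hc χ), hn] at e2
    exact_mod_cast (by linear_combination (Nat.card W₂ : ℂ) * e2 + hi :
      (Nat.card W₂ : ℂ) * ((n : ℂ) - 2 * c χ) = (d' : ℂ) - 1)
  have hb := OddFinal.bessel hΓg hn
    (Sum.elim (fun ζ : ↥Z => ρ ζ.1) fun χ : {χ : Right W₂ W₁ // χ ≠ rightOne} =>
      η (swapHom χ.1.1))
    (by rintro (ζ | χ); exacts [hg _ ζ.2, h.eta_gen _])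
    (by
      rintro (ζ | χ)
      · simp [ho _ ζ.2 _ ζ.2]
      · simp [eta_norm h.fam])
    (by
      rintro (ζ | χ) (ζ' | χ') hne'
      · simp only [Sum.elim_inl]
        rw [ho _ ζ.2 _ ζ'.2, if_neg fun e => hne' (congrArg _ (Subtype.ext e))]
      · exact hη0 _ ζ.2 _
      · exact inner_zero_symm (hη0 _ ζ'.2 _)
      · simp only [Sum.elim_inr]
        rw [h.fam.orthonormal, if_neg fun e =>
          hne' (congrArg _ (Subtype.ext (Subtype.ext (swapHom_injective e))))])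
    (Sum.elim (fun ζ => 2 * t ζ + 1) c)
    (by
      rintro (ζ | χ)
      · exact ht ζ
      · exact hc χ)
  let χ₁ : {χ : Right W₂ W₁ // χ ≠ rightOne} :=
    ⟨χ₀, fun e => hχ₀ (congrArg Subtype.val e)⟩
  have hcc : ∀ χ, c χ = c χ₁ := fun χ => by
    have hp : (Nat.card W₂ : ℤ) ≠ 0 := Nat.cast_ne_zero.2 Nat.card_pos.ne'
    have := mul_left_cancel₀ hp ((hnorm χ).trans (hnorm χ₁).symm)
    omega
  rw [Fintype.sum_sum_type] at hb
  simp only [Sum.elim_inl, Sum.elim_inr] at hb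
  rw [Finset.sum_congr (s₁ := Finset.univ) rfl fun χ _ => show c χ ^ 2 = c χ₁ ^ 2 by rw [hcc χ],
    Finset.sum_const, Finset.card_univ, Fintype.card_subtype_compl, Fintype.card_subtype_eq,
    h'.card_right, nsmul_eq_mul] at hb
  have hZ : (Z.card : ℤ) ≤ ∑ ζ : ↥Z, (2 * t ζ + 1) ^ 2 := by
    have : ∑ _ζ : ↥Z, (1 : ℤ) ≤ ∑ ζ : ↥Z, (2 * t ζ + 1) ^ 2 := Finset.sum_le_sum fun ζ _ => by
      have := sq_pos_of_ne_zero (show 2 * t ζ + 1 ≠ 0 by omega); omega
    simpa using this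
  rw [Nat.cast_sub Nat.card_pos, Nat.cast_one] at hb
  have hq : (3 : ℤ) ≤ Nat.card W₁ := by exact_mod_cast h.three_le.1
  have hp : (0 : ℤ) ≤ Nat.card W₂ := Nat.cast_nonneg _
  have hc0 : 0 ≤ ((Nat.card W₁ : ℤ) - 1) * c χ₁ ^ 2 - 2 * c χ₁ := by
    rcases le_or_gt (c χ₁) 0 with hc' | hc' <;> nlinarith
  have hfin : (Nat.card W₂ : ℤ) * Z.card ≤ (d' : ℤ) - 1 := by
    rw [← hnorm χ₁]
    exact mul_le_mul_of_nonneg_left (by linarith) hp
  omega

end Cfsg.Agent.OddFinal
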