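import Mathlib

/-!
# The long side has the larger quotient

For odd `3 ≤ q < p`: `p (((p^q - 1)/(p - 1)) - 1) < q (((q^p - 1)/(q - 1)) - 1)`.
-/

set_option autoImplicit false

namespace Cfsg.Agent.OddFinal

theorem succ_pow_lt {n : ℕ} (hn : 3 ≤ n) : (n + 1) ^ n < n ^ (n + 1) := by
  induction n, hn using Nat.le_induction with
  | base => norm_num
  | succ m hm ih =>
    have h1 : (m + 2) ^ (m + 1) * m ^ (m + 1) ≤ (m + 1) ^ (m + 1) * (m + 1) ^ (m + 1) := by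
      rw [← mul_pow, ← mul_pow]; exact Nat.pow_le_pow_left (by nlinarith) _
    have h2 : (m + 1) ^ (m + 1) * (m + 1) ^ (m + 1) = (m + 1) ^ m * (m + 1) ^ (m + 2) := by ring
    have h3 : (m + 1) ^ m * (m + 1) ^ (m + 2) < m ^ (m + 1) * (m + 1) ^ (m + 2) :=
      Nat.mul_lt_mul_of_pos_right ih (pow_pos (by omega) _)
    refine Nat.lt_of_mul_lt_mul_right (a := m ^ (m + 1)) ?_
    rw [show m + 1 + 1 = m + 2 from rfl]
    calc (m + 2) ^ (m + 1) * m ^ (m + 1) ≤ (m + 1) ^ m * (m + 1) ^ (m + 2) := h1.trans h2.le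
      _ < m ^ (m + 1) * (m + 1) ^ (m + 2) := h3
      _ = (m + 1) ^ (m + 2) * m ^ (m + 1) := mul_comm _ _

theorem pow_swap_lt {p q : ℕ} (hq : 3 ≤ q) (hqp : q < p) : p ^ q < q ^ p := by
  induction p, hqp using Nat.le_induction with
  | base => exact succ_pow_lt hq
  | succ p hp ih =>
    have hp' : q ≤ p := by omega
    have h1 : (p + 1) ^ q * q ^ q ≤ (q + 1) ^ q * p ^ q := by
      rw [← mul_pow, ← mul_pow]; exact Nat.pow_le_pow_left (by nlinarith) _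
    refine Nat.lt_of_mul_lt_mul_right (a := q ^ q) (lt_of_le_of_lt h1 ?_)
    calc (q + 1) ^ q * p ^ q < q ^ (q + 1) * q ^ p :=
          Nat.mul_lt_mul'' (succ_pow_lt hq) ih
      _ = q ^ (p + 1) * q ^ q := by ring

theorem partner_arith {p q : ℕ} (hq : 3 ≤ q) (hqp : q + 2 ≤ p) :
    p * ((p ^ q - 1) / (p - 1) - 1) < q * ((q ^ p - 1) / (q - 1) - 1) := by
  obtain ⟨N, hN⟩ : ∃ N, (p ^ q - 1) / (p - 1) = N := ⟨_, rfl⟩
  obtain ⟨N', hN'⟩ : ∃ N, (q ^ p - 1) / (q - 1) = N := ⟨_, rfl⟩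
  have e1 : (p - 1) * N = p ^ q - 1 := by
    rw [← hN, Nat.mul_div_cancel' (Nat.sub_one_dvd_pow_sub_one p q)]
  have e2 : (q - 1) * N' = q ^ p - 1 := by
    rw [← hN', Nat.mul_div_cancel' (Nat.sub_one_dvd_pow_sub_one q p)]
  rw [hN, hN']
  have hlt := pow_swap_lt hq (show q < p by omega)
  obtain ⟨a, rfl⟩ : ∃ a, p = a + 1 := ⟨p - 1, by omega⟩
  obtain ⟨b, rfl⟩ : ∃ b, q = b + 1 := ⟨q - 1, by omega⟩
  simp only [Nat.add_sub_cancel] at e1 e2
  have hN1 : 1 ≤ N := by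
    by_contra h
    simp [show N = 0 by omega] at e1
    have : 1 < (a + 1) ^ (b + 1) := Nat.one_lt_pow (by omega) (by omega)
    omega
  have hN2 : 1 ≤ N' := by
    by_contra h
    simp [show N' = 0 by omega] at e2
    have : 1 < (b + 1) ^ (a + 1) := Nat.one_lt_pow (by omega) (by omega)
    omega
  obtain ⟨M, rfl⟩ : ∃ M, N = M + 1 := ⟨N - 1, by omega⟩
  obtain ⟨M', rfl⟩ : ∃ M, N' = M + 1 := ⟨N' - 1, by omega⟩
  simp only [Nat.add_sub_cancel]
  have hp3 : (a + 1) ^ 3 ≤ (a + 1) ^ (b + 1) := Nat.pow_le_pow_right (by omega) hq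
  have h1 : a * (M + 1) + 1 = (a + 1) ^ (b + 1) := by
    have : 1 ≤ (a + 1) ^ (b + 1) := Nat.one_le_pow _ _ (by omega)
    omega
  have h2 : b * (M' + 1) + 1 = (b + 1) ^ (a + 1) := by omega
  have h3 : a * (M + 1) < b * (M' + 1) := by omega
  by_contra hcon
  push_neg at hcon
  -- multiply by `a b`
  have h4 : a * b * ((b + 1) * M') ≤ a * b * ((a + 1) * M) := Nat.mul_le_mul_left _ hcon
  have h5 : a * (b + 1) * (a * (M + 1)) + a * (b + 1) ≤ a * (b + 1) * (b * (M' + 1)) := by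
    have := Nat.mul_le_mul_left (a * (b + 1)) h3
    rw [Nat.mul_succ] at this
    exact this
  have h6 : (a + 1) ^ 2 * (a + 1) ≤ a * (M + 1) + 1 := by
    rw [h1]; simpa [pow_succ] using hp3
  nlinarith [Nat.mul_le_mul hqp (le_refl b)]

end Cfsg.Agent.OddFinal
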