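import Cfsg.Agent.OddFinal.PairShape
import Cfsg.Agent.OddFinal.DerivedPartner
import Cfsg.Agent.OddFinal.PowArith

/-!
# The long member is of Type II
-/

set_option autoImplicit false
set_option linter.unusedSectionVars false

namespace Cfsg.Agent.OddFinal

open Subgroup Cfsg Cfsg.Agent.Char CyclicTI
open scoped _root_.Classical

universe u

variable {G : Type u} [Group G] [Fintype G] {S T W₁ W₂ U V H₀ H₁ : Subgroup G} [Fintype ↥S]
  [Fintype ↥T] {η : (↥(W₁ ⊔ W₂) →* ℂˣ) → G → ℂ}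

theorem sq_add_two_le {p q : ℕ} (hq : 3 ≤ q) (hp : 2 ≤ p) :
    p ^ 2 + p + 1 ≤ (p ^ q - 1) / (p - 1) := by
  rw [← Nat.geomSum_eq hp]
  refine le_trans ?_ (Finset.sum_le_sum_of_subset (Finset.range_mono hq))
  simp [Finset.sum_range_succ]
  omega

variable (hG : IsMinSimpleOddOrder G) (h : Pair S T W₁ W₂ U V)
  (hη : IsCyclicTIFamily W₁ W₂ η) (kS : Kit S W₁ U W₂ H₀ η)
  (kT : Kit T W₂ V W₁ H₁ (fun f => η (swapHom f))) (hqp : Nat.card W₁ < Nat.card W₂)

include hG h hη kS kT hqp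

/-- The long member is of Type II. -/
theorem typeII_long : IsOfTypeII T := by
  by_contra hII
  obtain ⟨⟨-, hdT, -⟩, hcases⟩ := pair_outcome hG h hη kS kT hqp
  obtain ⟨X, μ, π, hs, hb, -, -⟩ := kS.chars
  obtain ⟨X', μ', π', hs', hb', -, hder⟩ := kT.chars
  obtain ⟨Z, hD⟩ := hder hII
  obtain ⟨d1, -, d3⟩ :=
    h.symm.disjoint_kernels hG (sharp_derived_subset hG h.maxT h.typeT hII) kS.sub
  have hW := isSelfNormalizingCyclic_swap h.dataS.selfNormalizing
  have hη' := eta_swap hη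
  have hq : 3 ≤ Nat.card W₁ := by
    have h1 := kS.chief.prime_W₁.two_le
    obtain ⟨k, hk⟩ := odd_card hG W₁
    omega
  have hp : Nat.card W₁ + 2 ≤ Nat.card W₂ := by
    have := odd_lt_add_two (odd_card hG W₂) (odd_card hG W₁) hqp
    omega
  have hsS : IsSide S W₁ W₂ (kerK S U H₀) ((cKer S U H₀).relIndex U) X μ
      (fun f => (fun g => η (swapHom g)) (swapHom f)) := by
    simpa only [swapHom_swapHom] using hs
  rcases first_or_second hs' hsS hD hW hη' hG.1 d1 with hP | ⟨-, h0⟩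
  · exact false_of_firstPattern hs' hsS hD hW hη' hG.1 d1 hb'
      (chief_shape_facts hG h.maxT h.dataT kT.chief).1.1
      (seven_le_relIndex hG h.maxS h.dataS kS.chief hq) d3 hP
  have hctx := derived_ctx hs' hsS hD hW hη' hG.1 d1
  have hctx' := ctx_of_sides' hs' hsS hW hη' hG.1
    (d1.mono_left (conjAll_subset (A := sharp (kerK T V H₁))
      (B := sharp ⁅T, T⁆) fun _ hx => ⟨hD.K_le hx.1, hx.2⟩))
  have hdS : (cKer S U H₀).relIndex U ≤
      (Nat.card W₂ ^ Nat.card W₁ - 1) / (Nat.card W₂ - 1) := by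
    rcases hcases with ⟨-, -, e⟩ | ⟨-, -, -, e⟩ | ⟨-, e3, -, e⟩ | ⟨-, e5, e3, e, -⟩
    · exact e.le
    · rw [← e]; exact Nat.le_mul_of_pos_left _ (by omega)
    · refine le_trans ?_ (sq_add_two_le hq (by omega))
      have : (Nat.card W₂ - 1) ^ 2 ≤ Nat.card W₂ ^ 2 := Nat.pow_le_pow_left (Nat.sub_le _ _) _
      omega
    · rw [e, e5, e3]; norm_num
  have hcZ := hD.card_Z
  have hN := sq_add_two_le hq (show 2 ≤ Nat.card W₂ by omega)
  have harith := partner_arith hq hp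
  rw [← hdT, ← hcZ, Nat.add_sub_cancel] at harith
  have h3 : 3 ≤ Z.card := by
    by_contra hlt
    have h1 : Nat.card W₁ * (Nat.card W₂ * Z.card) ≤ Nat.card W₂ * (Nat.card W₁ * 2) := by
      rw [mul_left_comm]; exact Nat.mul_le_mul_left _ (Nat.mul_le_mul_left _ (by omega))
    have h2 := lt_of_lt_of_le harith h1
    have h4 := Nat.lt_of_mul_lt_mul_left h2
    have h5 : Nat.card W₂ * 3 ≤ Nat.card W₂ ^ 2 := by
      rw [pow_two]; exact Nat.mul_le_mul_left _ (by omega)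
    omega
  have hbound := hD.partner_bound hctx d1 h0 hctx'
    (show IsBridge S W₁ W₂ (kerK S U H₀) ((cKer S U H₀).relIndex U) X μ π from hb) d1 h3
  have h5 : Nat.card W₂ * (Nat.card W₁ * Z.card) ≤
      Nat.card W₂ * ((Nat.card W₂ ^ Nat.card W₁ - 1) / (Nat.card W₂ - 1) - 1) :=
    Nat.mul_le_mul_left _ (by omega)
  rw [mul_left_comm] at h5
  exact absurd (lt_of_le_of_lt h5 harith) (lt_irrefl _)

end Cfsg.Agent.OddFinal
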