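import Cfsg.Agent.OddFinal.TwoChar

/-!
# The covering inequality for the two sides of a pair

With `D = p - 1 + q |X|` and `D'` the same for the other side the inequality is
`(1/p)(1 - 1/D') + 1/(q (d + 1/D)) ≤ 1/(q d) + 1/(p d') + q/D`.
-/

set_option autoImplicit false
set_option linter.unusedSectionVars false

namespace Cfsg.Agent.OddFinal

open Cfsg Char CyclicTI
open scoped ComplexConjugate
open scoped _root_.Classical

universe u

variable {G : Type u} [Group G] [Fintype G] {M W₁ W₂ K : Subgroup G} [Fintype ↥M] {d : ℕ}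
  {X : Finset (↥M → ℂ)} {μ : (↥(W₁ ⊔ W₂) →* ℂˣ) → ↥M → ℂ}
  {η : (↥(W₁ ⊔ W₂) →* ℂˣ) → G → ℂ}

/-- `D` as a natural number. -/
noncomputable def orbitNat (W₁ W₂ : Subgroup G) {α : Type*} (X : Finset α) : ℕ :=
  Nat.card W₂ - 1 + Nat.card W₁ * X.card

theorem orbitCount_eq (X : Finset (↥M → ℂ)) :
    orbitCount W₁ W₂ X = (orbitNat W₁ W₂ X : ℝ) := by
  rw [orbitCount, orbitNat, Nat.cast_add, Nat.cast_mul, Nat.cast_sub Nat.card_pos, Nat.cast_one]

theorem nonempty_of_lt {X : Finset (↥M → ℂ)} (h : Nat.card W₂ - 1 < orbitNat W₁ W₂ X) :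
    X.Nonempty := by
  rcases X.eq_empty_or_nonempty with e | e
  · subst e; simp [orbitNat] at h
  · exact e

/-- The conjugates of the kernel cover at most `1 / (q d)` of the group. -/
theorem IsSide.mass_sharp_le (hs : IsSide M W₁ W₂ K d X μ η) :
    mass (conjAll (sharp K)) (fun _ => 1) ≤ 1 / ((Nat.card W₁ : ℝ) * d) := by
  have hnorm : ∀ x k : M, ((k * x * k⁻¹ : ↥M) : G) ∈ sharp K ↔ (x : G) ∈ sharp K := fun x k => by
    have h1 : (k : G) * x * (k : G)⁻¹ ∈ K ↔ (x : G) ∈ K :=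
      (Subgroup.mem_normalizer_iff.1 (hs.normal k.2) x).symm
    simp only [sharp, Set.mem_diff, SetLike.mem_coe, Set.mem_singleton_iff, Subgroup.coe_mul,
      Subgroup.coe_inv, conj_eq_one_iff, h1]
  set f : ↥M → ℂ := fun x => if (x : G) ∈ sharp K then 1 else 0 with hf
  have hc : IsClassFunction ↥M f := fun g k => by simp only [hf, hnorm]
  have hsf : ∀ x : M, (x : G) ∉ sharp K ∪ conjIn M (vSet W₁ W₂) → f x = 0 :=
    fun x hx => if_neg fun h' => hx (Or.inl h')
  have hpos : (0 : ℝ) < (Nat.card W₁ : ℝ) * d := by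
    have := Nat.card_pos (α := M)
    rw [hs.card_eq] at this
    exact_mod_cast Nat.pos_of_mul_pos_right this
  calc mass (conjAll (sharp K)) (fun _ => 1)
      = mass (conjAll (sharp K)) (indFun M f) := by
        refine mass_congr fun g hg => ?_
        obtain ⟨y, a, ha, rfl⟩ := hg
        rw [isClassFunction_indFun M f a y,
          indFun_coe hs.dade hc hsf (a := ⟨a, hs.K_le ha.1⟩) (Or.inl ha),
          show f ⟨a, hs.K_le ha.1⟩ = 1 from if_pos ha]
    _ ≤ (classInner (indFun M f) (indFun M f)).re := mass_le_norm _ _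
    _ ≤ _ := by
      rw [inner_ind hs.dade hc hsf hsf, classInner_self_eq, Complex.ofReal_re, hs.card_eq,
        Nat.cast_mul, Nat.cast_mul, mul_inv, one_div, mul_assoc]
      refine mul_le_of_le_one_right (by positivity) ?_
      rw [inv_mul_le_one₀ (by exact_mod_cast Nat.card_pos)]
      calc ∑ x : M, Complex.normSq (f x)
          ≤ ∑ x : M, (if (x : G) ∈ K then (1 : ℝ) else 0) := Finset.sum_le_sum fun x _ => by
            simp only [hf]
            split_ifs with h1 h2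
            · simp
            · exact absurd h1.1 h2
            · simp
            · simp
        _ = (Nat.card K : ℝ) := by
            rw [Finset.sum_boole, Nat.card_congr (Subgroup.subgroupOfEquivOfLe hs.K_le).symm.toEquiv,
              Nat.card_eq_fintype_card, Fintype.card_subtype]
            simp [Subgroup.mem_subgroupOf]

variable {T K' : Subgroup G} [Fintype ↥T] {d' : ℕ} {X' : Finset (↥T → ℂ)}
  {μ' : (↥(W₂ ⊔ W₁) →* ℂˣ) → ↥T → ℂ}

/-- Two sides give the context of the first. -/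
theorem ctx_of_sides (hs : IsSide M W₁ W₂ K d X μ η)
    (hs' : IsSide T W₂ W₁ K' d' X' μ' (fun f => η (swapHom f)))
    (hW : IsSelfNormalizingCyclic W₁ W₂) (hη : IsCyclicTIFamily W₁ W₂ η)
    (hodd : Odd (Nat.card G)) (hKK : Disjoint (conjAll (sharp K)) (conjAll (sharp K'))) :
    Ctx M W₁ W₂ K d X μ η (conjAll (sharp K')) :=
  ⟨hs, hW, hη, hodd, rowUniform_of_swap hs', hKK⟩

theorem ctx_of_sides' (hs : IsSide M W₁ W₂ K d X μ η)
    (hs' : IsSide T W₂ W₁ K' d' X' μ' (fun f => η (swapHom f)))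
    (hW : IsSelfNormalizingCyclic W₁ W₂) (hη : IsCyclicTIFamily W₁ W₂ η)
    (hodd : Odd (Nat.card G)) (hKK : Disjoint (conjAll (sharp K)) (conjAll (sharp K'))) :
    Ctx T W₂ W₁ K' d' X' μ' (fun f => η (swapHom f)) (conjAll (sharp K)) :=
  ⟨hs', isSelfNormalizingCyclic_swap hW, eta_swap hη, hodd,
    rowUniform_of_swap (η := fun f => η (swapHom f)) (μ' := μ)
      (by simpa only [swapHom_swapHom] using hs),
    hKK.symm⟩

/-- The inequality of the two sides. -/
theorem pair_ineq (hs : IsSide M W₁ W₂ K d X μ η)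
    (hs' : IsSide T W₂ W₁ K' d' X' μ' (fun f => η (swapHom f))) {π : ↥M → ℂ}
    (hb : IsBridge M W₁ W₂ K d X μ π) (hW : IsSelfNormalizingCyclic W₁ W₂)
    (hη : IsCyclicTIFamily W₁ W₂ η) (hodd : Odd (Nat.card G))
    (hKK : Disjoint (conjAll (sharp K)) (conjAll (sharp K')))
    (hKV : Disjoint (conjAll (sharp K')) (conjAll (vSet W₁ W₂)))
    (hX : Nat.card W₂ - 1 < orbitNat W₁ W₂ X) :
    (1 / (Nat.card W₂ : ℝ)) * (1 - 1 / (orbitNat W₂ W₁ X' : ℝ)) +
        1 / ((Nat.card W₁ : ℝ) * ((d : ℝ) + 1 / (orbitNat W₁ W₂ X : ℝ))) ≤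
      1 / ((Nat.card W₁ : ℝ) * d) + 1 / ((Nat.card W₂ : ℝ) * d') +
        (Nat.card W₁ : ℝ) / (orbitNat W₁ W₂ X : ℝ) := by
  have h := ctx_of_sides hs hs' hW hη hodd hKK
  have h' := ctx_of_sides' hs hs' hW hη hodd hKK
  obtain ⟨b, R, hR⟩ := h.exists_data
  obtain ⟨b', R', hR'⟩ := h'.exists_data
  obtain ⟨χ, hχ⟩ := nonempty_of_lt hX
  have hT : ∀ φ : Left W₁ W₂, φ.1 ≠ 1 →
      (1 - 1 / orbitCount W₂ W₁ X') / (Nat.card W₂ : ℝ) ≤ mass (conjAll (sharp K')) (η φ.1) :=
    fun φ hφ => h'.mass_right_ge hR' (ψ := ⟨swapHom φ.1, fun _ hw => φ.2 _ hw⟩)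
      fun e => hφ (swapHom_injective (e.trans swapHom_one.symm))
  have key := h.two_char hR hb hχ hKV hT
  have a1 := hs.mass_sharp_le
  have a2 := hs'.mass_sharp_le
  rw [orbitCount_eq, orbitCount_eq] at key
  rw [one_div_mul_eq_div]
  linarith

end Cfsg.Agent.OddFinal
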