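import Cfsg.Agent.OddFinal.TypeTwo
import Cfsg.Agent.Coprime.Generation
import Mathlib.GroupTheory.Perm.Cycle.Type
import Mathlib.RingTheory.RootsOfUnity.Basic
import Mathlib.RingTheory.IntegralDomain

/-!
# The two possibilities for the action of `U` on `M_F` for a member of Type II

Either `U` acts irreducibly on `P = M_F`: then `U/C` is cyclic, acts without fixed points, and its
order divides `(p ^ q - 1) / (p - 1)` and is prime to `p - 1`; or `P` is the product of `q` lines
normalised by `U`, and `|U : C|` divides `m ^ (q - 1)` with `m` the odd part of `p - 1`.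
-/

set_option autoImplicit false
set_option linter.unusedSectionVars false
set_option linter.style.haveILetI false

namespace Cfsg.Agent.OddFinal.TypeTwo

open Subgroup Cfsg

universe u

/-- The elements of the abelian `P` on which conjugation by `u` is the `k`-th power. -/
def powerSet {G : Type u} [Group G] (P : Subgroup G) [IsMulCommutative P] (u : G) (k : ℕ) :
    Subgroup G where
  carrier := {y | y ∈ P ∧ u * y * u⁻¹ = y ^ k}
  one_mem' := ⟨P.one_mem, by rw [one_pow, mul_one, mul_inv_cancel]⟩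
  inv_mem' := fun {a} ha => ⟨P.inv_mem ha.1, by
    rw [inv_pow, ← ha.2, mul_inv_rev, mul_inv_rev, inv_inv, mul_assoc]⟩
  mul_mem' := fun {a b} ha hb => ⟨P.mul_mem ha.1 hb.1, by
    have hc : Commute a b := congrArg Subtype.val
      (IsMulCommutative.is_comm.comm (⟨a, ha.1⟩ : P) ⟨b, hb.1⟩)
    rw [hc.mul_pow, ← ha.2, ← hb.2]; group⟩

theorem mem_powerSet {G : Type u} [Group G] {P : Subgroup G} [IsMulCommutative P] {u y : G}
    {k : ℕ} : y ∈ powerSet P u k ↔ y ∈ P ∧ u * y * u⁻¹ = y ^ k :=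
  Iff.rfl

variable {G : Type u} [Group G] [Finite G] {M W₁ U W₂ : Subgroup G}

/-- `U` acts irreducibly on `M_F`. -/
def IsIrred (M U : Subgroup G) : Prop :=
  ∀ N : Subgroup G, N ≤ fittingHallOf M → U ≤ normalizer (N : Set G) →
    N = ⊥ ∨ N = fittingHallOf M

variable (hG : IsMinSimpleOddOrder G) (hM : IsCoatom M) (hd : IsTypePWith M W₁ U W₂)
  (hII : IsOfTypeII M) (hp : (Nat.card W₂).Prime)

include hG hM hd hII

/-- Only elements of `C` act on `M_F` as a power map. -/
theorem mem_C_of_scalar {u : G} (hu : u ∈ U) {k : ℕ}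
    (h : ∀ y ∈ fittingHallOf M, u * y * u⁻¹ = y ^ k) :
    u ∈ U ⊓ centralizer (fittingHallOf M : Set G) := by
  obtain ⟨w, hw, hw1⟩ := OddLocal.exists_mem_ne_one _ hd.W₁_ne
  haveI := U_comm hG hM hd hII
  have hwn := sup_le_normalizer hd (mem_sup_right hw)
  have hwU : w * u * w⁻¹ ∈ U := (mem_normalizer_iff.1 (hd.U_normal hw) u).1 hu
  refine mem_C_of_commutator hG hM hd hII hu hw hw1 (mem_inf.2
    ⟨U.mul_mem hwU (U.inv_mem hu), mem_centralizer_iff.2 fun y hy => ?_⟩)
  have hu' : u⁻¹ * y * u ∈ fittingHallOf M :=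
    (mem_normalizer_iff''.1 (sup_le_normalizer hd (mem_sup_left hu)) y).1 hy
  have hy' : w⁻¹ * (u⁻¹ * y * u) * w ∈ fittingHallOf M :=
    (mem_normalizer_iff''.1 hwn _).1 hu'
  have e : (w * u * w⁻¹ * u⁻¹) * y * (w * u * w⁻¹ * u⁻¹)⁻¹ = y := by
    have e1 : (w * u * w⁻¹ * u⁻¹) * y * (w * u * w⁻¹ * u⁻¹)⁻¹ =
        w * (u * (w⁻¹ * (u⁻¹ * y * u) * w) * u⁻¹) * w⁻¹ := by group
    rw [e1, h _ hy', ← conj_pow,
      show w * (w⁻¹ * (u⁻¹ * y * u) * w) * w⁻¹ = u⁻¹ * y * u by group, ← h _ hu']
    group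
  exact (mul_inv_eq_iff_eq_mul.1 e).symm

omit hII in
theorem normalizer_inf_centralizer {v : G} (hv : v ∈ U) {D : Subgroup G}
    (hD : v ∈ centralizer (D : Set G)) :
    v ∈ normalizer ((fittingHallOf M ⊓ centralizer (D : Set G) : Subgroup G) : Set G) :=
  inf_normalizer_le_normalizer_inf ⟨sup_le_normalizer hd (mem_sup_left hv),
    mem_normalizer_centralizer (centralizer_le_normalizer (D : Set G) hD)⟩

/-- In the irreducible case every stabiliser is `C`. -/
theorem stabilizer_of_irred (hirr : IsIrred M U) {x : G} (hx : x ∈ fittingHallOf M)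
    (hx1 : x ≠ 1) :
    U ⊓ centralizer ({x} : Set G) = U ⊓ centralizer (fittingHallOf M : Set G) := by
  refine le_antisymm (fun v hv => ⟨hv.1, ?_⟩) (inf_le_inf_left _ (centralizer_le
    (Set.singleton_subset_iff.2 hx)))
  haveI := U_comm hG hM hd hII
  have hUD : ∀ g ∈ U, g ∈ centralizer ((U ⊓ centralizer ({x} : Set G) : Subgroup G) : Set G) :=
    fun g hg => mem_centralizer_iff.2 fun d hd' => congrArg Subtype.val
      (IsMulCommutative.is_comm.comm (⟨d, (mem_inf.1 hd').1⟩ : U) ⟨g, hg⟩)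
  rcases hirr _ inf_le_left (fun g hg => normalizer_inf_centralizer hG hM hd hg (hUD g hg))
    with e | e
  · refine absurd (mem_bot.1 (e ▸ (mem_inf.2 ⟨hx, mem_centralizer_iff.2 fun d hd' =>
      mem_centralizer_singleton_iff.1 (mem_inf.1 hd').2⟩))) hx1
  · exact mem_centralizer_iff.2 fun y hy =>
      (mem_centralizer_iff.1 (mem_inf.1 (e.ge hy)).2 v hv).symm

include hp

/-- In the irreducible case `U/C` is cyclic. -/
theorem exists_generator (hirr : IsIrred M U) :
    ∃ g ∈ U, (U ⊓ centralizer (fittingHallOf M : Set G)) ⊔ zpowers g = U := by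
  set C := U ⊓ centralizer (fittingHallOf M : Set G) with hC
  by_contra h
  push Not at h
  haveI := U_comm hG hM hd hII
  obtain ⟨r, hr, hrA, a, ha, b, hb, har, hbr, hane, hbne⟩ :=
    Coprime.exists_pair (A := U) (D := C) fun a ha => by
      rw [inf_eq_right.2 (inf_le_left : C ≤ U)]
      exact h a ha
  have hcop := (coprime_sup hd).symm
  have hle : closure {a, b} ≤ U := by
    rw [closure_le]; rintro x (rfl | rfl) <;> assumption
  refine fitting_ne_bot hG hM hd hII hp (le_bot_iff.1 (Coprime.le_of_centralizers_le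
    (congrArg Subtype.val (IsMulCommutative.is_comm.comm (⟨a, ha⟩ : U) ⟨b, hb⟩))
    (sup_le_normalizer hd (mem_sup_left ha)) (sup_le_normalizer hd (mem_sup_left hb)) hr
    (mem_inf.1 har).2 (mem_inf.1 hbr).2
    (hcop.coprime_dvd_left (hrA.trans (card_dvd_of_le le_sup_left)))
    (hcop.coprime_dvd_left (card_dvd_of_le (hle.trans le_sup_left))) ?_ fun k => ?_))
  · refine fun y hy => mem_bot.2 (by_contra fun hy1 => hane ?_)
    rw [hC, ← stabilizer_of_irred hG hM hd hII hirr (mem_inf.1 hy).1 hy1]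
    exact ⟨ha, mem_centralizer_singleton_iff.2 (mem_centralizer_singleton_iff.1 (mem_inf.1 hy).2).symm⟩
  · refine fun y hy => mem_bot.2 (by_contra fun hy1 => hbne k ?_)
    rw [hC, ← stabilizer_of_irred hG hM hd hII hirr (mem_inf.1 hy).1 hy1]
    exact ⟨U.mul_mem (pow_mem ha k) hb,
      mem_centralizer_singleton_iff.2 (mem_centralizer_singleton_iff.1 (mem_inf.1 hy).2).symm⟩

/-- The number of lines of `M_F`. -/
theorem card_lines :
    Nat.card {L : Subgroup G // L ≤ fittingHallOf M ∧ Nat.card L = Nat.card W₂} =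
      ∑ i ∈ Finset.range (Nat.card W₁), Nat.card W₂ ^ i := by
  classical
  set P := fittingHallOf M with hP
  set α := {L : Subgroup G // L ≤ P ∧ Nat.card L = Nat.card W₂}
  haveI := Fact.mk hp
  have hel := fitting_elementary hG hM hd hII hp
  let f : {x : P // x ≠ 1} → α := fun x => ⟨zpowers ((x.1 : P) : G), zpowers_le.2 x.1.2, by
    rw [Nat.card_zpowers, orderOf_eq_prime (hel.2 _ x.1.2) fun e => x.2 (Subtype.ext e)]⟩
  have hne : ∀ H : Subgroup G, Nat.card {x : H // x ≠ 1} = Nat.card H - 1 := fun H => by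
    haveI := Fintype.ofFinite H
    rw [Nat.card_eq_fintype_card, Nat.card_eq_fintype_card, Fintype.card_subtype_compl,
      Fintype.card_subtype_eq]
  have hfib : ∀ L : α, Nat.card {x : {x : P // x ≠ 1} // f x = L} = Nat.card W₂ - 1 := fun L => by
    rw [← L.2.2, ← hne]
    refine Nat.card_congr
      { toFun := fun x => ⟨⟨((x.1.1 : P) : G), (congrArg Subtype.val x.2).le (mem_zpowers _)⟩,
          fun e => x.1.2 (Subtype.ext (congrArg (fun z : L.1 => (z : G)) e))⟩
        invFun := fun x => ⟨⟨⟨(x.1 : G), L.2.1 x.1.2⟩, fun e =>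
          x.2 (Subtype.ext (congrArg (fun z : P => (z : G)) e))⟩, Subtype.ext ?_⟩
        left_inv := fun x => rfl
        right_inv := fun x => rfl }
    refine eq_of_le_of_card_ge (zpowers_le.2 x.1.2) (le_of_eq ?_)
    show Nat.card L.1 = Nat.card (zpowers (x.1 : G))
    refine L.2.2.trans ?_
    rw [Nat.card_zpowers]
    exact (orderOf_eq_prime (hel.2 _ (L.2.1 x.1.2)) fun e => x.2 (Subtype.ext e)).symm
  haveI := Fintype.ofFinite α
  have h1 : Nat.card {x : P // x ≠ 1} = Nat.card α * (Nat.card W₂ - 1) := by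
    rw [← Nat.card_congr (Equiv.sigmaFiberEquiv f), Nat.card_sigma,
      Finset.sum_congr rfl fun L _ => hfib L, Finset.sum_const, Finset.card_univ, smul_eq_mul,
      Nat.card_eq_fintype_card (α := α)]
  rw [hne, card_fitting hG hM hd hII] at h1
  have h2 := geom_sum_mul_add (Nat.card W₂ - 1) (Nat.card W₁)
  rw [Nat.sub_add_cancel hp.one_le] at h2
  refine Nat.eq_of_mul_eq_mul_right (Nat.sub_pos_of_lt hp.one_lt) (h1.symm.trans ?_)
  omega

/-- In the irreducible case `|U : C|` is prime to `p - 1`. -/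
theorem coprime_pred (hirr : IsIrred M U) :
    ((U ⊓ centralizer (fittingHallOf M : Set G)).relIndex U).Coprime (Nat.card W₂ - 1) := by
  classical
  set P := fittingHallOf M with hP
  set C := U ⊓ centralizer (P : Set G) with hC
  refine Nat.coprime_of_dvd fun r hr h1 h2 => ?_
  haveI := Fact.mk hr
  haveI := U_comm hG hM hd hII
  haveI : (C.subgroupOf U).Normal := normal_subgroupOf_of_le_normalizer
    (le_sup_left.trans (sup_le_normalizer_C hG hM hd hII))
  rw [Subgroup.relIndex, index_eq_card] at h1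
  obtain ⟨a, ha⟩ := exists_prime_orderOf_dvd_card' r h1
  obtain ⟨u, rfl⟩ := QuotientGroup.mk_surjective a
  have hur : (u : G) ^ r ∈ C := by
    have h3 := pow_orderOf_eq_one (u : U ⧸ C.subgroupOf U)
    rw [ha, ← QuotientGroup.mk_pow, QuotientGroup.eq_one_iff, mem_subgroupOf,
      SubgroupClass.coe_pow] at h3
    exact h3
  have huC : (u : G) ∉ C := fun h => by
    rw [show (u : U ⧸ C.subgroupOf U) = 1 from (QuotientGroup.eq_one_iff u).2 h,
      orderOf_one] at ha
    exact hr.one_lt.ne ha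
  refine huC ?_
  have hun := sup_le_normalizer hd (mem_sup_left u.2)
  set α := {L : Subgroup G // L ≤ P ∧ Nat.card L = Nat.card W₂}
  haveI := Fintype.ofFinite α
  let φ : U → α → α := fun v L => ⟨L.1.map (MulAut.conj (v : G)).toMonoidHom, by
      rintro _ ⟨y, hy, rfl⟩
      exact (mem_normalizer_iff.1 (sup_le_normalizer hd (mem_sup_left v.2)) y).1 (L.2.1 hy),
    by rw [card_map_of_injective (MulAut.conj (v : G)).injective, L.2.2]⟩
  have hmul : ∀ v v' : U, ∀ L, φ (v * v') L = φ v (φ v' L) := fun v v' L => Subtype.ext (by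
    ext z
    simp [φ, mul_assoc])
  have hone : ∀ L, φ 1 L = L := fun L => Subtype.ext (by ext z; simp [φ])
  let σ : Equiv.Perm α :=
    { toFun := φ u
      invFun := φ u⁻¹
      left_inv := fun L => by rw [← hmul, inv_mul_cancel, hone]
      right_inv := fun L => by rw [← hmul, mul_inv_cancel, hone] }
  have hpow : ∀ (n : ℕ) (L : α), (σ ^ n) L = φ (u ^ n) L := by
    intro n L
    induction n with
    | zero => simp [hone]
    | succ n ih => rw [pow_succ', Equiv.Perm.mul_apply, ih, pow_succ', hmul]; rfl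
  have hσ : σ ^ r ^ 1 = 1 := by
    rw [pow_one]
    refine Equiv.ext fun L => Subtype.ext ?_
    rw [hpow, Equiv.Perm.one_apply]
    have hfix : ∀ y ∈ L.1, (u : G) ^ r * y * ((u : G) ^ r)⁻¹ = y := fun y hy => by
      rw [← mem_centralizer_iff.1 (mem_inf.1 hur).2 y (L.2.1 hy), mul_inv_cancel_right]
    ext z
    simp only [φ, OddLocal.mem_map_conj_iff, SubgroupClass.coe_pow]
    constructor
    · intro h
      have := hfix _ h
      rw [show (u : G) ^ r * (((u : G) ^ r)⁻¹ * z * (u : G) ^ r) * ((u : G) ^ r)⁻¹ = z by group]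
        at this
      rwa [← this] at h
    · intro hz
      have := hfix z hz
      rwa [show ((u : G) ^ r)⁻¹ * z * (u : G) ^ r = z by
        rw [mul_inv_eq_iff_eq_mul] at this
        rw [mul_assoc, ← this, inv_mul_cancel_left]]
  have hcard : ¬ r ∣ Fintype.card α := by
    rw [← Nat.card_eq_fintype_card, card_lines hG hM hd hII hp]
    intro hd'
    rw [← ZMod.natCast_eq_zero_iff] at hd'
    have hp1 : (Nat.card W₂ : ZMod r) = 1 := by
      have := (ZMod.natCast_eq_zero_iff (Nat.card W₂ - 1) r).2 h2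
      rwa [Nat.cast_sub hp.one_le, Nat.cast_one, sub_eq_zero] at this
    push_cast at hd'
    simp only [hp1, one_pow, Finset.sum_const, Finset.card_range, nsmul_one] at hd'
    rw [ZMod.natCast_eq_zero_iff,
      Nat.prime_dvd_prime_iff_eq hr (card_W₁_prime hG hM hd hII)] at hd'
    have h3 := (relIndex_modEq hG hM hd hII).2.2
    rw [← hd'] at h3
    have h4 : C.relIndex U % r = 1 := Eq.trans h3 (Nat.mod_eq_of_lt hr.one_lt)
    rw [Subgroup.relIndex, index_eq_card, Nat.mod_eq_zero_of_dvd h1] at h4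
    exact zero_ne_one h4
  obtain ⟨⟨L, hLP, hL⟩, hfix⟩ := Equiv.Perm.exists_fixed_point_of_prime hcard hσ
  have hLe : L.map (MulAut.conj (u : G)).toMonoidHom = L := congrArg Subtype.val hfix
  obtain ⟨x, hx, hx1⟩ := OddLocal.exists_mem_ne_one L fun e => hp.one_lt.ne (by
    rw [← hL, e, card_bot])
  haveI := Fact.mk hp
  have hxL : zpowers x = L := by
    refine eq_of_le_of_card_ge (zpowers_le.2 hx) (le_of_eq ?_)
    rw [hL, Nat.card_zpowers,
      orderOf_eq_prime ((fitting_elementary hG hM hd hII hp).2 x (hLP hx)) hx1]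
  have h3 : (u : G) * x * (u : G)⁻¹ ∈ zpowers x := by
    rw [hxL, ← hLe]
    exact ⟨x, hx, by simp⟩
  rw [← mem_powers_iff_mem_zpowers] at h3
  obtain ⟨k, hk⟩ := h3
  haveI := fitting_comm hG hM hd hII hp
  have hall : powerSet P (u : G) k = P := by
    refine (hirr _ (fun y hy => (mem_powerSet.1 hy).1) fun v hv => mem_normalizer_of_conj_mem
      fun y hy => mem_powerSet.2
        ⟨(mem_normalizer_iff.1 (sup_le_normalizer hd (mem_sup_left hv)) y).1 (mem_powerSet.1 hy).1,
          ?_⟩).resolve_left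
        fun e => hx1 (mem_bot.1 (e ▸ (mem_powerSet.2 ⟨hLP hx, hk.symm⟩ :
          x ∈ powerSet P (u : G) k)))
    have hc : (u : G) * v = v * u := congrArg Subtype.val
      (IsMulCommutative.is_comm.comm u ⟨v, hv⟩)
    calc (u : G) * (v * y * v⁻¹) * (u : G)⁻¹ = ((u : G) * v) * y * ((u : G) * v)⁻¹ := by group
      _ = v * ((u : G) * y * (u : G)⁻¹) * v⁻¹ := by rw [hc]; group
      _ = (v * y * v⁻¹) ^ k := by rw [(mem_powerSet.1 hy).2, conj_pow]
  exact mem_C_of_scalar hG hM hd hII u.2 fun y hy => (mem_powerSet.1 (hall.ge hy)).2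

/-- In the irreducible case `|U : C|` divides `p ^ q - 1`. -/
theorem relIndex_dvd_pred_pow (hirr : IsIrred M U) :
    (U ⊓ centralizer (fittingHallOf M : Set G)).relIndex U ∣ Nat.card W₂ ^ Nat.card W₁ - 1 := by
  classical
  set P := fittingHallOf M with hP
  set C := U ⊓ centralizer (P : Set G) with hC
  have hconj : ∀ (v : U) (y : G), y ∈ P → (v : G) * y * (v : G)⁻¹ ∈ P := fun v y hy =>
    (mem_normalizer_iff.1 (sup_le_normalizer hd (mem_sup_left v.2)) y).1 hy
  letI : MulAction U {x : P // x ≠ 1} :=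
    { smul := fun v x => ⟨⟨(v : G) * (x.1 : P) * (v : G)⁻¹, hconj v _ x.1.2⟩,
        fun e => x.2 (Subtype.ext (conj_eq_one_iff.1 (congrArg Subtype.val e)))⟩
      one_smul := fun x => Subtype.ext (Subtype.ext (by
        show ((1 : U) : G) * _ * ((1 : U) : G)⁻¹ = _
        simp))
      mul_smul := fun v v' x => Subtype.ext (Subtype.ext (by
        show ((v * v' : U) : G) * _ * ((v * v' : U) : G)⁻¹ = (v : G) * (_ * _ * _) * (v : G)⁻¹
        simp [mul_assoc])) }
  have hstab : ∀ x : {x : P // x ≠ 1}, MulAction.stabilizer U x = C.subgroupOf U := fun x => by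
    ext v
    rw [MulAction.mem_stabilizer_iff, mem_subgroupOf, hC,
      ← stabilizer_of_irred hG hM hd hII hirr x.1.2 (fun e => x.2 (Subtype.ext e))]
    refine ⟨fun e => mem_inf.2 ⟨v.2, mem_centralizer_singleton_iff.2 ?_⟩, fun h => ?_⟩
    · exact mul_inv_eq_iff_eq_mul.1 (congrArg (fun z => ((z.1 : P) : G)) e)
    · refine Subtype.ext (Subtype.ext ?_)
      exact mul_inv_eq_iff_eq_mul.2 (mem_centralizer_singleton_iff.1 (mem_inf.1 h).2)
  have hne : Nat.card {x : P // x ≠ 1} = Nat.card P - 1 := by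
    haveI := Fintype.ofFinite P
    rw [Nat.card_eq_fintype_card, Nat.card_eq_fintype_card, Fintype.card_subtype_compl,
      Fintype.card_subtype_eq]
  haveI := Fintype.ofFinite (Quotient (MulAction.orbitRel U {x : P // x ≠ 1}))
  rw [← card_fitting hG hM hd hII, ← hne,
    Nat.card_congr (MulAction.selfEquivSigmaOrbitsQuotientStabilizer U {x : P // x ≠ 1}),
    Nat.card_sigma, Finset.sum_congr rfl (g := fun _ => C.relIndex U) fun ω _ => by
      rw [← index_eq_card, hstab, Subgroup.relIndex]]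
  rw [Finset.sum_const, smul_eq_mul]
  exact dvd_mul_left _ _

/-- In the irreducible case `|U : C|` divides `(p ^ q - 1) / (p - 1)`. -/
theorem relIndex_dvd_geom (hirr : IsIrred M U) :
    (U ⊓ centralizer (fittingHallOf M : Set G)).relIndex U ∣
      (Nat.card W₂ ^ Nat.card W₁ - 1) / (Nat.card W₂ - 1) := by
  have h := relIndex_dvd_pred_pow hG hM hd hII hp hirr
  have h1 : Nat.card W₂ - 1 ∣ Nat.card W₂ ^ Nat.card W₁ - 1 := by
    simpa using Nat.sub_dvd_pow_sub_pow (Nat.card W₂) 1 (Nat.card W₁)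
  rw [← Nat.mul_div_cancel' h1] at h
  exact (coprime_pred hG hM hd hII hp hirr).dvd_of_dvd_mul_left h

/-- In the reducible case `M_F` is generated by `q` lines normalised by `U`. -/
theorem exists_lines (hred : ¬ IsIrred M U) :
    ∃ X : ℕ → Subgroup G, (∀ i, X i ≤ fittingHallOf M ∧ Nat.card (X i) = Nat.card W₂ ∧
        U ≤ normalizer (X i : Set G)) ∧
      (Finset.range (Nat.card W₁)).sup X = fittingHallOf M := by
  classical
  set P := fittingHallOf M with hP
  haveI := fitting_comm hG hM hd hII hp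
  obtain ⟨X, ⟨hXP, hXn, hX1⟩, hmin⟩ := wellFounded_lt.has_min
    {N : Subgroup G | N ≤ P ∧ U ≤ normalizer (N : Set G) ∧ N ≠ ⊥}
    ⟨P, le_rfl, le_sup_left.trans (sup_le_normalizer hd), fitting_ne_bot hG hM hd hII hp⟩
  have hXne : X ≠ P := fun e => hred fun N hN hn => by
    rcases eq_or_ne N ⊥ with h | h
    · exact Or.inl h
    · exact Or.inr (hN.eq_of_not_lt fun hlt => hmin N ⟨hN, hn, h⟩ (lt_of_lt_of_eq hlt e.symm))
  obtain ⟨w, hw, hw1⟩ := OddLocal.exists_mem_ne_one _ hd.W₁_ne
  let Xi : ℕ → Subgroup G := fun i => X.map (MulAut.conj (w ^ i)).toMonoidHom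
  have hwi : ∀ i : ℕ, w ^ i ∈ W₁ := fun i => pow_mem hw i
  have hXiP : ∀ i, Xi i ≤ P := fun i => by
    rintro _ ⟨y, hy, rfl⟩
    exact (mem_normalizer_iff.1 (sup_le_normalizer hd (mem_sup_right (hwi i))) y).1 (hXP hy)
  have hXin : ∀ i, U ≤ normalizer (Xi i : Set G) := fun i v hv => by
    refine mem_normalizer_of_conj_mem ?_
    rintro _ ⟨y, hy, rfl⟩
    have hv' : (w ^ i)⁻¹ * v * w ^ i ∈ U :=
      (mem_normalizer_iff''.1 (hd.U_normal (hwi i)) v).1 hv
    exact ⟨_, (mem_normalizer_iff.1 (hXn hv') y).1 hy, by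
      simp only [MulEquiv.coe_toMonoidHom, MulAut.conj_apply]; group⟩
  have hXimin : ∀ i N, N ≤ Xi i → U ≤ normalizer (N : Set G) → N ≠ ⊥ → N = Xi i := by
    intro i N hN hn h1
    set N' := N.map (MulAut.conj (w ^ i)⁻¹).toMonoidHom with hN'
    have hle : N' ≤ X := by
      rintro _ ⟨z, hz, rfl⟩
      obtain ⟨y, hy, rfl⟩ := hN hz
      simpa [mul_assoc] using hy
    have hn' : U ≤ normalizer (N' : Set G) := fun v hv => by
      refine mem_normalizer_of_conj_mem ?_
      rintro _ ⟨y, hy, rfl⟩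
      have hv' : w ^ i * v * (w ^ i)⁻¹ ∈ U :=
        (mem_normalizer_iff.1 (hd.U_normal (hwi i)) v).1 hv
      exact ⟨_, (mem_normalizer_iff.1 (hn hv') y).1 hy, by
        simp only [MulEquiv.coe_toMonoidHom, MulAut.conj_apply]; group⟩
    have hb : N' ≠ ⊥ := by
      rw [hN', Ne, map_eq_bot_iff_of_injective _ (MulAut.conj (w ^ i)⁻¹).injective]; exact h1
    have he := hle.eq_of_not_lt (hmin N' ⟨hle.trans hXP, hn', hb⟩)
    refine eq_of_le_of_card_ge hN (le_of_eq ?_)
    rw [card_map_of_injective (MulAut.conj (w ^ i)).injective, ← he, hN',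
      card_map_of_injective (MulAut.conj (w ^ i)⁻¹).injective]
  let Y : ℕ → Subgroup G := fun n => (Finset.range n).sup Xi
  have hYP : ∀ n, Y n ≤ P := fun n => Finset.sup_le fun i _ => hXiP i
  have hYn : ∀ n, U ≤ normalizer (Y n : Set G) := fun n v hv => by
    refine OddLocal.mem_normalizer_of_map_conj (eq_of_le_of_card_ge ?_
      (card_map_of_injective (MulAut.conj v).injective).ge)
    rw [map_le_iff_le_comap]
    refine Finset.sup_le fun i hi => map_le_iff_le_comap.1 ?_
    rw [OddLocal.map_conj_eq_self_of_mem (hXin i hv)]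
    exact Finset.le_sup hi
  have hcard : ∀ n, ∃ k ≤ n, Nat.card (Y n) = Nat.card X ^ k := by
    intro n
    induction n with
    | zero => exact ⟨0, le_rfl, by simp [Y]⟩
    | succ n ih =>
      obtain ⟨k, hk, he⟩ := ih
      have hs : Y (n + 1) = Y n ⊔ Xi n := by
        simp only [Y, Finset.range_add_one, Finset.sup_insert]
        exact sup_comm _ _
      rcases eq_or_ne (Y n ⊓ Xi n) ⊥ with h | h
      · refine ⟨k + 1, by omega, ?_⟩
        rw [hs, Coprime.card_sup_eq_mul (fun z hz => ?_) h, he,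
          card_map_of_injective (MulAut.conj (w ^ n)).injective, pow_succ]
        exact centralizer_le_normalizer _ (mem_centralizer_iff.2 fun y hy => congrArg Subtype.val
          (IsMulCommutative.is_comm.comm (⟨y, hYP n hy⟩ : P) ⟨z, hXiP n hz⟩))
      · refine ⟨k, by omega, ?_⟩
        have h2 := hXimin n _ inf_le_right
          ((le_inf (hYn n) (hXin n)).trans inf_normalizer_le_normalizer_inf) h
        rw [hs, sup_eq_left.2 (inf_eq_right.1 h2), he]
  have hq := card_W₁_prime hG hM hd hII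
  have hwq : w ^ Nat.card W₁ = 1 :=
    orderOf_dvd_iff_pow_eq_one.1 (Subgroup.orderOf_dvd_natCard W₁ hw)
  have hYq : Y (Nat.card W₁) = P := by
    have hwY : w ∈ normalizer (Y (Nat.card W₁) : Set G) := by
      refine OddLocal.mem_normalizer_of_map_conj (eq_of_le_of_card_ge ?_
        (card_map_of_injective (MulAut.conj w).injective).ge)
      rw [map_le_iff_le_comap]
      refine Finset.sup_le fun i hi => map_le_iff_le_comap.1 ?_
      rw [show (Xi i).map (MulAut.conj w).toMonoidHom = Xi (i + 1) by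
        rw [Subgroup.map_map]; congr 1; ext y; simp [pow_succ', mul_assoc]]
      rcases lt_or_eq_of_le (Nat.succ_le_of_lt (Finset.mem_range.1 hi)) with h | h
      · exact Finset.le_sup (Finset.mem_range.2 h)
      · rw [show i + 1 = Nat.card W₁ from h]
        refine le_trans (le_of_eq ?_) (Finset.le_sup (Finset.mem_range.2 hq.pos))
        simp only [Xi, hwq, pow_zero]
    refine (eq_bot_or_eq hG hM hd hII hp (hYP _) (sup_le (hYn _) ?_)).resolve_left fun e => ?_
    · exact (W₁_eq_zpowers hG hM hd hII hw hw1).ge.trans (zpowers_le.2 hwY)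
    · refine hX1 (le_bot_iff.1 (e ▸ ?_))
      refine le_trans (fun y hy => ?_) (Finset.le_sup (Finset.mem_range.2 hq.pos))
      exact ⟨y, hy, by simp⟩
  obtain ⟨k, -, hk⟩ := hcard (Nat.card W₁)
  rw [hYq, card_fitting hG hM hd hII] at hk
  obtain ⟨d, -, hd'⟩ := (Nat.dvd_prime_pow hp).1
    (card_fitting hG hM hd hII ▸ card_dvd_of_le hXP)
  rw [hd', ← pow_mul] at hk
  have hdk := Nat.pow_right_injective hp.two_le hk
  have hXc : Nat.card X = Nat.card W₂ := by
    rcases (Nat.dvd_prime hq).1 (Dvd.intro k hdk.symm) with e | e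
    · rw [hd', e, pow_one]
    · refine absurd (eq_of_le_of_card_ge hXP (le_of_eq ?_)) hXne
      rw [hd', e, card_fitting hG hM hd hII]
  exact ⟨Xi, fun i => ⟨hXiP i, by rw [card_map_of_injective (MulAut.conj (w ^ i)).injective, hXc],
    hXin i⟩, hYq⟩

omit hG hM hd hII hp

omit [Finite G] in
/-- The character of `U` on a normalised subgroup of prime order. -/
theorem exists_char {U X : Subgroup G} {p : ℕ} [hp : Fact p.Prime] (hX : Nat.card X = p)
    (hn : U ≤ normalizer (X : Set G)) :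
    ∃ χ : U →* (ZMod p)ˣ, ∀ u : U, ∀ y ∈ X, (u : G) * y * (u : G)⁻¹ = y ^ ((χ u : ZMod p)).val := by
  haveI : Finite X := Nat.finite_of_card_ne_zero (hX ▸ hp.out.ne_zero)
  obtain ⟨x, hx⟩ := (Subgroup.ne_bot_iff_exists_ne_one.1 fun e : X = ⊥ =>
    hp.out.one_lt.ne (by rw [← hX, e, card_bot]))
  have hxX : (x : G) ∈ X := x.2
  have hxo : orderOf (x : G) = p := by
    rw [orderOf_coe]
    exact orderOf_eq_prime (by rw [← hX]; exact pow_card_eq_one') hx
  have hz : zpowers (x : G) = X :=
    eq_of_le_of_card_ge (zpowers_le.2 hxX) (le_of_eq (by rw [hX, Nat.card_zpowers, hxo]))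
  have key : ∀ u : U, ∃ k : ZMod p, (u : G) * x * (u : G)⁻¹ = (x : G) ^ k.val := fun u => by
    have h1 : (u : G) * x * (u : G)⁻¹ ∈ zpowers (x : G) := by
      rw [hz]; exact (mem_normalizer_iff.1 (hn u.2) _).1 hxX
    obtain ⟨j, hj⟩ := mem_zpowers_iff.1 h1
    refine ⟨(j : ZMod p), hj.symm.trans ?_⟩
    rw [← zpow_natCast]
    refine (zpow_eq_zpow_iff_modEq).2 ?_
    rw [hxo, ← ZMod.intCast_eq_intCast_iff]
    simp
  choose f hf using key
  have huniq : ∀ a b : ZMod p, (x : G) ^ a.val = (x : G) ^ b.val → a = b := fun a b h => by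
    rw [pow_eq_pow_iff_modEq, hxo, ← ZMod.natCast_eq_natCast_iff] at h
    simpa using h
  have hone : f 1 = 1 := huniq _ _ (by
    rw [← hf 1, ZMod.val_one, pow_one]; simp)
  have hmul : ∀ u v, f (u * v) = f u * f v := fun u v => huniq _ _ (by
    rw [← hf (u * v)]
    have h1 : (x : G) ^ (f u * f v).val = ((x : G) ^ (f u).val) ^ (f v).val := by
      rw [← pow_mul, pow_eq_pow_iff_modEq, hxo, ← ZMod.natCast_eq_natCast_iff]
      simp
    rw [h1, ← hf u, conj_pow, ← hf v]
    simp [mul_assoc])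
  let F : U →* ZMod p := { toFun := f, map_one' := hone, map_mul' := hmul }
  refine ⟨F.toHomUnits, fun u y hy => ?_⟩
  rw [MonoidHom.coe_toHomUnits]
  rw [← hz, mem_zpowers_iff] at hy
  obtain ⟨j, rfl⟩ := hy
  show _ = ((x : G) ^ j) ^ (f u).val
  rw [← conj_zpow, hf u, ← zpow_natCast, ← zpow_natCast, ← zpow_mul, ← zpow_mul, mul_comm]

include hG hM hd hII hp

/-- In the reducible case `|U : C|` divides the `(q-1)`st power of the odd part of `p - 1`. -/
theorem relIndex_dvd_monomial (hred : ¬ IsIrred M U) :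
    (U ⊓ centralizer (fittingHallOf M : Set G)).relIndex U ∣
      ((Nat.card W₂ - 1) / 2 ^ (Nat.card W₂ - 1).factorization 2) ^ (Nat.card W₁ - 1) := by
  classical
  set P := fittingHallOf M with hP
  set C := U ⊓ centralizer (P : Set G) with hC
  set p := Nat.card W₂ with hpdef
  set m := (p - 1) / 2 ^ (p - 1).factorization 2 with hm
  haveI := Fact.mk hp
  haveI := fitting_comm hG hM hd hII hp
  obtain ⟨X, hX, hsup⟩ := exists_lines hG hM hd hII hp hred
  have hchar := fun i => exists_char (p := p) (hX i).2.1 (hX i).2.2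
  choose χ hχ using hchar
  have hval : ∀ (i : ℕ) (u : U), (u : G) ∈ C → χ i u = 1 := fun i u hu => by
    obtain ⟨y, hy, hy1⟩ := OddLocal.exists_mem_ne_one (X i) fun e => hp.one_lt.ne (by
      rw [hpdef, ← (hX i).2.1, e, card_bot])
    have hyo : orderOf y = p :=
      orderOf_eq_prime ((fitting_elementary hG hM hd hII hp).2 y ((hX i).1 hy)) hy1
    have h := hχ i u y hy
    rw [← mem_centralizer_iff.1 (mem_inf.1 hu).2 y ((hX i).1 hy), mul_inv_cancel_right] at h
    conv_lhs at h => rw [← pow_one y]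
    rw [pow_eq_pow_iff_modEq, hyo, ← ZMod.natCast_eq_natCast_iff] at h
    exact Units.ext (by simpa using h.symm)
  have hodd : Odd (Nat.card U) := hG.1.of_dvd_nat (card_subgroup_dvd_card U)
  have hroot : ∀ (i : ℕ) (u : U), χ i u ∈ rootsOfUnity m (ZMod p) := fun i u => by
    rw [mem_rootsOfUnity, ← orderOf_dvd_iff_pow_eq_one]
    have h1 : orderOf (χ i u) ∣ p - 1 := by
      have := _root_.orderOf_dvd_natCard (χ i u)
      rwa [Nat.card_eq_fintype_card, ZMod.card_units p] at this
    have h2 : ¬ 2 ∣ orderOf (χ i u) := fun h => (Nat.not_even_iff_odd.2 hodd)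
      (even_iff_two_dvd.2 (h.trans ((orderOf_map_dvd (χ i) u).trans (_root_.orderOf_dvd_natCard u))))
    rw [← Nat.ordProj_mul_ordCompl_eq_self (p - 1) 2] at h1
    exact (((Nat.prime_two.coprime_iff_not_dvd).2 h2).symm.pow_right _).dvd_of_dvd_mul_left h1
  let Ψ : U →* (Fin (Nat.card W₁ - 1) → rootsOfUnity m (ZMod p)) :=
    { toFun := fun u i => ⟨χ (i + 1) u / χ 0 u, div_mem (hroot _ u) (hroot _ u)⟩
      map_one' := by ext i; simp
      map_mul' := fun u v => funext fun i => Subtype.ext (by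
        simp only [map_mul, Pi.mul_apply, Subgroup.coe_mul, mul_div_mul_comm]) }
  have hker : Ψ.ker = C.subgroupOf U := by
    ext u
    rw [MonoidHom.mem_ker, mem_subgroupOf]
    refine ⟨fun h => ?_, fun h => funext fun i => Subtype.ext (by
      show χ (i + 1) u / χ 0 u = 1
      rw [hval _ u h, hval _ u h, div_one])⟩
    refine mem_C_of_scalar hG hM hd hII u.2 (k := ((χ 0 u : ZMod p)).val) fun y hy => ?_
    have hle : P ≤ powerSet P (u : G) ((χ 0 u : ZMod p)).val := by
      refine le_of_eq_of_le hsup.symm (Finset.sup_le fun i hi y hy => mem_powerSet.2 ⟨(hX i).1 hy, ?_⟩)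
      have he : χ i u = χ 0 u := by
        rcases Nat.eq_zero_or_pos i with rfl | hi0
        · rfl
        · have := congrArg Subtype.val (congrFun h ⟨i - 1, by rw [Finset.mem_range] at hi; omega⟩)
          have e : i - 1 + 1 = i := by omega
          simpa [Ψ, e, div_eq_one] using this
      rw [← he]
      exact hχ i u y hy
    exact (mem_powerSet.1 (hle hy)).2
  have h1 : C.relIndex U = Nat.card Ψ.range := by
    rw [Subgroup.relIndex, ← hker, index_ker]
  rw [h1]
  refine (card_subgroup_dvd_card Ψ.range).trans ?_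
  rw [Nat.card_fun, Nat.card_fin]
  refine pow_dvd_pow_of_dvd ?_ _
  rw [← IsCyclic.exponent_eq_card]
  exact Monoid.exponent_dvd_of_forall_pow_eq_one fun z => Subtype.ext (by
    rw [SubgroupClass.coe_pow]
    exact (mem_rootsOfUnity _ _).1 z.2)

/-- The two cases. -/
theorem split :
    (IsIrred M U ∧
      (∃ g ∈ U, (U ⊓ centralizer (fittingHallOf M : Set G)) ⊔ zpowers g = U) ∧
      ((U ⊓ centralizer (fittingHallOf M : Set G)).relIndex U).Coprime (Nat.card W₂ - 1) ∧
      (U ⊓ centralizer (fittingHallOf M : Set G)).relIndex U ∣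
        (Nat.card W₂ ^ Nat.card W₁ - 1) / (Nat.card W₂ - 1)) ∨
    (¬ IsIrred M U ∧ (U ⊓ centralizer (fittingHallOf M : Set G)).relIndex U ∣
      ((Nat.card W₂ - 1) / 2 ^ (Nat.card W₂ - 1).factorization 2) ^ (Nat.card W₁ - 1)) := by
  by_cases h : IsIrred M U
  · exact Or.inl ⟨h, exists_generator hG hM hd hII hp h, coprime_pred hG hM hd hII hp h,
      relIndex_dvd_geom hG hM hd hII hp h⟩
  · exact Or.inr ⟨h, relIndex_dvd_monomial hG hM hd hII hp h⟩

end Cfsg.Agent.OddFinal.TypeTwo
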