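import Cfsg.Agent.OddFinal.OvergroupConfig
import Cfsg.Agent.OddFinal.PairChar
import Cfsg.Agent.OddFinal.TypeTwoSplit
import Cfsg.Agent.OddFinal.Final

/-!
# No pair of members of Type II with maximal kernels

`Overgroup.false_of_pair`: the three possibilities for `|U|` left by the covering inequalities are impossible.
-/

set_option autoImplicit false
set_option linter.unusedSectionVars false

namespace Cfsg.Agent.OddFinal.Overgroup

open Cfsg Char

universe u

variable {G : Type u} [Group G] [Fintype G] {S T W₁ W₂ U V : Subgroup G}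

/-- `A₁` of a member of Type II. -/
theorem sharp_subset_typeA1 (hG : IsMinSimpleOddOrder G) {M W₁ U W₂ : Subgroup G} (hM : IsCoatom M)
    (hd : IsTypePWith M W₁ U W₂) (hII : IsOfTypeII M) :
    sharp (fittingHallOf M) ⊆ typeA1 M := by
  rw [OddLocal.typeA1_eq hG hM, ← TypeTwo.fitting_eq_sigmaCore hG hM hd hII]
  exact subset_rfl

/-- A subgroup of order `p` acting without fixed points forces `1` modulo `p`. -/
theorem card_mod_of_free {p : ℕ} (hp : p.Prime) {P L : Subgroup G} (hP : Nat.card P = p)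
    (hn : P ≤ Subgroup.normalizer (L : Set G))
    (hfree : ∀ e ∈ P, ∀ x ∈ L, e * x = x * e → e = 1 ∨ x = 1) : Nat.card L % p = 1 := by
  haveI := Fact.mk hp
  have h := SylowNumber.card_modEq_inf_centralizer
    (IsPGroup.of_card (n := 1) (by rw [pow_one, hP])) hn
  have he : L ⊓ Subgroup.centralizer (P : Set G) = ⊥ := by
    obtain ⟨e, he, he1⟩ := OddLocal.exists_mem_ne_one P fun e => by
      rw [e, Subgroup.card_bot] at hP
      exact hp.one_lt.ne hP
    exact eq_bot_iff.2 fun x hx => Subgroup.mem_bot.2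
      ((hfree e he x hx.1 (Subgroup.mem_centralizer_iff.1 hx.2 e he)).resolve_left he1)
  rw [he, Subgroup.card_bot] at h
  exact Eq.trans h (Nat.mod_eq_of_lt hp.one_lt)

/-- In the third case some element of prime order of `U` has a fixed point on `M_F`. -/
theorem exists_fixing (hG : IsMinSimpleOddOrder G) {M W₁ U W₂ : Subgroup G} (hM : IsCoatom M)
    (hd : IsTypePWith M W₁ U W₂) (hII : IsOfTypeII M) (hp : (Nat.card W₂).Prime)
    (hC : U ⊓ Subgroup.centralizer (fittingHallOf M : Set G) = ⊥)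
    (hbig : Nat.card W₂ - 1 < Nat.card U)
    (hdiv : ∀ r : ℕ, r.Prime → r ∣ Nat.card U → r ∣ Nat.card W₂ - 1) :
    ∃ x ∈ U, (orderOf x).Prime ∧ ∃ z ∈ fittingHallOf M, z ≠ 1 ∧ x * z = z * x := by
  haveI := Fact.mk hp
  have hu : 1 < Nat.card U := by have := hp.two_le; omega
  have hred : ¬ TypeTwo.IsIrred M U := fun hirr => by
    have h := TypeTwo.coprime_pred hG hM hd hII hp hirr
    rw [hC, Subgroup.relIndex_bot_left] at h
    exact hu.ne' (Nat.eq_one_iff_not_exists_prime_dvd.2 fun r hr hrU =>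
      hr.one_lt.ne' (Nat.eq_one_of_dvd_coprimes h hrU (hdiv r hr hrU)))
  obtain ⟨X, hX, -⟩ := TypeTwo.exists_lines hG hM hd hII hp hred
  obtain ⟨hXP, hXc, hXn⟩ := hX 0
  obtain ⟨χ, hχ⟩ := TypeTwo.exists_char hXc hXn
  have hker : χ.ker ≠ ⊥ := fun e => by
    have h1 := Nat.card_le_card_of_injective χ (χ.ker_eq_bot_iff.1 e)
    rw [Nat.card_eq_fintype_card (α := (ZMod (Nat.card W₂))ˣ), ZMod.card_units] at h1
    omega
  obtain ⟨r, hr, hrd⟩ := Nat.exists_prime_and_dvd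
    (fun e : Nat.card χ.ker = 1 => hker (Subgroup.card_eq_one.1 e))
  haveI := Fact.mk hr
  obtain ⟨x, hx⟩ := exists_prime_orderOf_dvd_card' (G := χ.ker) r hrd
  obtain ⟨z, hz, hz1⟩ := OddLocal.exists_mem_ne_one (X 0) fun e => by
    rw [e, Subgroup.card_bot] at hXc
    exact hp.one_lt.ne hXc
  refine ⟨((x : U) : G), (x : U).2, by rwa [Subgroup.orderOf_coe, Subgroup.orderOf_coe, hx], z, hXP hz, hz1, ?_⟩
  have h2 := hχ (x : U) z hz
  rw [MonoidHom.mem_ker.1 x.2, Units.val_one, ZMod.val_one, pow_one] at h2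
  exact mul_inv_eq_iff_eq_mul.1 h2

/-- The third case: no characters are needed. -/
theorem false_of_monomial (hG : IsMinSimpleOddOrder G) (h : Pair S T W₁ W₂ U V)
    (hII : IsOfTypeII S) {p : ℕ} (hp : p.Prime) (hp₂ : Nat.card W₂ = p)
    (hC : U ⊓ Subgroup.centralizer (fittingHallOf S : Set G) = ⊥)
    (hbig : p - 1 < Nat.card U) (hdiv : ∀ r : ℕ, r.Prime → r ∣ Nat.card U → r ∣ p - 1)
    {L E : Subgroup G} (hUK : U ≤ fittingHallOf L) (hE : IsComplIn (fittingHallOf L) E L)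
    (hfpf : ∀ e ∈ E, ∀ x ∈ fittingHallOf L, e * x = x * e → e = 1 ∨ x = 1) {y : G}
    (hyE : W₂.map (MulAut.conj y).toMonoidHom ≤ E) : False := by
  subst hp₂
  obtain ⟨x, hxU, hxo, z, hzP, hz1, hxz⟩ := exists_fixing hG h.maxS h.dataS hII hp hC hbig hdiv
  set r := orderOf x with hr
  haveI := Fact.mk hxo
  have hx1 : x ≠ 1 := fun e => hxo.one_lt.ne' (by rw [hr, e, orderOf_one])
  have hrU : r ∣ Nat.card U := Subgroup.orderOf_dvd_natCard _ hxU
  have hA : x ∈ typeA S := by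
    rw [typeA, if_neg (not_typeI hG h.maxS h.typeS), OddLocal.typeCore_eq hG h.maxS,
      ← TypeTwo.fitting_eq_sigmaCore hG h.maxS h.dataS hII]
    exact ⟨h.dataS.U_compl.2.1 hxU, hx1, z, hzP, hz1, hxz⟩
  have hcS : Subgroup.centralizer ({x} : Set G) ≤ S :=
    no_support hG h.maxS h.typeS (OddLocal.typeA_subset_typeA0 hG h.maxS hA)
  -- the elements of order `r` in the centre of the kernel
  set K := fittingHallOf L with hK
  haveI := OddLocal.fittingHallOf_nilpotent L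
  let Z : Subgroup G :=
    { carrier := {a | a ∈ K ∧ (∀ k ∈ K, a * k = k * a) ∧ a ^ r = 1}
      one_mem' := ⟨one_mem _, fun k _ => by group, one_pow _⟩
      mul_mem' := by
        rintro a b ⟨ha, ha', ha''⟩ ⟨hb, hb', hb''⟩
        refine ⟨mul_mem ha hb, fun k hk => ?_, ?_⟩
        · rw [mul_assoc, hb' k hk, ← mul_assoc, ha' k hk, mul_assoc]
        · rw [(show Commute a b from ha' b hb).mul_pow, ha'', hb'', one_mul]
      inv_mem' := by
        rintro a ⟨ha, ha', ha''⟩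
        refine ⟨inv_mem ha, fun k hk => ((show Commute a k from ha' k hk).inv_left).eq, ?_⟩
        rw [inv_pow, ha'', inv_one] }
  have hmemZ : ∀ a, a ∈ Z ↔ a ∈ K ∧ (∀ k ∈ K, a * k = k * a) ∧ a ^ r = 1 := fun a => Iff.rfl
  have hZ1 : 1 < Nat.card Z := by
    obtain ⟨P⟩ : Nonempty (Sylow r K) := inferInstance
    haveI : (P : Subgroup K).Normal :=
      ((Group.isNilpotent_of_finite_tfae (G := K)).out 0 3 rfl rfl).mp inferInstance r ⟨hxo⟩ P
    have hPne : (P : Subgroup K) ≠ ⊥ :=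
      P.ne_bot_of_dvd_card (hrU.trans (Subgroup.card_dvd_of_le hUK))
    obtain ⟨c, hc, hc1⟩ := OddLocal.exists_mem_ne_one _ (Core.inf_center_ne_bot (G := K) hPne)
    obtain ⟨i, hi⟩ := P.2 ⟨c, hc.1⟩
    have hi' : c ^ r ^ i = 1 := congrArg Subtype.val hi
    obtain ⟨j, -, hj⟩ := (Nat.dvd_prime_pow hxo).1 (orderOf_dvd_of_pow_eq_one hi')
    have hj0 : j ≠ 0 := fun e => hc1 (orderOf_eq_one_iff.1 (by rw [hj, e, pow_zero]))
    obtain ⟨j, rfl⟩ := Nat.exists_eq_succ_of_ne_zero hj0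
    refine (Subgroup.one_lt_card_iff_ne_bot Z).2 fun e => ?_
    have hmem : ((c ^ r ^ j : K) : G) ∈ Z := by
      rw [hmemZ]
      refine ⟨(c ^ r ^ j).2, fun k hk => ?_, ?_⟩
      · exact (congrArg Subtype.val
          (Subgroup.mem_center_iff.1 (pow_mem hc.2 (r ^ j)) ⟨k, hk⟩)).symm
      · rw [← SubmonoidClass.coe_pow, ← pow_mul, ← pow_succ, ← hj, pow_orderOf_eq_one]
        rfl
    rw [e, Subgroup.mem_bot] at hmem
    have h1 : orderOf c ∣ r ^ j := orderOf_dvd_of_pow_eq_one (Subtype.ext hmem)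
    rw [hj] at h1
    exact absurd ((Nat.pow_dvd_pow_iff_le_right hxo.one_lt).1 h1) (by omega)
  have hZS : Z ≤ S := fun a ha => hcS (Subgroup.mem_centralizer_singleton_iff.2
    (((hmemZ a).1 ha).2.1 x (hUK hxU)))
  have hZr : IsPGroup r Z := fun a => ⟨1, Subtype.ext (by simpa using ((hmemZ a).1 a.2).2.2)⟩
  -- `Z` is conjugate into `U`
  have hUS : U ≤ S := TypeTwo.U_le h.dataS
  have hidx : ¬ r ∣ U.relIndex S := by
    have h1 := Coprime.card_mul_relIndex_of_le hUS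
    rw [← OddLocal.IsComplIn.card_mul h.dataS.W₁_compl, ← OddLocal.IsComplIn.card_mul h.dataS.U_compl,
      TypeTwo.card_fitting hG h.maxS h.dataS hII,
      show Nat.card W₂ ^ Nat.card W₁ * Nat.card U * Nat.card W₁ =
        Nat.card U * (Nat.card W₂ ^ Nat.card W₁ * Nat.card W₁) by ring] at h1
    rw [Nat.eq_of_mul_eq_mul_left Nat.card_pos h1]
    intro hd
    rcases hxo.dvd_mul.1 hd with hd | hd
    · have he := (Nat.prime_dvd_prime_iff_eq hxo hp).1 (hxo.dvd_of_dvd_pow hd)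
      have hle := Nat.le_of_dvd (by have := hp.two_le; omega) (hdiv r hxo hrU)
      have := hp.two_le
      omega
    · have hq := TypeTwo.card_W₁_prime hG h.maxS h.dataS hII
      have he := (Nat.prime_dvd_prime_iff_eq hxo hq).1 hd
      have hm : Nat.card U % Nat.card W₁ = 1 % Nat.card W₁ :=
        (TypeTwo.relIndex_modEq hG h.maxS h.dataS hII).2.1
      rw [Nat.mod_eq_of_lt hq.one_lt, ← he, Nat.dvd_iff_mod_eq_zero.1 hrU] at hm
      exact absurd hm (by norm_num)
  obtain ⟨k, -, hkU⟩ := OddLocal.exists_conj_le_of_relIndex (π := {s | s = r})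
    (OddLocal.isSolvable_coatom hG h.maxS) hUS (fun s _ hs => (show s = r from hs) ▸ hidx) hZS
    (fun s hs hd => by
      obtain ⟨n, hn⟩ := hZr.exists_card_eq
      rw [hn] at hd
      exact (Nat.prime_dvd_prime_iff_eq hs hxo).1 (hs.dvd_of_dvd_pow hd))
  have hle2 : Nat.card Z ≤ r ^ 2 := by
    have := TypeTwo.U_comm hG h.maxS h.dataS hII
    let f : Z →* U :=
      (Subgroup.inclusion hkU).comp
        (Z.equivMapOfInjective _ (MulAut.conj k).injective).toMonoidHom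
    have hf : Function.Injective f :=
      (Subgroup.inclusion_injective hkU).comp (MulEquiv.injective _)
    have e : Nat.card f.range = Nat.card Z :=
      (Nat.card_congr (MonoidHom.ofInjective hf).toEquiv).symm
    rw [← e]
    refine TypeTwo.rankLE_two_U hG h.maxS h.dataS hII r hxo f.range
      ⟨⟨fun a b => Subtype.ext (this.is_comm.comm _ _)⟩⟩ ?_
    rintro _ ⟨a, rfl⟩
    rw [← map_pow, show a ^ r = 1 from Subtype.ext (by simpa using ((hmemZ a).1 a.2).2.2), map_one]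
  -- the action of the conjugate of `W₂`
  set P := W₂.map (MulAut.conj y).toMonoidHom with hP
  have hPL : P ≤ L := hyE.trans hE.2.1
  have hPZ : P ≤ Subgroup.normalizer (Z : Set G) := fun e he => by
    have hen := OddLocal.le_normalizer_fittingHallOf L (hPL he)
    refine TypeTwo.mem_normalizer_of_conj_mem fun a ha => ?_
    obtain ⟨haK, hac, har⟩ := (hmemZ a).1 ha
    refine (hmemZ _).2 ⟨(Subgroup.mem_normalizer_iff.1 hen a).1 haK, fun m hm => ?_, ?_⟩
    · have hm' : e⁻¹ * m * e ∈ K := by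
        rw [Subgroup.mem_normalizer_iff.1 hen]
        simpa [mul_assoc] using hm
      calc e * a * e⁻¹ * m = e * (a * (e⁻¹ * m * e)) * e⁻¹ := by group
        _ = e * (e⁻¹ * m * e * a) * e⁻¹ := by rw [hac _ hm']
        _ = m * (e * a * e⁻¹) := by group
    · rw [conj_pow, har, mul_one, mul_inv_cancel]
  have hmod := card_mod_of_free hp (Subgroup.card_map_of_injective (MulAut.conj y).injective) hPZ
    fun e he a ha hcomm => hfpf e (hyE he) a ((hmemZ a).1 ha).1 hcomm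
  obtain ⟨n, hn⟩ := hZr.exists_card_eq
  have hr2 : r + 1 < Nat.card W₂ := by
    have hd := hdiv r hxo hrU
    have hro : Odd r := hG.1.of_dvd_nat (hrU.trans (Subgroup.card_subgroup_dvd_card U))
    have hpo : Odd (Nat.card W₂) := hG.1.of_dvd_nat (Subgroup.card_subgroup_dvd_card W₂)
    obtain ⟨c, hc⟩ := hd
    obtain ⟨i, hi⟩ := hro
    obtain ⟨j, hj⟩ := hpo
    rcases c with _ | _ | c
    · have := hp.two_le; omega
    · omega
    · have : r * 2 ≤ r * (c + 1 + 1) := Nat.mul_le_mul_left _ (by omega)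
      omega
  have hn2 : n ≤ 2 := (Nat.pow_le_pow_iff_right hxo.one_lt).1 (hn ▸ hle2)
  have hr3 := hxo.two_le
  rw [hn] at hmod hZ1
  interval_cases n
  · simp at hZ1
  · rw [pow_one, Nat.mod_eq_of_lt (by omega)] at hmod
    omega
  · obtain ⟨c, hc⟩ : ∃ c, r = c + 1 := ⟨r - 1, by omega⟩
    have hd : Nat.card W₂ ∣ c * (c + 2) := by
      have h1 : (r ^ 2 - 1) % Nat.card W₂ = 0 := Nat.sub_mod_eq_zero_of_mod_eq (by
        rw [hmod, Nat.mod_eq_of_lt hp.one_lt])
      rw [show r ^ 2 - 1 = c * (c + 2) by rw [hc]; ring_nf; omega] at h1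
      exact Nat.dvd_of_mod_eq_zero h1
    rcases hp.dvd_mul.1 hd with hd | hd <;>
      have := Nat.le_of_dvd (by omega) hd <;> omega

/-- No pair of members of Type II survives the covering inequalities. -/
theorem false_of_pair (hG : IsMinSimpleOddOrder G) (h : Pair S T W₁ W₂ U V)
    (hII : IsOfTypeII S) (hII' : IsOfTypeII T) {p q : ℕ} (hq₁ : Nat.card W₁ = q)
    (hp₂ : Nat.card W₂ = p) (hqp : q < p)
    {η : (↥(W₁ ⊔ W₂) →* ℂˣ) → G → ℂ} (hη : IsCyclicTIFamily W₁ W₂ η)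
    (hCU : U ⊓ Subgroup.centralizer (fittingHallOf S : Set G) = ⊥)
    (hCV : V ⊓ Subgroup.centralizer (fittingHallOf T : Set G) = ⊥) (hVc : IsCyclic V)
    (hV : Nat.card V = (q ^ p - 1) / (q - 1))
    (hU : (IsCyclic U ∧ Nat.card U = (p ^ q - 1) / (p - 1)) ∨
      (IsCyclic U ∧ q ∣ p - 1 ∧ q * Nat.card U = (p ^ q - 1) / (p - 1)) ∨
      (q = 3 ∧ 4 * Nat.card U = (p - 1) ^ 2 ∧
        ∀ r : ℕ, r.Prime → r ∣ Nat.card U → r ∣ p - 1))
    [Fintype ↥S] {X : Finset (↥S → ℂ)} {μ : (↥(W₁ ⊔ W₂) →* ℂˣ) → ↥S → ℂ} {π : ↥S → ℂ}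
    (hs : IsSide S W₁ W₂ (fittingHallOf S) (Nat.card U) X μ η)
    (hb : IsBridge S W₁ W₂ (fittingHallOf S) (Nat.card U) X μ π)
    [Fintype ↥T] {X' : Finset (↥T → ℂ)} {μ' : (↥(W₂ ⊔ W₁) →* ℂˣ) → ↥T → ℂ} {π' : ↥T → ℂ}
    (hs' : IsSide T W₂ W₁ (fittingHallOf T) (Nat.card V) X' μ' (fun f => η (swapHom f)))
    (hb' : IsBridge T W₂ W₁ (fittingHallOf T) (Nat.card V) X' μ' π') : False := by
  have hodd : Odd (Nat.card G) := hG.1
  have hW := h.dataS.selfNormalizing
  have hqP : q.Prime := hq₁ ▸ TypeTwo.card_W₁_prime hG h.maxS h.dataS hII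
  have hpP : p.Prime := hp₂ ▸ TypeTwo.card_W₁_prime hG h.maxT h.dataT hII'
  have hKS := sharp_subset_typeA1 hG h.maxS h.dataS hII
  have hKT := sharp_subset_typeA1 hG h.maxT h.dataT hII'
  have hKK : Disjoint (conjAll (sharp (fittingHallOf S))) (conjAll (sharp (fittingHallOf T))) :=
    (h.disjoint_kernels hG (hKS.trans (OddLocal.typeA1_subset_typeA hG h.maxS))
      (hKT.trans (OddLocal.typeA1_subset_typeA hG h.maxT))).1
  have hc := ctx_of_sides hs hs' hW hη hodd hKK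
  have hc' : Ctx T W₂ W₁ (fittingHallOf T) (Nat.card V) X' μ' (fun f => η (swapHom f))
      (conjAll (sharp (fittingHallOf S))) :=
    ctx_of_sides (M := T) (T := S) (μ' := μ) hs'
      (by simpa only [swapHom_swapHom] using hs) (isSelfNormalizingCyclic_swap hW) (eta_swap hη)
      hodd hKK.symm
  obtain ⟨L, E, y, hL, hI, hUK, hE, hidx, hfpf, hy, hyc, hyE⟩ :=
    overgroup_exists hG h hII hII' hq₁ hp₂ hqp hCV hc hb hKS le_rfl
  have hWy : ∀ x ∈ W₂, y * x * y⁻¹ ∈ L := fun x hx => hE.2.1 (hyE ⟨x, hx, rfl⟩)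
  have hu1 : 1 < Nat.card U :=
    (Subgroup.one_lt_card_iff_ne_bot U).2 (TypeTwo.U_ne_bot hG h.maxS h.dataS hII)
  have hv1 : 1 < Nat.card V :=
    (Subgroup.one_lt_card_iff_ne_bot V).2 (TypeTwo.U_ne_bot hG h.maxT h.dataT hII')
  have hUq : Nat.card U % q = 1 := by
    have h1 : Nat.card U % Nat.card W₁ = 1 % Nat.card W₁ :=
      (TypeTwo.relIndex_modEq hG h.maxS h.dataS hII).2.1
    rwa [hq₁, Nat.mod_eq_of_lt hqP.one_lt] at h1
  have norm := fun (hU' : Nat.card U = (p ^ q - 1) / (p - 1) ∨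
      q * Nat.card U = (p ^ q - 1) / (p - 1)) =>
    overgroup_normalizes hG h hII hII' hq₁ hp₂ hqp hCU hCV hVc hV hU' hUq hc hb hKS hu1 le_rfl
      hc' hb' hKT hv1 le_rfl hL hI hUK hidx hWy
  rcases hU with ⟨hUc, hUN⟩ | ⟨hUc, -, hUN⟩ | ⟨hq3, hU4, hdiv⟩
  · have hea := TypeTwo.fitting_elementary hG h.maxS h.dataS hII (hp₂ ▸ hpP)
    have heaT := TypeTwo.fitting_elementary hG h.maxT h.dataT hII' (hq₁ ▸ hqP)
    obtain ⟨w, hw, hw1⟩ := OddLocal.exists_mem_ne_one _ h.dataS.W₁_ne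
    refine false_of_config hodd hpP hqP hqp (fittingHallOf S) U W₁ W₂ (fittingHallOf T) hea.1
      (hp₂ ▸ hea.2) ?_ ((TypeTwo.U_le h.dataS).trans (OddLocal.le_normalizer_fittingHallOf S))
      (TypeTwo.U_comm hG h.maxS h.dataS hII) hUN ?_ hq₁ h.dataS.U_normal ?_
      (TypeTwo.W₂_le h.dataS) hp₂ heaT.1 ?_
      ((TypeTwo.W₁_le h.dataT).trans (OddLocal.le_normalizer_fittingHallOf T)) y hy
      (norm (Or.inl hUN))
    · rw [TypeTwo.card_fitting hG h.maxS h.dataS hII, hp₂, hq₁]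
    · intro u hu hu1' z hz hfix
      by_contra hz1
      have hf := TypeTwo.fpf_of_isCyclic hG h.maxS h.dataS hII hUc hz hz1
      have hm : u ∈ U ⊓ Subgroup.centralizer ({z} : Set G) :=
        ⟨hu, Subgroup.mem_centralizer_singleton_iff.2 (mul_inv_eq_iff_eq_mul.1 hfix)⟩
      rw [hf, Subgroup.mem_bot] at hm
      exact hu1' hm
    · exact le_bot_iff.1 (TypeTwo.U_inf_centralizer h.dataS hw hw1 ▸
        inf_le_inf_left _ (Subgroup.centralizer_le (Set.singleton_subset_iff.2 hw)))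
    · rw [TypeTwo.card_fitting hG h.maxT h.dataT hII', hp₂, hq₁]
      exact Nat.Coprime.pow_left _ ((Nat.coprime_primes hqP hpP).2 (by omega))
  · have hn := norm (Or.inr hUN)
    have hmod := card_mod_of_free (L := U) hpP
      ((Subgroup.card_map_of_injective (K := W₂) (MulAut.conj y).injective).trans hp₂)
      (by rintro _ ⟨x, hx, rfl⟩; exact hn x hx)
      (fun e he x hx hcomm => hfpf e (hyE he) x (hUK hx) hcomm)
    have hN := geom_mod (p := p) hpP.two_le (by have := hqP.two_le; omega : 1 ≤ q)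
    rw [← hUN, Nat.mul_mod, hmod, mul_one, Nat.mod_mod, Nat.mod_eq_of_lt hqp] at hN
    exact hqP.one_lt.ne' hN
  · refine false_of_monomial hG h hII hpP hp₂ hCU ?_ hdiv hUK hE hfpf hyE
    obtain ⟨m, hm⟩ : ∃ m, p = m + 5 := ⟨p - 5, by
      rcases hpP.eq_two_or_odd with h' | h' <;> omega⟩
    subst hm
    rw [show m + 5 - 1 = m + 4 by omega] at hU4 ⊢
    rcases Nat.eq_zero_or_pos m with rfl | hm0
    · norm_num at hU4
      have hUo : Odd (Nat.card U) := hodd.of_dvd_nat (Subgroup.card_subgroup_dvd_card U)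
      obtain ⟨i, hi⟩ := hUo
      omega
    · nlinarith

end Cfsg.Agent.OddFinal.Overgroup
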