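import Cfsg.Agent.OddFinal.PairShape
import Cfsg.Agent.OddFinal.OvergroupPair

/-!
# No pair of members of Type II

`false_of_kits`: the outcomes of the covering inequalities, translated into the structure of `U` and
`V`, contradict `Overgroup.false_of_pair`.
-/

set_option autoImplicit false
set_option linter.unusedSectionVars false

namespace Cfsg.Agent.OddFinal

open Subgroup Cfsg Cfsg.Agent.Char CyclicTI
open scoped _root_.Classical commutatorElement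

universe u

variable {G : Type u} [Group G] [Fintype G] {S T W₁ W₂ U V : Subgroup G}

/-- For Type II the order of `C` is the index of its derived subgroup. -/
theorem relIndex_commutator_cKer (hG : IsMinSimpleOddOrder G) {M W₁ U W₂ : Subgroup G}
    (hM : IsCoatom M) (hd : IsTypePWith M W₁ U W₂) (hII : IsOfTypeII M) :
    ⁅cKer M U ⊥, cKer M U ⊥⁆.relIndex (cKer M U ⊥) = Nat.card ↥(cKer M U ⊥) := by
  haveI := TypeTwo.U_comm hG hM hd hII
  rw [(commutator_eq_bot_iff_le_centralizer.2 fun a ha => mem_centralizer_iff.2 fun b hb =>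
    congrArg Subtype.val (IsMulCommutative.is_comm.comm (⟨b, hb.1⟩ : U) ⟨a, ha.1⟩) :
    ⁅cKer M U ⊥, cKer M U ⊥⁆ = ⊥), relIndex_bot_left]

/-- With trivial `C` the kernel is `M_F` and `ū = |U|`. -/
theorem kerK_bot_of_bot {M W₁ U W₂ : Subgroup G} (hd : IsTypePWith M W₁ U W₂)
    (hC : U ⊓ centralizer (fittingHallOf M : Set G) = ⊥) :
    kerK M U ⊥ = fittingHallOf M ∧ (cKer M U ⊥).relIndex U = Nat.card U := by
  have h : cKer M U ⊥ = ⊥ := (cKer_bot hd).trans hC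
  exact ⟨by rw [kerK, h, sup_bot_eq], by rw [h, relIndex_bot_left]⟩

/-- A pair of members of Type II does not exist. -/
theorem false_of_kits (hG : IsMinSimpleOddOrder G) (h : Pair S T W₁ W₂ U V) (hII : IsOfTypeII S)
    (hII' : IsOfTypeII T) [Fintype ↥S] [Fintype ↥T] {η : (↥(W₁ ⊔ W₂) →* ℂˣ) → G → ℂ}
    (hη : IsCyclicTIFamily W₁ W₂ η) (kS : Kit S W₁ U W₂ ⊥ η)
    (kT : Kit T W₂ V W₁ ⊥ (fun f => η (swapHom f))) (hqp : Nat.card W₁ < Nat.card W₂) : False := by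
  obtain ⟨⟨hiT, hvT, hcT⟩, hS⟩ := pair_outcome hG h hη kS kT hqp
  have hqP := TypeTwo.card_W₁_prime hG h.maxS h.dataS hII
  have hpP := TypeTwo.card_W₁_prime hG h.maxT h.dataT hII'
  rw [relIndex_commutator_cKer hG h.maxT h.dataT hII', cKer_bot h.dataT] at hcT
  rw [cKer_bot h.dataT] at hvT
  rw [relIndex_commutator_cKer hG h.maxS h.dataS hII, cKer_bot h.dataS] at hS
  obtain ⟨hVc, hV, -, hCV⟩ :=
    shape_max hG h.maxT h.dataT hII' hqP (isIrredMod_bot.1 hiT) hcT hvT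
  have key : U ⊓ centralizer (fittingHallOf S : Set G) = ⊥ ∧
      ((IsCyclic U ∧ Nat.card U = (Nat.card W₂ ^ Nat.card W₁ - 1) / (Nat.card W₂ - 1)) ∨
      (IsCyclic U ∧ Nat.card W₁ ∣ Nat.card W₂ - 1 ∧
        Nat.card W₁ * Nat.card U = (Nat.card W₂ ^ Nat.card W₁ - 1) / (Nat.card W₂ - 1)) ∨
      (Nat.card W₁ = 3 ∧ 4 * Nat.card U = (Nat.card W₂ - 1) ^ 2 ∧
        ∀ r : ℕ, r.Prime → r ∣ Nat.card U → r ∣ Nat.card W₂ - 1)) := by
    rcases hS with ⟨hi, hc, hd⟩ | ⟨hi, hdvd, hc, hd⟩ | ⟨-, hq3, hc, hd⟩ | ⟨-, -, -, hd, hc⟩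
    · obtain ⟨h1, h2, -, h4⟩ := shape_max hG h.maxS h.dataS hII hpP (isIrredMod_bot.1 hi) hc hd
      exact ⟨h4, Or.inl ⟨h1, h2⟩⟩
    · obtain ⟨h1, h2, -, h4⟩ := shape_div hG h.maxS h.dataS hII hpP (isIrredMod_bot.1 hi) hc hd
      exact ⟨h4, Or.inr (Or.inl ⟨h1, hdvd, h2⟩)⟩
    · obtain ⟨h1, h2, h3⟩ := shape_monomial hG h.maxS h.dataS hII hc hd
      exact ⟨h1, Or.inr (Or.inr ⟨hq3, h2, h3⟩)⟩
    · exact (shape_exceptional hG h.maxS h.dataS hII hc hd).elim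
  obtain ⟨hCU, hU⟩ := key
  obtain ⟨X, μ, π, hs, hb, -, -⟩ := kS.chars
  obtain ⟨X', μ', π', hs', hb', -, -⟩ := kT.chars
  obtain ⟨eK, ed⟩ := kerK_bot_of_bot h.dataS hCU
  obtain ⟨eK', ed'⟩ := kerK_bot_of_bot h.dataT hCV
  rw [eK, ed] at hs hb
  rw [eK', ed'] at hs' hb'
  exact Overgroup.false_of_pair hG h hII hII' rfl rfl hqp hη hCU hCV hVc hV hU hs hb hs' hb'

end Cfsg.Agent.OddFinal
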