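import Cfsg.Agent.OddFinal.PairExists
import Cfsg.Agent.OddFinal.ChiefFrame
import Cfsg.Agent.OddFinal.PairLong
import Cfsg.Agent.OddFinal.PairTwo

/-!
# The assembly

If the complement of a member which is not of Type II is never trivial then there is no minimal
simple group of odd order.
-/

set_option autoImplicit false
set_option linter.unusedSectionVars false

namespace Cfsg.Agent.OddFinal

open Subgroup Cfsg Cfsg.Agent.Char CyclicTI
open scoped _root_.Classical

universe u

/-- A member of a pair which is not of Type II has a non-trivial complement. -/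
def NonDegenerate (G : Type u) [Group G] : Prop :=
  ∀ S T W₁ W₂ U V : Subgroup G, Pair S T W₁ W₂ U V → ¬ IsOfTypeII S → U ≠ ⊥

variable {G : Type u} [Group G] [Fintype G]

theorem kit_case (hG : IsMinSimpleOddOrder G) (hnd : NonDegenerate G)
    {S T W₁ W₂ U V : Subgroup G} (h : Pair S T W₁ W₂ U V) :
    (IsOfTypeII S ∧ (Nat.card W₂).Prime) ∨ (¬ IsOfTypeII S ∧ U ≠ ⊥) := by
  by_cases hS : IsOfTypeII S
  · refine Or.inl ⟨hS, ?_⟩
    by_cases hT : IsOfTypeII T
    · exact TypeTwo.card_W₁_prime hG h.maxT h.dataT hT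
    · exact NotTwo.prime_W₁ hG h.maxT h.dataT hT (hnd T S W₂ W₁ V U h.symm hT)
  · exact Or.inr ⟨hS, hnd S T W₁ W₂ U V h hS⟩

theorem false_of_nonDegenerate (hG : IsMinSimpleOddOrder G) (hnd : NonDegenerate G) : False := by
  obtain ⟨S, T, W₁, W₂, U, V, h, hqp, -⟩ := exists_pair hG
  obtain ⟨η, hη⟩ := CyclicTI.exists_family h.dataS.selfNormalizing (odd_card hG _)
  obtain ⟨H₀, kS, e₀⟩ := exists_kit hG h.maxS h.dataS h.typeS hη (kit_case hG hnd h)
  obtain ⟨H₁, kT, e₁⟩ :=
    exists_kit hG h.maxT h.dataT h.typeT (eta_swap hη) (kit_case hG hnd h.symm)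
  have hS := typeII_short hG h hη kS kT hqp
  have hT := typeII_long hG h hη kS kT hqp
  obtain rfl := e₀ hS
  obtain rfl := e₁ hT
  exact false_of_kits hG h hS hT hη kS kT hqp

end Cfsg.Agent.OddFinal
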