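import Cfsg.Agent.Coprime.Tools
import Mathlib.GroupTheory.GroupAction.Quotient
import Mathlib.RingTheory.RootsOfUnity.Basic
import Mathlib.RingTheory.IntegralDomain

/-!
# A commutative automorphism group of an elementary abelian group of order `p ^ q`

`R` is a commutative group of automorphisms of `V`, without nontrivial power maps, normalised by
`σ` of period `q`, and irreducible together with `σ`. Either `R` is irreducible and then acts
freely on the lines, or `V` is generated by `q` lines invariant under `R`.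
-/

set_option autoImplicit false
set_option linter.unusedSectionVars false

namespace Cfsg.Agent.OddFinal.AutSplit

open Subgroup

universe u

/-- No proper nontrivial subgroup is invariant under `R`. -/
def Irred {V : Type u} [Group V] (R : Subgroup (MulAut V)) : Prop :=
  ∀ N : Subgroup V, (∀ e ∈ R, ∀ v ∈ N, e v ∈ N) → N = ⊥ ∨ N = ⊤

variable {V : Type u} [CommGroup V] [Finite V]

/-- The subgroup where two endomorphisms agree. -/
def agree (f g : V →* V) : Subgroup V where
  carrier := {v | f v = g v}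
  one_mem' := by simp
  mul_mem' := fun {a b} ha hb => by
    simp only [Set.mem_setOf_eq] at ha hb ⊢
    rw [map_mul, map_mul, ha, hb]
  inv_mem' := fun {a} ha => by
    simp only [Set.mem_setOf_eq] at ha ⊢
    rw [map_inv, map_inv, ha]

theorem mem_agree {f g : V →* V} {v : V} : v ∈ agree f g ↔ f v = g v := Iff.rfl

variable {p q : ℕ} {R : Subgroup (MulAut V)}
  (hcomm : ∀ e ∈ R, ∀ f ∈ R, e * f = f * e)

include hcomm

theorem apply_comm {e f : MulAut V} (he : e ∈ R) (hf : f ∈ R) (v : V) : e (f v) = f (e v) :=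
  DFunLike.congr_fun (hcomm e he f hf) v

/-- In the irreducible case only `1` fixes a nontrivial point. -/
theorem eq_one_of_fixed (hirr : Irred R) {e : MulAut V} (he : e ∈ R) {v : V} (hv : v ≠ 1)
    (h : e v = v) : e = 1 := by
  rcases hirr (agree e.toMonoidHom (MonoidHom.id V)) fun f hf w hw => by
      rw [mem_agree] at hw ⊢
      simp only [MulEquiv.coe_toMonoidHom, MonoidHom.id_apply] at hw ⊢
      rw [apply_comm hcomm he hf, hw] with e' | e'
  · refine absurd ?_ hv
    have : v ∈ agree e.toMonoidHom (MonoidHom.id V) := h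
    rwa [e', mem_bot] at this
  · exact MulEquiv.ext fun w => (e'.ge (mem_top w) : e.toMonoidHom w = w)

/-- In the irreducible case only `1` fixes a nontrivial homomorphism. -/
theorem eq_one_of_fixed_hom (hirr : Irred R) {e : MulAut V} (he : e ∈ R) {A : Type*} [CommGroup A]
    {F : V →* A} (hF : F ≠ 1) (h : ∀ v, F (e v) = F v) : e = 1 := by
  let d : V →* V := e.toMonoidHom / MonoidHom.id V
  have hd : ∀ v, d v = e v / v := fun v => rfl
  rcases hirr d.range fun f hf w hw => by
      obtain ⟨x, rfl⟩ := hw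
      exact ⟨f x, by rw [hd, hd, map_div, apply_comm hcomm he hf]⟩ with e' | e'
  · refine MulEquiv.ext fun w => ?_
    have : d w ∈ d.range := ⟨w, rfl⟩
    rw [e', mem_bot, hd, div_eq_one] at this
    exact this
  · refine absurd (MonoidHom.ext fun v => ?_) hF
    obtain ⟨x, hx⟩ := (e'.ge (mem_top v) : v ∈ d.range)
    rw [← hx, hd, map_div, h, div_self', MonoidHom.one_apply]

variable (hp : p.Prime) (hexp : ∀ v : V, v ^ p = 1)
  (hscal : ∀ e ∈ R, ∀ k : ℕ, (∀ v, e v = v ^ k) → e = 1)

include hp hexp hscal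

/-- In the irreducible case only `1` fixes a line. -/
theorem eq_one_of_fixed_line (hirr : Irred R) {e : MulAut V} (he : e ∈ R) {v : V} (hv : v ≠ 1)
    (h : e v ∈ zpowers v) : e = 1 := by
  rw [← mem_powers_iff_mem_zpowers] at h
  obtain ⟨k, hk⟩ := h
  rcases hirr (agree e.toMonoidHom (powMonoidHom k)) fun f hf w hw => by
      rw [mem_agree] at hw ⊢
      simp only [MulEquiv.coe_toMonoidHom, powMonoidHom_apply] at hw ⊢
      rw [apply_comm hcomm he hf, hw, map_pow] with e' | e'
  · refine absurd ?_ hv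
    have : v ∈ agree e.toMonoidHom (powMonoidHom k) := hk.symm
    rwa [e', mem_bot] at this
  · exact hscal e he k fun w => (e'.ge (mem_top w) : e.toMonoidHom w = powMonoidHom k w)

/-- In the irreducible case `|R|` divides the number of lines. -/
theorem card_dvd_lines (hirr : Irred R) (hV : Nat.card V = p ^ q) :
    Nat.card R ∣ (p ^ q - 1) / (p - 1) := by
  classical
  haveI := Fact.mk hp
  set α := {L : Subgroup V // Nat.card L = p}
  haveI := Fintype.ofFinite α
  let f : {x : V // x ≠ 1} → α := fun x =>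
    ⟨zpowers x.1, by rw [Nat.card_zpowers, orderOf_eq_prime (hexp _) x.2]⟩
  have hne : ∀ H : Subgroup V, Nat.card {x : H // x ≠ 1} = Nat.card H - 1 := fun H => by
    haveI := Fintype.ofFinite H
    rw [Nat.card_eq_fintype_card, Nat.card_eq_fintype_card, Fintype.card_subtype_compl,
      Fintype.card_subtype_eq]
  have hfib : ∀ L : α, Nat.card {x : {x : V // x ≠ 1} // f x = L} = p - 1 := fun L => by
    rw [← L.2, ← hne]
    refine Nat.card_congr
      { toFun := fun x => ⟨⟨x.1.1, (congrArg Subtype.val x.2).le (mem_zpowers _)⟩,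
          fun e => x.1.2 (congrArg Subtype.val e)⟩
        invFun := fun x => ⟨⟨x.1.1, fun e => x.2 (Subtype.ext e)⟩, Subtype.ext ?_⟩
        left_inv := fun x => rfl
        right_inv := fun x => rfl }
    refine eq_of_le_of_card_ge (zpowers_le.2 x.1.2) (le_of_eq ?_)
    show Nat.card L.1 = Nat.card (zpowers (x.1 : V))
    rw [L.2, Nat.card_zpowers]
    exact (orderOf_eq_prime (hexp _) fun e => x.2 (Subtype.ext e)).symm
  have h1 : Nat.card {x : V // x ≠ 1} = Nat.card α * (p - 1) := by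
    rw [← Nat.card_congr (Equiv.sigmaFiberEquiv f), Nat.card_sigma,
      Finset.sum_congr rfl fun L _ => hfib L, Finset.sum_const, Finset.card_univ, smul_eq_mul,
      Nat.card_eq_fintype_card (α := α)]
  have h2 : Nat.card {x : V // x ≠ 1} = p ^ q - 1 := by
    haveI := Fintype.ofFinite V
    rw [Nat.card_eq_fintype_card, Fintype.card_subtype_compl, Fintype.card_subtype_eq,
      ← Nat.card_eq_fintype_card, hV]
  rw [h2] at h1
  rw [h1, Nat.mul_div_cancel _ (Nat.sub_pos_of_lt hp.one_lt)]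
  letI : MulAction R α :=
    { smul := fun e L => ⟨L.1.map (e.1 : V ≃* V).toMonoidHom, by
        rw [card_map_of_injective (e.1 : V ≃* V).injective, L.2]⟩
      one_smul := fun L => Subtype.ext (by
        show L.1.map ((1 : R).1 : V ≃* V).toMonoidHom = L.1
        exact map_id _)
      mul_smul := fun e e' L => Subtype.ext (by
        show L.1.map ((e * e' : R).1 : V ≃* V).toMonoidHom = (L.1.map _).map _
        rw [Subgroup.map_map]; rfl) }
  have hstab : ∀ L : α, MulAction.stabilizer R L = ⊥ := fun L => by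
    refine eq_bot_iff.2 fun e he => mem_bot.2 (Subtype.ext ?_)
    rw [MulAction.mem_stabilizer_iff] at he
    have hLe : L.1.map ((e.1 : V ≃* V).toMonoidHom) = L.1 := congrArg Subtype.val he
    obtain ⟨x, hx⟩ := Subgroup.ne_bot_iff_exists_ne_one.1 fun e : L.1 = ⊥ =>
      hp.one_lt.ne (by rw [← L.2, e, card_bot])
    have hx1 : (x : V) ≠ 1 := fun e => hx (Subtype.ext e)
    refine eq_one_of_fixed_line hcomm hp hexp hscal hirr e.2 hx1 ?_
    rw [show zpowers (x : V) = L.1 from eq_of_le_of_card_ge (zpowers_le.2 x.2) (le_of_eq (by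
      rw [L.2, Nat.card_zpowers, orderOf_eq_prime (hexp _) hx1]))]
    exact hLe.le ⟨x, x.2, rfl⟩
  haveI := Fintype.ofFinite (Quotient (MulAction.orbitRel R α))
  rw [Nat.card_congr (MulAction.selfEquivSigmaOrbitsQuotientStabilizer R α),
    Nat.card_sigma, Finset.sum_congr rfl (g := fun _ => Nat.card R) fun ω _ => by
      rw [← index_eq_card, hstab, index_bot]]
  rw [Finset.sum_const, smul_eq_mul]
  exact dvd_mul_left _ _

omit hscal

/-- Only multiples of `q` are common divisors of `(p ^ q - 1) / (p - 1)` and `p - 1`. -/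
theorem coprime_pred_of_dvd (hq : q.Prime) {d : ℕ} (hd : d ∣ (p ^ q - 1) / (p - 1))
    (hmod : d % q = 1) : d.Coprime (p - 1) := by
  refine Nat.coprime_of_dvd fun r hr h1 h2 => ?_
  have hp1 : (p : ZMod r) = 1 := by
    have := (ZMod.natCast_eq_zero_iff (p - 1) r).2 h2
    rwa [Nat.cast_sub hp.one_le, Nat.cast_one, sub_eq_zero] at this
  have h3 : ((∑ i ∈ Finset.range q, p ^ i : ℕ) : ZMod r) = 0 := by
    rw [Nat.geomSum_eq hp.two_le q, ZMod.natCast_eq_zero_iff]
    exact h1.trans hd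
  push_cast at h3
  simp only [hp1, one_pow, Finset.sum_const, Finset.card_range, nsmul_one] at h3
  rw [ZMod.natCast_eq_zero_iff, Nat.prime_dvd_prime_iff_eq hr hq] at h3
  subst h3
  rw [Nat.mod_eq_zero_of_dvd h1] at hmod
  exact zero_ne_one hmod

include hscal

variable (hq : q.Prime) (hV : Nat.card V = p ^ q) {σ : MulAut V} (hσq : σ ^ q = 1)
  (hσR : ∀ e ∈ R, σ * e * σ⁻¹ ∈ R)
  (hirr₂ : ∀ N : Subgroup V, (∀ e ∈ R, ∀ v ∈ N, e v ∈ N) → (∀ v ∈ N, σ v ∈ N) → N = ⊥ ∨ N = ⊤)

include hq hV hσq hσR hirr₂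

/-- In the reducible case `V` is generated by `q` invariant lines. -/
theorem exists_lines (hred : ¬ Irred R) :
    ∃ X : ℕ → Subgroup V, (∀ i, Nat.card (X i) = p ∧ ∀ e ∈ R, ∀ v ∈ X i, e v ∈ X i) ∧
      (Finset.range q).sup X = ⊤ := by
  classical
  haveI : Nontrivial V := by
    rw [← Finite.one_lt_card_iff_nontrivial, hV]; exact Nat.one_lt_pow hq.ne_zero hp.one_lt
  obtain ⟨X, ⟨hXn, hX1⟩, hmin⟩ := wellFounded_lt.has_min
    {N : Subgroup V | (∀ e ∈ R, ∀ v ∈ N, e v ∈ N) ∧ N ≠ ⊥}
    ⟨⊤, fun _ _ _ _ => mem_top _, top_ne_bot⟩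
  have hXne : X ≠ ⊤ := fun e => hred fun N hn => by
    rcases eq_or_ne N ⊥ with h | h
    · exact Or.inl h
    · exact Or.inr (le_top.eq_of_not_lt fun hlt => hmin N ⟨hn, h⟩ (lt_of_lt_of_eq hlt e.symm))
  have hσn : ∀ i : ℕ, ∀ e ∈ R, (σ ^ i)⁻¹ * e * σ ^ i ∈ R := by
    have h1 : ∀ e ∈ R, σ⁻¹ * e * σ ∈ R := by
      intro e he
      have key : ∀ n : ℕ, σ ^ n * e * (σ ^ n)⁻¹ ∈ R := by
        intro n
        induction n with
        | zero => simpa using he
        | succ n ih =>
          have := hσR _ ih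
          rwa [show σ * (σ ^ n * e * (σ ^ n)⁻¹) * σ⁻¹ =
            σ ^ (n + 1) * e * (σ ^ (n + 1))⁻¹ by rw [pow_succ']; group] at this
      have := key (q - 1)
      have h2 : σ ^ (q - 1) = σ⁻¹ := by
        rw [eq_inv_iff_mul_eq_one, ← pow_succ, Nat.sub_add_cancel hq.one_le, hσq]
      rwa [h2, inv_inv] at this
    intro i
    induction i with
    | zero => intro e he; simpa using he
    | succ i ih =>
      intro e he
      have := h1 _ (ih e he)
      rwa [show σ⁻¹ * ((σ ^ i)⁻¹ * e * σ ^ i) * σ = (σ ^ (i + 1))⁻¹ * e * σ ^ (i + 1) by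
        rw [pow_succ]; group] at this
  let Xi : ℕ → Subgroup V := fun i => X.map ((σ ^ i : MulAut V) : V ≃* V).toMonoidHom
  have hXin : ∀ i, ∀ e ∈ R, ∀ v ∈ Xi i, e v ∈ Xi i := by
    rintro i e he _ ⟨y, hy, rfl⟩
    refine ⟨((σ ^ i)⁻¹ * e * σ ^ i) y, hXn _ (hσn i e he) y hy, ?_⟩
    show (σ ^ i) (((σ ^ i)⁻¹ * e * σ ^ i) y) = e ((σ ^ i) y)
    simp only [MulAut.mul_apply, MulAut.apply_inv_self]
  have hXimin : ∀ i N, N ≤ Xi i → (∀ e ∈ R, ∀ v ∈ N, e v ∈ N) → N ≠ ⊥ → N = Xi i := by
    intro i N hN hn h1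
    set N' := N.map (((σ ^ i)⁻¹ : MulAut V) : V ≃* V).toMonoidHom with hN'
    have hle : N' ≤ X := by
      rintro _ ⟨z, hz, rfl⟩
      obtain ⟨y, hy, rfl⟩ := hN hz
      show ((σ ^ i)⁻¹ : MulAut V) ((σ ^ i) y) ∈ X
      rwa [MulAut.inv_apply_self]
    have hσR' : ∀ e ∈ R, σ ^ i * e * (σ ^ i)⁻¹ ∈ R := by
      intro e he
      have hrep : ∀ n : ℕ, σ ^ n * e * (σ ^ n)⁻¹ ∈ R := by
        intro n
        induction n with
        | zero => simpa using he
        | succ n ih =>
          have := hσR _ ih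
          rwa [show σ * (σ ^ n * e * (σ ^ n)⁻¹) * σ⁻¹ =
            σ ^ (n + 1) * e * (σ ^ (n + 1))⁻¹ by rw [pow_succ']; group] at this
      exact hrep i
    have hn' : ∀ e ∈ R, ∀ v ∈ N', e v ∈ N' := by
      rintro e he _ ⟨y, hy, rfl⟩
      refine ⟨(σ ^ i * e * (σ ^ i)⁻¹) y, hn _ (hσR' e he) y hy, ?_⟩
      show ((σ ^ i)⁻¹ : MulAut V) ((σ ^ i * e * (σ ^ i)⁻¹) y) =
        e (((σ ^ i)⁻¹ : MulAut V) y)
      simp only [MulAut.mul_apply, MulAut.inv_apply_self]
    have hb : N' ≠ ⊥ := by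
      rw [hN', Ne, map_eq_bot_iff_of_injective _ (MulEquiv.injective _)]; exact h1
    have he := hle.eq_of_not_lt (hmin N' ⟨hn', hb⟩)
    refine eq_of_le_of_card_ge hN (le_of_eq ?_)
    rw [card_map_of_injective (MulEquiv.injective _), ← he, hN',
      card_map_of_injective (MulEquiv.injective _)]
  let Y : ℕ → Subgroup V := fun n => (Finset.range n).sup Xi
  have hYn : ∀ n, ∀ e ∈ R, ∀ v ∈ Y n, e v ∈ Y n := by
    intro n e he
    have : Y n ≤ (Y n).comap (e : V ≃* V).toMonoidHom := Finset.sup_le fun i hi v hv =>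
      (Finset.le_sup (f := Xi) hi : Xi i ≤ Y n) (hXin i e he v hv)
    exact fun v hv => this hv
  have hcard : ∀ n, ∃ k ≤ n, Nat.card (Y n) = Nat.card X ^ k := by
    intro n
    induction n with
    | zero => exact ⟨0, le_rfl, by simp [Y]⟩
    | succ n ih =>
      obtain ⟨k, hk, he⟩ := ih
      have hs : Y (n + 1) = Y n ⊔ Xi n := by
        simp only [Y, Finset.range_add_one, Finset.sup_insert]
        exact sup_comm _ _
      rcases eq_or_ne (Y n ⊓ Xi n) ⊥ with h | h
      · refine ⟨k + 1, by omega, ?_⟩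
        rw [hs, Coprime.card_sup_eq_mul (by rw [normalizer_eq_top]; exact le_top) h, he,
          card_map_of_injective (MulEquiv.injective _), pow_succ]
      · refine ⟨k, by omega, ?_⟩
        have h2 := hXimin n _ inf_le_right
          (fun e he v hv => ⟨hYn n e he v hv.1, hXin n e he v hv.2⟩) h
        rw [hs, sup_eq_left.2 (inf_eq_right.1 h2), he]
  have hYσ : ∀ v ∈ Y q, σ v ∈ Y q := by
    have : Y q ≤ (Y q).comap (σ : V ≃* V).toMonoidHom := Finset.sup_le fun i hi v hv => by
      obtain ⟨y, hy, rfl⟩ := hv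
      have hmem : σ ((σ ^ i) y) ∈ Xi (i + 1) := ⟨y, hy, by rw [pow_succ']; rfl⟩
      rcases lt_or_eq_of_le (Nat.succ_le_of_lt (Finset.mem_range.1 hi)) with h | h
      · exact (Finset.le_sup (f := Xi) (Finset.mem_range.2 h) : Xi (i + 1) ≤ Y q) hmem
      · rw [show i + 1 = q from h] at hmem
        have he : Xi q = Xi 0 := by simp only [Xi, hσq, pow_zero]
        rw [he] at hmem
        exact (Finset.le_sup (f := Xi) (Finset.mem_range.2 hq.pos) : Xi 0 ≤ Y q) hmem
    exact fun v hv => this hv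
  have hYq : Y q = ⊤ := (hirr₂ (Y q) (hYn q) hYσ).resolve_left fun e => hX1 (le_bot_iff.1 (e ▸
    (le_trans (show X ≤ Xi 0 from fun y hy => ⟨y, hy, by simp⟩) (Finset.le_sup (f := Xi) (Finset.mem_range.2 hq.pos)))))
  obtain ⟨k, -, hk⟩ := hcard q
  rw [hYq, card_top, hV] at hk
  obtain ⟨j, -, hj⟩ := (Nat.dvd_prime_pow hp).1 (hV ▸ card_subgroup_dvd_card X)
  rw [hj, ← pow_mul] at hk
  have hjk := Nat.pow_right_injective hp.two_le hk
  have hXc : Nat.card X = p := by
    rcases (Nat.dvd_prime hq).1 (Dvd.intro k hjk.symm) with e | e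
    · rw [hj, e, pow_one]
    · refine absurd (eq_top_of_card_eq X ?_) hXne
      rw [hj, e, hV]
  exact ⟨Xi, fun i => ⟨by rw [card_map_of_injective (MulEquiv.injective _), hXc], hXin i⟩, hYq⟩

omit hcomm hscal hq hV hσq hσR hirr₂

/-- The character of an automorphism group on an invariant line. -/
theorem exists_char [Fact p.Prime] {X : Subgroup V} (hX : Nat.card X = p)
    (hn : ∀ e ∈ R, ∀ v ∈ X, e v ∈ X) :
    ∃ χ : R →* (ZMod p)ˣ, ∀ e : R, ∀ y ∈ X, (e : MulAut V) y = y ^ ((χ e : ZMod p)).val := by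
  obtain ⟨x, hx⟩ := Subgroup.ne_bot_iff_exists_ne_one.1 fun e : X = ⊥ =>
    hp.one_lt.ne (by rw [← hX, e, card_bot])
  have hxo : orderOf (x : V) = p := orderOf_eq_prime (hexp _) fun e => hx (Subtype.ext e)
  have hz : zpowers (x : V) = X :=
    eq_of_le_of_card_ge (zpowers_le.2 x.2) (le_of_eq (by rw [hX, Nat.card_zpowers, hxo]))
  have key : ∀ e : R, ∃ k : ZMod p, (e : MulAut V) x = (x : V) ^ k.val := fun e => by
    have h1 : (e : MulAut V) x ∈ zpowers (x : V) := by rw [hz]; exact hn _ e.2 _ x.2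
    obtain ⟨j, hj⟩ := mem_zpowers_iff.1 h1
    refine ⟨(j : ZMod p), hj.symm.trans ?_⟩
    rw [← zpow_natCast]
    refine (zpow_eq_zpow_iff_modEq).2 ?_
    rw [hxo, ← ZMod.intCast_eq_intCast_iff]
    simp
  choose f hf using key
  have huniq : ∀ a b : ZMod p, (x : V) ^ a.val = (x : V) ^ b.val → a = b := fun a b h => by
    rw [pow_eq_pow_iff_modEq, hxo, ← ZMod.natCast_eq_natCast_iff] at h
    simpa using h
  have hone : f 1 = 1 := huniq _ _ (by
    rw [← hf 1, ZMod.val_one, pow_one]; rfl)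
  have hmul : ∀ u v, f (u * v) = f u * f v := fun u v => huniq _ _ (by
    rw [← hf (u * v)]
    have h1 : (x : V) ^ (f u * f v).val = ((x : V) ^ (f u).val) ^ (f v).val := by
      rw [← pow_mul, pow_eq_pow_iff_modEq, hxo, ← ZMod.natCast_eq_natCast_iff]
      simp
    rw [h1, ← hf u, ← map_pow, ← hf v]
    rfl)
  let F : R →* ZMod p := { toFun := f, map_one' := hone, map_mul' := hmul }
  refine ⟨F.toHomUnits, fun e y hy => ?_⟩
  rw [MonoidHom.coe_toHomUnits]
  rw [← hz, mem_zpowers_iff] at hy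
  obtain ⟨j, rfl⟩ := hy
  show _ = ((x : V) ^ j) ^ (f e).val
  rw [map_zpow, hf e, ← zpow_natCast, ← zpow_natCast, ← zpow_mul, ← zpow_mul, mul_comm]

/-- An automorphism fixing a homomorphism that is nontrivial on an invariant line fixes the line
pointwise. -/
theorem fixes_line {X : Subgroup V} (hX : Nat.card X = p) {e : MulAut V}
    (hn : ∀ v ∈ X, e v ∈ X) {A : Type*} [CommGroup A] {F : V →* A} (hF : ∃ x ∈ X, F x ≠ 1)
    (h : ∀ v, F (e v) = F v) {y : V} (hy : y ∈ X) : e y = y := by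
  haveI := Fact.mk hp
  obtain ⟨x, hx, hFx⟩ := hF
  have hinj : ∀ z ∈ X, F z = 1 → z = 1 := by
    intro z hz hz1
    by_contra hne
    have hzX : zpowers z = X := eq_of_le_of_card_ge (zpowers_le.2 hz)
      (le_of_eq (by rw [hX, Nat.card_zpowers, orderOf_eq_prime (hexp _) hne]))
    obtain ⟨j, rfl⟩ := mem_zpowers_iff.1 (hzX.ge hx)
    exact hFx (by rw [map_zpow, hz1, one_zpow])
  exact div_eq_one.1 (hinj _ (X.div_mem (hn y hy) hy) (by rw [map_div, h, div_self']))

include hcomm hscal hq hV hσq hσR hirr₂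

/-- In the reducible case `|R|` divides the `(q-1)`st power of the odd part of `p - 1`. -/
theorem card_dvd_monomial (hodd : Odd (Nat.card R)) (hred : ¬ Irred R) :
    Nat.card R ∣ ((p - 1) / 2 ^ (p - 1).factorization 2) ^ (q - 1) := by
  classical
  haveI := Fact.mk hp
  set m := (p - 1) / 2 ^ (p - 1).factorization 2 with hm
  obtain ⟨X, hX, hsup⟩ := exists_lines hcomm hp hexp hscal hq hV hσq hσR hirr₂ hred
  have hchar := fun i => exists_char (R := R) hp hexp (hX i).1 (hX i).2
  choose χ hχ using hchar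
  have hroot : ∀ (i : ℕ) (u : R), χ i u ∈ rootsOfUnity m (ZMod p) := fun i u => by
    rw [mem_rootsOfUnity, ← orderOf_dvd_iff_pow_eq_one]
    have h1 : orderOf (χ i u) ∣ p - 1 := by
      have := _root_.orderOf_dvd_natCard (χ i u)
      rwa [Nat.card_eq_fintype_card, ZMod.card_units p] at this
    have h2 : ¬ 2 ∣ orderOf (χ i u) := fun h => (Nat.not_even_iff_odd.2 hodd)
      (even_iff_two_dvd.2 (h.trans ((orderOf_map_dvd (χ i) u).trans (_root_.orderOf_dvd_natCard u))))
    rw [← Nat.ordProj_mul_ordCompl_eq_self (p - 1) 2] at h1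
    exact (((Nat.prime_two.coprime_iff_not_dvd).2 h2).symm.pow_right _).dvd_of_dvd_mul_left h1
  let Ψ : R →* (Fin (q - 1) → rootsOfUnity m (ZMod p)) :=
    { toFun := fun u i => ⟨χ (i + 1) u / χ 0 u, div_mem (hroot _ u) (hroot _ u)⟩
      map_one' := by ext i; simp
      map_mul' := fun u v => funext fun i => Subtype.ext (by
        simp only [map_mul, Pi.mul_apply, Subgroup.coe_mul, mul_div_mul_comm]) }
  have hker : Ψ.ker = ⊥ := by
    refine eq_bot_iff.2 fun u h => mem_bot.2 (Subtype.ext ?_)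
    rw [MonoidHom.mem_ker] at h
    refine hscal u u.2 ((χ 0 u : ZMod p)).val fun y => ?_
    have hle : (⊤ : Subgroup V) ≤ agree ((u : MulAut V) : V ≃* V).toMonoidHom
        (powMonoidHom ((χ 0 u : ZMod p)).val) := by
      refine le_of_eq_of_le hsup.symm (Finset.sup_le fun i hi y hy => mem_agree.2 ?_)
      have he : χ i u = χ 0 u := by
        rcases Nat.eq_zero_or_pos i with rfl | hi0
        · rfl
        · have := congrArg Subtype.val (congrFun h ⟨i - 1, by rw [Finset.mem_range] at hi; omega⟩)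
          have e : i - 1 + 1 = i := by omega
          simpa [Ψ, e, div_eq_one] using this
      rw [powMonoidHom_apply, ← he]
      exact hχ i u y hy
    exact hle (mem_top y)
  have h1 : Nat.card R = Nat.card Ψ.range := by
    rw [← index_ker, hker, index_bot]
  rw [h1]
  refine (card_subgroup_dvd_card Ψ.range).trans ?_
  rw [Nat.card_fun, Nat.card_fin]
  refine pow_dvd_pow_of_dvd ?_ _
  rw [← IsCyclic.exponent_eq_card]
  exact Monoid.exponent_dvd_of_forall_pow_eq_one fun z => Subtype.ext (by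
    rw [SubgroupClass.coe_pow]
    exact (mem_rootsOfUnity _ _).1 z.2)

end Cfsg.Agent.OddFinal.AutSplit
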