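import Cfsg.Agent.OddFinal.GenericData

/-!
# The weighted average of the fixed and generic characters, and test functions
-/

set_option autoImplicit false
set_option linter.unusedSectionVars false

namespace Cfsg.Agent.OddFinal

open Cfsg Char CyclicTI
open scoped ComplexConjugate
open scoped _root_.Classical

universe u

variable {G : Type u} [Group G] [Fintype G] {M W₁ W₂ K : Subgroup G} [Fintype ↥M] {d : ℕ}
  {X : Finset (↥M → ℂ)} {μ : (↥(W₁ ⊔ W₂) →* ℂˣ) → ↥M → ℂ}
  {η : (↥(W₁ ⊔ W₂) →* ℂˣ) → G → ℂ} {B : Set G}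

/-- The nontrivial characters on the right. -/
noncomputable def rightSet (W₁ W₂ : Subgroup G) : Finset (Right W₁ W₂) :=
  Finset.univ.filter (fun ψ => ψ.1 ≠ 1)

/-- The character induced from a fixed character of the kernel. -/
noncomputable def colChar (μ : (↥(W₁ ⊔ W₂) →* ℂˣ) → ↥M → ℂ) (ψ : Right W₁ W₂) : ↥M → ℂ :=
  ∑ φ : Left W₁ W₂, μ (φ.1 * ψ.1)

/-- `D = p - 1 + q |X|`, the number of regular orbits. -/
noncomputable def orbitCount (W₁ W₂ : Subgroup G) {α : Type*} (X : Finset α) : ℝ :=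
  (Nat.card W₂ : ℝ) - 1 + Nat.card W₁ * X.card

/-- The weighted average, of degree `q d` and squared norm `q / D`. -/
noncomputable def avgChar (X : Finset (↥M → ℂ)) (μ : (↥(W₁ ⊔ W₂) →* ℂˣ) → ↥M → ℂ) : ↥M → ℂ :=
  ((orbitCount W₁ W₂ X : ℝ) : ℂ)⁻¹ •
    ((∑ ψ ∈ rightSet W₁ W₂, colChar μ ψ) + (Nat.card W₁ : ℂ) • ∑ χ ∈ X, χ)

variable (h : Ctx M W₁ W₂ K d X μ η B)

include h

theorem Ctx.card_rightSet : ((rightSet W₁ W₂).card : ℂ) = (Nat.card W₂ : ℂ) - 1 := by
  have e : rightSet W₁ W₂ = Finset.univ.erase rightOne := by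
    ext ψ; simp [rightSet, rightOne, Subtype.ext_iff]
  rw [e, Finset.card_erase_of_mem (Finset.mem_univ _), Finset.card_univ, h.card_right,
    Nat.cast_sub Nat.card_pos, Nat.cast_one]

theorem Ctx.orbitCount_pos : (2 : ℝ) ≤ orbitCount W₁ W₂ X := by
  have h2 : (3 : ℝ) ≤ Nat.card W₂ := by exact_mod_cast h.three_le.2
  have : (0 : ℝ) ≤ (Nat.card W₁ : ℝ) * X.card := by positivity
  simp only [orbitCount]; linarith

theorem Ctx.orbitCount_cast :
    ((orbitCount W₁ W₂ X : ℝ) : ℂ) =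
      ((rightSet W₁ W₂).card : ℂ) + (Nat.card W₁ : ℂ) * X.card := by
  rw [h.card_rightSet]; simp [orbitCount]

theorem Ctx.orbitCount_ne : ((orbitCount W₁ W₂ X : ℝ) : ℂ) ≠ 0 := by
  have := h.orbitCount_pos
  exact_mod_cast (by linarith : orbitCount W₁ W₂ X ≠ 0)

theorem Ctx.sub_avg_eq (F : ↥M → ℂ) :
    F - avgChar X μ = ((orbitCount W₁ W₂ X : ℝ) : ℂ)⁻¹ •
      ((∑ ψ ∈ rightSet W₁ W₂, (F - colChar μ ψ)) + (Nat.card W₁ : ℂ) • ∑ χ ∈ X, (F - χ)) := by
  have hD := h.orbitCount_cast (X := X)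
  have hne := h.orbitCount_ne
  funext x
  simp only [avgChar, Pi.sub_apply, Pi.smul_apply, Pi.add_apply, Finset.sum_apply,
    Finset.sum_sub_distrib, Finset.sum_const, smul_eq_mul, nsmul_eq_mul, Pi.mul_apply,
    Pi.natCast_apply]
  rw [eq_inv_mul_iff_mul_eq₀ hne, mul_sub, ← mul_assoc, mul_inv_cancel₀ hne, one_mul, hD]
  ring

theorem Ctx.inner_ind_avg (F : ↥M → ℂ) (Y : G → ℂ) :
    classInner (indFun M (F - avgChar X μ)) Y = ((orbitCount W₁ W₂ X : ℝ) : ℂ)⁻¹ *
      ((∑ ψ ∈ rightSet W₁ W₂, classInner (indFun M (F - colChar μ ψ)) Y) +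
        (Nat.card W₁ : ℂ) * ∑ χ ∈ X, classInner (indFun M (F - χ)) Y) := by
  rw [h.sub_avg_eq, Char.indFun_smul, classInner_smul_left, Char.indFun_add, classInner_add_left,
    Char.indFun_smul, classInner_smul_left, Char.indFun_sum, Char.indFun_sum,
    classInner_sum_left, classInner_sum_left]

theorem Ctx.colChar_inner (ψ ψ' : Right W₁ W₂) :
    classInner (colChar μ ψ) (colChar μ ψ') = if ψ = ψ' then (Nat.card W₁ : ℂ) else 0 := by
  simp only [colChar, classInner_sum_left, classInner_sum_right, h.mu_irr]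
  split_ifs with e <;> simp [e, h.card_left]

theorem Ctx.colChar_X (ψ : Right W₁ W₂) {χ : ↥M → ℂ} (hχ : χ ∈ X) :
    classInner (colChar μ ψ) χ = 0 ∧ classInner χ (colChar μ ψ) = 0 := by
  constructor <;> simp [colChar, classInner_sum_left, classInner_sum_right, h.mu_X _ hχ]

theorem Ctx.X_inner {χ χ' : ↥M → ℂ} (hχ : χ ∈ X) (hχ' : χ' ∈ X) :
    classInner χ χ' = if χ = χ' then 1 else 0 :=
  classInner_irr (h.side.irr_X χ hχ) (h.side.irr_X χ' hχ')

theorem Ctx.inner_avg_col {ψ : Right W₁ W₂} (hψ : ψ.1 ≠ 1) :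
    classInner (avgChar X μ) (colChar μ ψ) =
      (Nat.card W₁ : ℂ) / ((orbitCount W₁ W₂ X : ℝ) : ℂ) := by
  simp only [avgChar, classInner_smul_left, classInner_add_left, classInner_sum_left,
    h.colChar_inner, Finset.sum_ite_eq', rightSet, Finset.mem_filter, Finset.mem_univ, true_and]
  rw [if_pos hψ, Finset.sum_eq_zero fun χ hχ => (h.colChar_X ψ hχ).2, mul_zero, add_zero,
    div_eq_inv_mul]

theorem Ctx.inner_avg_X {χ : ↥M → ℂ} (hχ : χ ∈ X) :
    classInner (avgChar X μ) χ = (Nat.card W₁ : ℂ) / ((orbitCount W₁ W₂ X : ℝ) : ℂ) := by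
  simp only [avgChar, classInner_smul_left, classInner_add_left, classInner_sum_left]
  rw [Finset.sum_eq_zero fun ψ _ => (h.colChar_X ψ hχ).1, zero_add,
    Finset.sum_congr rfl fun χ' hχ' => h.X_inner hχ' hχ, Finset.sum_ite_eq', if_pos hχ, mul_one,
    div_eq_inv_mul]

theorem Ctx.inner_avg_avg :
    classInner (avgChar X μ) (avgChar X μ) =
      (Nat.card W₁ : ℂ) / ((orbitCount W₁ W₂ X : ℝ) : ℂ) := by
  set D : ℂ := ((orbitCount W₁ W₂ X : ℝ) : ℂ) with hD
  set a := avgChar X μ with ha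
  have e : classInner a a = conj D⁻¹ * (((rightSet W₁ W₂).card : ℂ) * ((Nat.card W₁ : ℂ) / D) +
      conj (Nat.card W₁ : ℂ) * ((X.card : ℂ) * ((Nat.card W₁ : ℂ) / D))) := by
    conv_lhs => arg 2; rw [ha, avgChar]
    rw [classInner_smul_right, classInner_add_right, classInner_smul_right, classInner_sum_right,
      classInner_sum_right,
      Finset.sum_congr (s₁ := rightSet W₁ W₂) rfl
        (fun ψ hψ => show classInner a (colChar μ ψ) = (Nat.card W₁ : ℂ) / D from
          h.inner_avg_col (Finset.mem_filter.1 hψ).2),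
      Finset.sum_congr (s₁ := X) rfl
        (fun χ hχ => show classInner a χ = (Nat.card W₁ : ℂ) / D from h.inner_avg_X hχ), Finset.sum_const, Finset.sum_const,
      nsmul_eq_mul, nsmul_eq_mul]
  rw [e, map_inv₀, hD, Complex.conj_ofReal, map_natCast]
  have hne := h.orbitCount_ne
  field_simp
  rw [h.orbitCount_cast]

/-- The squared norm of `F - avgChar` when `⟨avgChar, F⟩ = c` is real. -/
theorem Ctx.inner_sub_avg (F : ↥M → ℂ) {c : ℝ} (hc : classInner (avgChar X μ) F = (c : ℂ)) :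
    classInner (F - avgChar X μ) (F - avgChar X μ) =
      classInner F F - 2 * (c : ℂ) + (Nat.card W₁ : ℂ) / ((orbitCount W₁ W₂ X : ℝ) : ℂ) := by
  have hc' : classInner F (avgChar X μ) = (c : ℂ) := by
    rw [← classInner_conj_symm, hc, Complex.conj_ofReal]
  simp only [classInner_sub_left, classInner_sub_right, hc, hc', h.inner_avg_avg]
  ring

/-- `F - avgChar` is supported on `sharp K` if `F` is supported on `K` and has degree `q d`. -/
theorem Ctx.supp_sub_avg {F : ↥M → ℂ} (hF : ∀ x : M, (x : G) ∉ K → F x = 0)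
    (hF1 : F 1 = ((Nat.card W₁ * d : ℕ) : ℂ)) :
    ∀ x : M, (x : G) ∉ sharp K → (F - avgChar X μ) x = 0 := by
  intro x hx
  rw [h.sub_avg_eq]
  simp only [Pi.smul_apply, Pi.add_apply, Finset.sum_apply, Pi.sub_apply, smul_eq_mul]
  by_cases hK : (x : G) ∈ K
  · have hx1 : x = 1 := by
      by_contra hne
      exact hx ⟨hK, fun e => hne (Subtype.ext e)⟩
    subst hx1
    have hc : ∀ ψ ∈ rightSet W₁ W₂, F 1 - colChar μ ψ 1 = 0 := fun ψ hψ => by
      rw [colChar, Finset.sum_apply, Finset.sum_congr rfl fun φ _ =>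
        h.side.deg_mu φ ψ (Finset.mem_filter.1 hψ).2, Finset.sum_const, Finset.card_univ,
        h.card_left, hF1, nsmul_eq_mul, Nat.cast_mul, sub_self]
    rw [Finset.sum_eq_zero hc,
      Finset.sum_eq_zero fun χ hχ => by rw [h.side.deg_X χ hχ, hF1, sub_self]]
    simp
  · rw [Finset.sum_eq_zero fun ψ hψ => by
        rw [colChar, Finset.sum_apply, h.side.supp_sum ψ (Finset.mem_filter.1 hψ).2 x hK,
          hF x hK, sub_zero],
      Finset.sum_eq_zero fun χ hχ => by rw [h.side.supp_X χ hχ x hK, hF x hK, sub_zero]]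
    simp

end Cfsg.Agent.OddFinal
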