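import Cfsg.Prelude.Def_OddOrderLocal
import Cfsg.Agent.OddLocal.SigmaBasics

/-!
# A chief factor `H / H₀` of a member of type `P`

`Chief M W₁ U W₂ H₀` says that `H₀` is normal in `M`, the factor `H / H₀` of `H = M_F` is
elementary abelian of order `p ^ q` (`p = |W₂|`, `q = |W₁|`, both prime), a chief factor of `M`,
with `W₁`-fixed line the image of `W₂` and without nontrivial fixed points of `U`. The kernel of
the action of `U` on it is `U ⊓ modCent H H₀`.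
-/

set_option autoImplicit false

namespace Cfsg.Agent.OddFinal

open Subgroup Cfsg

universe u

variable {G : Type u} [Group G]

/-- The elements normalising `H` and `H₀` that centralise `H` modulo `H₀`. -/
def modCent (H H₀ : Subgroup G) : Subgroup G where
  carrier := {g | g ∈ normalizer (H : Set G) ∧ g ∈ normalizer (H₀ : Set G) ∧
    ∀ y ∈ H, g * y * g⁻¹ * y⁻¹ ∈ H₀}
  one_mem' := ⟨one_mem _, one_mem _, fun y _ => by simp⟩
  mul_mem' := fun {a b} ha hb => ⟨mul_mem ha.1 hb.1, mul_mem ha.2.1 hb.2.1, fun y hy => by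
    have h1 : b * y * b⁻¹ ∈ H := (mem_normalizer_iff.1 hb.1 y).1 hy
    rw [show a * b * y * (a * b)⁻¹ * y⁻¹ =
      (a * (b * y * b⁻¹) * a⁻¹ * (b * y * b⁻¹)⁻¹) * (b * y * b⁻¹ * y⁻¹) by group]
    exact mul_mem (ha.2.2 _ h1) (hb.2.2 y hy)⟩
  inv_mem' := fun {a} ha => ⟨inv_mem ha.1, inv_mem ha.2.1, fun y hy => by
    have h1 : a⁻¹ * y * a ∈ H := (mem_normalizer_iff''.1 ha.1 y).1 hy
    have h2 := inv_mem (ha.2.2 _ h1)
    rw [show (a * (a⁻¹ * y * a) * a⁻¹ * (a⁻¹ * y * a)⁻¹)⁻¹ = a⁻¹ * y * a * y⁻¹ by group] at h2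
    simpa using h2⟩

theorem mem_modCent {H H₀ : Subgroup G} {g : G} :
    g ∈ modCent H H₀ ↔ g ∈ normalizer (H : Set G) ∧ g ∈ normalizer (H₀ : Set G) ∧
      ∀ y ∈ H, g * y * g⁻¹ * y⁻¹ ∈ H₀ :=
  Iff.rfl

theorem conj_mem_modCent {H H₀ : Subgroup G} {g c : G} (hc : c ∈ modCent H H₀)
    (hg : g ∈ normalizer (H : Set G)) (hg₀ : g ∈ normalizer (H₀ : Set G)) :
    g * c * g⁻¹ ∈ modCent H H₀ := by
  refine mem_modCent.2 ⟨mul_mem (mul_mem hg hc.1) (inv_mem hg),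
    mul_mem (mul_mem hg₀ hc.2.1) (inv_mem hg₀), fun y hy => ?_⟩
  have h1 : g⁻¹ * y * g ∈ H := (mem_normalizer_iff''.1 hg y).1 hy
  have h2 := (mem_normalizer_iff.1 hg₀ _).1 (hc.2.2 _ h1)
  rw [show g * (c * (g⁻¹ * y * g) * c⁻¹ * (g⁻¹ * y * g)⁻¹) * g⁻¹ =
    g * c * g⁻¹ * y * (g * c * g⁻¹)⁻¹ * y⁻¹ by group] at h2
  exact h2

/-- The chief factor data of a member of type `P`. -/
structure Chief (M W₁ U W₂ H₀ : Subgroup G) : Prop where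
  prime_W₁ : (Nat.card W₁).Prime
  prime_W₂ : (Nat.card W₂).Prime
  le : H₀ ≤ fittingHallOf M
  normal : M ≤ normalizer (H₀ : Set G)
  card_eq : Nat.card (fittingHallOf M) = Nat.card H₀ * Nat.card W₂ ^ Nat.card W₁
  pow_mem : ∀ y ∈ fittingHallOf M, y ^ Nat.card W₂ ∈ H₀
  comm_mem : ∀ y ∈ fittingHallOf M, ∀ z ∈ fittingHallOf M, y * z * y⁻¹ * z⁻¹ ∈ H₀
  inf_W₂ : H₀ ⊓ W₂ = ⊥
  line : ∀ y ∈ fittingHallOf M, ∀ x ∈ W₁, x ≠ 1 → x * y * x⁻¹ * y⁻¹ ∈ H₀ → y ∈ H₀ ⊔ W₂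
  fix_U : ∀ y ∈ fittingHallOf M, (∀ u ∈ U, u * y * u⁻¹ * y⁻¹ ∈ H₀) → y ∈ H₀
  irred : ∀ N : Subgroup G, H₀ ≤ N → N ≤ fittingHallOf M → U ⊔ W₁ ≤ normalizer (N : Set G) →
    N = H₀ ∨ N = fittingHallOf M
  derived_le : ⁅U, U⁆ ≤ modCent (fittingHallOf M) H₀

end Cfsg.Agent.OddFinal
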