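import Cfsg.Agent.OddFinal.ChiefTools
import Cfsg.Agent.OddFinal.AutSplit

/-!
# The two possibilities for the action of `U` on a chief factor `H / H₀`

Either `U` acts irreducibly on `H / H₀`, and then `ū = |U : C|` divides `(p ^ q - 1) / (p - 1)`,
is prime to `p - 1` and only `C` fixes a nontrivial homomorphism, or `H / H₀` is generated by `q`
lines normalised by `U` and `ū` divides `m ^ (q - 1)`, `m` the odd part of `p - 1`.
-/

set_option autoImplicit false
set_option linter.unusedSectionVars false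
set_option linter.style.haveILetI false

namespace Cfsg.Agent.OddFinal

open Subgroup Cfsg
open scoped commutatorElement

universe u

variable {G : Type u} [Group G] [Finite G] {M W₁ U W₂ H₀ : Subgroup G}

/-- `U` acts irreducibly on `H / H₀`. -/
def IsIrredMod (M U H₀ : Subgroup G) : Prop :=
  ∀ N : Subgroup G, H₀ ≤ N → N ≤ fittingHallOf M → U ≤ normalizer (N : Set G) →
    N = H₀ ∨ N = fittingHallOf M

/-- Conjugation on `H / H₀`. -/
def conjQ (H H₀ : Subgroup G) [(H₀.subgroupOf H).Normal] :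
    ↥(normalizer (H : Set G) ⊓ normalizer (H₀ : Set G)) →* MulAut (↥H ⧸ H₀.subgroupOf H) where
  toFun g := QuotientGroup.congr _ _ (H.normalizerMonoidHom ⟨g, g.2.1⟩) (by
    ext y
    rw [mem_map, mem_subgroupOf]
    constructor
    · rintro ⟨x, hx, rfl⟩
      exact (mem_normalizer_iff.1 g.2.2 _).1 hx
    · intro hy
      refine ⟨(H.normalizerMonoidHom ⟨g, g.2.1⟩).symm y, ?_, by simp⟩
      rw [mem_subgroupOf]
      refine (mem_normalizer_iff.1 g.2.2 _).2 ?_
      show ((H.normalizerMonoidHom ⟨g, g.2.1⟩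
        ((H.normalizerMonoidHom ⟨g, g.2.1⟩).symm y) : H) : G) ∈ H₀
      rw [MulEquiv.apply_symm_apply]
      exact hy)
  map_one' := MulEquiv.ext fun x => by
    induction x using QuotientGroup.induction_on with
    | _ y =>
      rw [QuotientGroup.congr_mk]
      exact congrArg QuotientGroup.mk (Subtype.ext (by
        show (1 : G) * y * (1 : G)⁻¹ = y
        simp))
  map_mul' g g' := MulEquiv.ext fun x => by
    induction x using QuotientGroup.induction_on with
    | _ y =>
      rw [MulAut.mul_apply, QuotientGroup.congr_mk, QuotientGroup.congr_mk, QuotientGroup.congr_mk]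
      exact congrArg QuotientGroup.mk (Subtype.ext (by
        show ((g : G) * g') * y * ((g : G) * g')⁻¹ = g * (g' * y * (g' : G)⁻¹) * (g : G)⁻¹
        group))

theorem conjQ_mk {H H₀ : Subgroup G} [(H₀.subgroupOf H).Normal]
    (g : ↥(normalizer (H : Set G) ⊓ normalizer (H₀ : Set G))) (y : H) :
    conjQ H H₀ g (y : ↥H ⧸ H₀.subgroupOf H) =
      ((⟨(g : G) * y * (g : G)⁻¹, (mem_normalizer_iff.1 g.2.1 _).1 y.2⟩ : H) :
        ↥H ⧸ H₀.subgroupOf H) :=
  rfl

namespace Chief

variable (hG : IsMinSimpleOddOrder G) (hM : IsCoatom M) (hd : IsTypePWith M W₁ U W₂)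
  (hc : Chief M W₁ U W₂ H₀)

include hc in
theorem normal_subgroupOf : (H₀.subgroupOf (fittingHallOf M)).Normal :=
  normal_subgroupOf_of_le_normalizer ((OddLocal.fittingHallOf_le M).trans hc.normal)

include hd hc in
theorem le_both : U ⊔ W₁ ≤ normalizer (fittingHallOf M : Set G) ⊓ normalizer (H₀ : Set G) :=
  le_inf (TypeTwo.sup_le_normalizer hd) (hc.sup_le_normalizer₀ hd)

variable [(H₀.subgroupOf (fittingHallOf M)).Normal]

/-- The action of `U` on `H / H₀`. -/
def actHom : ↥U →* MulAut (↥(fittingHallOf M) ⧸ H₀.subgroupOf (fittingHallOf M)) :=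
  (conjQ (fittingHallOf M) H₀).comp (inclusion (le_sup_left.trans (le_both hd hc)))

include hG hM hd hc

omit hG hM in
theorem ker_actHom :
    (hc.actHom hd).ker = (U ⊓ modCent (fittingHallOf M) H₀).subgroupOf U := by
  ext u
  rw [MonoidHom.mem_ker, mem_subgroupOf]
  constructor
  · intro h
    refine ⟨u.2, (TypeTwo.sup_le_normalizer hd) (mem_sup_left u.2),
      hc.sup_le_normalizer₀ hd (mem_sup_left u.2), fun y hy => ?_⟩
    have h1 := DFunLike.congr_fun h
      ((⟨y, hy⟩ : ↥(fittingHallOf M)) : ↥(fittingHallOf M) ⧸ H₀.subgroupOf (fittingHallOf M))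
    rw [MulAut.one_apply] at h1
    change conjQ _ _ _ _ = _ at h1
    rw [conjQ_mk, QuotientGroup.eq_iff_div_mem, mem_subgroupOf, Subgroup.coe_div] at h1
    rwa [div_eq_mul_inv] at h1
  · intro h
    refine MulEquiv.ext fun x => ?_
    induction x using QuotientGroup.induction_on with
    | _ y =>
      rw [MulAut.one_apply]
      change conjQ _ _ _ _ = _
      rw [conjQ_mk, QuotientGroup.eq_iff_div_mem, mem_subgroupOf, Subgroup.coe_div, div_eq_mul_inv]
      exact h.2.2.2 y y.2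

omit hG hM in
theorem card_range : Nat.card (hc.actHom hd).range =
    (U ⊓ modCent (fittingHallOf M) H₀).relIndex U := by
  rw [Subgroup.relIndex, ← hc.ker_actHom hd, index_ker]

omit hG hM in
theorem range_comm : ∀ e ∈ (hc.actHom hd).range, ∀ f ∈ (hc.actHom hd).range, e * f = f * e := by
  rintro _ ⟨u, rfl⟩ _ ⟨v, rfl⟩
  rw [← commutatorElement_eq_one_iff_mul_comm, ← map_commutatorElement, ← MonoidHom.mem_ker,
    hc.ker_actHom hd, mem_subgroupOf]
  exact hc.commutator_le_C hd (commutator_mem_commutator u.2 v.2)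

omit hG hM in
/-- An invariant subgroup of the quotient gives one of `H`. -/
theorem le_normalizer_pullback {g : G} (hg : g ∈ U ⊔ W₁)
    {N : Subgroup (↥(fittingHallOf M) ⧸ H₀.subgroupOf (fittingHallOf M))}
    (hN : ∀ v ∈ N, conjQ _ H₀ ⟨g, le_both hd hc hg⟩ v ∈ N) :
    g ∈ normalizer (((N.comap (QuotientGroup.mk' _)).map (fittingHallOf M).subtype :
      Subgroup G) : Set G) := by
  refine TypeTwo.mem_normalizer_of_conj_mem ?_
  rintro _ ⟨y, hy, rfl⟩
  refine ⟨⟨g * y * g⁻¹, (mem_normalizer_iff.1 (le_both hd hc hg).1 _).1 y.2⟩, ?_, rfl⟩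
  have := hN _ hy
  rwa [QuotientGroup.mk'_apply, conjQ_mk] at this

omit hG hM in
theorem pullback_cases {N : Subgroup (↥(fittingHallOf M) ⧸ H₀.subgroupOf (fittingHallOf M))}
    (h : (N.comap (QuotientGroup.mk' _)).map (fittingHallOf M).subtype = H₀ ∨
      (N.comap (QuotientGroup.mk' _)).map (fittingHallOf M).subtype = fittingHallOf M) :
    N = ⊥ ∨ N = ⊤ := by
  rcases h with h | h
  · refine Or.inl (eq_bot_iff.2 fun v hv => ?_)
    induction v using QuotientGroup.induction_on with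
    | _ y =>
      have : (y : G) ∈ H₀ := h.le ⟨y, hv, rfl⟩
      rw [mem_bot, QuotientGroup.eq_one_iff, mem_subgroupOf]
      exact this
  · refine Or.inr (eq_top_iff.2 fun v _ => ?_)
    induction v using QuotientGroup.induction_on with
    | _ y =>
      obtain ⟨z, hz, e⟩ := h.ge y.2
      rw [← show z = y from Subtype.ext e]
      exact hz

omit hG hM in
theorem le_pullback (N : Subgroup (↥(fittingHallOf M) ⧸ H₀.subgroupOf (fittingHallOf M))) :
    H₀ ≤ (N.comap (QuotientGroup.mk' _)).map (fittingHallOf M).subtype := fun y hy =>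
  ⟨⟨y, hc.le hy⟩, by
    show QuotientGroup.mk' _ _ ∈ N
    rw [QuotientGroup.mk'_apply, (QuotientGroup.eq_one_iff _).2 (mem_subgroupOf.2 hy)]
    exact N.one_mem, rfl⟩

omit hG hM in
theorem irred_iff : AutSplit.Irred (hc.actHom hd).range ↔ IsIrredMod M U H₀ := by
  constructor
  · intro h N h0 hNH hn
    set N' := (N.subgroupOf (fittingHallOf M)).map
      (QuotientGroup.mk' (H₀.subgroupOf (fittingHallOf M))) with hN'
    rcases h N' (by
      rintro _ ⟨u, rfl⟩ _ ⟨y, hy, rfl⟩
      exact ⟨⟨(u : G) * y * (u : G)⁻¹, (mem_normalizer_iff.1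
        (le_both hd hc (mem_sup_left u.2)).1 _).1 y.2⟩, (mem_normalizer_iff.1 (hn u.2) _).1 hy,
        rfl⟩) with e | e
    · refine Or.inl (le_antisymm (fun y hy => ?_) h0)
      have : QuotientGroup.mk' (H₀.subgroupOf (fittingHallOf M)) ⟨y, hNH hy⟩ ∈ N' :=
        ⟨⟨y, hNH hy⟩, hy, rfl⟩
      rw [e, mem_bot, QuotientGroup.mk'_apply, QuotientGroup.eq_one_iff, mem_subgroupOf] at this
      exact this
    · refine Or.inr (le_antisymm hNH fun y hy => ?_)
      obtain ⟨z, hz, e'⟩ := e.ge (mem_top (QuotientGroup.mk' _ ⟨y, hy⟩))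
      rw [QuotientGroup.mk'_apply, QuotientGroup.mk'_apply, QuotientGroup.eq, mem_subgroupOf] at e'
      have := N.mul_mem hz (h0 e')
      simpa using this
  · intro h N hN
    refine hc.pullback_cases hd (h _ (hc.le_pullback hd N) (map_subtype_le _) fun g hg => ?_)
    exact hc.le_normalizer_pullback hd (mem_sup_left hg) fun v hv => hN _ ⟨⟨g, hg⟩, rfl⟩ v hv

/-- The data needed by `AutSplit`. -/
theorem aut_facts :
    (∀ v : ↥(fittingHallOf M) ⧸ H₀.subgroupOf (fittingHallOf M), v ^ Nat.card W₂ = 1) ∧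
    (∀ a b : ↥(fittingHallOf M) ⧸ H₀.subgroupOf (fittingHallOf M), a * b = b * a) ∧
    Nat.card (↥(fittingHallOf M) ⧸ H₀.subgroupOf (fittingHallOf M)) =
      Nat.card W₂ ^ Nat.card W₁ ∧
    (∀ e ∈ (hc.actHom hd).range, ∀ k : ℕ, (∀ v, e v = v ^ k) → e = 1) ∧
    ∃ σ : MulAut (↥(fittingHallOf M) ⧸ H₀.subgroupOf (fittingHallOf M)),
      σ ^ Nat.card W₁ = 1 ∧ (∀ e ∈ (hc.actHom hd).range, σ * e * σ⁻¹ ∈ (hc.actHom hd).range) ∧
      ∀ N : Subgroup (↥(fittingHallOf M) ⧸ H₀.subgroupOf (fittingHallOf M)),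
        (∀ e ∈ (hc.actHom hd).range, ∀ v ∈ N, e v ∈ N) → (∀ v ∈ N, σ v ∈ N) →
          N = ⊥ ∨ N = ⊤ := by
  obtain ⟨w, hw, hw1⟩ := OddLocal.exists_mem_ne_one _ hd.W₁_ne
  let w' : ↥(normalizer (fittingHallOf M : Set G) ⊓ normalizer (H₀ : Set G)) :=
    ⟨w, le_both hd hc (mem_sup_right hw)⟩
  refine ⟨fun v => ?_, fun a b => ?_, ?_, ?_, conjQ _ _ w', ?_, ?_, fun N hNR hNσ => ?_⟩
  · induction v using QuotientGroup.induction_on with
    | _ y =>
      rw [← QuotientGroup.mk_pow, QuotientGroup.eq_one_iff, mem_subgroupOf, SubgroupClass.coe_pow]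
      exact hc.pow_mem y y.2
  · induction a using QuotientGroup.induction_on with
    | _ y =>
      induction b using QuotientGroup.induction_on with
      | _ z =>
        rw [← QuotientGroup.mk_mul, ← QuotientGroup.mk_mul, QuotientGroup.eq_iff_div_mem,
          mem_subgroupOf, Subgroup.coe_div, Subgroup.coe_mul, Subgroup.coe_mul, div_eq_mul_inv,
          mul_inv_rev, ← mul_assoc]
        exact hc.comm_mem y y.2 z z.2
  · rw [← index_eq_card, ← Subgroup.relIndex, hc.relIndex_eq hd]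
  · rintro _ ⟨u, rfl⟩ k hk
    have hwU : w * u * w⁻¹ ∈ U := (mem_normalizer_iff.1 (hd.U_normal hw) u).1 u.2
    rw [← MonoidHom.mem_ker, hc.ker_actHom hd, mem_subgroupOf]
    refine hc.mem_C_of_commutator hG hM hd u.2 hw hw1 ?_
    have e1 : hc.actHom hd ⟨w * u * w⁻¹, hwU⟩ = hc.actHom hd u := by
      have : hc.actHom hd ⟨w * u * w⁻¹, hwU⟩ =
          conjQ _ _ w' * hc.actHom hd u * (conjQ _ _ w')⁻¹ := by
        rw [← map_inv]
        show conjQ _ _ _ = conjQ _ _ w' * conjQ _ _ _ * conjQ _ _ w'⁻¹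
        rw [← map_mul, ← map_mul]
        rfl
      rw [this]
      refine MulEquiv.ext fun v => ?_
      rw [MulAut.mul_apply, MulAut.mul_apply, hk, map_pow, MulAut.apply_inv_self, hk]
    have e2 : (⟨w * u * w⁻¹, hwU⟩ : U) * u⁻¹ ∈ (hc.actHom hd).ker := by
      rw [MonoidHom.mem_ker, map_mul, map_inv, e1, mul_inv_cancel]
    rwa [hc.ker_actHom hd, mem_subgroupOf] at e2
  · rw [← map_pow, show w' ^ Nat.card W₁ = 1 from Subtype.ext (by
      rw [SubgroupClass.coe_pow]
      exact orderOf_dvd_iff_pow_eq_one.1 (Subgroup.orderOf_dvd_natCard W₁ hw)), map_one]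
  · rintro _ ⟨u, rfl⟩
    refine ⟨⟨w * u * w⁻¹, (mem_normalizer_iff.1 (hd.U_normal hw) u).1 u.2⟩, ?_⟩
    rw [← map_inv]
    show conjQ _ _ _ = conjQ _ _ w' * conjQ _ _ _ * conjQ _ _ w'⁻¹
    rw [← map_mul, ← map_mul]
    rfl
  · refine hc.pullback_cases hd (hc.irred _ (hc.le_pullback hd N) (map_subtype_le _)
      (sup_le (fun g hg => hc.le_normalizer_pullback hd (mem_sup_left hg) fun v hv =>
        hNR _ ⟨⟨g, hg⟩, rfl⟩ v hv) ?_))
    intro g hg
    have hz : zpowers w = W₁ := by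
      refine ((Nat.dvd_prime hc.prime_W₁).1 (card_dvd_of_le (zpowers_le.2 hw))).elim
        (fun e => absurd (card_eq_one.1 e) (by simpa using hw1)) fun e =>
          eq_of_le_of_card_ge (zpowers_le.2 hw) e.ge
    exact ((zpowers_le.2 (hc.le_normalizer_pullback hd (mem_sup_right hw) hNσ)) (hz.ge hg))

omit [(H₀.subgroupOf (fittingHallOf M)).Normal]

/-- In the irreducible case a nontrivial homomorphism on `H / H₀` is only fixed by `C`. -/
theorem stabilizer_hom_irred (hirr : IsIrredMod M U H₀) {A : Type*} [CommGroup A] {F : G → A}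
    (hF : ∀ x ∈ fittingHallOf M, ∀ y ∈ fittingHallOf M, F (x * y) = F x * F y)
    (hF₀ : ∀ x ∈ H₀, F x = 1) (hFne : ∃ x ∈ fittingHallOf M, F x ≠ 1)
    {u : G} (hu : u ∈ U) (hfix : ∀ x ∈ fittingHallOf M, F (u * x * u⁻¹) = F x) :
    u ∈ U ⊓ modCent (fittingHallOf M) H₀ := by
  haveI := hc.normal_subgroupOf
  obtain ⟨-, hab, -, -, -⟩ := hc.aut_facts hG hM hd
  letI : CommGroup (↥(fittingHallOf M) ⧸ H₀.subgroupOf (fittingHallOf M)) :=
    { mul_comm := hab }
  let f : ↥(fittingHallOf M) →* A := MonoidHom.mk' (fun y => F y) fun a b => hF a a.2 b b.2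
  let Fq : ↥(fittingHallOf M) ⧸ H₀.subgroupOf (fittingHallOf M) →* A :=
    QuotientGroup.lift _ f fun y hy => hF₀ y (mem_subgroupOf.1 hy)
  have hq : ∀ y : ↥(fittingHallOf M), Fq y = F y := fun y => QuotientGroup.lift_mk' _ _ y
  have hne : Fq ≠ 1 := fun e => by
    obtain ⟨x, hx, hx1⟩ := hFne
    exact hx1 (by rw [← hq ⟨x, hx⟩, e, MonoidHom.one_apply])
  have h := AutSplit.eq_one_of_fixed_hom (e := hc.actHom hd ⟨u, hu⟩) (hc.range_comm hd)
    ((hc.irred_iff hd).2 hirr) ⟨⟨u, hu⟩, rfl⟩ hne fun v => by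
      induction v using QuotientGroup.induction_on with
      | _ y =>
        show Fq (conjQ _ _ _ _) = _
        rw [conjQ_mk, hq, hq]
        exact hfix y y.2
  rw [← MonoidHom.mem_ker, hc.ker_actHom hd, mem_subgroupOf] at h
  exact h

/-- In the reducible case `H / H₀` is generated by `q` lines normalised by `U`, and a homomorphism
nontrivial on every line is only fixed by `C`. -/
theorem exists_lines_mod (hred : ¬ IsIrredMod M U H₀) :
    ∃ X : ℕ → Subgroup G,
      (∀ i, H₀ ≤ X i ∧ X i ≤ fittingHallOf M ∧ Nat.card (X i) = Nat.card H₀ * Nat.card W₂ ∧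
        U ≤ normalizer (X i : Set G)) ∧
      (Finset.range (Nat.card W₁)).sup X = fittingHallOf M ∧
      ∀ {A : Type*} [CommGroup A] (F : G → A),
        (∀ x ∈ fittingHallOf M, ∀ y ∈ fittingHallOf M, F (x * y) = F x * F y) →
        (∀ x ∈ H₀, F x = 1) →
        (∀ i ∈ Finset.range (Nat.card W₁), ∃ x ∈ X i, F x ≠ 1) → ∀ u ∈ U,
          (∀ x ∈ fittingHallOf M, F (u * x * u⁻¹) = F x) →
            u ∈ U ⊓ modCent (fittingHallOf M) H₀ := by
  haveI := hc.normal_subgroupOf
  obtain ⟨hexp, hab, hV, hscal, σ, hσq, hσR, hirr₂⟩ := hc.aut_facts hG hM hd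
  letI : CommGroup (↥(fittingHallOf M) ⧸ H₀.subgroupOf (fittingHallOf M)) :=
    { mul_comm := hab }
  obtain ⟨X, hX, hsup⟩ := AutSplit.exists_lines (hc.range_comm hd) hc.prime_W₂ hexp hscal
    hc.prime_W₁ hV hσq hσR hirr₂ fun h => hred ((hc.irred_iff hd).1 h)
  let f := QuotientGroup.mk' (H₀.subgroupOf (fittingHallOf M))
  refine ⟨fun i => ((X i).comap f).map (fittingHallOf M).subtype, fun i => ⟨hc.le_pullback hd _,
    map_subtype_le _, ?_, fun g hg => hc.le_normalizer_pullback hd (mem_sup_left hg) fun v hv =>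
      (hX i).2 _ ⟨⟨g, hg⟩, rfl⟩ v hv⟩, ?_, fun {A} _ F hF hF₀ hFX u hu hfix => ?_⟩
  · rw [card_map_of_injective (fittingHallOf M).subtype_injective,
      show Nat.card ↥((X i).comap f) = Nat.card ↥(H₀.subgroupOf (fittingHallOf M)) *
        Nat.card (X i) from QuotientGroup.card_preimage_mk _ _,
      Nat.card_congr (subgroupOfEquivOfLe hc.le).toEquiv, (hX i).1]
  · set Y := (Finset.range (Nat.card W₁)).sup fun i =>
      ((X i).comap f).map (fittingHallOf M).subtype with hY
    refine le_antisymm (Finset.sup_le fun i _ => map_subtype_le _) fun y hy => ?_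
    have h0 : (0 : ℕ) ∈ Finset.range (Nat.card W₁) := Finset.mem_range.2 hc.prime_W₁.pos
    have hle : (⊤ : Subgroup _) ≤ (Y.subgroupOf (fittingHallOf M)).map f :=
      hsup.ge.trans (Finset.sup_le fun i hi v hv => by
        obtain ⟨z, rfl⟩ := QuotientGroup.mk'_surjective _ v
        have hzY : (z : G) ∈ Y := (Finset.le_sup
          (f := fun i => ((X i).comap f).map (fittingHallOf M).subtype) hi :
            ((X i).comap f).map (fittingHallOf M).subtype ≤ Y) ⟨z, hv, rfl⟩
        exact ⟨z, hzY, rfl⟩)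
    obtain ⟨z, hz, e⟩ := hle (mem_top (f ⟨y, hy⟩))
    rw [QuotientGroup.mk'_apply, QuotientGroup.mk'_apply, QuotientGroup.eq, mem_subgroupOf] at e
    have h1 : H₀ ≤ Y := (hc.le_pullback hd (X 0)).trans
      (Finset.le_sup (f := fun i => ((X i).comap f).map (fittingHallOf M).subtype) h0)
    have := Y.mul_mem hz (h1 e)
    simpa using this
  · let f' : ↥(fittingHallOf M) →* A := MonoidHom.mk' (fun y => F y) fun a b => hF a a.2 b b.2
    let Fq : ↥(fittingHallOf M) ⧸ H₀.subgroupOf (fittingHallOf M) →* A :=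
      QuotientGroup.lift _ f' fun y hy => hF₀ y (mem_subgroupOf.1 hy)
    have hq : ∀ y : ↥(fittingHallOf M), Fq y = F y := fun y => QuotientGroup.lift_mk' _ _ y
    set e := hc.actHom hd ⟨u, hu⟩
    have hall : (⊤ : Subgroup (↥(fittingHallOf M) ⧸ H₀.subgroupOf (fittingHallOf M))) ≤
        AutSplit.agree e.toMonoidHom (MonoidHom.id _) := hsup.ge.trans (Finset.sup_le fun i hi y hy =>
      AutSplit.fixes_line hc.prime_W₂ hexp (hX i).1 ((hX i).2 e ⟨⟨u, hu⟩, rfl⟩) (F := Fq) (by
        obtain ⟨_, ⟨z, hz, rfl⟩, hz1⟩ := hFX i hi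
        exact ⟨f z, hz, by rw [QuotientGroup.mk'_apply, hq]; exact hz1⟩) (fun v => by
          induction v using QuotientGroup.induction_on with
          | _ y =>
            show Fq (conjQ _ _ _ _) = _
            rw [conjQ_mk, hq, hq]
            exact hfix y y.2) hy)
    have he : e = 1 := MulEquiv.ext fun v => hall (mem_top v)
    rw [← MonoidHom.mem_ker, hc.ker_actHom hd, mem_subgroupOf] at he
    exact he

/-- The two cases for `ū = |U : C|`. -/
theorem split :
    (IsIrredMod M U H₀ ∧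
      ((U ⊓ modCent (fittingHallOf M) H₀).relIndex U).Coprime (Nat.card W₂ - 1) ∧
      (U ⊓ modCent (fittingHallOf M) H₀).relIndex U ∣
        (Nat.card W₂ ^ Nat.card W₁ - 1) / (Nat.card W₂ - 1)) ∨
    (¬ IsIrredMod M U H₀ ∧ (U ⊓ modCent (fittingHallOf M) H₀).relIndex U ∣
      ((Nat.card W₂ - 1) / 2 ^ (Nat.card W₂ - 1).factorization 2) ^ (Nat.card W₁ - 1)) := by
  haveI := hc.normal_subgroupOf
  obtain ⟨hexp, hab, hV, hscal, σ, hσq, hσR, hirr₂⟩ := hc.aut_facts hG hM hd
  letI : CommGroup (↥(fittingHallOf M) ⧸ H₀.subgroupOf (fittingHallOf M)) :=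
    { mul_comm := hab }
  rw [← hc.card_range hd]
  by_cases h : IsIrredMod M U H₀
  · refine Or.inl ⟨h, ?_⟩
    have h1 := AutSplit.card_dvd_lines (hc.range_comm hd) hc.prime_W₂ hexp hscal
      ((hc.irred_iff hd).2 h) hV
    refine ⟨AutSplit.coprime_pred_of_dvd (R := (hc.actHom hd).range) (hc.range_comm hd)
      hc.prime_W₂ hexp hc.prime_W₁ h1 ?_, h1⟩
    rw [hc.card_range hd]
    exact Eq.trans (hc.relIndex_modEq hd).2.2 (Nat.mod_eq_of_lt hc.prime_W₁.one_lt)
  · refine Or.inr ⟨h, AutSplit.card_dvd_monomial (hc.range_comm hd) hc.prime_W₂ hexp hscal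
      hc.prime_W₁ hV hσq hσR hirr₂ ?_ fun h' => h ((hc.irred_iff hd).1 h')⟩
    rw [hc.card_range hd]
    exact (hG.1.of_dvd_nat (card_subgroup_dvd_card U)).of_dvd_nat (relIndex_dvd_card _ _)

end Chief

end Cfsg.Agent.OddFinal
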