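import Cfsg.Agent.OddFinal.NotTwo
import Cfsg.Agent.OddFinal.TypeTwo

/-!
# The action of `U W₁` on a chief factor `H / H₀`

With `C = U ⊓ modCent H H₀`: `C` is normalised by `U W₁` and is proper in `U`, `|U : C|` is `1`
modulo `q`, the stabiliser in `U` of a `W₁`-fixed point of `H / H₀`, or of a `W₁`-fixed nontrivial
homomorphism on `H / H₀`, is `C`, such fixed objects lie in distinct `U`-orbits, and `K = H C` is
normal in `M` of index `q |U : C|`. A member of Type II has such a chief factor with `H₀ = 1`.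
-/

set_option autoImplicit false
set_option linter.unusedSectionVars false

namespace Cfsg.Agent.OddFinal

open Subgroup Cfsg
open scoped commutatorElement

universe u

variable {G : Type u} [Group G] [Finite G] {M W₁ U W₂ H₀ : Subgroup G}

/-- A member of Type II: `H₀ = 1`. -/
theorem chief_of_typeII (hG : IsMinSimpleOddOrder G) (hM : IsCoatom M)
    (hd : IsTypePWith M W₁ U W₂) (hII : IsOfTypeII M) (hp : (Nat.card W₂).Prime) :
    Chief M W₁ U W₂ ⊥ := by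
  haveI := TypeTwo.fitting_comm hG hM hd hII hp
  haveI := TypeTwo.U_comm hG hM hd hII
  refine
    { prime_W₁ := TypeTwo.card_W₁_prime hG hM hd hII
      prime_W₂ := hp
      le := bot_le
      normal := fun g _ => ?_
      card_eq := by rw [card_bot, one_mul]; exact TypeTwo.card_fitting hG hM hd hII
      pow_mem := fun y hy => mem_bot.2 ((TypeTwo.fitting_elementary hG hM hd hII hp).2 y hy)
      comm_mem := fun y hy z hz => mem_bot.2 ?_
      inf_W₂ := bot_inf_eq _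
      line := fun y hy x hx hx1 h => mem_sup_right ?_
      fix_U := fun y hy h => ?_
      irred := fun N _ hN hn => TypeTwo.eq_bot_or_eq hG hM hd hII hp hN hn
      derived_le := Subgroup.commutator_le.2 fun u hu v hv => ?_ }
  · exact TypeTwo.mem_normalizer_of_conj_mem fun x hx => by
      rw [mem_bot] at hx ⊢
      rw [hx, mul_one, mul_inv_cancel]
  · rw [show y * z = z * y from congrArg Subtype.val
      (IsMulCommutative.is_comm.comm (⟨y, hy⟩ : fittingHallOf M) ⟨z, hz⟩)]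
    group
  · rw [mem_bot, mul_inv_eq_one, mul_inv_eq_iff_eq_mul] at h
    rw [← TypeTwo.fitting_inf_centralizer_singleton hd hx hx1]
    exact ⟨hy, mem_centralizer_singleton_iff.2 h.symm⟩
  · rw [← TypeTwo.fitting_inf_centralizer_U hG hM hd hII]
    refine ⟨hy, mem_centralizer_iff.2 fun u hu => ?_⟩
    have := h u hu
    rwa [mem_bot, mul_inv_eq_one, mul_inv_eq_iff_eq_mul] at this
  · have : u * v = v * u := congrArg Subtype.val
      (IsMulCommutative.is_comm.comm (⟨u, hu⟩ : U) ⟨v, hv⟩)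
    rw [commutatorElement_def, this, show v * u * u⁻¹ * v⁻¹ = 1 by group]
    exact one_mem _

namespace Chief

variable (hG : IsMinSimpleOddOrder G) (hM : IsCoatom M) (hd : IsTypePWith M W₁ U W₂)
  (hc : Chief M W₁ U W₂ H₀)

include hM hd hc

omit hM in
theorem sup_le_normalizer₀ : U ⊔ W₁ ≤ normalizer (H₀ : Set G) :=
  (sup_le (TypeTwo.U_le hd) (TypeTwo.W₁_le hd)).trans hc.normal

omit hM in
/-- `U W₁` normalises `C`. -/
theorem sup_le_normalizer_C :
    U ⊔ W₁ ≤ normalizer ((U ⊓ modCent (fittingHallOf M) H₀ : Subgroup G) : Set G) := fun g hg =>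
  TypeTwo.mem_normalizer_of_conj_mem fun c hc' =>
    ⟨(mem_normalizer_iff.1 (sup_le Subgroup.le_normalizer hd.U_normal hg) c).1 hc'.1,
      conj_mem_modCent hc'.2 (TypeTwo.sup_le_normalizer hd hg) (hc.sup_le_normalizer₀ hd hg)⟩

omit hM in
/-- `C` is proper. -/
theorem C_lt_U : U ⊓ modCent (fittingHallOf M) H₀ < U := by
  refine lt_of_le_of_ne inf_le_left fun e => ?_
  have h : fittingHallOf M = H₀ :=
    le_antisymm (fun y hy => hc.fix_U y hy fun u hu => (e.ge hu).2.2.2 y hy) hc.le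
  have h1 := hc.card_eq
  rw [h] at h1
  exact (Nat.one_lt_pow hc.prime_W₁.ne_zero hc.prime_W₂.one_lt).ne
    (Nat.eq_of_mul_eq_mul_left Nat.card_pos ((mul_one _).trans h1))

omit hM in
theorem commutator_le_C : ⁅U, U⁆ ≤ U ⊓ modCent (fittingHallOf M) H₀ :=
  le_inf (Subgroup.commutator_le_self U) hc.derived_le

include hG

/-- An element of `U` fixed by `W₁` modulo `C` lies in `C`. -/
theorem mem_C_of_commutator {u w : G} (hu : u ∈ U) (hw : w ∈ W₁) (hw1 : w ≠ 1)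
    (h : w * u * w⁻¹ * u⁻¹ ∈ U ⊓ modCent (fittingHallOf M) H₀) :
    u ∈ U ⊓ modCent (fittingHallOf M) H₀ := by
  set C := U ⊓ modCent (fittingHallOf M) H₀ with hC
  have hCn : U ⊔ W₁ ≤ normalizer (C : Set G) := hc.sup_le_normalizer_C hd
  have h1 : u⁻¹ * (w * u * w⁻¹) ∈ C := by
    have := (mem_normalizer_iff''.1 (hCn (mem_sup_left hu)) _).1 h
    simpa [mul_assoc] using this
  have hpow : ∀ n : ℕ, u⁻¹ * (w ^ n * u * (w ^ n)⁻¹) ∈ C := by
    intro n
    induction n with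
    | zero => simp
    | succ n ih =>
      have h2 : w * (u⁻¹ * (w ^ n * u * (w ^ n)⁻¹)) * w⁻¹ ∈ C :=
        (mem_normalizer_iff.1 (hCn (mem_sup_right hw)) _).1 ih
      have e : u⁻¹ * (w ^ (n + 1) * u * (w ^ (n + 1))⁻¹) =
          (u⁻¹ * (w * u * w⁻¹)) * (w * (u⁻¹ * (w ^ n * u * (w ^ n)⁻¹)) * w⁻¹) := by
        rw [pow_succ']; group
      rw [e]
      exact mul_mem h1 h2
  have hz : zpowers w = W₁ := by
    refine ((Nat.dvd_prime hc.prime_W₁).1 (card_dvd_of_le (zpowers_le.2 hw))).elim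
      (fun e => absurd (card_eq_one.1 e) (by simpa using hw1)) fun e =>
        eq_of_le_of_card_ge (zpowers_le.2 hw) e.ge
  obtain ⟨n, hn, hcn⟩ := Coprime.exists_fixed_mem_leftCoset (le_sup_right.trans hCn)
    ((NotTwo.coprime_W₁_derived hd).coprime_dvd_right
      (card_dvd_of_le (inf_le_left.trans hd.U_compl.2.1)))
    (Or.inl (Coprime.isSolvable_of_le (TypeTwo.W₁_le hd) (OddLocal.isSolvable_coatom hG hM)))
    (k := u) fun a ha => by
      rw [← hz, ← mem_powers_iff_mem_zpowers] at ha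
      obtain ⟨m, rfl⟩ := ha
      exact hpow m
  have hbot : u * n = 1 := mem_bot.1 (TypeTwo.U_inf_centralizer hd hw hw1 ▸
    ⟨U.mul_mem hu hn.1, centralizer_le (Set.singleton_subset_iff.2 hw) hcn⟩)
  rw [mul_eq_one_iff_eq_inv.1 hbot]
  exact inv_mem hn

omit hG hM in
/-- `|C|`, `|U|` and `|U : C|` are `1` modulo `q`. -/
theorem relIndex_modEq :
    Nat.card ↥(U ⊓ modCent (fittingHallOf M) H₀) ≡ 1 [MOD Nat.card W₁] ∧
    Nat.card U ≡ 1 [MOD Nat.card W₁] ∧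
    (U ⊓ modCent (fittingHallOf M) H₀).relIndex U ≡ 1 [MOD Nat.card W₁] := by
  have := Fact.mk hc.prime_W₁
  have key : ∀ L : Subgroup G, L ≤ U → W₁ ≤ normalizer (L : Set G) →
      Nat.card L ≡ 1 [MOD Nat.card W₁] := fun L hL hn => by
    have h := SylowNumber.card_modEq_inf_centralizer (IsPGroup.of_card (pow_one _).symm) hn
    obtain ⟨x, hx, hx1⟩ := OddLocal.exists_mem_ne_one _ hd.W₁_ne
    have he : L ⊓ centralizer (W₁ : Set G) = ⊥ :=
      le_bot_iff.1 (TypeTwo.U_inf_centralizer hd hx hx1 ▸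
        inf_le_inf hL (centralizer_le (Set.singleton_subset_iff.2 hx)))
    rwa [he, card_bot] at h
  have h1 := key U le_rfl hd.U_normal
  have h2 := key (U ⊓ modCent (fittingHallOf M) H₀) inf_le_left
    (le_sup_right.trans (hc.sup_le_normalizer_C hd))
  refine ⟨h2, h1, ?_⟩
  rw [← Coprime.card_mul_relIndex_of_le
    (inf_le_left : U ⊓ modCent (fittingHallOf M) H₀ ≤ U)] at h1
  have := (h2.mul_right ((U ⊓ modCent (fittingHallOf M) H₀).relIndex U)).symm.trans h1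
  rwa [one_mul] at this

omit hG hM in
/-- `K = H C`: normal in `M`, of order `|H| |C|`, and `|M| = q |U : C| |K|`. -/
theorem kernel_facts :
    M ≤ normalizer ((fittingHallOf M ⊔ U ⊓ modCent (fittingHallOf M) H₀ : Subgroup G) : Set G) ∧
    Nat.card ↥(fittingHallOf M ⊔ U ⊓ modCent (fittingHallOf M) H₀) =
      Nat.card (fittingHallOf M) * Nat.card ↥(U ⊓ modCent (fittingHallOf M) H₀) ∧
    Nat.card M = Nat.card W₁ * (U ⊓ modCent (fittingHallOf M) H₀).relIndex U *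
      Nat.card ↥(fittingHallOf M ⊔ U ⊓ modCent (fittingHallOf M) H₀) ∧
    fittingHallOf M ⊔ U ⊓ modCent (fittingHallOf M) H₀ ≤ ⁅M, M⁆ ∧
    W₁ ⊓ (fittingHallOf M ⊔ U ⊓ modCent (fittingHallOf M) H₀) = ⊥ := by
  set H := fittingHallOf M with hH
  set C := U ⊓ modCent H H₀ with hC
  have hMH : M ≤ normalizer (H : Set G) := OddLocal.le_normalizer_fittingHallOf M
  have hsupM : M ≤ H ⊔ (U ⊔ W₁) := fun m hm => by
    obtain ⟨a, ha, b, hb, rfl⟩ := hd.W₁_compl.2.2.2 m hm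
    obtain ⟨c, hc', d, hd', rfl⟩ := hd.U_compl.2.2.2 a ha
    rw [mul_assoc]
    exact mul_mem_sup hc' (mul_mem_sup hd' hb)
  have hCK : H ⊔ C ≤ ⁅M, M⁆ :=
    sup_le hd.U_compl.1 (inf_le_left.trans hd.U_compl.2.1)
  have hcard : Nat.card ↥(H ⊔ C) = Nat.card H * Nat.card C :=
    Coprime.card_sup_eq_mul (inf_le_left.trans ((TypeTwo.U_le hd).trans hMH))
      (eq_bot_iff.2 ((inf_le_inf_left H inf_le_left).trans hd.U_compl.2.2.1.le))
  refine ⟨hsupM.trans (sup_le (le_sup_left.trans Subgroup.le_normalizer) ?_), hcard, ?_, hCK, ?_⟩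
  · exact Coprime.le_normalizer_sup (TypeTwo.sup_le_normalizer hd) (hc.sup_le_normalizer_C hd)
  · rw [← OddLocal.IsComplIn.card_mul hd.W₁_compl, ← OddLocal.IsComplIn.card_mul hd.U_compl, hcard,
      ← Coprime.card_mul_relIndex_of_le (inf_le_left : C ≤ U)]
    ring
  · rw [inf_comm]
    exact eq_bot_iff.2 ((inf_le_inf_right W₁ hCK).trans hd.W₁_compl.2.2.1.le)

/-- A `W₁`-fixed point of `H / H₀` is only fixed by `C`. -/
theorem stabilizer_fixed {x : G} (hx : x ∈ W₂) (hx1 : x ≠ 1) {u : G} (hu : u ∈ U)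
    (h : u * x * u⁻¹ * x⁻¹ ∈ H₀) : u ∈ U ⊓ modCent (fittingHallOf M) H₀ := by
  set H := fittingHallOf M with hH
  set C := U ⊓ modCent H H₀ with hC
  have hUW₀ := hc.sup_le_normalizer₀ hd
  have hxH : x ∈ H := TypeTwo.W₂_le hd hx
  let D : Subgroup G :=
    { carrier := {v | v ∈ U ∧ v * x * v⁻¹ * x⁻¹ ∈ H₀}
      one_mem' := ⟨U.one_mem, by simp⟩
      inv_mem' := fun {a} ha => ⟨U.inv_mem ha.1, by
        have := inv_mem ((mem_normalizer_iff''.1 (hUW₀ (mem_sup_left ha.1)) _).1 ha.2)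
        rw [show (a⁻¹ * (a * x * a⁻¹ * x⁻¹) * a)⁻¹ = a⁻¹ * x * a * x⁻¹ by group] at this
        simpa using this⟩
      mul_mem' := fun {a b} ha hb => ⟨U.mul_mem ha.1 hb.1, by
        have := mul_mem ((mem_normalizer_iff.1 (hUW₀ (mem_sup_left ha.1)) _).1 hb.2) ha.2
        rw [show a * (b * x * b⁻¹ * x⁻¹) * a⁻¹ * (a * x * a⁻¹ * x⁻¹) =
          a * b * x * (a * b)⁻¹ * x⁻¹ by group] at this
        exact this⟩ }
  have hCD : C ≤ D := fun v hv => ⟨hv.1, hv.2.2.2 x hxH⟩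
  have hDU : D ≤ U := fun v hv => hv.1
  have hDn : U ⊔ W₁ ≤ normalizer (D : Set G) := by
    refine sup_le (fun g hg => TypeTwo.mem_normalizer_of_conj_mem fun v hv => ?_)
      (fun g hg => TypeTwo.mem_normalizer_of_conj_mem fun v hv => ?_)
    · have h1 : g * v * g⁻¹ * v⁻¹ ∈ D :=
        hCD (hc.commutator_le_C hd (commutator_mem_commutator hg (hDU hv)))
      simpa using mul_mem h1 hv
    · refine ⟨(mem_normalizer_iff.1 (hd.U_normal hg) v).1 hv.1, ?_⟩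
      have hgx : g * x * g⁻¹ = x := by
        rw [hd.selfNormalizing.2.2.2.1 g hg x hx, mul_inv_cancel_right]
      have h1 := (mem_normalizer_iff.1 (hUW₀ (mem_sup_right hg)) _).1 hv.2
      rw [show g * (v * x * v⁻¹ * x⁻¹) * g⁻¹ =
        g * v * g⁻¹ * (g * x * g⁻¹) * (g * v * g⁻¹)⁻¹ * (g * x * g⁻¹)⁻¹ by group, hgx] at h1
      exact h1
  let N : Subgroup G :=
    { carrier := {y | y ∈ H ∧ ∀ v ∈ D, v * y * v⁻¹ * y⁻¹ ∈ H₀}
      one_mem' := ⟨H.one_mem, fun v _ => by simp⟩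
      inv_mem' := fun {a} ha => ⟨H.inv_mem ha.1, fun v hv => by
        have hn : a ∈ normalizer (H₀ : Set G) := hc.normal (OddLocal.fittingHallOf_le M ha.1)
        have := (mem_normalizer_iff''.1 hn _).1 (inv_mem (ha.2 v hv))
        rw [show a⁻¹ * (v * a * v⁻¹ * a⁻¹)⁻¹ * a = v * a⁻¹ * v⁻¹ * a⁻¹⁻¹ by group] at this
        exact this⟩
      mul_mem' := fun {a b} ha hb => ⟨H.mul_mem ha.1 hb.1, fun v hv => by
        have hn : a ∈ normalizer (H₀ : Set G) := hc.normal (OddLocal.fittingHallOf_le M ha.1)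
        have := mul_mem (ha.2 v hv) ((mem_normalizer_iff.1 hn _).1 (hb.2 v hv))
        rw [show v * a * v⁻¹ * a⁻¹ * (a * (v * b * v⁻¹ * b⁻¹) * a⁻¹) =
          v * (a * b) * v⁻¹ * (a * b)⁻¹ by group] at this
        exact this⟩ }
  have hH₀N : H₀ ≤ N := fun y hy => ⟨hc.le hy, fun v hv =>
    mul_mem ((mem_normalizer_iff.1 (hUW₀ (mem_sup_left (hDU hv))) y).1 hy) (inv_mem hy)⟩
  have hNn : U ⊔ W₁ ≤ normalizer (N : Set G) := fun g hg =>
    TypeTwo.mem_normalizer_of_conj_mem fun y hy =>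
      ⟨(mem_normalizer_iff.1 (TypeTwo.sup_le_normalizer hd hg) y).1 hy.1, fun v hv => by
        have hv' : g⁻¹ * v * g ∈ D := (mem_normalizer_iff''.1 (hDn hg) v).1 hv
        have h1 := (mem_normalizer_iff.1 (hUW₀ hg) _).1 (hy.2 _ hv')
        rw [show g * (g⁻¹ * v * g * y * (g⁻¹ * v * g)⁻¹ * y⁻¹) * g⁻¹ =
          v * (g * y * g⁻¹) * v⁻¹ * (g * y * g⁻¹)⁻¹ by group] at h1
        exact h1⟩
  have hxN : x ∈ N := ⟨hxH, fun v hv => hv.2⟩
  rcases hc.irred N hH₀N (fun y hy => hy.1) hNn with e | e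
  · refine absurd ?_ hx1
    have : x ∈ H₀ ⊓ W₂ := ⟨e.le hxN, hx⟩
    rwa [hc.inf_W₂, mem_bot] at this
  · exact ⟨hu, mem_modCent.2 ⟨TypeTwo.sup_le_normalizer hd (mem_sup_left hu),
      hUW₀ (mem_sup_left hu), fun y hy => (e.ge hy).2 u ⟨hu, h⟩⟩⟩

/-- Distinct `W₁`-fixed points of `H / H₀` lie in distinct `U`-orbits. -/
theorem orbit_fixed {x y u : G} (hx : x ∈ W₂) (hx1 : x ≠ 1) (hy : y ∈ W₂) (hu : u ∈ U)
    (h : u * x * u⁻¹ * y⁻¹ ∈ H₀) :
    u ∈ U ⊓ modCent (fittingHallOf M) H₀ ∧ x = y := by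
  obtain ⟨w, hw, hw1⟩ := OddLocal.exists_mem_ne_one _ hd.W₁_ne
  have hUW₀ := hc.sup_le_normalizer₀ hd
  have hwU : w * u * w⁻¹ ∈ U := (mem_normalizer_iff.1 (hd.U_normal hw) u).1 hu
  have hwx : w * x * w⁻¹ = x := by
    rw [hd.selfNormalizing.2.2.2.1 w hw x hx, mul_inv_cancel_right]
  have hwy : w * y * w⁻¹ = y := by
    rw [hd.selfNormalizing.2.2.2.1 w hw y hy, mul_inv_cancel_right]
  have h1 : w * u * w⁻¹ * x * (w * u * w⁻¹)⁻¹ * y⁻¹ ∈ H₀ := by
    have := (mem_normalizer_iff.1 (hUW₀ (mem_sup_right hw)) _).1 h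
    rw [show w * (u * x * u⁻¹ * y⁻¹) * w⁻¹ =
      w * u * w⁻¹ * (w * x * w⁻¹) * (w * u * w⁻¹)⁻¹ * (w * y * w⁻¹)⁻¹ by group, hwx, hwy] at this
    exact this
  have h2 : (u⁻¹ * (w * u * w⁻¹)) * x * (u⁻¹ * (w * u * w⁻¹))⁻¹ * x⁻¹ ∈ H₀ := by
    have := (mem_normalizer_iff''.1 (hUW₀ (mem_sup_left hu)) _).1 (mul_mem h1 (inv_mem h))
    rw [show u⁻¹ * (w * u * w⁻¹ * x * (w * u * w⁻¹)⁻¹ * y⁻¹ * (u * x * u⁻¹ * y⁻¹)⁻¹) * u =
      (u⁻¹ * (w * u * w⁻¹)) * x * (u⁻¹ * (w * u * w⁻¹))⁻¹ * x⁻¹ by group] at this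
    exact this
  have h3 := hc.stabilizer_fixed hG hM hd hx hx1 (U.mul_mem (U.inv_mem hu) hwU) h2
  have h4 : w * u * w⁻¹ * u⁻¹ ∈ U ⊓ modCent (fittingHallOf M) H₀ := by
    have := (mem_normalizer_iff.1 (hc.sup_le_normalizer_C hd (mem_sup_left hu)) _).1 h3
    simpa [mul_assoc] using this
  have huC := hc.mem_C_of_commutator hG hM hd hu hw hw1 h4
  refine ⟨huC, ?_⟩
  have h5 := mul_mem (inv_mem (huC.2.2.2 x (TypeTwo.W₂_le hd hx))) h
  rw [show (u * x * u⁻¹ * x⁻¹)⁻¹ * (u * x * u⁻¹ * y⁻¹) = x * y⁻¹ by group] at h5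
  have : x * y⁻¹ ∈ H₀ ⊓ W₂ := ⟨h5, W₂.mul_mem hx (W₂.inv_mem hy)⟩
  rwa [hc.inf_W₂, mem_bot, mul_inv_eq_one] at this

omit hG hM in
/-- `|H : H₀| = p ^ q`. -/
theorem relIndex_eq :
    H₀.relIndex (fittingHallOf M) = Nat.card W₂ ^ Nat.card W₁ := by
  have h := hc.card_eq
  rw [← Coprime.card_mul_relIndex_of_le hc.le] at h
  exact Nat.eq_of_mul_eq_mul_left Nat.card_pos h

/-- `(p - 1) |U : C| ≤ p ^ q - 1`. -/
theorem fixed_orbit_count :
    (Nat.card W₂ - 1) * (U ⊓ modCent (fittingHallOf M) H₀).relIndex U ≤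
      Nat.card W₂ ^ Nat.card W₁ - 1 := by
  classical
  set P := fittingHallOf M with hP
  set C := U ⊓ modCent P H₀ with hC
  have hconj : ∀ (x : W₂) (u : U), (u : G) * x * (u : G)⁻¹ ∈ P := fun x u =>
    (mem_normalizer_iff.1 (TypeTwo.sup_le_normalizer hd (mem_sup_left u.2)) _).1
      (TypeTwo.W₂_le hd x.2)
  let o : P ⧸ H₀.subgroupOf P := QuotientGroup.mk 1
  let f : {x : W₂ // x ≠ 1} × (U ⧸ C.subgroupOf U) → {c : P ⧸ H₀.subgroupOf P // c ≠ o} := fun a =>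
    ⟨QuotientGroup.mk ⟨_, hconj a.1.1 a.2.out⟩, fun e => by
      have h1 := QuotientGroup.eq.1 e.symm
      rw [inv_one, one_mul, mem_subgroupOf] at h1
      have hun := hc.sup_le_normalizer₀ hd (mem_sup_left (a.2.out : U).2)
      have h2 := (mem_normalizer_iff''.1 hun _).1 h1
      rw [show ((a.2.out : U) : G)⁻¹ * (((a.2.out : U) : G) * (a.1.1 : G) *
        ((a.2.out : U) : G)⁻¹) * (a.2.out : U) = (a.1.1 : G) by group] at h2
      have : (a.1.1 : G) ∈ H₀ ⊓ W₂ := ⟨h2, a.1.1.2⟩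
      rw [hc.inf_W₂, mem_bot] at this
      exact a.1.2 (Subtype.ext this)⟩
  have hinj : Function.Injective f := by
    rintro ⟨⟨x, hx⟩, a⟩ ⟨⟨y, hy⟩, b⟩ e
    have e' : (QuotientGroup.mk ⟨_, hconj x a.out⟩ : P ⧸ H₀.subgroupOf P) =
        QuotientGroup.mk ⟨_, hconj y b.out⟩ := congrArg Subtype.val e
    rw [QuotientGroup.eq, mem_subgroupOf, Subgroup.coe_mul, Subgroup.coe_inv] at e'
    set α := ((a.out : U) : G)
    set β := ((b.out : U) : G)
    have hβ : β ∈ normalizer (H₀ : Set G) := hc.sup_le_normalizer₀ hd (mem_sup_left b.out.2)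
    have hxn : (x : G) ∈ normalizer (H₀ : Set G) :=
      hc.normal (OddLocal.fittingHallOf_le M (TypeTwo.W₂_le hd x.2))
    have hyn : (y : G) ∈ normalizer (H₀ : Set G) :=
      hc.normal (OddLocal.fittingHallOf_le M (TypeTwo.W₂_le hd y.2))
    have h1 : β⁻¹ * α * (x : G) * (β⁻¹ * α)⁻¹ * (y : G)⁻¹ ∈ H₀ := by
      have h2 := inv_mem ((mem_normalizer_iff''.1 hβ _).1 e')
      have h3 := (mem_normalizer_iff.1 hyn _).1 h2
      rw [show (y : G) * (β⁻¹ * ((α * x * α⁻¹)⁻¹ * (β * y * β⁻¹)) * β)⁻¹ * (y : G)⁻¹ =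
        β⁻¹ * α * x * (β⁻¹ * α)⁻¹ * (y : G)⁻¹ by group] at h3
      exact h3
    obtain ⟨hC', hxy⟩ := hc.orbit_fixed hG hM hd x.2 (fun h => hx (Subtype.ext h)) y.2
      (U.mul_mem (U.inv_mem b.out.2) a.out.2) h1
    refine Prod.ext (Subtype.ext (Subtype.ext hxy)) ?_
    rw [← a.out_eq, ← b.out_eq]
    exact (QuotientGroup.eq (a := a.out) (b := b.out)).2 (mem_subgroupOf.2 (by
      have := inv_mem hC'
      rwa [mul_inv_rev, inv_inv] at this))
  have h1 := Nat.card_le_card_of_injective f hinj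
  have hl : Nat.card {x : W₂ // x ≠ 1} = Nat.card W₂ - 1 := by
    have := Fintype.ofFinite W₂
    rw [Nat.card_eq_fintype_card, Nat.card_eq_fintype_card, Fintype.card_subtype_compl,
      Fintype.card_subtype_eq]
  have hr : Nat.card {c : P ⧸ H₀.subgroupOf P // c ≠ o} = Nat.card W₂ ^ Nat.card W₁ - 1 := by
    have := Fintype.ofFinite (P ⧸ H₀.subgroupOf P)
    rw [← hc.relIndex_eq hd, Subgroup.relIndex, index_eq_card, Nat.card_eq_fintype_card,
      Nat.card_eq_fintype_card, Fintype.card_subtype_compl, Fintype.card_subtype_eq]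
  rwa [Nat.card_prod, hl, hr, ← index_eq_card] at h1

section Hom

variable {A : Type*} [CommGroup A] {F F' : G → A}
  (hF : ∀ x ∈ fittingHallOf M, ∀ y ∈ fittingHallOf M, F (x * y) = F x * F y)
  (hF₀ : ∀ x ∈ H₀, F x = 1)
  (hFne : ∃ x ∈ fittingHallOf M, F x ≠ 1)
  (hFW : ∀ w ∈ W₁, ∀ x ∈ fittingHallOf M, F (w * x * w⁻¹) = F x)
include hF hF₀ hFne hFW

/-- The stabiliser of a nontrivial `W₁`-invariant homomorphism on `H / H₀` is `C`. -/
theorem stabilizer_hom {u : G} (hu : u ∈ U)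
    (hfix : ∀ x ∈ fittingHallOf M, F (u * x * u⁻¹) = F x) :
    u ∈ U ⊓ modCent (fittingHallOf M) H₀ := by
  set P := fittingHallOf M with hP
  have hnP := TypeTwo.sup_le_normalizer hd
  have hone : F 1 = 1 := hF₀ 1 (one_mem _)
  have hinv : ∀ x ∈ P, F x⁻¹ = (F x)⁻¹ := fun x hx => eq_inv_of_mul_eq_one_left (by
    rw [← hF _ (inv_mem hx) _ hx, inv_mul_cancel, hone])
  let Ker : Subgroup G :=
    { carrier := {x | x ∈ P ∧ F x = 1}
      one_mem' := ⟨P.one_mem, hone⟩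
      inv_mem' := fun {x} hx => ⟨inv_mem hx.1, by rw [hinv x hx.1, hx.2, inv_one]⟩
      mul_mem' := fun {x y} hx hy => ⟨mul_mem hx.1 hy.1, by
        rw [hF x hx.1 y hy.1, hx.2, hy.2, mul_one]⟩ }
  have hCfix : ∀ c ∈ U ⊓ modCent P H₀, ∀ x ∈ P, F (c * x * c⁻¹) = F x := fun c hc' x hx => by
    have h1 : c * x * c⁻¹ * x⁻¹ ∈ H₀ := hc'.2.2.2 x hx
    calc F (c * x * c⁻¹) = F (c * x * c⁻¹ * x⁻¹ * x) := by congr 1; group
      _ = F x := by rw [hF _ (hc.le h1) x hx, hF₀ _ h1, one_mul]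
  let S : Set G := (H₀ : Set G) ∪ {z | ∃ v ∈ U, (∀ x ∈ P, F (v * x * v⁻¹) = F x) ∧
    ∃ x ∈ P, z = v * x * v⁻¹ * x⁻¹}
  have hSK : closure S ≤ Ker := by
    rw [closure_le]
    rintro _ (hy | ⟨v, hv, hfv, x, hx, rfl⟩)
    · exact ⟨hc.le hy, hF₀ _ hy⟩
    · have h1 := (mem_normalizer_iff.1 (hnP (mem_sup_left hv)) x).1 hx
      exact ⟨mul_mem h1 (inv_mem hx), by
        rw [hF _ h1 _ (inv_mem hx), hinv x hx, hfv x hx, mul_inv_cancel]⟩
  have hn : U ⊔ W₁ ≤ normalizer (closure S : Set G) := by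
    intro g hg
    refine OddLocal.mem_normalizer_of_map_conj (eq_of_le_of_card_ge ?_ (le_of_eq
      (card_map_of_injective (MulAut.conj g).injective).symm))
    rw [MonoidHom.map_closure, closure_le]
    rintro _ ⟨z, hz | ⟨v, hv, hfv, x, hx, rfl⟩, rfl⟩
    · exact subset_closure (Or.inl ((mem_normalizer_iff.1 (hc.sup_le_normalizer₀ hd hg) z).1 hz))
    refine subset_closure (Or.inr ?_)
    refine ⟨g * v * g⁻¹, ?_, fun y hy => ?_, g * x * g⁻¹, (mem_normalizer_iff.1 (hnP hg) x).1 hx,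
      by simp [MulAut.conj_apply, mul_assoc]⟩
    · exact (mem_normalizer_iff.1 (sup_le Subgroup.le_normalizer hd.U_normal hg) v).1 hv
    · obtain ⟨a, ha, b, hb, rfl⟩ := (Coprime.mem_sup_of_le_normalizer hd.U_normal).1 hg
      have hbv : b * v * b⁻¹ ∈ U := (mem_normalizer_iff.1 (hd.U_normal hb) v).1 hv
      have hcC : a * (b * v * b⁻¹) * a⁻¹ * (b * v * b⁻¹)⁻¹ ∈ U ⊓ modCent P H₀ :=
        hc.commutator_le_C hd (commutator_mem_commutator ha hbv)
      have hz : ∀ z ∈ P, F (b * v * b⁻¹ * z * (b * v * b⁻¹)⁻¹) = F z := fun z hz => by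
        have hy' : b⁻¹ * z * b ∈ P :=
          (mem_normalizer_iff''.1 (hnP (mem_sup_right hb)) z).1 hz
        calc F (b * v * b⁻¹ * z * (b * v * b⁻¹)⁻¹)
            = F (b * (v * (b⁻¹ * z * b) * v⁻¹) * b⁻¹) := by congr 1; group
          _ = F (b⁻¹ * z * b) := by
              rw [hFW b hb _ ((mem_normalizer_iff.1 (hnP (mem_sup_left hv)) _).1 hy'), hfv _ hy']
          _ = F z := by
              rw [← hFW b hb _ hy']; congr 1; group
      have hy2 := (mem_normalizer_iff.1 (hnP (mem_sup_left hbv)) y).1 hy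
      calc F (a * b * v * (a * b)⁻¹ * y * (a * b * v * (a * b)⁻¹)⁻¹)
          = F ((a * (b * v * b⁻¹) * a⁻¹ * (b * v * b⁻¹)⁻¹) *
              (b * v * b⁻¹ * y * (b * v * b⁻¹)⁻¹) *
              (a * (b * v * b⁻¹) * a⁻¹ * (b * v * b⁻¹)⁻¹)⁻¹) := by congr 1; group
        _ = F y := by rw [hCfix _ hcC _ hy2, hz y hy]
  rcases hc.irred _ (fun y hy => subset_closure (Or.inl hy)) (hSK.trans fun x hx => hx.1) hn
    with e | e
  · refine ⟨hu, mem_modCent.2 ⟨hnP (mem_sup_left hu), hc.sup_le_normalizer₀ hd (mem_sup_left hu),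
      fun x hx => ?_⟩⟩
    exact e.le (subset_closure (Or.inr ⟨u, hu, hfix, x, hx, rfl⟩))
  · obtain ⟨x, hx, hx1⟩ := hFne
    exact absurd (hSK (e.ge hx)).2 hx1

/-- Distinct invariant homomorphisms lie in distinct orbits of `U`. -/
theorem orbit_hom {u : G} (hu : u ∈ U)
    (hFW' : ∀ w ∈ W₁, ∀ x ∈ fittingHallOf M, F' (w * x * w⁻¹) = F' x)
    (h : ∀ x ∈ fittingHallOf M, F' x = F (u * x * u⁻¹)) :
    u ∈ U ⊓ modCent (fittingHallOf M) H₀ ∧ ∀ x ∈ fittingHallOf M, F' x = F x := by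
  set P := fittingHallOf M with hP
  have hnP := TypeTwo.sup_le_normalizer hd
  obtain ⟨w, hw, hw1⟩ := OddLocal.exists_mem_ne_one _ hd.W₁_ne
  have hwU : w * u * w⁻¹ ∈ U := (mem_normalizer_iff.1 (hd.U_normal hw) u).1 hu
  have hv : w * u * w⁻¹ * u⁻¹ ∈ U := mul_mem hwU (inv_mem hu)
  have hvC := hc.stabilizer_hom hG hM hd hF hF₀ hFne hFW hv fun y hy => by
    have hy1 : u⁻¹ * y * u ∈ P := (mem_normalizer_iff''.1 (hnP (mem_sup_left hu)) y).1 hy
    have hy2 : w⁻¹ * (u⁻¹ * y * u) * w ∈ P :=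
      (mem_normalizer_iff''.1 (hnP (mem_sup_right hw)) _).1 hy1
    calc F (w * u * w⁻¹ * u⁻¹ * y * (w * u * w⁻¹ * u⁻¹)⁻¹)
        = F (w * (u * (w⁻¹ * (u⁻¹ * y * u) * w) * u⁻¹) * w⁻¹) := by congr 1; group
      _ = F' (w⁻¹ * (u⁻¹ * y * u) * w) := by
          rw [hFW w hw _ ((mem_normalizer_iff.1 (hnP (mem_sup_left hu)) _).1 hy2), h _ hy2]
      _ = F' (u⁻¹ * y * u) := by rw [← hFW' w hw _ hy2]; congr 1; group
      _ = F y := by rw [h _ hy1]; congr 1; group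
  have huC := hc.mem_C_of_commutator hG hM hd hu hw hw1 hvC
  refine ⟨huC, fun x hx => ?_⟩
  have h1 : u * x * u⁻¹ * x⁻¹ ∈ H₀ := huC.2.2.2 x hx
  rw [h x hx]
  calc F (u * x * u⁻¹) = F (u * x * u⁻¹ * x⁻¹ * x) := by congr 1; group
    _ = F x := by rw [hF _ (hc.le h1) x hx, hF₀ _ h1, one_mul]

end Hom

end Chief

end Cfsg.Agent.OddFinal
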