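import Cfsg.Agent.OddFinal.DegenerateCong
import Cfsg.Agent.Char.Galois
import Cfsg.Agent.OddCharTwelve.IntValued
import Cfsg.Agent.CharArith.Basic

/-!
# The case of a central `W₂` of a degenerate member (section E4 of the endgame)

Sums over the characters above a linear character of a central subgroup, the constancy of the
attached characters on a central subgroup of prime order, the congruence, and the unique fixed
character above each nontrivial linear character.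
-/

set_option autoImplicit false
set_option linter.unusedSectionVars false

namespace Cfsg.Agent.OddFinal

open Cfsg Char CyclicTI
open scoped ComplexConjugate
open scoped _root_.Classical

universe u

section Fibre

variable {P : Type u} [Group P] {Z : Subgroup P}

/-- `θ` restricted to `Z` is a multiple of `l`. -/
def AboveHom (Z : Subgroup P) (l : ↥Z →* ℂˣ) (θ : P → ℂ) : Prop :=
  ∀ z : Z, θ z = θ 1 * (l z : ℂ)

theorem AboveHom.unique {l l' : ↥Z →* ℂˣ} {θ : P → ℂ} (h0 : θ 1 ≠ 0) (h : AboveHom Z l θ)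
    (h' : AboveHom Z l' θ) : l = l' :=
  MonoidHom.ext fun z => Units.ext (mul_left_cancel₀ h0 ((h z).symm.trans (h' z)))

variable [Fintype P] (hZ : Z ≤ Subgroup.center P)

include hZ

theorem fibre_sum {f : P → ℂ} (hf : IsClassFunction P f) (l : ↥Z →* ℂˣ) :
    (Nat.card Z : ℂ) * ∑ θ ∈ Finset.univ.filter (fun θ : IrrCharacter P =>
        AboveHom Z l (θ : P → ℂ)), (θ : P → ℂ) 1 * classInner f (θ : P → ℂ) =
      ∑ z : Z, (((l z)⁻¹ : ℂˣ) : ℂ) * f z := by
  have hexp := classFun_expansion hf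
  let ι : Z →* Subgroup.center P := Subgroup.inclusion hZ
  have hsum : ∀ θ : IrrCharacter P, ∑ z : Z, (((l z)⁻¹ : ℂˣ) : ℂ) * (θ : P → ℂ) z =
      if AboveHom Z l (θ : P → ℂ) then (Nat.card Z : ℂ) * (θ : P → ℂ) 1 else 0 := by
    intro θ
    obtain ⟨ω, hω⟩ := exists_central_hom θ.2
    have h0 := IsIrr.one_ne_zero θ.2
    have hz : ∀ z : Z, (θ : P → ℂ) z = (θ : P → ℂ) 1 * (ω (ι z) : ℂ) := fun z => hω (ι z)
    by_cases ha : AboveHom Z l (θ : P → ℂ)
    · rw [if_pos ha, Finset.sum_congr rfl fun z _ => show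
        (((l z)⁻¹ : ℂˣ) : ℂ) * (θ : P → ℂ) z = (θ : P → ℂ) 1 by
          rw [ha z, mul_left_comm, ← Units.val_mul, inv_mul_cancel, Units.val_one, mul_one]]
      simp [Nat.card_eq_fintype_card]
    · rw [if_neg ha]
      obtain ⟨a, hne⟩ : ∃ a : Z, ω (ι a) ≠ l a := by
        by_contra hc
        push Not at hc
        exact ha fun z => by rw [hz z, hc z]
      set S := ∑ z : Z, (((l z)⁻¹ : ℂˣ) : ℂ) * (θ : P → ℂ) z with hS
      have e : (((l a)⁻¹ * ω (ι a) : ℂˣ) : ℂ) * S = S := by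
        rw [hS, Finset.mul_sum]
        refine Fintype.sum_equiv (Equiv.mulLeft a) _ _ fun z => ?_
        simp only [Equiv.coe_mulLeft, hz, map_mul, mul_inv, Units.val_mul]
        ring
      have hne' : (((l a)⁻¹ * ω (ι a) : ℂˣ) : ℂ) ≠ 1 := fun e1 =>
        hne ((inv_mul_eq_one.1 (Units.val_eq_one.1 e1)).symm)
      rcases mul_eq_zero.1 (show ((((l a)⁻¹ * ω (ι a) : ℂˣ) : ℂ) - 1) * S = 0 by
        rw [sub_mul, e, one_mul, sub_self]) with e1 | e1
      · exact absurd (sub_eq_zero.1 e1) hne'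
      · exact e1
  calc (Nat.card Z : ℂ) * ∑ θ ∈ Finset.univ.filter (fun θ : IrrCharacter P =>
        AboveHom Z l (θ : P → ℂ)), (θ : P → ℂ) 1 * classInner f (θ : P → ℂ)
      = ∑ θ : IrrCharacter P, classInner f (θ : P → ℂ) *
          if AboveHom Z l (θ : P → ℂ) then (Nat.card Z : ℂ) * (θ : P → ℂ) 1 else 0 := by
        simp only [mul_ite, mul_zero, ← Finset.sum_filter, Finset.mul_sum]
        exact Finset.sum_congr rfl fun θ _ => by ring
    _ = ∑ z : Z, (((l z)⁻¹ : ℂˣ) : ℂ) * f z := by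
        simp only [← hsum, Finset.mul_sum]
        rw [Finset.sum_comm]
        refine Finset.sum_congr rfl fun z _ => ?_
        have e := congrFun hexp (z : P)
        simp only [Finset.sum_apply, Pi.smul_apply, smul_eq_mul] at e
        rw [e, Finset.mul_sum]
        exact Finset.sum_congr rfl fun θ _ => by ring

/-- The weighted sum over a fibre of a function that is constant on `Z ∖ 1`. -/
theorem fibre_sum_const {f : P → ℂ} (hf : IsClassFunction P f) {l : ↥Z →* ℂˣ} (hl : l ≠ 1)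
    {n : ℂ} (hn : ∀ z : Z, z ≠ 1 → f z = n) :
    (Nat.card Z : ℂ) * ∑ θ ∈ Finset.univ.filter (fun θ : IrrCharacter P =>
        AboveHom Z l (θ : P → ℂ)), (θ : P → ℂ) 1 * classInner f (θ : P → ℂ) = f 1 - n := by
  rw [fibre_sum hZ hf l]
  have h1 : ∀ z : Z, (((l z)⁻¹ : ℂˣ) : ℂ) * f z =
      n * (((l z)⁻¹ : ℂˣ) : ℂ) + if z = 1 then f 1 - n else 0 := by
    intro z
    by_cases hz : z = 1
    · subst hz; simp
    · rw [if_neg hz, hn z hz]; ring
  rw [Finset.sum_congr rfl fun z _ => h1 z, Finset.sum_add_distrib, ← Finset.mul_sum,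
    Finset.sum_ite_eq' Finset.univ (1 : Z) (fun _ => f 1 - n), if_pos (Finset.mem_univ _)]
  obtain ⟨a, ha⟩ : ∃ a, l a ≠ 1 := by
    by_contra hc
    push Not at hc
    exact hl (MonoidHom.ext hc)
  have e : (((l a)⁻¹ : ℂˣ) : ℂ) * (∑ z : Z, (((l z)⁻¹ : ℂˣ) : ℂ)) =
      ∑ z : Z, (((l z)⁻¹ : ℂˣ) : ℂ) := by
    rw [Finset.mul_sum]
    refine Fintype.sum_equiv (Equiv.mulLeft a) _ _ fun z => ?_
    simp only [Equiv.coe_mulLeft, map_mul, mul_inv, Units.val_mul]
  rcases mul_eq_zero.1 (show ((((l a)⁻¹ : ℂˣ) : ℂ) - 1) * (∑ z : Z, (((l z)⁻¹ : ℂˣ) : ℂ)) = 0 by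
    rw [sub_mul, e, one_mul, sub_self]) with e1 | e1
  · exact absurd (inv_eq_one.1 (Units.val_eq_one.1 (sub_eq_zero.1 e1))) ha
  · rw [e1, mul_zero, zero_add]

/-- The squares of the degrees in a fibre. -/
theorem fibre_sq (l : ↥Z →* ℂˣ) :
    (Nat.card Z : ℂ) * ∑ θ ∈ Finset.univ.filter (fun θ : IrrCharacter P =>
        AboveHom Z l (θ : P → ℂ)), (θ : P → ℂ) 1 ^ 2 = (Nat.card P : ℂ) := by
  set f : P → ℂ := fun g => if g = 1 then (Nat.card P : ℂ) else 0 with hf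
  have hfc : IsClassFunction P f := by
    intro g x
    simp only [hf]
    exact if_congr conj_eq_one_iff rfl rfl
  have hinner : ∀ θ : IrrCharacter P, classInner f (θ : P → ℂ) = (θ : P → ℂ) 1 := by
    intro θ
    obtain ⟨n, -, e⟩ := IsIrr.degree θ.2
    simp only [classInner, hf, ite_mul, zero_mul, Finset.sum_ite_eq', Finset.mem_univ, if_true]
    rw [← mul_assoc, inv_mul_cancel₀ (Nat.cast_ne_zero.2 Nat.card_pos.ne'), one_mul, e,
      map_natCast]
  have h := fibre_sum hZ hfc l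
  simp only [hinner, ← pow_two] at h
  rw [h, Finset.sum_eq_single (1 : Z)]
  · simp [hf]
  · intro z _ hz
    simp [hf, hz]
  · simp

end Fibre

variable {G : Type u} [Group G] [Fintype G] {M W₁ W₂ K : Subgroup G} [Fintype ↥M]
  {μ : (↥(W₁ ⊔ W₂) →* ℂˣ) → ↥M → ℂ} {η : (↥(W₁ ⊔ W₂) →* ℂˣ) → G → ℂ}

/-- An embedding of fields commutes with induction. -/
theorem map_indFun (σ : ℂ →+* ℂ) (α : ↥M → ℂ) (g : G) :
    σ (indFun M α g) = indFun M (fun x => σ (α x)) g := by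
  simp only [Char.indFun_apply, map_mul, map_inv₀, map_natCast, map_sum]
  congr 1
  refine Finset.sum_congr rfl fun x _ => ?_
  by_cases hx : x⁻¹ * g * x ∈ M
  · simp [extendByZero_of_mem M _ hx]
  · simp [extendByZero_of_not_mem M _ hx]

namespace DegSys

variable (h : DegSys M W₁ W₂ K μ η)

include h

/-- A family of signed irreducible characters attached to differences is invariant under power
twists at the elements of `K` in the kernels. -/
theorem twist_const {F : Set (↥M → ℂ)}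
    (hF : ∀ ζ ∈ F, ζ ∈ inducedIrrAbove (K.subgroupOf M) ⊥ ∧ IsIrrCharacter ↥M ζ)
    (hconj : ∀ ζ ∈ F, Cfsg.conjFun ζ ∈ F)
    (hmap : ∀ σ : ℂ →+* ℂ, ∀ ζ ∈ F, (fun x => σ (ζ x)) ∈ F)
    {χf : (↥M → ℂ) → G → ℂ} (hS : ∀ ζ ∈ F, Coherence.SIrr G (χf ζ))
    (horth : ∀ ζ₁ ∈ F, ∀ ζ₂ ∈ F, ζ₁ ≠ ζ₂ → classInner (χf ζ₁) (χf ζ₂) = 0)
    (hτ : ∀ ζ₁ ∈ F, ∀ ζ₂ ∈ F, ζ₁ 1 = ζ₂ 1 → indFun M (ζ₁ - ζ₂) = χf ζ₁ - χf ζ₂)
    {ζ : ↥M → ℂ} (hζ : ζ ∈ F) {z : ↥M} (hzK : (z : G) ∈ K) (hzker : ζ z = ζ 1)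
    {k : ℕ} (hk : k.Coprime (Nat.card G)) : χf ζ ((z : G) ^ k) = χf ζ (z : G) := by
  have := h.K_normal
  by_cases hz1 : z = 1
  · subst hz1; simp
  obtain ⟨σ, hσ⟩ := exists_galois_pow (G := G) k hk
  set a : G → ℂ := fun g => σ (χf ζ g) with ha
  set η' := Cfsg.conjFun ζ with hη'
  set b : G → ℂ := fun g => σ (χf η' g) with hb
  set ζs : ↥M → ℂ := fun x => σ (ζ x) with hζs
  set ηs : ↥M → ℂ := fun x => σ (η' x) with hηs
  have hη'F := hconj ζ hζ
  have hζsF := hmap σ ζ hζ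
  have hηsF := hmap σ η' hη'F
  have hζi := (hF ζ hζ).2
  obtain ⟨R, hsys, -⟩ := h.exists_system
  have hne : ζ ≠ η' := (hsys.conj_ne ζ (hF ζ hζ).1).symm
  have hnes : ζs ≠ ηs := fun e => hne (funext fun x => σ.injective (congrFun e x))
  have hdeg : η' 1 = ζ 1 := Coherence.isChar_conjFun_one (IsIrr.isCharacter hζi)
  have hdegs : ηs 1 = ζs 1 := congrArg σ hdeg
  have hdegσ : ζs 1 = ζ 1 := by
    obtain ⟨n, -, e⟩ := IsIrr.degree hζi
    show σ (ζ 1) = ζ 1
    rw [e, map_natCast]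
  have hmapS : ∀ {φ : G → ℂ}, Coherence.SIrr G φ → Coherence.SIrr G (fun g => σ (φ g)) := by
    intro φ hφ
    rcases hφ with e | e
    · exact Or.inl (isIrr_map σ e)
    · refine Or.inr ?_
      convert isIrr_map σ e using 1
      funext g; simp
  have hSa : Coherence.SIrr G a := hmapS (hS ζ hζ)
  have hSb : Coherence.SIrr G b := hmapS (hS η' hη'F)
  have hab : a - b = χf ζs - χf ηs := by
    funext g
    have e1 := congrFun (hτ ζ hζ η' hη'F hdeg.symm) g
    have e2 := congrFun (hτ ζs hζsF ηs hηsF hdegs.symm) g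
    simp only [Pi.sub_apply, ha, hb] at e1 e2 ⊢
    rw [← map_sub, ← e1, ← e2, map_indFun]
    congr 1
    funext x
    simp [hζs, hηs]
  have hone : ∀ {ζ₁ ζ₂ : ↥M → ℂ}, ζ₁ ∈ F → ζ₂ ∈ F → ζ₁ 1 = ζ₂ 1 → χf ζ₁ 1 = χf ζ₂ 1 := by
    intro ζ₁ ζ₂ h₁ h₂ he
    have e := congrFun (hτ ζ₁ h₁ ζ₂ h₂ he) 1
    rw [Char.indFun_apply_one, Pi.sub_apply, he, sub_self, mul_zero, Pi.sub_apply] at e
    exact sub_eq_zero.1 e.symm
  have hfix1 : ∀ {ζ₁ : ↥M → ℂ}, ζ₁ ∈ F → σ (χf ζ₁ 1) = χf ζ₁ 1 := by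
    intro ζ₁ h₁
    rcases hS ζ₁ h₁ with e | e
    · obtain ⟨n, -, e'⟩ := IsIrr.degree e
      rw [e', map_natCast]
    · obtain ⟨n, -, e'⟩ := IsIrr.degree e
      rw [Pi.neg_apply, neg_eq_iff_eq_neg] at e'
      rw [e', map_neg, map_natCast]
  -- identify the twisted character
  have haid : a = χf ζs := by
    have e1 : classInner (a - b) (χf ζs) = 1 := by
      rw [hab, classInner_sub_left, (hS ζs hζsF).inner_self, horth ηs hηsF ζs hζsF hnes.symm,
        sub_zero]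
    rw [classInner_sub_left] at e1
    rcases hSa.inner_cases (hS ζs hζsF) with e | ⟨e, -⟩ | ⟨-, e⟩
    · rw [e, zero_sub] at e1
      rcases hSb.inner_cases (hS ζs hζsF) with e' | ⟨-, e'⟩ | ⟨e', -⟩
      · rw [e', neg_zero] at e1; exact absurd e1 zero_ne_one
      · rw [e'] at e1; norm_num at e1
      · exfalso
        have e2 : b 1 = -χf ζs 1 := congrFun e' 1
        have e3 : a 1 - b 1 = 0 := by
          have := congrFun hab 1
          simp only [Pi.sub_apply] at this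
          rw [this, hone hζsF hηsF hdegs.symm, sub_self]
        have e4 : a 1 = χf ζs 1 := by
          show σ (χf ζ 1) = χf ζs 1
          rw [hfix1 hζ]
          exact hone hζ hζsF hdegσ.symm
        refine (hS ζs hζsF).apply_one_ne_zero ?_
        linear_combination (1 / 2 : ℂ) * e3 + (1 / 2 : ℂ) * e2 - (1 / 2 : ℂ) * e4
    · exact e
    · rw [e] at e1
      rcases hSb.inner_cases (hS ζs hζsF) with e' | ⟨-, e'⟩ | ⟨-, e'⟩ <;>
        rw [e'] at e1 <;> norm_num at e1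
  have hleft : χf ζ ((z : G) ^ k) = χf ζs (z : G) := by
    rw [← haid]
    rcases hS ζ hζ with e | e
    · exact (hσ (IsIrr.isCharacter e) _).symm
    · have := hσ (IsIrr.isCharacter e) (z : G)
      simp only [Pi.neg_apply, map_neg, neg_inj] at this
      exact this.symm
  rw [hleft, ← sub_eq_zero]
  have e := congrFun (hτ ζs hζsF ζ hζ hdegσ) (z : G)
  rw [Pi.sub_apply] at e
  rw [← e]
  have hmem : ζs - ζ ∈ zspanOn (inducedIrrAbove (K.subgroupOf M) (⊥ : Subgroup ↥M)) {1}ᶜ :=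
    Coherence.mem_zspanOn_compl_one.2 ⟨Coherence.zspan_sub (Coherence.mem_zspan_of_mem
      (hF ζs hζsF).1) (Coherence.mem_zspan_of_mem (hF ζ hζ).1), by simp [hdegσ]⟩
  rw [indFun_coe h.dade (IsGen.isClassFunction (h.isGen hmem.1)) (fun x hx => h.suppOn hmem hx)
    (Or.inl ⟨hzK, fun e' => hz1 (Subtype.ext e')⟩), Pi.sub_apply]
  show σ (ζ z) - ζ z = 0
  rw [hzker]
  exact sub_eq_zero.2 hdegσ

/-- Constancy on a subgroup of prime order in the kernel. -/
theorem const_of_prime {F : Set (↥M → ℂ)}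
    (hF : ∀ ζ ∈ F, ζ ∈ inducedIrrAbove (K.subgroupOf M) ⊥ ∧ IsIrrCharacter ↥M ζ)
    (hconj : ∀ ζ ∈ F, Cfsg.conjFun ζ ∈ F)
    (hmap : ∀ σ : ℂ →+* ℂ, ∀ ζ ∈ F, (fun x => σ (ζ x)) ∈ F)
    {χf : (↥M → ℂ) → G → ℂ} (hS : ∀ ζ ∈ F, Coherence.SIrr G (χf ζ))
    (horth : ∀ ζ₁ ∈ F, ∀ ζ₂ ∈ F, ζ₁ ≠ ζ₂ → classInner (χf ζ₁) (χf ζ₂) = 0)
    (hτ : ∀ ζ₁ ∈ F, ∀ ζ₂ ∈ F, ζ₁ 1 = ζ₂ 1 → indFun M (ζ₁ - ζ₂) = χf ζ₁ - χf ζ₂)
    {ζ : ↥M → ℂ} (hζ : ζ ∈ F) {Z : Subgroup ↥M} (hr : (Nat.card Z).Prime)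
    (hZK : Z ≤ K.subgroupOf M) (hker : ∀ z ∈ Z, ζ z = ζ 1) :
    ∀ z ∈ Z, ∀ z' ∈ Z, z ≠ 1 → z' ≠ 1 → χf ζ (z : G) = χf ζ (z' : G) := by
  intro z hz z' hz' hne hne'
  have hzgen : (⟨z', hz'⟩ : Z) ∈ Subgroup.zpowers (⟨z, hz⟩ : Z) := by
    have : Fact (Nat.card Z).Prime := ⟨hr⟩
    exact mem_zpowers_of_prime_card rfl (fun e => hne (congrArg Subtype.val e))
  rw [← mem_powers_iff_mem_zpowers] at hzgen
  obtain ⟨j, hj⟩ := Submonoid.mem_powers_iff _ _ |>.1 hzgen
  have hj' : (z : G) ^ j = (z' : G) := congrArg (fun w : Z => ((w : ↥M) : G)) hj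
  have hord : orderOf (z : G) = Nat.card Z := by
    have : Fact (Nat.card Z).Prime := ⟨hr⟩
    rw [Subgroup.orderOf_coe]
    refine ((Nat.dvd_prime hr).1 (Subgroup.orderOf_dvd_natCard Z hz)).resolve_left ?_
    exact fun e => hne (orderOf_eq_one_iff.1 e)
  have hcop : j.Coprime (orderOf (z : G)) := by
    rw [hord, Nat.coprime_comm, Nat.Prime.coprime_iff_not_dvd hr]
    rintro ⟨m, rfl⟩
    refine hne' (Subtype.ext ?_)
    rw [← hj', ← hord, pow_mul, pow_orderOf_eq_one, one_pow]; rfl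
  obtain ⟨k, hk, hk'⟩ := OddCharTwelve.exists_coprime_modEq (z : G) hcop
  rw [← hj', ← hk']
  exact (h.twist_const hF hconj hmap hS horth hτ hζ (hZK hz) (hker z hz) hk).symm

/-- The weighted sum over a fibre is divisible by `|P : Z|`. -/
theorem fibre_cong (hnil : Group.IsNilpotent K) {Z : Subgroup ↥M} [Z.Normal]
    (hZK : Z ≤ K.subgroupOf M) (hZc : ∀ z ∈ Z, ∀ k ∈ K.subgroupOf M, z * k = k * z)
    (hZ1 : Z ≠ ⊥) {s : ℕ} [Fact s.Prime] (P : Sylow s G) (hPK : (P : Subgroup G) = K)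
    {χ : G → ℂ} (hχ : Coherence.SIrr G χ)
    (hconst : ∀ z ∈ Z, ∀ z' ∈ Z, z ≠ 1 → z' ≠ 1 → χ (z : G) = χ (z' : G))
    {l : ↥(Z.subgroupOf (K.subgroupOf M)) →* ℂˣ} (hl : l ≠ 1) :
    ∃ w : ℤ, ∑ θ ∈ Finset.univ.filter (fun θ : IrrCharacter (K.subgroupOf M) =>
        AboveHom (Z.subgroupOf (K.subgroupOf M)) l (θ : K.subgroupOf M → ℂ)),
        (θ : K.subgroupOf M → ℂ) 1 *
          classInner (fun k : K.subgroupOf M => χ ((k : ↥M) : G)) (θ : K.subgroupOf M → ℂ) =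
      (((Z.subgroupOf (K.subgroupOf M)).index : ℤ) * w : ℤ) := by
  obtain ⟨z, hz, hz1⟩ := (Subgroup.bot_or_exists_ne_one Z).resolve_left hZ1
  have hZP : Z ≤ (P : Subgroup G).subgroupOf M := fun x hx => by
    show (x : G) ∈ (P : Subgroup G)
    rw [hPK]; exact hZK hx
  obtain ⟨w, hw⟩ := h.sylow_cong hnil hZK hZc P hPK.le hZP hχ hconst hz hz1
  refine ⟨w, ?_⟩
  set Zk := Z.subgroupOf (K.subgroupOf M) with hZk
  have hcen : Zk ≤ Subgroup.center (K.subgroupOf M) := fun y hy =>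
    Subgroup.mem_center_iff.2 fun k => Subtype.ext (hZc _ hy _ k.2).symm
  set f : K.subgroupOf M → ℂ := fun k => χ ((k : ↥M) : G) with hf
  have hfgen : IsGeneralizedCharacter (K.subgroupOf M) f :=
    isGeneralized_comp (M.subtype.comp (K.subgroupOf M).subtype) hχ.isGeneralized
  have e := fibre_sum_const hcen (IsGen.isClassFunction hfgen) hl (n := χ (z : G)) (fun y hy =>
    hconst _ y.2 z hz (fun e => hy (Subtype.ext (Subtype.ext e))) hz1)
  have hcard : Nat.card (P : Subgroup G) = Nat.card Zk * Zk.index := by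
    rw [Subgroup.card_mul_index, hPK]
    exact (Nat.card_congr (Subgroup.subgroupOfEquivOfLe h.K_le).toEquiv).symm
  refine mul_left_cancel₀ (a := (Nat.card Zk : ℂ)) (Nat.cast_ne_zero.2 Nat.card_pos.ne') ?_
  rw [e]
  show χ ((1 : ↥M) : G) - χ (z : G) = _
  rw [OneMemClass.coe_one, hw, hcard]
  push_cast
  ring

/-- Above each nontrivial linear character of the central subgroup lies exactly one fixed
character. -/
theorem fibre_fixed {Z : Subgroup ↥M} (hZK : Z ≤ K.subgroupOf M)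
    (hMc : ∀ z ∈ Z, ∀ m : ↥M, m * z = z * m) (hcard : Nat.card Z = Nat.card W₂)
    (hindex : (K.subgroupOf M).index = Nat.card W₁)
    (hcop : (Nat.card W₁).Coprime (Nat.card K))
    {l : ↥(Z.subgroupOf (K.subgroupOf M)) →* ℂˣ} (hl : l ≠ 1) :
    ∃ θ₀ : IrrCharacter (K.subgroupOf M),
      AboveHom (Z.subgroupOf (K.subgroupOf M)) l (θ₀ : K.subgroupOf M → ℂ) ∧
      (∃ ψ : Right W₁ W₂, ψ.1 ≠ 1 ∧
        indFun (K.subgroupOf M) (θ₀ : K.subgroupOf M → ℂ) = colSum μ ψ) ∧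
      ∀ θ : IrrCharacter (K.subgroupOf M),
        AboveHom (Z.subgroupOf (K.subgroupOf M)) l (θ : K.subgroupOf M → ℂ) → θ ≠ θ₀ →
        IsIrrCharacter ↥M (indFun (K.subgroupOf M) (θ : K.subgroupOf M → ℂ)) := by
  have := h.K_normal
  have hcen : (Z.subgroupOf (K.subgroupOf M)) ≤ Subgroup.center (K.subgroupOf M) := fun y hy =>
    Subgroup.mem_center_iff.2 fun k => Subtype.ext (hMc _ hy _)
  have hWe : Nat.card W₁ ≠ 1 := fun e => h.selfN.1 (Subgroup.card_eq_one.1 e)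
  -- members above a nontrivial character
  have habove : ∀ {l : ↥(Z.subgroupOf (K.subgroupOf M)) →* ℂˣ}, l ≠ 1 → ∀ {θ : IrrCharacter (K.subgroupOf M)},
      AboveHom (Z.subgroupOf (K.subgroupOf M)) l (θ : (K.subgroupOf M) → ℂ) → (θ : (K.subgroupOf M) → ℂ) ∈ OddChars.Above (K.subgroupOf M) ⊥ := by
    intro l hl θ hθ
    refine ⟨θ.2, fun e => hl (MonoidHom.ext fun y => Units.ext ?_), fun a ha => ?_⟩
    · have := hθ y
      rw [e, one_mul] at this
      simpa using this.symm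
    · rw [Subgroup.mem_bot] at ha
      rw [show a = 1 from Subtype.ext ha]
  -- some character above is fixed
  have hex : ∀ {l : ↥(Z.subgroupOf (K.subgroupOf M)) →* ℂˣ}, l ≠ 1 → ∃ θ : IrrCharacter (K.subgroupOf M), AboveHom (Z.subgroupOf (K.subgroupOf M)) l (θ : (K.subgroupOf M) → ℂ) ∧
      ¬ IsIrrCharacter ↥M (indFun (K.subgroupOf M) (θ : (K.subgroupOf M) → ℂ)) := by
    intro l hl
    by_contra hno
    push Not at hno
    set S := Finset.univ.filter (fun θ : IrrCharacter (K.subgroupOf M) => AboveHom (Z.subgroupOf (K.subgroupOf M)) l (θ : (K.subgroupOf M) → ℂ)) with hS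
    have hdvd : (K.subgroupOf M).index ∣ ∑ θ ∈ S, charDegree (θ : (K.subgroupOf M) → ℂ) ^ 2 := by
      rw [← Finset.sum_fiberwise_of_maps_to
        (t := S.image fun θ : IrrCharacter (K.subgroupOf M) => indFun (K.subgroupOf M) (θ : (K.subgroupOf M) → ℂ))
        (g := fun θ : IrrCharacter (K.subgroupOf M) => indFun (K.subgroupOf M) (θ : (K.subgroupOf M) → ℂ))
        (fun θ hθ => Finset.mem_image_of_mem _ hθ)]
      refine Finset.dvd_sum fun Φ hΦ => ?_
      obtain ⟨θ, hθ, rfl⟩ := Finset.mem_image.1 hΦ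
      have hθa : AboveHom (Z.subgroupOf (K.subgroupOf M)) l (θ : (K.subgroupOf M) → ℂ) := (Finset.mem_filter.1 hθ).2
      have horb : ((Char.orbit (G := ↥M) (θ : (K.subgroupOf M) → ℂ)).card : ℂ) = (K.subgroupOf M).index := by
        have e := OddChars.classInner_indFun_self (L := ↥M) θ.2
        rwa [classInner_irr_self (hno θ hθa), one_mul] at e
      have horb' := Nat.cast_inj.1 horb
      have himg : (S.filter fun θ' : IrrCharacter (K.subgroupOf M) => indFun (K.subgroupOf M) (θ' : (K.subgroupOf M) → ℂ) = indFun (K.subgroupOf M) (θ : (K.subgroupOf M) → ℂ)).image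
          (fun θ' : IrrCharacter (K.subgroupOf M) => (θ' : (K.subgroupOf M) → ℂ)) = Char.orbit (G := ↥M) (θ : (K.subgroupOf M) → ℂ) := by
        ext φ
        simp only [Finset.mem_image, Finset.mem_filter, hS, Finset.mem_univ, true_and]
        constructor
        · rintro ⟨θ', ⟨-, he⟩, rfl⟩
          exact (OddChars.indFun_eq_iff θ.2 θ'.2).1 he.symm
        · intro hφ
          obtain ⟨g, rfl⟩ := mem_orbit.1 hφ
          refine ⟨⟨_, isIrr_conjFun g θ.2⟩, ⟨fun y => ?_, ?_⟩, rfl⟩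
          · show Char.conjFun g (θ : (K.subgroupOf M) → ℂ) y = Char.conjFun g (θ : (K.subgroupOf M) → ℂ) 1 * _
            rw [conjFun_apply_one, ← hθa y, conjFun_apply]
            refine congrArg _ (Subtype.ext ?_)
            show g * ((y : (K.subgroupOf M)) : ↥M) * g⁻¹ = ((y : (K.subgroupOf M)) : ↥M)
            exact mul_inv_eq_iff_eq_mul.2 (hMc _ y.2 g)
          · exact OddChars.indFun_conj g _
      have hconstdeg : ∀ θ' ∈ S.filter (fun θ' : IrrCharacter (K.subgroupOf M) => indFun (K.subgroupOf M) (θ' : (K.subgroupOf M) → ℂ) =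
          indFun (K.subgroupOf M) (θ : (K.subgroupOf M) → ℂ)), charDegree (θ' : (K.subgroupOf M) → ℂ) ^ 2 =
            charDegree (θ : (K.subgroupOf M) → ℂ) ^ 2 := by
        intro θ' hθ'
        obtain ⟨g, hg⟩ := mem_orbit.1 ((OddChars.indFun_eq_iff θ.2 θ'.2).1
          (Finset.mem_filter.1 hθ').2.symm)
        have e : ((θ' : (K.subgroupOf M) → ℂ) 1) = (θ : (K.subgroupOf M) → ℂ) 1 := by rw [← hg, conjFun_apply_one]
        rw [CharArith.charDegree_spec (IsIrr.isCharacter θ'.2),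
          CharArith.charDegree_spec (IsIrr.isCharacter θ.2)] at e
        rw [Nat.cast_inj.1 e]
      rw [Finset.sum_congr rfl hconstdeg, Finset.sum_const,
        ← Finset.card_image_of_injective _ Subtype.val_injective, himg, horb', smul_eq_mul]
      exact dvd_mul_right _ _
    have hsq : Nat.card (Z.subgroupOf (K.subgroupOf M)) * ∑ θ ∈ S, charDegree (θ : (K.subgroupOf M) → ℂ) ^ 2 = Nat.card (K.subgroupOf M) := by
      have e := fibre_sq hcen l
      simp only [CharArith.charDegree_spec (IsIrr.isCharacter (Subtype.prop _))] at e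
      exact_mod_cast e
    have h1 : Nat.card W₁ ∣ Nat.card K := by
      rw [← hindex, ← Nat.card_congr (Subgroup.subgroupOfEquivOfLe h.K_le).toEquiv, ← hsq]
      exact hdvd.mul_left _
    exact hWe (Nat.eq_one_of_dvd_coprimes hcop dvd_rfl h1)
  -- the fixed characters give distinct columns
  have hcol : ∀ {l : ↥(Z.subgroupOf (K.subgroupOf M)) →* ℂˣ}, l ≠ 1 → ∀ {θ : IrrCharacter (K.subgroupOf M)}, AboveHom (Z.subgroupOf (K.subgroupOf M)) l (θ : (K.subgroupOf M) → ℂ) →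
      ¬ IsIrrCharacter ↥M (indFun (K.subgroupOf M) (θ : (K.subgroupOf M) → ℂ)) →
      ∃ ψ : Right W₁ W₂, ψ.1 ≠ 1 ∧ indFun (K.subgroupOf M) (θ : (K.subgroupOf M) → ℂ) = colSum μ ψ := by
    intro l hl θ hθ hn
    rcases h.members _ (OddChars.mem_inducedIrrAbove.2 ⟨_, habove hl hθ, rfl⟩) with e | e
    · exact absurd e hn
    · exact e
  have hfixed : ∀ {θ : IrrCharacter (K.subgroupOf M)} {ψ : Right W₁ W₂},
      indFun (K.subgroupOf M) (θ : (K.subgroupOf M) → ℂ) = colSum μ ψ → ∀ θ' : IrrCharacter (K.subgroupOf M),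
      indFun (K.subgroupOf M) (θ' : (K.subgroupOf M) → ℂ) = colSum μ ψ → θ' = θ := by
    intro θ ψ he θ' he'
    have e := OddChars.classInner_indFun_self (L := ↥M) θ.2
    rw [he, h.col_inner, if_pos rfl, hindex] at e
    have h0 : (Nat.card W₁ : ℂ) ≠ 0 := Nat.cast_ne_zero.2 Nat.card_pos.ne'
    have h1 : (Char.orbit (G := ↥M) (θ : (K.subgroupOf M) → ℂ)).card = 1 := by
      exact_mod_cast mul_left_cancel₀ h0 (e.trans (mul_one _).symm)
    obtain ⟨a, ha⟩ := Finset.card_eq_one.1 h1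
    have h2 := (OddChars.indFun_eq_iff θ.2 θ'.2).1 (he.trans he'.symm)
    have h3 := Char.self_mem_orbit (G := ↥M) (θ : (K.subgroupOf M) → ℂ)
    rw [ha, Finset.mem_singleton] at h2 h3
    exact Subtype.ext (h2.trans h3.symm)
  obtain ⟨θ₀, hθ₀, hn₀⟩ := hex hl
  refine ⟨θ₀, hθ₀, hcol hl hθ₀ hn₀, fun θ hθ hne => by_contra fun hn => ?_⟩
  -- count the columns
  have : IsMulCommutative (Z.subgroupOf (K.subgroupOf M)) := ⟨⟨fun a b => Subtype.ext
    (Subgroup.mem_center_iff.1 (hcen b.2) a.1)⟩⟩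
  open scoped IsMulCommutative in
  have hhom : Nat.card (↥(Z.subgroupOf (K.subgroupOf M)) →* ℂˣ) = Nat.card W₂ := by
    rw [CommGroup.card_monoidHom_of_hasEnoughRootsOfUnity, ← hcard]
    exact Nat.card_congr (Subgroup.subgroupOfEquivOfLe hZK).toEquiv
  have : Finite (↥(Z.subgroupOf (K.subgroupOf M)) →* ℂˣ) := Nat.finite_of_card_ne_zero (hhom ▸ Nat.card_pos.ne')
  choose pick hpick hpickn using fun m : {m : ↥(Z.subgroupOf (K.subgroupOf M)) →* ℂˣ // m ≠ 1} => hex m.2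
  let sel : Option {m : ↥(Z.subgroupOf (K.subgroupOf M)) →* ℂˣ // m ≠ 1} → IrrCharacter (K.subgroupOf M) := fun o =>
    match o with
    | none => θ
    | some m => if m.1 = l then θ₀ else pick m
  let lab : Option {m : ↥(Z.subgroupOf (K.subgroupOf M)) →* ℂˣ // m ≠ 1} → {m : ↥(Z.subgroupOf (K.subgroupOf M)) →* ℂˣ // m ≠ 1} := fun o =>
    o.getD ⟨l, hl⟩
  have hsel : ∀ o, AboveHom (Z.subgroupOf (K.subgroupOf M)) (lab o).1 (sel o : (K.subgroupOf M) → ℂ) ∧
      ¬ IsIrrCharacter ↥M (indFun (K.subgroupOf M) (sel o : (K.subgroupOf M) → ℂ)) := by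
    rintro (_ | m)
    · exact ⟨hθ, hn⟩
    · show AboveHom (Z.subgroupOf (K.subgroupOf M)) m.1 ((if m.1 = l then θ₀ else pick m : IrrCharacter (K.subgroupOf M)) : (K.subgroupOf M) → ℂ) ∧ _
      by_cases e : m.1 = l
      · simp only [sel, if_pos e]; exact ⟨e ▸ hθ₀, hn₀⟩
      · simp only [sel, if_neg e]; exact ⟨hpick m, hpickn m⟩
  have hsinj : Function.Injective sel := by
    have huniq : ∀ o o', sel o = sel o' → (lab o).1 = (lab o').1 := fun o o' e =>
      AboveHom.unique (IsIrr.one_ne_zero (sel o).2) (hsel o).1 (by rw [e]; exact (hsel o').1)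
    rintro (_ | m) (_ | m') e
    · rfl
    · have e' : l = m'.1 := huniq none (some m') e
      simp only [sel, if_pos e'.symm] at e
      exact absurd e hne
    · have e' : m.1 = l := huniq (some m) none e
      simp only [sel, if_pos e'] at e
      exact absurd e.symm hne
    · exact congrArg some (Subtype.ext (huniq (some m) (some m') e))
  choose col hcol1 hcol2 using fun o => hcol (lab o).2 (hsel o).1 (hsel o).2
  have hinj : Function.Injective
      (fun o => (⟨col o, hcol1 o⟩ : {ψ : Right W₁ W₂ // ψ.1 ≠ 1})) := by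
    intro o o' e
    have e' : col o = col o' := congrArg Subtype.val e
    exact hsinj (hfixed (hcol2 o') (sel o) (e' ▸ hcol2 o))
  have hle := Nat.card_le_card_of_injective _ hinj
  rw [Finite.card_option] at hle
  have c1 : Nat.card {m : ↥(Z.subgroupOf (K.subgroupOf M)) →* ℂˣ // m ≠ 1} + 1 = Nat.card W₂ := by
    rw [← hhom, ← Nat.card_congr (Equiv.optionSubtypeNe (1 : ↥(Z.subgroupOf (K.subgroupOf M)) →* ℂˣ)), Finite.card_option]
  have c2 : Nat.card {ψ : Right W₁ W₂ // ψ.1 ≠ 1} + 1 = Nat.card W₂ := by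
    rw [← card_right h.selfN, ← Nat.card_eq_fintype_card,
      ← Nat.card_congr (Equiv.optionSubtypeNe (rightOne : Right W₁ W₂)), Finite.card_option]
    congr 1
    refine Nat.card_congr (Equiv.subtypeEquivRight fun ψ => ?_)
    exact ⟨fun h1 e => h1 (by rw [e]; rfl), fun h1 e => h1 (Subtype.ext e)⟩
  omega

end DegSys

end Cfsg.Agent.OddFinal
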