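import Cfsg.Agent.OddFinal.DegenerateBasic
import Cfsg.Agent.OddFinal.DegenerateCentral
import Cfsg.Agent.Char.OddCorr.Inertial

/-!
# The congruences at a member with nilpotent derived subgroup

The standing hypotheses `Degen` supply what the congruences of `DegenerateCong` and
`DegenerateCentral` use.
-/

set_option autoImplicit false
set_option linter.unusedSectionVars false

namespace Cfsg.Agent.OddFinal

open Cfsg Char CyclicTI
open scoped ComplexConjugate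
open scoped _root_.Classical

universe u

namespace Degen

variable {G : Type u} [Group G] [Fintype G] {M W₁ W₂ : Subgroup G} [Fintype ↥M]
  (h : Degen M W₁ W₂)

include h

theorem kin_lt_top : kin M < ⊤ := by
  refine lt_of_le_of_ne le_top fun e => ?_
  have h1 := h.index_kin
  rw [e, Subgroup.index_top] at h1
  have := h.card_W₁_three
  omega

theorem coprime_W₁ : (Nat.card W₁).Coprime (Nat.card ↥⁅M, M⁆) := by
  have h1 := h.pair.coprime
  rwa [Nat.card_congr (Subgroup.subgroupOfEquivOfLe h.W₁_le).toEquiv,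
    Nat.card_congr (Subgroup.subgroupOfEquivOfLe (derived_le M)).toEquiv] at h1

theorem W₂_le_derived_kin : W₂.subgroupOf M ≤ ⁅kin M, kin M⁆ := by
  intro x hx
  have h1 : (x : G) ∈ (⁅kin M, kin M⁆).map M.subtype := by
    rw [Subgroup.map_commutator, Subgroup.map_subgroupOf_eq_of_le (derived_le M)]
    exact h.W₂_derived hx
  obtain ⟨y, hy, e⟩ := Subgroup.mem_map.1 h1
  rwa [← show y = x from Subtype.ext e]

/-- `W` outside `W₂` splits with a nontrivial part in `W₁`. -/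
theorem split_outside {w : M} (hw : (w : G) ∈ W₁ ⊔ W₂) (hw2 : (w : G) ∉ W₂) :
    ∃ a b : M, (a : G) ∈ W₁ ∧ (b : G) ∈ W₂ ∧ a ≠ 1 ∧ w = a * b := by
  obtain ⟨a, ha, b, hb, e⟩ := (CyclicTI.mem_sup_iff h.selfNorm.2.2.2.1).1 hw
  refine ⟨⟨a, h.W₁_le ha⟩, ⟨b, h.W₂_le hb⟩, ha, hb, fun e1 => hw2 ?_, Subtype.ext e.symm⟩
  rw [← e, show a = 1 from congrArg Subtype.val e1, one_mul]
  exact hb

/-- An element of `K` fixed by a nontrivial element of `W₁` lies in `W₂`. -/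
theorem mem_W₂_of_commute {a c : M} (ha : (a : G) ∈ W₁) (ha1 : a ≠ 1) (hc : c ∈ kin M)
    (hac : c * a = a * c) : (c : G) ∈ W₂ := by
  rw [← h.W₂_centralizer _ ha fun e => ha1 (Subtype.ext e)]
  exact ⟨Subgroup.mem_subgroupOf.1 hc,
    Subgroup.mem_centralizer_singleton_iff.2 (congrArg Subtype.val hac)⟩

/-- `M / K'` is a Frobenius group with kernel `K / K'`. -/
theorem frobenius_mod : ∀ k ∈ kin M, k ∉ ⁅kin M, kin M⁆ → ∀ x : ↥M,
    x * k * x⁻¹ * k⁻¹ ∈ ⁅kin M, kin M⁆ → x ∈ kin M := by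
  intro k hk hkD x hx
  by_contra hxK
  set D := ⁅kin M, kin M⁆ with hD
  have hDn : D.Normal := Subgroup.commutator_normal _ _
  obtain ⟨m, w, hw, hw2, rfl⟩ := h.exists_conj hxK
  obtain ⟨a, b, ha, hb, ha1, rfl⟩ := h.split_outside hw hw2
  set k' := m⁻¹ * k * m with hk'
  have hk'K : k' ∈ kin M := by simpa [hk'] using (normal_kin M).conj_mem k hk m⁻¹
  let π := QuotientGroup.mk' D
  have hπ : ∀ y : M, π y = 1 ↔ y ∈ D := fun y => QuotientGroup.eq_one_iff y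
  have hb1 : π b = 1 := (hπ b).2 (h.W₂_le_derived_kin hb)
  have hcomm : π a * π k' * (π a)⁻¹ = π k' := by
    have h1 := (hπ _).2 hx
    simp only [map_mul, map_inv, hb1, mul_one] at h1
    rw [mul_inv_eq_one] at h1
    simp only [hk', map_mul, map_inv]
    calc π a * ((π m)⁻¹ * π k * π m) * (π a)⁻¹
        = (π m)⁻¹ * (π m * π a * (π m)⁻¹ * π k * (π m * π a * (π m)⁻¹)⁻¹) * π m := by group
      _ = (π m)⁻¹ * π k * π m := by rw [h1]
  have : Finite (Subgroup.zpowers a) := inferInstance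
  let act : Subgroup.zpowers a →* MulAut (kin M) :=
    (MulAut.conjNormal (H := kin M)).comp (Subgroup.zpowers a).subtype
  have hnilD : Group.IsSolvable (D.subgroupOf (kin M)) := by
    have := h.nil
    have : Group.IsNilpotent (kin M) :=
      Group.nilpotent_of_mulEquiv (Subgroup.subgroupOfEquivOfLe (derived_le M)).symm
    infer_instance
  have hcop : (Nat.card (kin M)).Coprime (Nat.card (Subgroup.zpowers a)) := by
    rw [Nat.card_congr (Subgroup.subgroupOfEquivOfLe (derived_le M)).toEquiv, Nat.coprime_comm,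
      Nat.card_zpowers, ← Subgroup.orderOf_coe]
    exact h.coprime_W₁.coprime_dvd_left (Subgroup.orderOf_dvd_natCard W₁ ha)
  obtain ⟨c, hc, hkc⟩ := Char.OddCorr.exists_fixed_coset act (D.subgroupOf (kin M))
    (fun t n hn => by
      show ((MulAut.conjNormal (t : M) : MulAut (kin M)) n : M) ∈ D
      rw [MulAut.conjNormal_apply]
      exact hDn.conj_mem _ hn _)
    hcop hnilD ⟨k', hk'K⟩ (fun t => by
      show ((⟨k', hk'K⟩ : kin M)⁻¹ : M) * ((MulAut.conjNormal (t : M) : MulAut (kin M))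
        ⟨k', hk'K⟩ : M) ∈ D
      rw [MulAut.conjNormal_apply, ← hπ]
      obtain ⟨i, hi⟩ := Subgroup.mem_zpowers_iff.1 t.2
      have hC : Commute (π a) (π k') := by
        show π a * π k' = π k' * π a
        have := congrArg (· * π a) hcomm
        simpa using this
      rw [← hi, map_mul, map_mul, map_mul, map_inv, map_inv, map_zpow,
        (hC.zpow_left i).eq, mul_inv_cancel_right, inv_mul_cancel])
  have hca : ((c : kin M) : M) * a = a * ((c : kin M) : M) := by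
    have e := congrArg (fun y : kin M => (y : M)) (hc ⟨a, Subgroup.mem_zpowers a⟩)
    simp only [act, MonoidHom.comp_apply, Subgroup.coe_subtype, MulAut.conjNormal_apply] at e
    exact (mul_inv_eq_iff_eq_mul.1 e).symm
  have hcD : (c : M) ∈ D :=
    h.W₂_le_derived_kin (Subgroup.mem_subgroupOf.2 (h.mem_W₂_of_commute ha ha1 c.2 hca))
  have hk'D : k' ∈ D := by
    have e : k'⁻¹ * (c : M) ∈ D := hkc
    simpa using D.mul_mem hcD (D.inv_mem e)
  refine hkD ?_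
  have := hDn.conj_mem k' hk'D m
  simpa [hk', mul_assoc] using this

/-- `M ∖ K` acts without fixed points on a central subgroup of `K` meeting `W₂` trivially. -/
theorem fixed_free {Z : Subgroup ↥M} [Z.Normal] (hZK : Z ≤ kin M)
    (hZc : ∀ z ∈ Z, ∀ k ∈ kin M, z * k = k * z) (hZW : Z ⊓ W₂.subgroupOf M = ⊥) :
    ∀ g : ↥M, g ∉ kin M → ∀ z ∈ Z, g * z * g⁻¹ = z → z = 1 := by
  intro g hg z hz he
  obtain ⟨m, w, hw, hw2, rfl⟩ := h.exists_conj hg
  obtain ⟨a, b, ha, hb, ha1, rfl⟩ := h.split_outside hw hw2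
  obtain ⟨z', hz'⟩ : ∃ z', z' = m⁻¹ * z * m := ⟨_, rfl⟩
  have hz'Z : z' ∈ Z := by simpa [hz'] using (inferInstance : Z.Normal).conj_mem z hz m⁻¹
  have hbz : b * z' = z' * b := (hZc z' hz'Z b (h.W₂_le_derived hb)).symm
  have haz : z' * a = a * z' := by
    have h1 : a * b * z' = z' * (a * b) := by
      calc a * b * z' = m⁻¹ * (m * (a * b) * m⁻¹ * z * (m * (a * b) * m⁻¹)⁻¹) * m * (a * b) := by
            rw [hz']; group
        _ = z' * (a * b) := by rw [he, hz']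
    rw [mul_assoc, hbz, ← mul_assoc, ← mul_assoc] at h1
    exact (mul_right_cancel h1).symm
  have : z' ∈ Z ⊓ W₂.subgroupOf M :=
    ⟨hz'Z, Subgroup.mem_subgroupOf.2 (h.mem_W₂_of_commute ha ha1 (hZK hz'Z) haz)⟩
  rw [hZW, Subgroup.mem_bot, hz'] at this
  calc z = m * (m⁻¹ * z * m) * m⁻¹ := by group
    _ = 1 := by rw [this]; group

/-- A central `W₂` is centralised by all of `M`. -/
theorem centralises (hc : ∀ z ∈ W₂.subgroupOf M, ∀ k ∈ kin M, z * k = k * z) :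
    ∀ z ∈ W₂.subgroupOf M, ∀ m : ↥M, m * z = z * m := by
  intro z hz m
  obtain ⟨k, hk, a, ha, rfl⟩ := Subgroup.mem_sup_of_normal_left.1
    (show m ∈ kin M ⊔ W₁.subgroupOf M from h.pair.sup ▸ Subgroup.mem_top m)
  rw [mul_assoc, h.pair.comm a ha z hz, ← mul_assoc, ← hc z hz k hk, mul_assoc]

theorem normal_W₂ (hc : ∀ z ∈ W₂.subgroupOf M, ∀ k ∈ kin M, z * k = k * z) :
    (W₂.subgroupOf M).Normal :=
  ⟨fun z hz g => by rw [h.centralises hc z hz g, mul_inv_cancel_right]; exact hz⟩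

theorem disjoint_sharp : Disjoint (sharp ⁅M, M⁆) (conjIn M (vSet W₁ W₂)) := by
  rw [Set.disjoint_left]
  rintro g hg ⟨m, hm, v, hv, rfl⟩
  refine h.not_mem_kin (w := ⟨v, h.W_le hv.1⟩) hv.1 hv.2.2 ?_
  have h1 : (⟨m * v * m⁻¹, M.mul_mem (M.mul_mem hm (h.W_le hv.1)) (M.inv_mem hm)⟩ : M) ∈ kin M :=
    Subgroup.mem_subgroupOf.2 hg.1
  have h2 := (normal_kin M).conj_mem _ h1 (⟨m, hm⟩ : M)⁻¹
  convert h2 using 1
  ext
  simp [mul_assoc]

variable {μ : (↥(W₁ ⊔ W₂) →* ℂˣ) → ↥M → ℂ} {η : (↥(W₁ ⊔ W₂) →* ℂˣ) → G → ℂ}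
  {δ : Right W₁ W₂ → ℤ} {d : Right W₁ W₂ → ℕ}

/-- The coherence data of the member. -/
theorem toDegSys (hμ : Chars (M := M) (W₁ := W₁) (W₂ := W₂) μ δ d)
    (hη : IsCyclicTIFamily W₁ W₂ η)
    (hmem : ∀ χ ∈ inducedIrrAbove (kin M) ⊥, IsIrrCharacter ↥M χ ∨
      ∃ ψ : Right W₁ W₂, ψ.1 ≠ 1 ∧ χ = colSum μ ψ)
    (hconj : ∀ ψ : Right W₁ W₂, ψ.1 ≠ 1 →
      Cfsg.conjFun (colSum μ ψ) = colSum μ (rightInv ψ))
    (htau : ∀ (φ : Left W₁ W₂) (ψ : Right W₁ W₂), ψ.1 ≠ 1 →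
      indFun M (μ (φ.1 * ψ.1) - μ (φ.1 * ψ.1⁻¹)) =
        (δ ψ : ℂ) • (η (φ.1 * ψ.1) - η (φ.1 * ψ.1⁻¹))) :
    DegSys M W₁ W₂ ⁅M, M⁆ μ η where
  selfN := h.selfNorm
  odd := h.oddG
  fam := hη
  K_le := derived_le M
  K_normal := normal_kin M
  K_solv := by have := h.nil; infer_instance
  K_ne := fun e => h.W₂_ne (le_bot_iff.1 (e ▸ h.W₂_le_derived))
  dade := h.dade
  disjoint := h.disjoint_sharp
  irr_mu := hμ.irr
  mu_inj := hμ.inj
  members := hmem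
  conj_col := hconj
  tau_col := fun ψ hψ => ⟨δ ψ, hμ.sign ψ, by
    simp only [colSum, ← Finset.sum_sub_distrib, Finset.smul_sum]
    rw [Char.indFun_sum]
    exact Finset.sum_congr rfl fun φ _ => htau φ ψ hψ⟩

/-- A Sylow subgroup of `G` inside `K` for each prime divisor of `|K|`. -/
theorem exists_sylow {s : ℕ} [hs : Fact s.Prime] (hdvd : s ∣ Nat.card ↥⁅M, M⁆) :
    ∃ P : Sylow s G, (P : Subgroup G) ≤ ⁅M, M⁆ ∧
      ∀ y ∈ ⁅M, M⁆, (∃ k : ℕ, orderOf y = s ^ k) → y ∈ (P : Subgroup G) := by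
  set K := ⁅M, M⁆ with hK
  have := h.nil
  obtain ⟨S⟩ : Nonempty (Sylow s K) := inferInstance
  have hSn : (S : Subgroup K).Normal :=
    Sylow.normal_of_normalizerCondition Group.normalizerCondition_of_isNilpotent S
  have huniq : ∀ y : K, (∃ k : ℕ, orderOf y = s ^ k) → y ∈ (S : Subgroup K) := by
    rintro y ⟨k, hk⟩
    obtain ⟨Q, hQ⟩ := (IsPGroup.of_card (n := k) (by rw [Nat.card_zpowers, hk]) :
      IsPGroup s (Subgroup.zpowers y)).exists_le_sylow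
    have := Sylow.unique_of_normal S hSn
    rw [Subsingleton.elim Q S] at hQ
    exact hQ (Subgroup.mem_zpowers y)
  set P₀ := (S : Subgroup K).map K.subtype with hP₀
  have hP₀K : P₀ ≤ K := Subgroup.map_subtype_le _
  have hP₀ne : ∃ a ∈ P₀, a ≠ 1 := by
    obtain ⟨a, ha⟩ := exists_prime_orderOf_dvd_card' s hdvd
    refine ⟨a, Subgroup.mem_map_of_mem _ (huniq a ⟨1, by rw [pow_one, ha]⟩), fun e => ?_⟩
    rw [show a = 1 from Subtype.ext e, orderOf_one] at ha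
    exact hs.out.ne_one ha.symm
  obtain ⟨Q, hQ⟩ := (S.2.map K.subtype : IsPGroup s P₀).exists_le_sylow
  have hQP : (Q : Subgroup G) = P₀ := by
    by_contra hne
    have hlt : P₀.subgroupOf (Q : Subgroup G) < ⊤ :=
      lt_top_iff_ne_top.2 fun e => hne (le_antisymm (fun y hy => by
        have : (⟨y, hy⟩ : (Q : Subgroup G)) ∈ P₀.subgroupOf (Q : Subgroup G) := by
          rw [e]; exact Subgroup.mem_top _
        exact this) hQ)
    have : Group.IsNilpotent (Q : Subgroup G) := Q.2.isNilpotent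
    obtain ⟨y, hy, hynot⟩ :=
      SetLike.exists_of_lt (Group.normalizerCondition_of_isNilpotent _ hlt)
    obtain ⟨a, ha, ha1⟩ := hP₀ne
    have hconj : (y : G) * a * (y : G)⁻¹ ∈ P₀ :=
      (Subgroup.mem_normalizer_iff.1 hy ⟨a, hQ ha⟩).1 ha
    have hyM : (y : G) ∈ M := mem_of_conj h.dade (Or.inl ⟨hP₀K ha, ha1⟩)
      (Or.inl ⟨hP₀K hconj, fun e => ha1 (conj_eq_one_iff.1 e)⟩)
    obtain ⟨k, hk⟩ := IsPGroup.iff_orderOf.1 Q.2 y
    rw [← Subgroup.orderOf_coe] at hk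
    have hyK : (y : G) ∈ K := by
      have e1 : orderOf (QuotientGroup.mk' (kin M) (⟨y, hyM⟩ : M)) ∣ s ^ k := by
        rw [← hk, show orderOf ((y : G)) = orderOf (⟨y, hyM⟩ : M) from
          Subgroup.orderOf_coe (⟨y, hyM⟩ : M)]
        exact orderOf_map_dvd _ _
      have e2 := orderOf_dvd_natCard (QuotientGroup.mk' (kin M) (⟨y, hyM⟩ : M))
      rw [← Subgroup.index_eq_card, h.index_kin] at e2
      have hcop : (s ^ k).Coprime (Nat.card W₁) :=
        Nat.Coprime.pow_left k (Nat.coprime_comm.1 (h.coprime_W₁.coprime_dvd_right hdvd))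
      exact (QuotientGroup.eq_one_iff (⟨y, hyM⟩ : M)).1
        (orderOf_eq_one_iff.1 (Nat.eq_one_of_dvd_coprimes hcop e1 e2))
    refine hynot (Subgroup.mem_map.2 ⟨⟨y, hyK⟩, huniq _ ⟨k, ?_⟩, rfl⟩)
    rw [← Subgroup.orderOf_coe]
    exact hk
  refine ⟨Q, hQP ▸ hP₀K, fun y hy ⟨k, hk⟩ => ?_⟩
  rw [hQP]
  exact Subgroup.mem_map.2 ⟨⟨y, hy⟩, huniq _ ⟨k, by rw [← Subgroup.orderOf_coe]; exact hk⟩, rfl⟩

/-- The integer ratio at a central subgroup meeting `W₂` trivially. -/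
theorem kappa (hS : DegSys M W₁ W₂ ⁅M, M⁆ μ η) {Z : Subgroup ↥M} [Z.Normal] (hZ1 : Z ≠ ⊥)
    (hZK : Z ≤ kin M) (hZc : ∀ z ∈ Z, ∀ k ∈ kin M, z * k = k * z)
    (hZW : Z ⊓ W₂.subgroupOf M = ⊥) {s : ℕ} [Fact s.Prime] (hZs : IsPGroup s Z)
    {ζ : ↥M → ℂ} (hζ : ζ ∈ inducedIrrAbove (kin M) Z) (hζi : IsIrrCharacter ↥M ζ)
    {χ : G → ℂ} (hχ : Coherence.SIrr G χ)
    (hτ : χ - Cfsg.conjFun χ = indFun M (ζ - Cfsg.conjFun ζ)) :
    ∃ κ : ℤ, (∀ θ : IrrCharacter (kin M),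
      (∃ z ∈ Z.subgroupOf (kin M), (θ : kin M → ℂ) z ≠ (θ : kin M → ℂ) 1) →
      classInner (fun k : kin M => χ ((k : ↥M) : G)) (θ : kin M → ℂ) =
        (κ : ℂ) * (θ : kin M → ℂ) 1) ∧
      ∀ z ∈ Z, z ≠ 1 → χ 1 - χ (z : G) = (κ : ℂ) * (Nat.card ↥⁅M, M⁆ : ℂ) := by
  obtain ⟨z, hz, hz1⟩ := (Subgroup.bot_or_exists_ne_one Z).resolve_left hZ1
  have hdvd : s ∣ Nat.card ↥⁅M, M⁆ := by
    obtain ⟨k, hk⟩ := IsPGroup.iff_orderOf.1 hZs ⟨z, hz⟩
    have hk0 : k ≠ 0 := fun e => hz1 (congrArg Subtype.val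
      (orderOf_eq_one_iff.1 (by rw [hk, e, pow_zero]) : (⟨z, hz⟩ : Z) = 1))
    refine (dvd_pow_self s hk0).trans ?_
    rw [← hk, ← Subgroup.orderOf_coe, ← Subgroup.orderOf_coe]
    exact Subgroup.orderOf_dvd_natCard _ (hZK hz)
  obtain ⟨P, hPK, hP⟩ := h.exists_sylow hdvd
  refine hS.exists_kappa h.nil h.kin_lt_top h.frobenius_mod hZ1 hZK hZc (h.fixed_free hZK hZc hZW)
    P hPK (fun x hx => ?_) hζ hζi hχ hτ
  obtain ⟨k, hk⟩ := IsPGroup.iff_orderOf.1 hZs ⟨x, hx⟩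
  exact hP _ (hZK hx) ⟨k, by rw [← hk, ← Subgroup.orderOf_coe, ← Subgroup.orderOf_coe]; rfl⟩

/-- With a central `W₂` the weighted sums over the fibres are divisible by `|K : W₂|`. -/
theorem central_cong (hS : DegSys M W₁ W₂ ⁅M, M⁆ μ η)
    (hc : ∀ z ∈ W₂.subgroupOf M, ∀ k ∈ kin M, z * k = k * z) {s : ℕ} [Fact s.Prime]
    (hKs : IsPGroup s ↥⁅M, M⁆)
    {χ : G → ℂ} (hχ : Coherence.SIrr G χ)
    (hconst : ∀ z ∈ W₂.subgroupOf M, ∀ z' ∈ W₂.subgroupOf M, z ≠ 1 → z' ≠ 1 →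
      χ (z : G) = χ (z' : G))
    {l : ↥((W₂.subgroupOf M).subgroupOf (kin M)) →* ℂˣ} (hl : l ≠ 1) :
    ∃ w : ℤ, ∑ θ ∈ Finset.univ.filter (fun θ : IrrCharacter (kin M) =>
        AboveHom ((W₂.subgroupOf M).subgroupOf (kin M)) l (θ : kin M → ℂ)),
        (θ : kin M → ℂ) 1 *
          classInner (fun k : kin M => χ ((k : ↥M) : G)) (θ : kin M → ℂ) =
      ((((W₂.subgroupOf M).subgroupOf (kin M)).index : ℤ) * w : ℤ) := by
  have := h.normal_W₂ hc
  have hdvd : s ∣ Nat.card ↥⁅M, M⁆ := by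
    obtain ⟨n, hn⟩ := IsPGroup.iff_card.1 hKs
    rw [hn]
    refine dvd_pow_self s fun e => ?_
    rw [e, pow_zero] at hn
    exact h.W₂_ne (le_bot_iff.1 ((Subgroup.card_eq_one.1 hn) ▸ h.W₂_le_derived))
  obtain ⟨P, hPK, hP⟩ := h.exists_sylow hdvd
  have hPK' : (P : Subgroup G) = ⁅M, M⁆ := le_antisymm hPK fun y hy => hP y hy (by
    obtain ⟨k, hk⟩ := IsPGroup.iff_orderOf.1 hKs ⟨y, hy⟩
    exact ⟨k, by rw [← hk, ← Subgroup.orderOf_coe]⟩)
  exact hS.fibre_cong h.nil (fun x hx => h.W₂_le_derived hx) hc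
    (fun e => h.W₂_ne (le_bot_iff.1 fun x hx => by
      have : (⟨x, h.W₂_le hx⟩ : M) ∈ W₂.subgroupOf M := hx
      rw [e, Subgroup.mem_bot] at this
      exact congrArg Subtype.val this))
    P hPK' hχ hconst hl

/-- With a central `W₂` exactly one character over each nontrivial `l` is fixed. -/
theorem central_fixed (hS : DegSys M W₁ W₂ ⁅M, M⁆ μ η)
    (hc : ∀ z ∈ W₂.subgroupOf M, ∀ k ∈ kin M, z * k = k * z)
    {l : ↥((W₂.subgroupOf M).subgroupOf (kin M)) →* ℂˣ} (hl : l ≠ 1) :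
    ∃ θ₀ : IrrCharacter (kin M),
      AboveHom ((W₂.subgroupOf M).subgroupOf (kin M)) l (θ₀ : kin M → ℂ) ∧
      (∃ ψ : Right W₁ W₂, ψ.1 ≠ 1 ∧ indFun (kin M) (θ₀ : kin M → ℂ) = colSum μ ψ) ∧
      ∀ θ : IrrCharacter (kin M),
        AboveHom ((W₂.subgroupOf M).subgroupOf (kin M)) l (θ : kin M → ℂ) → θ ≠ θ₀ →
        IsIrrCharacter ↥M (indFun (kin M) (θ : kin M → ℂ)) :=
  hS.fibre_fixed (fun x hx => h.W₂_le_derived hx) (h.centralises hc)
    (Nat.card_congr (Subgroup.subgroupOfEquivOfLe h.W₂_le).toEquiv) h.index_kin h.coprime_W₁ hl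

/-- With a central `W₂` the squares of the degrees over `l` add up to `|K : W₂|`. -/
theorem central_sq (hc : ∀ z ∈ W₂.subgroupOf M, ∀ k ∈ kin M, z * k = k * z)
    (l : ↥((W₂.subgroupOf M).subgroupOf (kin M)) →* ℂˣ) :
    ∑ θ ∈ Finset.univ.filter (fun θ : IrrCharacter (kin M) =>
        AboveHom ((W₂.subgroupOf M).subgroupOf (kin M)) l (θ : kin M → ℂ)),
        (θ : kin M → ℂ) 1 ^ 2 = (((W₂.subgroupOf M).subgroupOf (kin M)).index : ℂ) := by
  refine mul_left_cancel₀ (a := (Nat.card ((W₂.subgroupOf M).subgroupOf (kin M)) : ℂ))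
    (Nat.cast_ne_zero.2 Nat.card_pos.ne') ?_
  rw [fibre_sq (Z := (W₂.subgroupOf M).subgroupOf (kin M)) (fun y hy =>
    Subgroup.mem_center_iff.2 fun k =>
    Subtype.ext (hc _ hy _ k.2).symm) l, ← Nat.cast_mul, Subgroup.card_mul_index]

end Degen

end Cfsg.Agent.OddFinal
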