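import Cfsg.Agent.OddFinal.Side
import Cfsg.Agent.Char.Induced

/-!
# Induction from a trivial intersection set, and the mass of a function on a set
-/

set_option autoImplicit false
set_option linter.unusedSectionVars false

namespace Cfsg.Agent.OddFinal

open Cfsg Char
open scoped ComplexConjugate
open scoped _root_.Classical

universe u

variable {G : Type u} [Group G] [Fintype G] {M : Subgroup G} {A : Set G}
variable (hD : DadeHypothesis A M (fun _ => (⊥ : Subgroup G)))

include hD

theorem mem_of_conj {a x : G} (ha : a ∈ A) (hx : x * a * x⁻¹ ∈ A) : x ∈ M := by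
  obtain ⟨m, hm, he⟩ := hD.fusion a ha x hx
  have h1 : m⁻¹ * x ∈ Subgroup.centralizer ({a} : Set G) := by
    rw [Subgroup.mem_centralizer_singleton_iff]
    calc m⁻¹ * x * a = m⁻¹ * (x * a * x⁻¹) * x := by group
      _ = m⁻¹ * (m * a * m⁻¹) * x := by rw [he]
      _ = a * (m⁻¹ * x) := by group
  rw [← hD.sup_eq a ha, bot_sup_eq] at h1
  simpa using M.mul_mem hm h1.1

theorem conjAll_conj {g x : G} (hg : g ∈ conjAll A) : x * g * x⁻¹ ∈ conjAll A := by
  obtain ⟨y, a, ha, rfl⟩ := hg
  exact ⟨x * y, a, ha, by group⟩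

theorem indFun_eq_zero {f : ↥M → ℂ} (hf : ∀ x : M, (x : G) ∉ A → f x = 0) {g : G}
    (hg : g ∉ conjAll A) : indFun M f g = 0 := by
  rw [indFun_apply, Finset.sum_eq_zero, mul_zero]
  intro x _
  by_cases hx : x⁻¹ * g * x ∈ M
  · rw [extendByZero_of_mem M f hx]
    exact hf ⟨_, hx⟩ fun h => hg ⟨x, _, h, by group⟩
  · rw [extendByZero_of_not_mem M f hx]

theorem indFun_coe [Fintype ↥M] {f : ↥M → ℂ} (hc : IsClassFunction ↥M f)
    (hf : ∀ x : M, (x : G) ∉ A → f x = 0) {a : ↥M} (ha : (a : G) ∈ A) :
    indFun M f a = f a := by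
  rw [indFun_apply]
  have h1 : ∀ x : G, extendByZero M f (x⁻¹ * (a : G) * x) = if x ∈ M then f a else 0 := by
    intro x
    by_cases hx : x ∈ M
    · rw [if_pos hx]
      have h2 : x⁻¹ * (a : G) * x ∈ M := M.mul_mem (M.mul_mem (M.inv_mem hx) a.2) hx
      rw [extendByZero_of_mem M f h2]
      have := hc a ⟨x⁻¹, M.inv_mem hx⟩
      convert this using 2
      ext; simp
    · rw [if_neg hx]
      by_cases h2 : x⁻¹ * (a : G) * x ∈ M
      · rw [extendByZero_of_mem M f h2]
        refine hf ⟨_, h2⟩ fun h => hx ?_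
        have := mem_of_conj hD ha (x := x⁻¹) (by simpa using h)
        simpa using M.inv_mem this
      · rw [extendByZero_of_not_mem M f h2]
  simp only [h1, Finset.sum_ite, Finset.sum_const_zero, add_zero, Finset.sum_const, nsmul_eq_mul]
  rw [show (Finset.univ.filter (· ∈ M)).card = Nat.card M by
    rw [Nat.card_eq_fintype_card, Fintype.card_subtype], ← mul_assoc,
    inv_mul_cancel₀ (Nat.cast_ne_zero.2 Nat.card_pos.ne'), one_mul]

theorem inner_ind [Fintype ↥M] {f f' : ↥M → ℂ} (hc : IsClassFunction ↥M f)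
    (hf : ∀ x : M, (x : G) ∉ A → f x = 0) (hf' : ∀ x : M, (x : G) ∉ A → f' x = 0) :
    classInner (indFun M f') (indFun M f) = classInner f' f := by
  rw [classInner_indFun_left M f' (isClassFunction_indFun M f)]
  simp only [classInner]
  congr 1
  refine Finset.sum_congr rfl fun x _ => ?_
  by_cases hx : (x : G) ∈ A
  · rw [indFun_coe hD hc hf hx]
  · rw [hf' x hx, zero_mul, zero_mul]

/-- The lower bound for the mass of `Y` given by one test function. -/
theorem projection_ind [Fintype ↥M] {f : ↥M → ℂ} (hc : IsClassFunction ↥M f)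
    (hf : ∀ x : M, (x : G) ∉ A → f x = 0) (Y : G → ℂ) :
    ‖classInner (indFun M f) Y‖ ^ 2 ≤ (classInner f f).re * mass (conjAll A) Y := by
  rw [← inner_ind hD hc hf hf]
  exact norm_classInner_sq_le (fun g hg => indFun_eq_zero hD hf hg) Y

/-- The measure of the conjugates of a trivial intersection set. -/
theorem ncard_conjAll [Fintype ↥M] :
    (conjAll A).ncard * Nat.card M = A.ncard * Nat.card G := by
  let f : ↥M → ℂ := fun x => if (x : G) ∈ A then 1 else 0
  have hc : IsClassFunction ↥M f := fun g k => by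
    have hiff : (k : G) * g * (k : G)⁻¹ ∈ A ↔ (g : G) ∈ A := by
      refine ⟨fun h => ?_, fun h => hD.conj_mem k k.2 g h⟩
      have := hD.conj_mem _ (M.inv_mem k.2) _ h
      simpa [mul_assoc] using this
    simp only [f, Subgroup.coe_mul, Subgroup.coe_inv, hiff]
  have hf : ∀ x : M, (x : G) ∉ A → f x = 0 := fun x hx => if_neg hx
  have h := inner_ind hD hc hf hf
  have hv : ∀ g, indFun M f g = if g ∈ conjAll A then 1 else 0 := fun g => by
    split_ifs with hg
    · obtain ⟨y, a, ha, rfl⟩ := hg
      rw [isClassFunction_indFun M f a y, indFun_coe hD hc hf (a := ⟨a, hD.subset ha⟩) ha]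
      exact if_pos ha
    · exact indFun_eq_zero hD hf hg
  have e1 : classInner (indFun M f) (indFun M f) = (Nat.card G : ℂ)⁻¹ * (conjAll A).ncard := by
    simp only [classInner, hv]
    congr 1
    rw [Set.ncard_eq_toFinset_card', Finset.card_eq_sum_ones, Nat.cast_sum, Nat.cast_one,
      ← Finset.sum_filter_add_sum_filter_not Finset.univ (· ∈ conjAll A)]
    rw [Finset.sum_eq_zero (s := Finset.univ.filter fun g => g ∉ conjAll A)
      (fun g hg => by rw [if_neg (Finset.mem_filter.1 hg).2]; simp), add_zero]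
    exact Finset.sum_congr (by ext; simp) fun g hg => by
      rw [if_pos (by simpa using hg)]; simp
  have hsub := hD.subset
  have e2 : classInner f f = (Nat.card M : ℂ)⁻¹ * A.ncard := by
    simp only [classInner, f]
    congr 1
    have h5 : A.ncard = Nat.card {x : M // (x : G) ∈ A} := by
      rw [← Nat.card_coe_set_eq]
      exact Nat.card_congr
        ⟨fun a => ⟨⟨a.1, hsub a.2⟩, a.2⟩, fun x => ⟨x.1.1, x.2⟩, fun _ => rfl, fun _ => rfl⟩
    rw [h5, Nat.card_eq_fintype_card, Fintype.card_subtype, Finset.card_eq_sum_ones,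
      Nat.cast_sum, Nat.cast_one, Finset.sum_filter]
    refine Finset.sum_congr rfl fun x _ => ?_
    split_ifs <;> simp
  rw [e1, e2] at h
  have hg : (Nat.card G : ℂ) ≠ 0 := Nat.cast_ne_zero.2 Nat.card_pos.ne'
  have hm : (Nat.card M : ℂ) ≠ 0 := Nat.cast_ne_zero.2 Nat.card_pos.ne'
  field_simp at h
  exact_mod_cast (by linear_combination h :
    ((conjAll A).ncard : ℂ) * Nat.card M = (A.ncard : ℂ) * Nat.card G)

/-- The proportion of `G` covered by the conjugates of a trivial intersection set. -/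
theorem mass_conjAll_one [Fintype ↥M] :
    mass (conjAll A) (fun _ => 1) = (A.ncard : ℝ) / Nat.card M := by
  rw [mass_one, Nat.card_coe_set_eq, div_eq_div_iff (Nat.cast_ne_zero.2 Nat.card_pos.ne')
    (Nat.cast_ne_zero.2 Nat.card_pos.ne')]
  exact_mod_cast ncard_conjAll hD

end Cfsg.Agent.OddFinal
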