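import Cfsg.Agent.OddFinal.Side
import Cfsg.Agent.OddFinal.Tau
import Cfsg.Agent.OddFinal.EtaUnique
import Cfsg.Agent.CyclicTI.PrimeChars
import Cfsg.Agent.CyclicTI.Semidirect

/-!
# A member with nilpotent derived subgroup: standing hypothesis and fixed characters

`Degen M W₁ W₂` is the degenerate member of the pair: `K = M'` is nilpotent, `W₁` is a cyclic
complement with `C_K(x) = W₂ ≤ K'` of prime order for all `x ≠ 1` in `W₁`, and
`K# ∪ V^M` is a trivial intersection set with normalizer `M`.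
`Degen.Chars μ δ d` records the characters `μ (φ ψ)` of `M` lying over the `W₁`-fixed characters
of `K`, with sign `δ ψ` and degree `d ψ`.
-/

set_option autoImplicit false
set_option linter.unusedSectionVars false

namespace Cfsg.Agent.OddFinal

open Cfsg Char CyclicTI
open scoped ComplexConjugate
open scoped _root_.Classical

universe u

variable {G : Type u} [Group G]

/-- The derived subgroup of `M`, inside `M`. -/
abbrev kin (M : Subgroup G) : Subgroup ↥M := (⁅M, M⁆).subgroupOf M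

/-- `K# ∪ V^M` for `K = M'`. -/
def aSet (M W₁ W₂ : Subgroup G) : Set G :=
  sharp ⁅M, M⁆ ∪ conjIn M (OddFinal.vSet W₁ W₂)

/-- A member with nilpotent derived subgroup. -/
structure Degen [Fintype G] (M W₁ W₂ : Subgroup G) [Fintype ↥M] : Prop where
  oddG : Odd (Nat.card G)
  maxM : IsCoatom M
  nil : Group.IsNilpotent ↥⁅M, M⁆
  W₁_ne : W₁ ≠ ⊥
  W₁_cyclic : IsCyclic W₁
  W₁_hall : (Nat.card W₁).Coprime (W₁.relIndex M)
  W₁_compl : IsComplIn ⁅M, M⁆ W₁ M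
  prime₂ : (Nat.card W₂).Prime
  W₂_derived : W₂ ≤ ⁅⁅M, M⁆, ⁅M, M⁆⁆
  W₂_centralizer : ∀ x ∈ W₁, x ≠ 1 → ⁅M, M⁆ ⊓ Subgroup.centralizer ({x} : Set G) = W₂
  selfNorm : IsSelfNormalizingCyclic W₁ W₂
  dade : DadeHypothesis (aSet M W₁ W₂) M (fun _ => (⊥ : Subgroup G))

namespace Degen

variable [Fintype G] {M W₁ W₂ : Subgroup G} [Fintype ↥M]

theorem derived_le (M : Subgroup G) : ⁅M, M⁆ ≤ M := Subgroup.commutator_le_self M

instance normal_kin (M : Subgroup G) : (kin M).Normal := by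
  constructor
  intro n hn g
  have h := Subgroup.mem_subgroupOf.1 hn
  refine Subgroup.mem_subgroupOf.2 ?_
  have hle : M ≤ Subgroup.normalizer (⁅M, M⁆ : Subgroup G) := fun x hx => by
    rw [Subgroup.mem_set_normalizer_iff]
    intro y
    have hmap : (⁅M, M⁆).map (MulAut.conj x).toMonoidHom = ⁅M, M⁆ := by
      rw [Subgroup.map_commutator]
      have hM : M.map (MulAut.conj x).toMonoidHom = M := by
        refine Subgroup.ext fun z => ⟨?_, fun hz => ⟨x⁻¹ * z * x, ?_, ?_⟩⟩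
        · rintro ⟨a, ha, rfl⟩
          exact M.mul_mem (M.mul_mem hx ha) (M.inv_mem hx)
        · exact M.mul_mem (M.mul_mem (M.inv_mem hx) hz) hx
        · simp [mul_assoc]
      rw [hM]
    constructor
    · intro hy
      have := Subgroup.mem_map_of_mem (MulAut.conj x).toMonoidHom hy
      rwa [hmap] at this
    · intro hy
      rw [← hmap] at hy
      obtain ⟨z, hz, hzy⟩ := hy
      simp only [MulEquiv.coe_toMonoidHom, MulAut.conj_apply] at hzy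
      rwa [← mul_left_cancel (mul_right_cancel hzy)]
  simpa using (Subgroup.mem_set_normalizer_iff.1 (hle g.2) n).1 h

variable (h : Degen M W₁ W₂)

include h

theorem W₁_le : W₁ ≤ M := h.W₁_compl.2.1

theorem W₂_le_derived : W₂ ≤ ⁅M, M⁆ :=
  h.W₂_derived.trans (Subgroup.commutator_le_self _)

theorem W₂_le : W₂ ≤ M := h.W₂_le_derived.trans (derived_le M)

theorem W_le : W₁ ⊔ W₂ ≤ M := sup_le h.W₁_le h.W₂_le

theorem inf_eq : ⁅M, M⁆ ⊓ W₁ = ⊥ := h.W₁_compl.2.2.1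

theorem sup_eq : ⁅M, M⁆ ⊔ W₁ = M := by
  refine le_antisymm (sup_le (derived_le M) h.W₁_le) fun m hm => ?_
  obtain ⟨a, ha, b, hb, rfl⟩ := h.W₁_compl.2.2.2 m hm
  exact Subgroup.mul_mem_sup ha hb

theorem odd_of (H : Subgroup G) : Odd (Nat.card H) :=
  Odd.of_dvd_nat h.oddG (Subgroup.card_subgroup_dvd_card H)

theorem oddW : Odd (Nat.card ↥(W₁ ⊔ W₂)) := h.odd_of _

theorem card_W₂_three : 3 ≤ Nat.card W₂ := by
  have h2 := h.prime₂.two_le
  rcases h2.lt_or_eq with h3 | h3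
  · exact h3
  · exact absurd (h.odd_of W₂) (by rw [← h3]; decide)

theorem W₂_ne : W₂ ≠ ⊥ := (Subgroup.one_lt_card_iff_ne_bot W₂).1 h.prime₂.one_lt

theorem card_W₁_three : 3 ≤ Nat.card W₁ := by
  have h1 : 1 < Nat.card W₁ := (Subgroup.one_lt_card_iff_ne_bot W₁).2 h.W₁_ne
  rcases Nat.lt_or_ge (Nat.card W₁) 3 with h2 | h2
  · exact absurd (h.odd_of W₁) (by rw [show Nat.card W₁ = 2 by omega]; decide)
  · exact h2

theorem inf_subgroupOf : kin M ⊓ W₁.subgroupOf M = ⊥ := by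
  rw [eq_bot_iff]
  rintro x ⟨h1, h2⟩
  have h3 : (x : G) ∈ ⁅M, M⁆ ⊓ W₁ := ⟨h1, h2⟩
  rw [h.inf_eq, Subgroup.mem_bot] at h3
  exact Subgroup.mem_bot.2 (Subtype.ext h3)

theorem card_eq : Nat.card M = Nat.card ↥⁅M, M⁆ * Nat.card W₁ := by
  have h1 : (kin M ⊓ W₁.subgroupOf M) = ⊥ := by
    exact h.inf_subgroupOf
  have h2 : kin M ⊔ W₁.subgroupOf M = ⊤ := by
    rw [← Subgroup.subgroupOf_sup (derived_le M) h.W₁_le, h.sup_eq, Subgroup.subgroupOf_self]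
  have h3 := (Subgroup.isComplement'_of_disjoint_and_mul_eq_univ (disjoint_iff.2 h1)
    (by rw [← Subgroup.normal_mul, h2, Subgroup.coe_top])).card_mul_card
  rw [← h3, Nat.card_congr (Subgroup.subgroupOfEquivOfLe (derived_le M)).toEquiv,
    Nat.card_congr (Subgroup.subgroupOfEquivOfLe h.W₁_le).toEquiv]

/-- The pair inside `M`. -/
theorem pair : PrimePair (kin M) (W₁.subgroupOf M) (W₂.subgroupOf M) := by
  refine ⟨?_, ?_, ?_, ?_, ?_, ?_, ?_, ?_, ?_, ?_⟩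
  · exact h.inf_subgroupOf
  · rw [← Subgroup.subgroupOf_sup (derived_le M) h.W₁_le, h.sup_eq, Subgroup.subgroupOf_self]
  · intro e
    rw [Subgroup.subgroupOf_eq_bot, disjoint_iff, inf_eq_left.2 h.W₁_le] at e
    exact h.W₁_ne e
  · have := h.W₁_cyclic
    exact isCyclic_of_surjective _ (Subgroup.subgroupOfEquivOfLe h.W₁_le).symm.surjective
  · rw [Nat.card_congr (Subgroup.subgroupOfEquivOfLe h.W₁_le).toEquiv]
    exact h.W₁_hall
  · intro e
    rw [Subgroup.subgroupOf_eq_bot, disjoint_iff, inf_eq_left.2 h.W₂_le] at e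
    exact h.W₂_ne e
  · have : Fact (Nat.card W₂).Prime := ⟨h.prime₂⟩
    have : IsCyclic W₂ := isCyclic_of_prime_card rfl
    exact isCyclic_of_surjective _ (Subgroup.subgroupOfEquivOfLe h.W₂_le).symm.surjective
  · exact (fun x hx => h.W₂_le_derived hx : W₂.subgroupOf M ≤ kin M)
  · intro x hx hx1
    have hc := h.W₂_centralizer x hx (fun e => hx1 (Subtype.ext e))
    ext y
    simp only [Subgroup.mem_inf, Subgroup.mem_subgroupOf, ← hc,
      Subgroup.mem_centralizer_singleton_iff, Subtype.ext_iff, Subgroup.coe_mul]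
  · rw [← Subgroup.subgroupOf_sup h.W₁_le h.W₂_le,
      Nat.card_congr (Subgroup.subgroupOfEquivOfLe h.W_le).toEquiv]
    exact h.oddW

theorem index_kin : (kin M).index = Nat.card W₁ := by
  rw [h.pair.index_left, Nat.card_congr (Subgroup.subgroupOfEquivOfLe h.W₁_le).toEquiv]

theorem mem_aSet {x : M} (hx : x ∈ kin M) (hx1 : x ≠ 1) : (x : G) ∈ aSet M W₁ W₂ :=
  Or.inl ⟨Subgroup.mem_subgroupOf.1 hx, fun e => hx1 (Subtype.ext e)⟩

/-- Every element of `M` outside `K` is conjugate in `M` to an element of `W` outside `W₂`. -/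
theorem exists_conj {x : M} (hx : x ∉ kin M) :
    ∃ m w : M, (w : G) ∈ W₁ ⊔ W₂ ∧ (w : G) ∉ W₂ ∧ x = m * w * m⁻¹ := by
  have hp := h.pair
  obtain ⟨k, hk, a, ha, e⟩ := Subgroup.mem_sup_of_normal_left.1
    (show x ∈ kin M ⊔ W₁.subgroupOf M from hp.sup ▸ Subgroup.mem_top x)
  have ha1 : a ≠ 1 := fun e1 => hx (by rw [← e, e1, mul_one]; exact hk)
  let F : M → ℂ := fun g =>
    if ∃ m w : M, (w : G) ∈ W₁ ⊔ W₂ ∧ (w : G) ∉ W₂ ∧ g = m * w * m⁻¹ then 1 else 0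
  have hF : IsClassFunction M F := fun g t => by
    have : (∃ m w : M, (w : G) ∈ W₁ ⊔ W₂ ∧ (w : G) ∉ W₂ ∧ t * g * t⁻¹ = m * w * m⁻¹) ↔
        ∃ m w : M, (w : G) ∈ W₁ ⊔ W₂ ∧ (w : G) ∉ W₂ ∧ g = m * w * m⁻¹ := by
      constructor
      · rintro ⟨m, w, h1, h2, h3⟩
        refine ⟨t⁻¹ * m, w, h1, h2, ?_⟩
        rw [show g = t⁻¹ * (t * g * t⁻¹) * t by group, h3]
        group
      · rintro ⟨m, w, h1, h2, rfl⟩
        exact ⟨t * m, w, h1, h2, by group⟩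
    simp only [F, this]
  have hsum := hp.sum_coset hF ha ha1
  have hone : ∀ b : W₂.subgroupOf M, F (a * b) = 1 := fun b => if_pos
    ⟨1, a * b, by
      exact Subgroup.mul_mem_sup (Subgroup.mem_subgroupOf.1 ha) (Subgroup.mem_subgroupOf.1 b.2),
      fun hm => hp.not_mem₂ ha b.2 ha1 (Subgroup.mem_subgroupOf.2 hm), by group⟩
  have hcount : (W₁.subgroupOf M ⊔ W₂.subgroupOf M).index * Nat.card (W₂.subgroupOf M) =
      Nat.card (kin M) := by
    have h1 := (W₁.subgroupOf M ⊔ W₂.subgroupOf M).index_mul_card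
    rw [card_sup hp.selfNormalizing, hp.card_eq] at h1
    exact Nat.eq_of_mul_eq_mul_right (Nat.card_pos (α := W₁.subgroupOf M)) (by rw [← h1]; ring)
  rw [Finset.sum_congr rfl (fun b _ => hone b), Finset.sum_const, Finset.card_univ, nsmul_eq_mul,
    mul_one, ← Nat.cast_mul, ← Nat.card_eq_fintype_card, hcount, Finset.sum_boole,
    Nat.card_eq_fintype_card, ← Finset.card_univ] at hsum
  have hall := Finset.filter_eq_self.1 (Finset.eq_of_subset_of_card_le (Finset.filter_subset _ _)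
    (le_of_eq (Nat.cast_inj.1 hsum).symm))
  rw [← e]
  exact hall (⟨k, hk⟩ : kin M) (Finset.mem_univ _)

/-- An element of `M` outside `K` and outside `aSet` is conjugate in `M` into `W₁`. -/
theorem exists_conj_left {x : M} (hx : x ∉ kin M) (hA : (x : G) ∉ aSet M W₁ W₂) :
    ∃ m w : M, (w : G) ∈ W₁ ∧ (w : G) ∉ W₂ ∧ x = m * w * m⁻¹ := by
  obtain ⟨m, w, hw, hw2, rfl⟩ := h.exists_conj hx
  refine ⟨m, w, ?_, hw2, rfl⟩
  by_contra hw1
  exact hA (Or.inr ⟨m, m.2, w, ⟨hw, hw1, hw2⟩, by simp⟩)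

theorem not_mem_kin {w : M} (hw : (w : G) ∈ W₁ ⊔ W₂) (hw2 : (w : G) ∉ W₂) : w ∉ kin M := by
  intro hk
  obtain ⟨a, ha, b, hb, e⟩ := (CyclicTI.mem_sup_iff h.selfNorm.2.2.2.1).1 hw
  have ha' : a ∈ ⁅M, M⁆ ⊓ W₁ := by
    refine ⟨?_, ha⟩
    have h1 := Subgroup.mem_subgroupOf.1 hk
    rw [← e] at h1
    simpa using (⁅M, M⁆).mul_mem h1 ((⁅M, M⁆).inv_mem (h.W₂_le_derived hb))
  rw [h.inf_eq, Subgroup.mem_bot] at ha'
  exact hw2 (by rw [← e, ha', one_mul]; exact hb)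

theorem vSet_subset : OddFinal.vSet W₁ W₂ ⊆ aSet M W₁ W₂ := fun w hw =>
  Or.inr ⟨1, M.one_mem, w, hw, by simp⟩

/-- A class function of `M` vanishing off `K` and at `1` is supported in `aSet`. -/
theorem supp_of_kin {f : ↥M → ℂ} (h0 : ∀ x, x ∉ kin M → f x = 0) (h1 : f 1 = 0) :
    ∀ x : M, (x : G) ∉ aSet M W₁ W₂ → f x = 0 := fun x hx => by
  by_cases hk : x ∈ kin M
  · by_cases e : x = 1
    · rw [e, h1]
    · exact absurd (h.mem_aSet hk e) hx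
  · exact h0 x hk

/-- The characters over the fixed characters of `K`. -/
structure Chars (μ : (↥(W₁ ⊔ W₂) →* ℂˣ) → ↥M → ℂ) (δ : Right W₁ W₂ → ℤ)
    (d : Right W₁ W₂ → ℕ) : Prop where
  sign : ∀ ψ, δ ψ = 1 ∨ δ ψ = -1
  irr : ∀ ω, IsIrrCharacter ↥M (μ ω)
  inj : Function.Injective μ
  val : ∀ (φ : Left W₁ W₂) (ψ : Right W₁ W₂) (w : M) (hw : (w : G) ∈ W₁ ⊔ W₂), (w : G) ∉ W₂ →
    μ (φ.1 * ψ.1) w = (δ ψ : ℂ) * ((φ.1 * ψ.1) ⟨w, hw⟩ : ℂ)
  deg : ∀ (φ : Left W₁ W₂) (ψ : Right W₁ W₂), μ (φ.1 * ψ.1) 1 = (d ψ : ℂ)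
  deg_mod : ∀ ψ, ∃ n : ℤ, (d ψ : ℤ) - δ ψ = n * (Nat.card W₁ : ℤ)
  res_eq : ∀ (φ : Left W₁ W₂) (ψ : Right W₁ W₂) (x : M), x ∈ kin M →
    μ (φ.1 * ψ.1) x = μ ψ.1 x
  left_kin : ∀ (φ : Left W₁ W₂) (x : M), x ∈ kin M → μ φ.1 x = 1
  left_sign : δ rightOne = 1
  induced : ∀ (φ : Left W₁ W₂) (ψ : Right W₁ W₂),
    indFun M (μ (φ.1 * ψ.1) - μ ψ.1) =
      (δ ψ : ℂ) • indFun (W₁ ⊔ W₂) (fun w => ((φ.1 * ψ.1) w : ℂ) - (ψ.1 w : ℂ))
  other : ∀ θ : ↥M → ℂ, IsIrrCharacter ↥M θ → (∀ ω, θ ≠ μ ω) →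
    ∀ w : M, (w : G) ∈ W₁ ⊔ W₂ → (w : G) ∉ W₂ → θ w = 0

/-- Transport of `W` into `M`. -/
def toW (h : Degen M W₁ W₂) :
    ↥(W₁.subgroupOf M ⊔ W₂.subgroupOf M) →* ↥(W₁ ⊔ W₂) where
  toFun x := ⟨(x : M), Subgroup.mem_subgroupOf.1
    ((Subgroup.subgroupOf_sup h.W₁_le h.W₂_le).ge x.2)⟩
  map_one' := rfl
  map_mul' _ _ := rfl

theorem toW_bijective : Function.Bijective (toW h) := by
  refine ⟨fun a b e => Subtype.ext (Subtype.ext (congrArg Subtype.val e :)), fun w => ?_⟩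
  refine ⟨⟨⟨w, h.W_le w.2⟩, ?_⟩, rfl⟩
  rw [← Subgroup.subgroupOf_sup h.W₁_le h.W₂_le]
  exact w.2

theorem exists_chars : ∃ μ δ d, Degen.Chars (M := M) (W₁ := W₁) (W₂ := W₂) μ δ d := by
  have hp := h.pair
  have hW := h.selfNorm
  obtain ⟨μ', δ', hinj, hirr, hδ, hind, hval, hother, hmod⟩ := hp.exists_mu
  let e := MulEquiv.ofBijective (toW h) (toW_bijective h)
  have he : ∀ x, e x = toW h x := fun _ => rfl
  let pull : (↥(W₁ ⊔ W₂) →* ℂˣ) → (↥(W₁.subgroupOf M ⊔ W₂.subgroupOf M) →* ℂˣ) :=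
    fun ω => ω.comp (toW h)
  have hpull : Function.Bijective pull := by
    refine ⟨fun a b hab => MonoidHom.ext fun w => ?_, fun f => ⟨f.comp e.symm.toMonoidHom, ?_⟩⟩
    · obtain ⟨x, rfl⟩ := (toW_bijective h).2 w
      exact DFunLike.congr_fun hab x
    · refine MonoidHom.ext fun x => ?_
      simp [pull, ← he]
  have hon : ∀ (φ : Left W₁ W₂) (ψ : Right W₁ W₂),
      ∀ x : ↥(W₁.subgroupOf M ⊔ W₂.subgroupOf M), (x : M) ∈ W₂.subgroupOf M →
        pull (φ.1 * ψ.1) x = pull ψ.1 x := fun φ ψ x hx => by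
    show φ.1 (toW h x) * ψ.1 (toW h x) = ψ.1 (toW h x)
    rw [φ.2 _ (Subgroup.mem_subgroupOf.1 hx), one_mul]
  have hcoe : ∀ (w : M) (hw : (w : G) ∈ W₁ ⊔ W₂),
      ∃ x : ↥(W₁.subgroupOf M ⊔ W₂.subgroupOf M), (x : M) = w ∧ toW h x = ⟨w, hw⟩ := fun w hw => by
    obtain ⟨x, hx⟩ := (toW_bijective h).2 ⟨w, hw⟩
    exact ⟨x, Subtype.ext (congrArg Subtype.val hx :), hx⟩
  have hsign : ∀ ω, ∃ s : ℤ, (s = 1 ∨ s = -1) ∧ δ' (pull ω) = s := fun ω => by
    rcases hδ (pull ω) with e1 | e1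
    · exact ⟨1, Or.inl rfl, by simp [e1]⟩
    · exact ⟨-1, Or.inr rfl, by simp [e1]⟩
  choose s hs hse using hsign
  have hsψ : ∀ (φ : Left W₁ W₂) (ψ : Right W₁ W₂),
      δ' (pull (φ.1 * ψ.1)) = δ' (pull ψ.1) := fun φ ψ => (hind _ _ (hon φ ψ)).1
  have hdiff : ∀ (φ : Left W₁ W₂) (ψ : Right W₁ W₂),
      μ' (pull (φ.1 * ψ.1)) - μ' (pull ψ.1) = δ' (pull ψ.1) •
        indFun (W₁.subgroupOf M ⊔ W₂.subgroupOf M)
          (fun x => (pull (φ.1 * ψ.1) x : ℂ) - (pull ψ.1 x : ℂ)) := fun φ ψ => by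
    rw [(hind _ _ (hon φ ψ)).2, smul_smul, hsψ]
    rcases hδ (pull ψ.1) with e1 | e1 <;> simp [e1]
  have hres : ∀ (φ : Left W₁ W₂) (ψ : Right W₁ W₂) (x : M), x ∈ kin M →
      μ' (pull (φ.1 * ψ.1)) x = μ' (pull ψ.1) x := fun φ ψ x hx => by
    have h1 := congrFun (hdiff φ ψ) x
    rw [Pi.sub_apply, Pi.smul_apply] at h1
    suffices h0 : indFun (W₁.subgroupOf M ⊔ W₂.subgroupOf M)
        (fun y => (pull (φ.1 * ψ.1) y : ℂ) - (pull ψ.1 y : ℂ)) x = 0 by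
      rw [h0, smul_zero] at h1
      exact sub_eq_zero.1 h1
    rw [indFun_apply, Finset.sum_eq_zero, mul_zero]
    intro t _
    by_cases ht : t⁻¹ * x * t ∈ W₁.subgroupOf M ⊔ W₂.subgroupOf M
    · rw [extendByZero_of_mem _ _ ht, hon φ ψ ⟨_, ht⟩, sub_self]
      by_contra hne
      refine h.not_mem_kin (w := t⁻¹ * x * t) ?_ (fun hm => hne (Subgroup.mem_subgroupOf.2 hm)) ?_
      · rw [← Subgroup.subgroupOf_sup h.W₁_le h.W₂_le] at ht
        exact ht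
      · simpa using (normal_kin M).conj_mem x hx t⁻¹
    · rw [extendByZero_of_not_mem _ _ ht]
  have hdeg : ∀ ψ : Right W₁ W₂, ∃ n : ℕ, μ' (pull ψ.1) 1 = n := fun ψ =>
    IsChar.degree (IsIrr.isCharacter (hirr _))
  choose d hd using hdeg
  refine ⟨fun ω => μ' (pull ω), fun ψ => s ψ.1, d, fun ψ => hs _, fun ω => hirr _,
    hinj.comp hpull.1, ?_, fun φ ψ => ?_, fun ψ => ?_, hres, ?_, ?_, fun φ ψ => ?_, ?_⟩
  · intro φ ψ w hw hw2
    obtain ⟨x, hx1, hx2⟩ := hcoe w hw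
    have h1 := hval (pull (φ.1 * ψ.1)) x (fun hm => hw2 (by
      rw [hx1] at hm; exact Subgroup.mem_subgroupOf.1 hm))
    rw [hx1, hsψ, hse] at h1
    rw [h1]
    show _ = _ * (((φ.1 * ψ.1) _ : ℂˣ) : ℂ)
    rw [← hx2]
    rfl
  · rw [hres φ ψ 1 (kin M).one_mem, hd]
  · obtain ⟨n, hn⟩ := hmod (pull ψ.1)
    rw [hd, hse, Nat.card_congr (Subgroup.subgroupOfEquivOfLe h.W₁_le).toEquiv] at hn
    exact ⟨n, by exact_mod_cast hn⟩
  all_goals
    have hone : s (1 : ↥(W₁ ⊔ W₂) →* ℂˣ) = 1 ∧ μ' (pull 1) = fun _ => 1 := by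
      have h1 : IsIrrCharacter ↥M (fun _ => (1 : ℂ)) := by
        simpa using isIrrCharacter_hom (1 : ↥M →* ℂˣ)
      obtain ⟨a, ha, ha1⟩ := (Subgroup.bot_or_exists_ne_one W₁).resolve_left h.W₁_ne
      have ha2 : a ∉ W₂ := fun hm => ha1 (by
        have : a ∈ W₁ ⊓ W₂ := ⟨ha, hm⟩
        rwa [hW.2.2.1, Subgroup.mem_bot] at this)
      obtain ⟨ω, hω⟩ : ∃ ω, (fun _ => (1 : ℂ)) = μ' ω := by
        by_contra hne
        push Not at hne
        obtain ⟨x, hx1, -⟩ := hcoe ⟨a, h.W₁_le ha⟩ (Subgroup.mem_sup_left ha)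
        exact one_ne_zero (hother _ h1 hne x (fun hm => ha2 (by
          rw [hx1] at hm; exact Subgroup.mem_subgroupOf.1 hm)))
      obtain ⟨ω₀, rfl⟩ := hpull.2 ω
      have hc : ∀ w : ↥(W₁ ⊔ W₂), (w : G) ∈ OddFinal.vSet W₁ W₂ → (ω₀ w : ℂ) = (s ω₀ : ℂ) := by
        intro w hw
        obtain ⟨x, hx1, hx2⟩ := hcoe ⟨w, h.W_le w.2⟩ w.2
        have h2 := hval (pull ω₀) x (fun hm => hw.2.2 (by
          rw [hx1] at hm; exact Subgroup.mem_subgroupOf.1 hm))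
        rw [← hω, hse] at h2
        have hx3 : toW h x = w := hx2
        have h3 : (pull ω₀ x : ℂ) = (ω₀ w : ℂ) := by rw [← hx3]; rfl
        rw [h3] at h2
        rcases hs ω₀ with e1 | e1 <;> rw [e1] at h2 ⊢ <;> push_cast at h2 ⊢
        · linear_combination -h2
        · linear_combination h2
      obtain ⟨h4, h5⟩ := hom_eq_one_of_const hW h.oddW hc
      subst h4
      exact ⟨by exact_mod_cast h5, hω.symm⟩
  · intro φ x hx
    have h1 := hres φ rightOne x hx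
    rw [show φ.1 * (rightOne : Right W₁ W₂).1 = φ.1 from mul_one φ.1] at h1
    exact h1.trans (congrFun hone.2 x)
  · exact hone.1
  · have h1 := congrArg (indFun M) (hdiff φ ψ)
    rw [indFun_smul, hse] at h1
    rw [h1]
    congr 1
    conv_rhs => rw [← indFun_indFun (W₁ ⊔ W₂) M h.W_le]
    congr 1
    rw [← OddFinal.indFun_congr (Subgroup.subgroupOf_sup h.W₁_le h.W₂_le).symm]
    rfl
  · intro θ hθ hne w hw hw2
    obtain ⟨x, hx1, -⟩ := hcoe w hw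
    rw [← hx1]
    refine hother θ hθ (fun ω' => ?_) x (fun hm => hw2 (by
      rw [hx1] at hm; exact Subgroup.mem_subgroupOf.1 hm))
    obtain ⟨ω, rfl⟩ := hpull.2 ω'
    exact hne ω

end Degen

end Cfsg.Agent.OddFinal
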