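import Cfsg.Agent.OddFinal.DegenerateY
import Cfsg.Agent.OddChars.CentralKernel

/-!
# Exactness at a degenerate member (section E3-E4 of the endgame)

Case A always holds, the images of the test functions of the columns are exact, and so are those of
the irreducible members that are nontrivial on a suitable central subgroup.
-/

set_option autoImplicit false
set_option linter.unusedSectionVars false

namespace Cfsg.Agent.OddFinal

open Cfsg Char CyclicTI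
open scoped ComplexConjugate
open scoped _root_.Classical

universe u

variable {G : Type u} [Group G] [Fintype G] {M W₁ W₂ : Subgroup G} [Fintype ↥M]

/-- The degree of a member divided by `|W₁|`. -/
noncomputable def degN (W₁ : Subgroup G) (Φ : ↥M → ℂ) : ℕ := charDegree Φ / Nat.card W₁

/-- `n χ - τ (n ζ - Φ)`. -/
noncomputable def psiFn (W₁ : Subgroup G) (ζ : ↥M → ℂ) (χ : G → ℂ) (Φ : ↥M → ℂ) : G → ℂ :=
  (degN W₁ Φ : ℂ) • χ - indFun M (testFn ζ (degN W₁ Φ) Φ)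

/-- The irreducible members nontrivial on `Z`. -/
noncomputable def restSet (Z : Subgroup ↥M) : Finset (↥M → ℂ) :=
  (OddChars.inducedIrrAbove_finite (K := kin M) (A := ⊥)).toFinset.filter
    fun Φ => IsIrrCharacter ↥M Φ ∧ Φ ∉ inducedIrrAbove (kin M) Z

/-- What exactness gives. -/
structure ExactData (W₁ : Subgroup G) {W₂ : Subgroup G} (μ : (↥(W₁ ⊔ W₂) →* ℂˣ) → ↥M → ℂ)
    (η : (↥(W₁ ⊔ W₂) →* ℂˣ) → G → ℂ) (δ : Right W₁ W₂ → ℤ) (d : Right W₁ W₂ → ℕ)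
    (ζ : ↥M → ℂ) (χ : G → ℂ) (T : Finset (↥M → ℂ)) : Prop where
  base : Base W₁ η ζ χ
  caseA : CaseA η ζ χ
  col : ∀ ψ : Right W₁ W₂, ψ.1 ≠ 1 → indFun M (testFn ζ (d ψ) (colSum μ ψ)) =
    (d ψ : ℂ) • χ - (δ ψ : ℂ) • colSum η ψ
  mem : ∀ Φ ∈ T, Φ ∈ inducedIrrAbove (kin M) ⊥ ∧ IsIrrCharacter ↥M Φ ∧
    Φ 1 = (Nat.card W₁ : ℂ) * degN W₁ Φ
  self : ∀ Φ ∈ T, classInner (psiFn W₁ ζ χ Φ) (psiFn W₁ ζ χ Φ) = 1
  orth : ∀ Φ ∈ T, ∀ Φ' ∈ T, Φ ≠ Φ' → classInner (psiFn W₁ ζ χ Φ) (psiFn W₁ ζ χ Φ') = 0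
  orth_chi : ∀ Φ ∈ T, classInner (psiFn W₁ ζ χ Φ) χ = 0
  orth_eta : ∀ Φ ∈ T, ∀ ω, classInner (psiFn W₁ ζ χ Φ) (η ω) = 0
  large : 2 * Nat.card ↥⁅M, M⁆ ≤ 3 * (Nat.card W₁ * (∑ Φ ∈ T, degN W₁ Φ ^ 2) +
    ∑ ψ ∈ Finset.univ.filter (fun ψ : Right W₁ W₂ => ψ.1 ≠ 1), d ψ ^ 2)

theorem mem_restSet {Z : Subgroup ↥M} {Φ : ↥M → ℂ} : Φ ∈ restSet Z ↔
    Φ ∈ inducedIrrAbove (kin M) ⊥ ∧ IsIrrCharacter ↥M Φ ∧ Φ ∉ inducedIrrAbove (kin M) Z := by
  simp [restSet]

namespace Degen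

variable (h : Degen M W₁ W₂) {μ : (↥(W₁ ⊔ W₂) →* ℂˣ) → ↥M → ℂ}
  {η : (↥(W₁ ⊔ W₂) →* ℂˣ) → G → ℂ} {δ : Right W₁ W₂ → ℤ} {d : Right W₁ W₂ → ℕ}
  (hμ : Chars (M := M) (W₁ := W₁) (W₂ := W₂) μ δ d) (hη : IsCyclicTIFamily W₁ W₂ η)
  {ζ : ↥M → ℂ} {χ : G → ℂ}

include h hμ hη

omit hμ hη in
theorem degN_ind {θ : kin M → ℂ} (hθ : IsIrrCharacter (kin M) θ) :
    degN W₁ (indFun (kin M) θ) = charDegree θ ∧
      indFun (kin M) θ 1 = (Nat.card W₁ : ℂ) * charDegree θ := by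
  have e : indFun (kin M) θ 1 = (Nat.card W₁ : ℂ) * charDegree θ := by
    rw [indFun_apply_one, h.index_kin, CharArith.charDegree_spec (IsIrr.isCharacter hθ)]
  refine ⟨?_, e⟩
  have e2 := CharArith.charDegree_spec (isCharacter_indFun (kin M) (IsIrr.isCharacter hθ))
  rw [e, ← Nat.cast_mul, Nat.cast_inj] at e2
  rw [degN, ← e2, Nat.mul_div_cancel_left _ Nat.card_pos]

omit hμ hη in
theorem member_deg {Φ : ↥M → ℂ} (hΦ : Φ ∈ inducedIrrAbove (kin M) ⊥) :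
    Φ 1 = (Nat.card W₁ : ℂ) * degN W₁ Φ ∧ 0 < degN W₁ Φ := by
  obtain ⟨θ, hθ, rfl⟩ := OddChars.mem_inducedIrrAbove.1 hΦ
  obtain ⟨e1, e2⟩ := h.degN_ind hθ.1
  rw [e1]
  refine ⟨e2, Nat.pos_of_ne_zero fun e => IsIrr.one_ne_zero hθ.1 ?_⟩
  rw [CharArith.charDegree_spec (IsIrr.isCharacter hθ.1), e, Nat.cast_zero]

theorem charDegree_res (ψ : Right W₁ W₂) : charDegree (resK μ ψ) = d ψ := by
  have e := CharArith.charDegree_spec (IsIrr.isCharacter (h.res_irr hμ ψ))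
  have e2 : resK μ ψ 1 = (d ψ : ℂ) := by
    have := hμ.deg leftOne ψ
    rw [leftOne_mul] at this
    exact this
  rw [e2, Nat.cast_inj] at e
  exact e.symm

theorem degN_col (ψ : Right W₁ W₂) : degN W₁ (colSum μ ψ) = d ψ := by
  rw [← h.col_eq hμ, (h.degN_ind (h.res_irr hμ ψ)).1, h.charDegree_res hμ hη]

theorem col_mem {ψ : Right W₁ W₂} (hψ : ψ.1 ≠ 1) :
    colSum μ ψ ∈ inducedIrrAbove (kin M) ⊥ :=
  OddChars.mem_inducedIrrAbove.2 ⟨_, ⟨h.res_irr hμ ψ, h.res_ne_one hμ hψ, fun a ha => by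
    rw [show a = 1 from Subtype.ext (Subgroup.mem_bot.1 ha)]⟩, (h.col_eq hμ ψ).symm⟩

/-- The restriction of a nontrivial column is nontrivial on `W₂`. -/
theorem res_nontrivial {ψ : Right W₁ W₂} (hψ : ψ.1 ≠ 1) :
    ∃ z ∈ (W₂.subgroupOf M).subgroupOf (kin M), resK μ ψ z ≠ resK μ ψ 1 := by
  by_contra hall
  push Not at hall
  obtain ⟨a, ha, ha1⟩ := (Subgroup.bot_or_exists_ne_one W₁).resolve_left h.W₁_ne
  refine hψ (CyclicTI.eq_one_of_trivial h.selfNorm.2.2.2.1 ψ.1 ψ.2 fun b hb => ?_)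
  have hk : (⟨(b : G), h.W_le b.2⟩ : M) ∈ kin M := h.W₂_le_derived hb
  have hker : μ ψ.1 ⟨(b : G), h.W_le b.2⟩ = μ ψ.1 1 := hall ⟨_, hk⟩ hb
  have e := IsChar.mul_left_of_mem_kernel (IsIrr.isCharacter (hμ.irr ψ.1)) hker
    ⟨a, h.W₁_le ha⟩
  let a' : ↥(W₁ ⊔ W₂) := ⟨a, Subgroup.mem_sup_left ha⟩
  have ha2 : a ∉ W₂ := fun hm => ha1 (by
    have : a ∈ W₁ ⊓ W₂ := ⟨ha, hm⟩
    rwa [h.selfNorm.2.2.1, Subgroup.mem_bot] at this)
  have hba : (b : G) * a ∉ W₂ := fun hm => ha2 (by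
    simpa using W₂.mul_mem (W₂.inv_mem hb) hm)
  have v1 := hμ.val leftOne ψ ⟨a, h.W₁_le ha⟩ a'.2 ha2
  have v2 := hμ.val leftOne ψ (⟨(b : G), h.W_le b.2⟩ * ⟨a, h.W₁_le ha⟩ : M) (b * a').2 hba
  simp only [leftOne_mul] at v1 v2
  rw [e, v1] at v2
  have hd : (δ ψ : ℂ) ≠ 0 := by rcases hμ.sign ψ with e' | e' <;> simp [e']
  have v3 := mul_left_cancel₀ hd v2
  have v4 : (ψ.1 a' : ℂ) = (ψ.1 (b * a') : ℂ) := v3
  rw [map_mul, Units.val_mul] at v4
  have hne := Units.ne_zero (ψ.1 a')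
  refine Units.ext ?_
  rw [Units.val_one]
  exact mul_right_cancel₀ hne (v4.symm.trans (one_mul _).symm)

theorem col_not_above {ψ : Right W₁ W₂} (hψ : ψ.1 ≠ 1) [(W₂.subgroupOf M).Normal] :
    colSum μ ψ ∉ inducedIrrAbove (kin M) (W₂.subgroupOf M) := by
  intro hc
  obtain ⟨θ, hθ, e⟩ := OddChars.mem_inducedIrrAbove.1 hc
  rw [← h.col_eq hμ] at e
  have hor := (OddChars.indFun_eq_iff hθ.1 (h.res_irr hμ ψ)).1 e.symm
  obtain ⟨z, hz, hne⟩ := h.res_nontrivial hμ hη hψ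
  exact hne ((OddChars.above_orbit hθ hor).2.2 z hz)

variable (hB : Base W₁ η ζ χ)

include hB

theorem case_a_y (hA : CaseA η ζ χ) {Φ : ↥M → ℂ} (hΦ : Φ ∈ inducedIrrAbove (kin M) ⊥) {n : ℕ}
    (hn : Φ 1 = (Nat.card W₁ : ℂ) * n) (hne : Φ ≠ ζ) {y : ℤ} {a : Left W₁ W₂ → ℤ}
    {b : Right W₁ W₂ → ℤ} (hb : b rightOne = 0)
    (hab : ∀ φ ψ, classInner (indFun M (testFn ζ n Φ)) (η (φ.1 * ψ.1)) = ((a φ + b ψ : ℤ) : ℂ))
    (hy : classInner (indFun M (testFn ζ n Φ)) χ = ((n + y : ℤ) : ℂ)) : y = ∑ φ, a φ := by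
  have hS := h.degSys hμ hη
  have hf0 : ∀ x, x ∉ kin M → testFn ζ n Φ x = 0 := fun x hx => by
    simp [testFn, h.member_off hB.mem hx, h.member_off hΦ hx]
  have hf1 : testFn ζ n Φ 1 = 0 := by simp [testFn, hB.one, hn, mul_comm]
  have hI0 : ∀ x, x ∉ kin M → (indFun (kin M) (fun _ => (1 : ℂ)) - ζ) x = 0 := fun x hx => by
    simp [h.member_off hB.mem hx, indFun_apply_of_normal _ _ hx]
  have hI1 : (indFun (kin M) (fun _ => (1 : ℂ)) - ζ) 1 = 0 := by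
    simp [hB.one, h.ind_one_apply_one]
  have e := inner_ind h.dade
    (IsGen.isClassFunction (isGeneralized_sub h.ind_one_gen (member_gen hB.mem)))
    (h.kin_supp hI0 hI1) (h.kin_supp hf0 hf1)
  rw [show indFun M (indFun (kin M) (fun _ => (1 : ℂ)) - ζ) = yFun ζ from rfl, hA,
    classInner_sub_right, hy] at e
  simp only [colSum, classInner_sum_right, hab, hb, add_zero] at e
  rw [testFn, classInner_sub_left, classInner_sub_right, classInner_sub_right,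
    classInner_smul_left, classInner_smul_left, classInner_irr_self hB.irr,
    Coherence.inner_eq_zero_comm (h.ind_one_member hμ hη hB.mem),
    Coherence.inner_eq_zero_comm (h.ind_one_member hμ hη hΦ),
    hS.member_orth hΦ hB.mem hne] at e
  have e' : ((y : ℤ) : ℂ) = ((∑ φ, a φ : ℤ) : ℂ) := by
    push_cast at e ⊢
    linear_combination -e
  exact_mod_cast e'

/-- An irreducible member with `y = 0` or `y = -n` has coefficients zero on the family. -/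
theorem irr_bound {Φ : ↥M → ℂ} (hΦ : Φ ∈ inducedIrrAbove (kin M) ⊥)
    (hi : IsIrrCharacter ↥M Φ) {n : ℕ} (hn : Φ 1 = (Nat.card W₁ : ℂ) * n) (hne : Φ ≠ ζ)
    (hne' : Φ ≠ Cfsg.conjFun ζ) {y : ℤ}
    (hy : classInner (indFun M (testFn ζ n Φ)) (Cfsg.conjFun χ) = (y : ℂ)) :
    (-(n : ℤ) ≤ y ∧ y ≤ 0) ∧ ((y = 0 ∨ y = -n) →
      ∀ ω, classInner (indFun M (testFn ζ n Φ)) (η ω) = 0) := by
  obtain ⟨y', a, b, ha, hb, hab, hy', -, -, hle⟩ := h.test_coeff hμ hη hB hΦ hn hne hne' (N := 1)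
    (by rw [classInner_irr_self hi, Nat.cast_one])
  rw [hy] at hy'
  obtain rfl : y = y' := by exact_mod_cast hy'
  have hnn : (0 : ℤ) ≤ ∑ φ, ∑ ψ, (a φ + b ψ) ^ 2 :=
    Finset.sum_nonneg fun _ _ => Finset.sum_nonneg fun _ _ => sq_nonneg _
  push_cast at hle
  have hprod : y * (y + n) ≤ 0 := by
    by_contra hc
    push Not at hc
    nlinarith
  refine ⟨⟨?_, ?_⟩, fun hor ω => ?_⟩
  · by_contra hc
    push Not at hc
    nlinarith
  · by_contra hc
    push Not at hc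
    nlinarith
  · have hsmall : ∑ φ, ∑ ψ, (a φ + b ψ) ^ 2 ≤ 2 := by
      rcases hor with e | e <;> rw [e] at hle <;> nlinarith
    obtain ⟨h1, h2⟩ := four_term_small leftOne rightOne
      (by rw [card_left h.selfNorm]; exact h.card_W₁_three)
      (by rw [card_right h.selfNorm]; exact h.card_W₂_three) a b ha hb hsmall
    obtain ⟨⟨φ, ψ⟩, rfl⟩ := (coords h.selfNorm).surjective ω
    rw [coords_apply, hab, h1, h2]
    simp

/-- The residual of an irreducible member with `y = 0`. -/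
theorem rest_exact {Φ : ↥M → ℂ} (hΦ : Φ ∈ inducedIrrAbove (kin M) ⊥)
    (hi : IsIrrCharacter ↥M Φ) (hne : Φ ≠ ζ) (hne' : Φ ≠ Cfsg.conjFun ζ)
    (hy : classInner (indFun M (testFn ζ (degN W₁ Φ) Φ)) (Cfsg.conjFun χ) = 0) :
    classInner (psiFn W₁ ζ χ Φ) (psiFn W₁ ζ χ Φ) = 1 ∧
      classInner (psiFn W₁ ζ χ Φ) χ = 0 ∧ classInner (psiFn W₁ ζ χ Φ) (Cfsg.conjFun χ) = 0 ∧
      (∀ ω, classInner (psiFn W₁ ζ χ Φ) (η ω) = 0) ∧
      classInner (indFun M (testFn ζ (degN W₁ Φ) Φ)) χ = (degN W₁ Φ : ℂ) := by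
  have hn := (h.member_deg hΦ).1
  obtain ⟨y, a, b, ha, hb, hab, hy', hyχ, hnorm, hle⟩ := h.test_coeff hμ hη hB hΦ hn hne hne'
    (N := 1) (by rw [classInner_irr_self hi, Nat.cast_one])
  rw [hy] at hy'
  obtain rfl : y = 0 := by exact_mod_cast hy'.symm
  rw [add_zero, Int.cast_natCast] at hyχ
  have hη0 := (h.irr_bound hμ hη hB hΦ hi hn hne hne' (y := 0) (by rw [hy]; simp)).2 (Or.inl rfl)
  have hcc := h.chi_conj hμ hη hB
  refine ⟨?_, ?_, ?_, fun ω => ?_, hyχ⟩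
  · rw [psiFn, classInner_sub_sub, classInner_smul_left, classInner_smul_left,
      classInner_smul_right, classInner_smul_right, hB.sirr.inner_self, hnorm, hyχ,
      ← classInner_conj_symm (indFun M (testFn ζ (degN W₁ Φ) Φ)) χ, hyχ, map_natCast]
    push_cast
    ring
  · rw [psiFn, classInner_sub_left, classInner_smul_left, hB.sirr.inner_self, hyχ]
    ring
  · rw [psiFn, classInner_sub_left, classInner_smul_left, hcc, hy]
    ring
  · rw [psiFn, classInner_sub_left, classInner_smul_left, hB.orth, hη0]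
    ring

theorem rest_orth {Φ Φ' : ↥M → ℂ} (hΦ : Φ ∈ inducedIrrAbove (kin M) ⊥)
    (hΦ' : Φ' ∈ inducedIrrAbove (kin M) ⊥) (hne : Φ ≠ ζ) (hne' : Φ' ≠ ζ) (hd : Φ ≠ Φ')
    (h1 : classInner (indFun M (testFn ζ (degN W₁ Φ) Φ)) χ = (degN W₁ Φ : ℂ))
    (h2 : classInner (indFun M (testFn ζ (degN W₁ Φ') Φ')) χ = (degN W₁ Φ' : ℂ)) :
    classInner (psiFn W₁ ζ χ Φ) (psiFn W₁ ζ χ Φ') = 0 := by
  have hS := h.degSys hμ hη
  have hs : ∀ {Ψ : ↥M → ℂ}, Ψ ∈ inducedIrrAbove (kin M) ⊥ → ∀ x : M, (x : G) ∉ aSet M W₁ W₂ →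
      testFn ζ (degN W₁ Ψ) Ψ x = 0 := fun {Ψ} hΨ => h.kin_supp
    (fun x hx => by simp [testFn, h.member_off hB.mem hx, h.member_off hΨ hx])
    (by simp [testFn, hB.one, (h.member_deg hΨ).1, mul_comm])
  have e := inner_ind h.dade (f' := testFn ζ (degN W₁ Φ) Φ)
    (IsGen.isClassFunction (isGeneralized_sub (by
      simpa using isGeneralized_intCast_smul (degN W₁ Φ' : ℤ) (member_gen hB.mem))
      (member_gen hΦ')) : IsClassFunction ↥M (testFn ζ (degN W₁ Φ') Φ')) (hs hΦ') (hs hΦ)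
  rw [psiFn, psiFn, classInner_sub_sub, classInner_smul_left, classInner_smul_left,
    classInner_smul_right, classInner_smul_right, hB.sirr.inner_self, h1,
    ← classInner_conj_symm (indFun M (testFn ζ (degN W₁ Φ') Φ')) χ, h2, e, testFn, testFn,
    classInner_sub_sub, classInner_smul_left, classInner_smul_left, classInner_smul_right,
    classInner_smul_right, classInner_irr_self hB.irr, hS.member_orth hΦ hB.mem hne,
    Coherence.inner_eq_zero_comm (hS.member_orth hΦ' hB.mem hne'), hS.member_orth hΦ hΦ' hd,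
    map_natCast]
  ring

/-- Bessel's inequality for a column against `χ`, `conj χ` and exact members. -/
theorem col_bessel {ψ : Right W₁ W₂} (hψ : ψ.1 ≠ 1) (T : Finset (↥M → ℂ))
    (hT : ∀ Φ ∈ T, Φ ∈ inducedIrrAbove (kin M) ⊥ ∧ IsIrrCharacter ↥M Φ ∧ Φ ≠ ζ ∧
      Φ ≠ Cfsg.conjFun ζ ∧
      classInner (indFun M (testFn ζ (degN W₁ Φ) Φ)) (Cfsg.conjFun χ) = 0) :
    ∃ (y : ℤ) (x : Left W₁ W₂ → Right W₁ W₂ → ℤ),
      (∀ φ ψ', classInner (indFun M (testFn ζ (d ψ) (colSum μ ψ))) (η (φ.1 * ψ'.1)) =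
        (x φ ψ' : ℂ)) ∧
      classInner (indFun M (testFn ζ (d ψ) (colSum μ ψ))) (Cfsg.conjFun χ) = (y : ℂ) ∧
      classInner (indFun M (testFn ζ (d ψ) (colSum μ ψ))) χ = ((d ψ + y : ℤ) : ℂ) ∧
      classInner (indFun M (testFn ζ (d ψ) (colSum μ ψ)))
        (indFun M (testFn ζ (d ψ) (colSum μ ψ))) = ((d ψ ^ 2 + Nat.card W₁ : ℕ) : ℂ) ∧
      (∑ φ, ∑ ψ', x φ ψ' ^ 2) + y * (y * (2 + ∑ Φ ∈ T, (degN W₁ Φ : ℤ) ^ 2) + 2 * d ψ) ≤
        (Nat.card W₁ : ℤ) := by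
  have hS := h.degSys hμ hη
  have hmem := h.col_mem hμ hη hψ
  have hn : colSum μ ψ 1 = (Nat.card W₁ : ℂ) * d ψ := h.col_apply_one hμ ψ
  have hni := hS.col_not_irr ψ
  have hne : colSum μ ψ ≠ ζ := fun e => hni (e ▸ hB.irr)
  have hne' : colSum μ ψ ≠ Cfsg.conjFun ζ := fun e => hni (e ▸ Coherence.isIrr_conjFun hB.irr)
  obtain ⟨y, a, b, ha, hb, hab, hy, hyχ, hnorm, -⟩ := h.test_coeff hμ hη hB hmem hn hne hne'
    (N := Nat.card W₁) (by rw [h.col_inner hμ, if_pos rfl])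
  refine ⟨y, fun φ ψ' => a φ + b ψ', hab, hy, hyχ, hnorm, ?_⟩
  set f := testFn ζ (d ψ) (colSum μ ψ) with hf
  have hN : classInner (indFun M f) (indFun M f) =
      (((d ψ ^ 2 + Nat.card W₁ : ℕ) : ℤ) : ℂ) := by rw [hnorm]; norm_cast
  have hX : ∀ Φ ∈ T, classInner (indFun M f) (psiFn W₁ ζ χ Φ) =
      ((degN W₁ Φ * y : ℤ) : ℂ) := by
    intro Φ hΦ
    obtain ⟨hm, hi, hz, hz', hy0⟩ := hT Φ hΦ
    have e := inner_ind h.dade (f' := f)
      (IsGen.isClassFunction (isGeneralized_sub (by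
        simpa using isGeneralized_intCast_smul (degN W₁ Φ : ℤ) (member_gen hB.mem))
        (member_gen hm)) : IsClassFunction ↥M (testFn ζ (degN W₁ Φ) Φ))
      (h.kin_supp (fun x hx => by simp [testFn, h.member_off hB.mem hx, h.member_off hm hx])
        (by simp [testFn, hB.one, (h.member_deg hm).1, mul_comm]))
      (h.kin_supp (fun x hx => by simp [hf, testFn, h.member_off hB.mem hx, h.member_off hmem hx])
        (by simp [hf, testFn, hB.one, hn, mul_comm]))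
    rw [psiFn, classInner_sub_right, classInner_smul_right, hyχ, e, hf, testFn, testFn,
      classInner_sub_sub, classInner_smul_left, classInner_smul_left, classInner_smul_right,
      classInner_smul_right, classInner_irr_self hB.irr, hS.member_orth hB.mem hm hz.symm,
      hS.member_orth hmem hB.mem hne, hS.member_orth hmem hm (fun e => hni (e ▸ hi)),
      map_natCast]
    push_cast
    ring
  have hcc := h.chi_conj hμ hη hB
  have hbes := grid_bessel h.selfNorm hη (fun φ ψ' => a φ + b ψ') hab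
    ((Finset.univ : Finset Bool).disjSum T)
    (Sum.elim (fun i => if i then χ else Cfsg.conjFun χ) fun Φ => psiFn W₁ ζ χ Φ)
    (Sum.elim (fun i => if i then d ψ + y else y) fun Φ => degN W₁ Φ * y) (by
      rintro (i | Φ) hi (j | Φ') hj
      · cases i <;> cases j <;> simp [hB.sirr.inner_self, (sirr_conj hB.sirr).inner_self, hcc,
          Coherence.inner_eq_zero_comm hcc]
      · obtain ⟨hm, hii, hz, hz', hy0⟩ := hT Φ' (by simpa using hj)
        obtain ⟨-, r1, r2, -, -⟩ := h.rest_exact hμ hη hB hm hii hz hz' hy0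
        cases i <;> simp [Coherence.inner_eq_zero_comm r1, Coherence.inner_eq_zero_comm r2]
      · obtain ⟨hm, hii, hz, hz', hy0⟩ := hT Φ (by simpa using hi)
        obtain ⟨-, r1, r2, -, -⟩ := h.rest_exact hμ hη hB hm hii hz hz' hy0
        cases j <;> simp [r1, r2]
      · obtain ⟨hm, hii, hz, hz', hy0⟩ := hT Φ (by simpa using hi)
        obtain ⟨hm', hii', hw, hw', hy0'⟩ := hT Φ' (by simpa using hj)
        obtain ⟨r0, -, -, -, r4⟩ := h.rest_exact hμ hη hB hm hii hz hz' hy0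
        obtain ⟨-, -, -, -, s4⟩ := h.rest_exact hμ hη hB hm' hii' hw hw' hy0'
        simp only [Sum.elim_inr]
        by_cases e : Φ = Φ'
        · subst e; rw [if_pos rfl, r0]
        · rw [if_neg fun e' => e (Sum.inr.inj e'), h.rest_orth hμ hη hB hm hm' hz hw e r4 s4])
    (by
      rintro (i | Φ) hi ω
      · cases i <;> simp [hB.orth, h.conj_orth hμ hη hB]
      · obtain ⟨hm, hii, hz, hz', hy0⟩ := hT Φ (by simpa using hi)
        exact (h.rest_exact hμ hη hB hm hii hz hz' hy0).2.2.2.1 ω)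
    (by
      rintro (i | Φ) hi
      · cases i <;> simp [hy, hyχ]
      · exact hX Φ (by simpa using hi)) hN
  rw [Finset.sum_disjSum] at hbes
  simp only [Sum.elim_inl, Sum.elim_inr, Fintype.sum_bool, if_true, if_false, mul_pow,
    ← Finset.sum_mul, Bool.false_eq_true] at hbes
  push_cast at hbes
  nlinarith

/-- In case A the coefficients of a column are congruent to the column. -/
theorem col_case_a (hA : CaseA η ζ χ) {ψ : Right W₁ W₂} (hψ : ψ.1 ≠ 1)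
    {y : ℤ} {x : Left W₁ W₂ → Right W₁ W₂ → ℤ}
    (hx : ∀ φ ψ', classInner (indFun M (testFn ζ (d ψ) (colSum μ ψ))) (η (φ.1 * ψ'.1)) =
      (x φ ψ' : ℂ))
    (hy : classInner (indFun M (testFn ζ (d ψ) (colSum μ ψ))) (Cfsg.conjFun χ) = (y : ℂ)) :
    (Nat.card W₁ : ℤ) ∣ y ∧ (Nat.card W₁ : ℤ) ≤ ∑ φ, ∑ ψ', x φ ψ' ^ 2 ∧
      (∑ φ, ∑ ψ', x φ ψ' ^ 2 ≤ (Nat.card W₁ : ℤ) →
        ∀ φ ψ', x φ ψ' = -δ ψ * if ψ' = ψ then 1 else 0) := by
  obtain ⟨Θ, hΘ, heq⟩ := h.col_congr hμ hη hB hψ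
  rw [heq, hA, classInner_neg_left, classInner_add_left, classInner_smul_left,
    classInner_smul_left, classInner_add_left, classInner_sub_left, classInner_sub_left,
    h.chi_conj hμ hη hB] at hy
  have hcol0 : ∀ ψ' : Right W₁ W₂, classInner (colSum η ψ') (Cfsg.conjFun χ) = 0 := fun ψ' => by
    simp only [colSum, classInner_sum_left]
    exact Finset.sum_eq_zero fun φ _ => Coherence.inner_eq_zero_comm (h.conj_orth hμ hη hB _)
  obtain ⟨t₀, ht₀⟩ := Char.classInner_generalized_int hΘ (sirr_conj hB.sirr).isGeneralized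
  rw [hcol0, hcol0, ht₀] at hy
  refine ⟨⟨-t₀, ?_⟩, ?_⟩
  · have e : ((y : ℤ) : ℂ) = (((Nat.card W₁ : ℕ) : ℤ) * -t₀ : ℤ) := by
      push_cast
      linear_combination -hy
    exact_mod_cast e
  have hcongr : ∀ φ ψ', ((Fintype.card (Left W₁ W₂) : ℕ) : ℤ) ∣
      x φ ψ' - -δ ψ * if ψ' = ψ then 1 else 0 := by
    intro φ ψ'
    obtain ⟨t, ht⟩ := Char.classInner_generalized_int hΘ (eta_isGeneralized hη (φ.1 * ψ'.1))
    refine ⟨-t, ?_⟩
    have e := hx φ ψ'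
    rw [heq, hA, classInner_neg_left, classInner_add_left, classInner_smul_left,
      classInner_smul_left, classInner_add_left, classInner_sub_left, classInner_sub_left,
      hB.orth, ht] at e
    simp only [colSum, classInner_sum_left, hη.orthonormal,
      ← coords_apply h.selfNorm, (coords h.selfNorm).injective.eq_iff, Prod.mk.injEq] at e
    simp only [Finset.sum_ite_eq', ite_and, Finset.mem_univ, if_true] at e
    rw [card_left h.selfNorm]
    have e' : ((x φ ψ' - -δ ψ * if ψ' = ψ then 1 else 0 : ℤ) : ℂ) =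
        (((Nat.card W₁ : ℕ) : ℤ) * -t : ℤ) := by
      simp only [eq_comm (a := ψ')]
      push_cast at e ⊢
      linear_combination -e
    exact_mod_cast e'
  have hI : 3 ≤ Fintype.card (Left W₁ W₂) := by
    rw [card_left h.selfNorm]; exact h.card_W₁_three
  have hs : -δ ψ = 1 ∨ -δ ψ = -1 := by rcases hμ.sign ψ with e | e <;> rw [e] <;> norm_num
  have := column_tight hI ψ x (-δ ψ) hs (fun i j' => by convert hcongr i j')
  rw [card_left h.selfNorm] at this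
  exact ⟨this.1, fun hle φ ψ' => by convert this.2 hle φ ψ'⟩

/-- In case A a column with `y = 0` is exact. -/
theorem col_exact (hA : CaseA η ζ χ) {ψ : Right W₁ W₂} (hψ : ψ.1 ≠ 1)
    (hy : classInner (indFun M (testFn ζ (d ψ) (colSum μ ψ))) (Cfsg.conjFun χ) = 0) :
    indFun M (testFn ζ (d ψ) (colSum μ ψ)) = (d ψ : ℂ) • χ - (δ ψ : ℂ) • colSum η ψ := by
  obtain ⟨y, x, hx, hy', hyχ, hnorm, hle⟩ := h.col_bessel hμ hη hB hψ ∅ (by simp)
  rw [hy] at hy'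
  obtain rfl : y = 0 := by exact_mod_cast hy'.symm
  obtain ⟨-, -, htight⟩ := h.col_case_a hμ hη hB hA hψ hx (y := 0) (by rw [hy]; simp)
  simp only [Finset.sum_empty, add_zero, zero_mul] at hle
  have hx' := htight (by linarith)
  set X := indFun M (testFn ζ (d ψ) (colSum μ ψ)) with hX
  set C := (d ψ : ℂ) • χ - (δ ψ : ℂ) • colSum η ψ with hC
  rw [← sub_eq_zero, ← Char.classInner_self_eq_zero, classInner_sub_sub]
  have hcc : classInner (colSum η ψ) (colSum η ψ) = (Nat.card W₁ : ℂ) := by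
    simp only [colSum, classInner_sum_left, classInner_sum_right, hη.orthonormal,
      ← coords_apply h.selfNorm, (coords h.selfNorm).injective.eq_iff, Prod.mk.injEq, and_true]
    simp [Finset.sum_ite_eq, card_left h.selfNorm]
  have hχc : classInner χ (colSum η ψ) = 0 := by simp [colSum, classInner_sum_right, hB.orth]
  have hδ : (δ ψ : ℂ) * δ ψ = 1 := by rcases hμ.sign ψ with e | e <;> simp [e]
  have hCC : classInner C C = (d ψ : ℂ) ^ 2 + Nat.card W₁ := by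
    rw [hC, classInner_sub_sub, classInner_smul_left, classInner_smul_left, classInner_smul_left,
      classInner_smul_left, classInner_smul_right, classInner_smul_right, classInner_smul_right,
      classInner_smul_right, hB.sirr.inner_self, hcc, hχc, Coherence.inner_eq_zero_comm hχc,
      map_natCast, map_intCast]
    linear_combination (Nat.card W₁ : ℂ) * hδ
  have hXC : classInner X C = (d ψ : ℂ) ^ 2 + Nat.card W₁ := by
    rw [hC, classInner_sub_right, classInner_smul_right, classInner_smul_right, hyχ]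
    simp only [colSum, classInner_sum_right, hx, hx', if_true, mul_one, Finset.sum_const,
      Finset.card_univ, card_left h.selfNorm, map_natCast, map_intCast]
    push_cast
    rw [nsmul_eq_mul]
    linear_combination (Nat.card W₁ : ℂ) * hδ
  rw [hnorm, hXC, hCC, ← classInner_conj_symm X C, hXC]
  simp

/-- The inner product with `χ` through the restriction to `K`. -/
theorem test_inner (θ : IrrCharacter (kin M)) {m : ℂ}
    (hm : classInner ζ (fun x : M => χ (x : G)) = m) (n : ℕ) :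
    classInner (indFun M (testFn ζ n (indFun (kin M) (θ : kin M → ℂ)))) χ =
      (n : ℂ) * m - conj (classInner (fun k : kin M => χ ((k : M) : G)) (θ : kin M → ℂ)) := by
  have hχc := IsGen.isClassFunction hB.sirr.isGeneralized
  have hχMc : IsClassFunction ↥M (fun x : ↥M => χ (x : G)) := fun x g => hχc (x : G) (g : G)
  rw [classInner_indFun_left M _ hχc, testFn, classInner_sub_left, classInner_smul_left, hm,
    classInner_indFun_left _ _ hχMc, classInner_conj_symm]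

omit hB in
/-- The squares of the degrees over a normal subgroup `Z`. -/
theorem sum_rest {Z : Subgroup ↥M} [Z.Normal] (hZK : Z ≤ kin M) :
    (Nat.card ↥⁅M, M⁆ : ℤ) ≤ (Z.relIndex (kin M) : ℤ) +
        (Nat.card W₁ : ℤ) * ∑ Φ ∈ restSet Z, (degN W₁ Φ : ℤ) ^ 2 +
        ∑ ψ ∈ Finset.univ.filter (fun ψ : Right W₁ W₂ => ψ.1 ≠ 1), (d ψ : ℤ) ^ 2 ∧
      ((∀ ψ : Right W₁ W₂, ψ.1 ≠ 1 → colSum μ ψ ∈ inducedIrrAbove (kin M) Z) →
        (Nat.card ↥⁅M, M⁆ : ℤ) ≤ (Z.relIndex (kin M) : ℤ) +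
            (Nat.card W₁ : ℤ) * ∑ Φ ∈ restSet Z, (degN W₁ Φ : ℤ) ^ 2 ∧
          ∀ ψ : Right W₁ W₂, ψ.1 ≠ 1 → (d ψ : ℤ) ^ 2 + 1 ≤ (Z.relIndex (kin M) : ℤ)) := by
  have hS := h.degSys hμ hη
  set n : (↥M → ℂ) → ℕ := fun Φ => if IsIrrCharacter ↥M Φ then 1 else Nat.card W₁ with hn
  have hdeg : ∀ {A : Subgroup ↥M}, ∀ Φ ∈ inducedIrrAbove (kin M) A,
      Φ 1 = ((Nat.card W₁ * degN W₁ Φ : ℕ) : ℂ) := fun Φ hΦ => by
    rw [(h.member_deg (OddChars.inducedIrrAbove_subset_bot hΦ)).1, Nat.cast_mul]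
  have hnorm : ∀ {A : Subgroup ↥M}, ∀ Φ ∈ inducedIrrAbove (kin M) A,
      classInner Φ Φ = (n Φ : ℂ) := fun Φ hΦ => by
    simp only [hn]
    split_ifs with hi
    · rw [classInner_irr_self hi, Nat.cast_one]
    · obtain ⟨ψ, -, rfl⟩ := (h.members hμ Φ (OddChars.inducedIrrAbove_subset_bot hΦ)).resolve_left hi
      rw [h.col_inner hμ, if_pos rfl]
  set w : (↥M → ℂ) → ℝ := fun Φ => ((Nat.card W₁ * degN W₁ Φ : ℕ) : ℝ) ^ 2 / (n Φ : ℝ) with hw
  set e : ℝ := (Nat.card W₁ : ℝ) with he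
  have he0 : 0 < e := by rw [he]; exact_mod_cast Nat.card_pos
  have s1 := OddChars.sum_family (K := kin M) (A := ⊥) bot_le _ n hdeg hnorm
  have s2 := OddChars.sum_family (K := kin M) (A := Z) hZK _ n hdeg hnorm
  have hidx : ((⊥ : Subgroup ↥M).relIndex (kin M)) = Nat.card ↥⁅M, M⁆ := by
    rw [Subgroup.relIndex_bot_left,
      Nat.card_congr (Subgroup.subgroupOfEquivOfLe (derived_le M)).toEquiv]
  rw [h.index_kin, hidx] at s1
  rw [h.index_kin] at s2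
  set All := (OddChars.inducedIrrAbove_finite (K := kin M) (A := (⊥ : Subgroup ↥M))).toFinset
  set Low := (OddChars.inducedIrrAbove_finite (K := kin M) (A := Z)).toFinset
  set Cols := (Finset.univ.filter fun ψ : Right W₁ W₂ => ψ.1 ≠ 1).image (colSum μ) with hC
  have hwpos : ∀ Φ, 0 ≤ w Φ := fun Φ => div_nonneg (sq_nonneg _) (Nat.cast_nonneg _)
  have hsub : All ⊆ restSet Z ∪ Low ∪ Cols := by
    intro Φ hΦ
    have hm : Φ ∈ inducedIrrAbove (kin M) ⊥ := (Set.Finite.mem_toFinset _).1 hΦ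
    rcases h.members hμ Φ hm with hi | ⟨ψ, hψ, rfl⟩
    · by_cases hZ : Φ ∈ inducedIrrAbove (kin M) Z
      · exact Finset.mem_union_left _ (Finset.mem_union_right _ ((Set.Finite.mem_toFinset _).2 hZ))
      · exact Finset.mem_union_left _ (Finset.mem_union_left _ (mem_restSet.2 ⟨hm, hi, hZ⟩))
    · exact Finset.mem_union_right _ (Finset.mem_image.2 ⟨ψ, by simp [hψ], rfl⟩)
  have hrest : ∑ Φ ∈ restSet Z, w Φ = e ^ 2 * ∑ Φ ∈ restSet Z, ((degN W₁ Φ : ℤ) : ℝ) ^ 2 := by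
    rw [Finset.mul_sum]
    refine Finset.sum_congr rfl fun Φ hΦ => ?_
    simp only [hw, hn, if_pos (mem_restSet.1 hΦ).2.1]
    push_cast
    ring
  have hcol : ∀ ψ : Right W₁ W₂, w (colSum μ ψ) = e * ((d ψ : ℤ) : ℝ) ^ 2 := fun ψ => by
    simp only [hw, hn, if_neg (hS.col_not_irr ψ), h.degN_col hμ hη]
    push_cast
    rw [← he]
    field_simp
  have hinj : ∀ ψ ψ' : Right W₁ W₂, colSum μ ψ = colSum μ ψ' → ψ = ψ' := fun ψ ψ' e' => by
    by_contra hne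
    have e1 := h.col_inner hμ ψ ψ'
    rw [if_neg hne, ← e', h.col_inner hμ, if_pos rfl] at e1
    exact Nat.card_pos.ne' (Nat.cast_eq_zero.1 e1)
  have hcols : ∑ Φ ∈ Cols, w Φ = e * ∑ ψ ∈ Finset.univ.filter (fun ψ : Right W₁ W₂ => ψ.1 ≠ 1),
      ((d ψ : ℤ) : ℝ) ^ 2 := by
    rw [hC, Finset.sum_image fun a _ b _ => hinj a b, Finset.mul_sum]
    exact Finset.sum_congr rfl fun ψ _ => hcol ψ
  have hunion : ∀ A B : Finset (↥M → ℂ), ∑ Φ ∈ A ∪ B, w Φ ≤ ∑ Φ ∈ A, w Φ + ∑ Φ ∈ B, w Φ :=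
    fun A B => by
      rw [← Finset.sum_union_inter]
      exact le_add_of_nonneg_right (Finset.sum_nonneg fun Φ _ => hwpos Φ)
  constructor
  · have := (Finset.sum_le_sum_of_subset_of_nonneg hsub fun Φ _ _ => hwpos Φ).trans
      ((hunion _ _).trans (add_le_add (hunion _ _) le_rfl))
    rw [hrest, hcols, show ∑ Φ ∈ All, w Φ = _ from s1, show ∑ Φ ∈ Low, w Φ = _ from s2, ← he] at this
    have h2 : e * (Nat.card ↥⁅M, M⁆ : ℝ) ≤ e * ((Z.relIndex (kin M) : ℝ) +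
        e * ∑ Φ ∈ restSet Z, ((degN W₁ Φ : ℤ) : ℝ) ^ 2 +
        ∑ ψ ∈ Finset.univ.filter (fun ψ : Right W₁ W₂ => ψ.1 ≠ 1), ((d ψ : ℤ) : ℝ) ^ 2) := by
      nlinarith
    have h3 := le_of_mul_le_mul_left h2 he0
    rw [he] at h3
    exact_mod_cast h3
  · intro hcolZ
    have hsub' : All ⊆ restSet Z ∪ Low := fun Φ hΦ => by
      rcases Finset.mem_union.1 (hsub hΦ) with hh | hh
      · exact hh
      · obtain ⟨ψ, hψ, rfl⟩ := Finset.mem_image.1 hh
        exact Finset.mem_union_right _ ((Set.Finite.mem_toFinset _).2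
          (hcolZ ψ (Finset.mem_filter.1 hψ).2))
    refine ⟨?_, fun ψ hψ => ?_⟩
    · have := (Finset.sum_le_sum_of_subset_of_nonneg hsub' fun Φ _ _ => hwpos Φ).trans (hunion _ _)
      rw [hrest, show ∑ Φ ∈ All, w Φ = _ from s1, show ∑ Φ ∈ Low, w Φ = _ from s2, ← he] at this
      have h2 : e * (Nat.card ↥⁅M, M⁆ : ℝ) ≤ e * ((Z.relIndex (kin M) : ℝ) +
          e * ∑ Φ ∈ restSet Z, ((degN W₁ Φ : ℤ) : ℝ) ^ 2) := by nlinarith
      have h3 := le_of_mul_le_mul_left h2 he0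
      rw [he] at h3
      exact_mod_cast h3
    · have := Finset.single_le_sum (f := w) (fun Φ _ => hwpos Φ)
        ((Set.Finite.mem_toFinset (OddChars.inducedIrrAbove_finite (K := kin M) (A := Z))).2
          (hcolZ ψ hψ))
      rw [hcol, show ∑ Φ ∈ Low, w Φ = _ from s2] at this
      have h3 : ((d ψ : ℤ) : ℝ) ^ 2 ≤ (Z.relIndex (kin M) : ℝ) - 1 :=
        le_of_mul_le_mul_left this he0
      have h4 : ((d ψ : ℤ) : ℝ) ^ 2 + 1 ≤ (Z.relIndex (kin M) : ℝ) := by linarith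
      exact_mod_cast h4

omit hB in
theorem card_three {Z : Subgroup ↥M} (hZ1 : Z ≠ ⊥) : 3 ≤ Nat.card Z := by
  have h1 := (Subgroup.one_lt_card_iff_ne_bot Z).2 hZ1
  obtain ⟨k, hk⟩ := (h.odd_of M).of_dvd_nat (Subgroup.card_subgroup_dvd_card Z)
  omega

omit hB in
theorem relIndex_mul {Z : Subgroup ↥M} (hZK : Z ≤ kin M) :
    Nat.card Z * Z.relIndex (kin M) = Nat.card ↥⁅M, M⁆ := by
  rw [← Nat.card_congr (Subgroup.subgroupOfEquivOfLe hZK).toEquiv, Subgroup.relIndex,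
    Subgroup.card_mul_index, Nat.card_congr (Subgroup.subgroupOfEquivOfLe (derived_le M)).toEquiv]

omit hB in
/-- Exactness when `K` has a central subgroup meeting `W₂` trivially. -/
theorem exact_of_disjoint {Z : Subgroup ↥M} [Z.Normal] (hZ1 : Z ≠ ⊥) (hZlt : Z < kin M)
    (hZc : ∀ z ∈ Z, ∀ k ∈ kin M, z * k = k * z) (hZW : Z ⊓ W₂.subgroupOf M = ⊥) {s : ℕ}
    [Fact s.Prime] (hZs : IsPGroup s Z) :
    ∃ ζ χ T, ExactData W₁ μ η δ d ζ χ T := by
  have hZK := hZlt.le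
  have hS := h.degSys hμ hη
  obtain ⟨ζ, χ₀, hB₀, hζZ, -⟩ := h.exists_base hμ hη hZlt
  obtain ⟨κ, hκ, -⟩ := h.kappa hS hZ1 hZK hZc hZW hZs hζZ hB₀.irr hB₀.sirr hB₀.tau.symm
  obtain ⟨m, hm⟩ : ∃ m : ℤ, classInner ζ (fun x : M => χ₀ (x : G)) = m :=
    Char.classInner_generalized_int (member_gen hB₀.mem)
      (isGeneralized_comp M.subtype hB₀.sirr.isGeneralized)
  set c : ℤ := m - κ - 1 with hc
  have hne : ∀ {Φ : ↥M → ℂ}, Φ ∉ inducedIrrAbove (kin M) Z → Φ ≠ ζ ∧ Φ ≠ Cfsg.conjFun ζ :=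
    fun hΦ => ⟨fun e => hΦ (e ▸ hζZ), fun e => hΦ (e ▸ OddChars.inducedIrrAbove_conj_mem hζZ)⟩
  -- `y = c n`
  have hy₀ : ∀ Φ ∈ restSet Z, classInner (indFun M (testFn ζ (degN W₁ Φ) Φ))
      (Cfsg.conjFun χ₀) = ((c * degN W₁ Φ : ℤ) : ℂ) ∧
      classInner (indFun M (testFn ζ (degN W₁ Φ) Φ)) χ₀ =
        ((degN W₁ Φ + c * degN W₁ Φ : ℤ) : ℂ) ∧
      -(degN W₁ Φ : ℤ) ≤ c * degN W₁ Φ ∧ c * degN W₁ Φ ≤ 0 := by
    intro Φ hΦ
    obtain ⟨hΦS, hΦi, hΦZ⟩ := mem_restSet.1 hΦ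
    obtain ⟨hz, hz'⟩ := hne hΦZ
    have hn := (h.member_deg hΦS).1
    obtain ⟨y, a, b, -, -, -, hy, hyχ, -, -⟩ := h.test_coeff hμ hη hB₀ hΦS hn hz hz' (N := 1)
      (by rw [classInner_irr_self hΦi, Nat.cast_one])
    obtain ⟨θ, hθ, hθZ, e⟩ := OddChars.mem_diff_iff.1 ⟨hΦS, hΦZ⟩
    have hnt : ∃ z ∈ Z.subgroupOf (kin M), θ z ≠ θ 1 := by
      by_contra hall
      push Not at hall
      exact hθZ ⟨hθ.1, hθ.2.1, fun a ha => hall a ha⟩
    have hθ1 : θ 1 = (degN W₁ Φ : ℂ) := by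
      rw [e, (h.degN_ind hθ.1).1, CharArith.charDegree_spec (IsIrr.isCharacter hθ.1)]
    have t := h.test_inner hμ hη hB₀ ⟨θ, hθ.1⟩ hm (degN W₁ Φ)
    rw [hκ ⟨θ, hθ.1⟩ hnt, ← e, hyχ] at t
    simp only [hθ1, map_mul, map_natCast, map_intCast] at t
    have hy2 : y = c * degN W₁ Φ := by
      have : ((y : ℤ) : ℂ) = ((c * degN W₁ Φ : ℤ) : ℂ) := by
        rw [hc]; push_cast at t ⊢; linear_combination t
      exact_mod_cast this
    rw [hy2] at hy hyχ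
    obtain ⟨hb, -⟩ := h.irr_bound hμ hη hB₀ hΦS hΦi hn hz hz' hy
    exact ⟨hy, hyχ, hb⟩
  obtain ⟨Φ₀, hΦ₀⟩ : (restSet Z).Nonempty := by
    obtain ⟨θ, hθ, hθZ⟩ := OddChars.exists_above_not_mem (K := kin M) hZ1 hZK
    have hm' : indFun (kin M) θ ∈ inducedIrrAbove (kin M) ⊥ \ inducedIrrAbove (kin M) Z :=
      OddChars.mem_diff_iff.2 ⟨θ, hθ, hθZ, rfl⟩
    exact ⟨_, mem_restSet.2 ⟨hm'.1, hS.nontrivial_irr hZK hZc (h.fixed_free hZK hZc hZW) _ hm',
      hm'.2⟩⟩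
  have hc01 : c = 0 ∨ c = -1 := by
    obtain ⟨-, -, h1, h2⟩ := hy₀ Φ₀ hΦ₀
    have hp : (0 : ℤ) < degN W₁ Φ₀ := by
      exact_mod_cast (h.member_deg (mem_restSet.1 hΦ₀).1).2
    have h3 : c ≤ 0 := by nlinarith
    have h4 : -1 ≤ c := by nlinarith
    omega
  obtain ⟨χ, hB, hy⟩ : ∃ χ, Base W₁ η ζ χ ∧ ∀ Φ ∈ restSet Z,
      classInner (indFun M (testFn ζ (degN W₁ Φ) Φ)) (Cfsg.conjFun χ) = 0 := by
    rcases hc01 with e | e
    · exact ⟨χ₀, hB₀, fun Φ hΦ => by rw [(hy₀ Φ hΦ).1, e]; simp⟩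
    · refine ⟨_, h.base_flip hμ hη hB₀, fun Φ hΦ => ?_⟩
      rw [show Cfsg.conjFun (-Cfsg.conjFun χ₀) = -χ₀ from funext fun g => by simp [Cfsg.conjFun],
        classInner_neg_right, (hy₀ Φ hΦ).2.1, e]
      simp
  have hT : ∀ Φ ∈ restSet Z, Φ ∈ inducedIrrAbove (kin M) ⊥ ∧ IsIrrCharacter ↥M Φ ∧ Φ ≠ ζ ∧
      Φ ≠ Cfsg.conjFun ζ ∧
      classInner (indFun M (testFn ζ (degN W₁ Φ) Φ)) (Cfsg.conjFun χ) = 0 := fun Φ hΦ => by
    obtain ⟨h1, h2, h3⟩ := mem_restSet.1 hΦ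
    exact ⟨h1, h2, (hne h3).1, (hne h3).2, hy Φ hΦ⟩
  have hcolZ : ∀ ψ : Right W₁ W₂, ψ.1 ≠ 1 → colSum μ ψ ∈ inducedIrrAbove (kin M) Z :=
    fun ψ hψ => by
      by_contra hno
      exact hS.col_not_irr ψ (hS.nontrivial_irr hZK hZc (h.fixed_free hZK hZc hZW) _
        ⟨h.col_mem hμ hη hψ, hno⟩)
  obtain ⟨hsum, hd2⟩ := (h.sum_rest hμ hη hZK).2 hcolZ
  set S : ℤ := ∑ Φ ∈ restSet Z, (degN W₁ Φ : ℤ) ^ 2 with hSdef
  have hK : 3 * (Z.relIndex (kin M) : ℤ) ≤ (Nat.card ↥⁅M, M⁆ : ℤ) := by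
    rw [← h.relIndex_mul hμ hη hZK]
    exact_mod_cast Nat.mul_le_mul_right _ (h.card_three hμ hη hZ1)
  have hSbig : ∀ ψ : Right W₁ W₂, ψ.1 ≠ 1 → 2 * (d ψ : ℤ) < 2 + S := by
    intro ψ hψ
    have h1 := hd2 ψ hψ
    have h2 := h.d_ge hμ hψ
    have he : (3 : ℤ) ≤ Nat.card W₁ := by exact_mod_cast h.card_W₁_three
    by_contra hle
    push Not at hle
    nlinarith [mul_le_mul_of_nonneg_left hle (show (0 : ℤ) ≤ Nat.card W₁ by omega)]
  have hcases := h.dichotomy hμ hη hB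
  rcases hcases with hA | hA | ⟨j, hj, hlarge⟩
  · have hcol : ∀ ψ : Right W₁ W₂, ψ.1 ≠ 1 →
        classInner (indFun M (testFn ζ (d ψ) (colSum μ ψ))) (Cfsg.conjFun χ) = 0 := by
      intro ψ hψ
      obtain ⟨y, x, hx, hy', -, -, hle⟩ := h.col_bessel hμ hη hB hψ (restSet Z) hT
      obtain ⟨⟨q, hq⟩, hE, -⟩ := h.col_case_a hμ hη hB hA hψ hx hy'
      have hy0 : y = 0 := by
        by_contra hne0
        have h1 : y * (y * (2 + S) + 2 * d ψ) ≤ 0 := by linarith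
        have h2 := hSbig ψ hψ
        rcases lt_or_gt_of_ne hne0 with h3 | h3
        · have : 0 ≤ y * (2 + S) + 2 * d ψ := by
            by_contra h4
            push Not at h4
            nlinarith
          nlinarith
        · have h5 := mul_pos h3 (show (0 : ℤ) < 2 + S by linarith [Int.natCast_nonneg (d ψ)])
          have h6 : 0 ≤ y * (2 * (d ψ : ℤ)) := mul_nonneg h3.le (by positivity)
          nlinarith
      rw [hy', hy0, Int.cast_zero]
    refine ⟨ζ, χ, restSet Z, hB, hA, fun ψ hψ => h.col_exact hμ hη hB hA hψ (hcol ψ hψ),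
      fun Φ hΦ => ⟨(hT Φ hΦ).1, (hT Φ hΦ).2.1, (h.member_deg (hT Φ hΦ).1).1⟩,
      fun Φ hΦ => ?_, fun Φ hΦ Φ' hΦ' hdne => ?_, fun Φ hΦ => ?_, fun Φ hΦ => ?_, ?_⟩
    · obtain ⟨a, b, c, e, f⟩ := hT Φ hΦ
      exact (h.rest_exact hμ hη hB a b c e f).1
    · obtain ⟨a, b, c, e, f⟩ := hT Φ hΦ
      obtain ⟨a', b', c', e', f'⟩ := hT Φ' hΦ'
      exact h.rest_orth hμ hη hB a a' c c' hdne (h.rest_exact hμ hη hB a b c e f).2.2.2.2
        (h.rest_exact hμ hη hB a' b' c' e' f').2.2.2.2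
    · obtain ⟨a, b, c, e, f⟩ := hT Φ hΦ
      exact (h.rest_exact hμ hη hB a b c e f).2.1
    · obtain ⟨a, b, c, e, f⟩ := hT Φ hΦ
      exact (h.rest_exact hμ hη hB a b c e f).2.2.2.1
    · have h0 : (0 : ℤ) ≤ ∑ ψ ∈ Finset.univ.filter (fun ψ : Right W₁ W₂ => ψ.1 ≠ 1),
          (d ψ : ℤ) ^ 2 := Finset.sum_nonneg fun _ _ => sq_nonneg _
      have : (2 : ℤ) * Nat.card ↥⁅M, M⁆ ≤ 3 * ((Nat.card W₁ : ℤ) * S +
          ∑ ψ ∈ Finset.univ.filter (fun ψ : Right W₁ W₂ => ψ.1 ≠ 1), (d ψ : ℤ) ^ 2) := by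
        linarith
      rw [hSdef] at this
      exact_mod_cast this
  · exfalso
    have hB' := h.base_flip hμ hη hB
    obtain ⟨hΦS, hΦi, hΦZ⟩ := mem_restSet.1 hΦ₀
    obtain ⟨-, -, hz, hz', hy0⟩ := hT Φ₀ hΦ₀
    obtain ⟨r0, r1, r2, r3, r4⟩ := h.rest_exact hμ hη hB hΦS hΦi hz hz' hy0
    obtain ⟨y, a, b, -, hb, hab, hy', hyχ, -, -⟩ :=
      h.test_coeff hμ hη hB' hΦS (h.member_deg hΦS).1 hz hz' (N := 1)
        (by rw [classInner_irr_self hΦi, Nat.cast_one])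
    have hsum0 := h.case_a_y hμ hη hB' hA hΦS (h.member_deg hΦS).1 hz hb hab hyχ
    have hη0 := (h.irr_bound hμ hη hB hΦS hΦi (h.member_deg hΦS).1 hz hz' (y := 0)
      (by rw [hy0]; simp)).2 (Or.inl rfl)
    have ha0 : ∀ φ, a φ = 0 := fun φ => by
      have e := hab φ rightOne
      rw [hη0, hb, add_zero] at e
      exact_mod_cast e.symm
    rw [show Cfsg.conjFun (-Cfsg.conjFun χ) = -χ from funext fun g => by simp [Cfsg.conjFun],
      classInner_neg_right, r4] at hy'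
    have hy2 : y = -(degN W₁ Φ₀ : ℤ) := by
      have : ((y : ℤ) : ℂ) = ((-(degN W₁ Φ₀ : ℤ) : ℤ) : ℂ) := by push_cast; exact hy'.symm
      exact_mod_cast this
    simp only [ha0, Finset.sum_const_zero] at hsum0
    have := (h.member_deg hΦS).2
    omega
  · exfalso
    obtain ⟨y, x, hx, hy', -, -, hle⟩ := h.col_bessel hμ hη hB hj (restSet Z) hT
    have hE := hlarge 0 x hx
    have h1 : y * (y * (2 + S) + 2 * d j) < 0 := by linarith
    have h2 := hSbig j hj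
    rcases lt_trichotomy y 0 with h3 | h3 | h3
    · have : 0 < y * (2 + S) + 2 * d j := by
        by_contra h4
        push Not at h4
        nlinarith
      nlinarith
    · rw [h3, zero_mul] at h1; exact lt_irrefl _ h1
    · have h5 := mul_pos h3 (show (0 : ℤ) < 2 + S by linarith [Int.natCast_nonneg (d j)])
      have h6 : 0 ≤ y * (2 * (d j : ℤ)) := mul_nonneg h3.le (by positivity)
      nlinarith

omit hB in
/-- Exactness when `W₂` is central in `K` and `K` is an `r`-group. -/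
theorem exact_of_central (hcen : ∀ z ∈ W₂.subgroupOf M, ∀ k ∈ kin M, z * k = k * z)
    {s : ℕ} [Fact s.Prime] (hKs : IsPGroup s ↥⁅M, M⁆) :
    ∃ ζ χ T, ExactData W₁ μ η δ d ζ χ T := by
  have := h.normal_W₂ hcen
  have hS := h.degSys hμ hη
  have hZK : W₂.subgroupOf M ≤ kin M := fun z hz => h.W₂_le_derived hz
  have hZlt : W₂.subgroupOf M < kin M := by
    refine lt_of_le_of_ne hZK fun e => ?_
    have hd : ⁅kin M, kin M⁆ = ⊥ := by
      rw [eq_bot_iff, Subgroup.commutator_le]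
      intro p hp q hq
      rw [← e] at hp
      rw [Subgroup.mem_bot, commutatorElement_eq_one_iff_mul_comm]
      exact hcen p hp q hq
    obtain ⟨b, hb, hb1⟩ := (Subgroup.bot_or_exists_ne_one W₂).resolve_left h.W₂_ne
    have := h.W₂_le_derived_kin (show (⟨b, h.W₂_le hb⟩ : M) ∈ W₂.subgroupOf M from hb)
    rw [hd, Subgroup.mem_bot] at this
    exact hb1 (congrArg Subtype.val this)
  obtain ⟨ζ, χ₀, hB₀, hζZ, hconst₀⟩ := h.exists_base hμ hη hZlt
  have hconst := hconst₀ hcen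
  set Zk := (W₂.subgroupOf M).subgroupOf (kin M) with hZk
  have hhom : ∀ θ : IrrCharacter (kin M), ∃ l : ↥Zk →* ℂˣ, AboveHom Zk l (θ : kin M → ℂ) := by
    intro θ
    obtain ⟨ω, hω⟩ := exists_central_hom θ.2
    refine ⟨ω.comp (Subgroup.inclusion fun y hy => Subgroup.mem_center_iff.2 fun k =>
      Subtype.ext (hcen _ hy _ k.2).symm), fun z => ?_⟩
    exact hω ⟨(z : kin M), _⟩
  have hnab : ∀ {l : ↥Zk →* ℂˣ}, l ≠ 1 → ∀ θ : IrrCharacter (kin M),
      AboveHom Zk l (θ : kin M → ℂ) → indFun (kin M) (θ : kin M → ℂ) ∈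
        inducedIrrAbove (kin M) ⊥ \ inducedIrrAbove (kin M) (W₂.subgroupOf M) := by
    intro l hl θ hθ
    obtain ⟨z, hz⟩ : ∃ z, l z ≠ 1 := by
      by_contra hall
      push Not at hall
      exact hl (MonoidHom.ext hall)
    have hz' : (θ : kin M → ℂ) z ≠ (θ : kin M → ℂ) 1 := fun e => hz (Units.ext (by
      have e2 := hθ z
      rw [e] at e2
      rw [Units.val_one]
      exact mul_left_cancel₀ (IsIrr.one_ne_zero θ.2) (e2.symm.trans (mul_one _).symm)))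
    refine OddChars.mem_diff_iff.2 ⟨_, ⟨θ.2, fun e => hz' (by rw [e]), fun a ha => ?_⟩,
      fun hA => hz' (hA.2.2 _ z.2), rfl⟩
    rw [show a = 1 from Subtype.ext (Subgroup.mem_bot.1 ha)]
  have hnez : ∀ {Φ : ↥M → ℂ}, Φ ∉ inducedIrrAbove (kin M) (W₂.subgroupOf M) →
      Φ ≠ ζ ∧ Φ ≠ Cfsg.conjFun ζ :=
    fun hΦ => ⟨fun e => hΦ (e ▸ hζZ), fun e => hΦ (e ▸ OddChars.inducedIrrAbove_conj_mem hζZ)⟩
  -- the congruence over a nontrivial `l`
  have fibre : ∀ χ, Base W₁ η ζ χ →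
      (∀ z ∈ W₂.subgroupOf M, ∀ z' ∈ W₂.subgroupOf M, z ≠ 1 → z' ≠ 1 →
        χ (z : G) = χ (z' : G)) →
      ∀ {l : ↥Zk →* ℂˣ}, l ≠ 1 → ∀ y : IrrCharacter (kin M) → ℤ,
      (∀ θ : IrrCharacter (kin M), AboveHom Zk l (θ : kin M → ℂ) →
        classInner (indFun M (testFn ζ (charDegree (θ : kin M → ℂ))
          (indFun (kin M) (θ : kin M → ℂ)))) (Cfsg.conjFun χ) = (y θ : ℂ) ∧
        -(charDegree (θ : kin M → ℂ) : ℤ) ≤ y θ ∧ y θ ≤ 0) →
      ∀ θ₁ : IrrCharacter (kin M), AboveHom Zk l (θ₁ : kin M → ℂ) →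
        -(charDegree (θ₁ : kin M → ℂ) : ℤ) < y θ₁ →
        ∀ θ : IrrCharacter (kin M), AboveHom Zk l (θ : kin M → ℂ) → y θ = 0 := by
    intro χ hB hconst' l hl y hy θ₁ hθ₁ hlt θ hθ
    obtain ⟨w, hw⟩ := h.central_cong hS hcen hKs hB.sirr hconst' hl
    obtain ⟨m, hm⟩ : ∃ m : ℤ, classInner ζ (fun x : M => χ (x : G)) = m :=
      Char.classInner_generalized_int (member_gen hB.mem)
        (isGeneralized_comp M.subtype hB.sirr.isGeneralized)
    set F := Finset.univ.filter fun θ : IrrCharacter (kin M) => AboveHom Zk l (θ : kin M → ℂ)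
    have hmem : ∀ θ ∈ F, AboveHom Zk l (θ : kin M → ℂ) := fun θ hθ => (Finset.mem_filter.1 hθ).2
    have hterm : ∀ θ ∈ F, (θ : kin M → ℂ) 1 *
        classInner (fun k : kin M => χ ((k : ↥M) : G)) (θ : kin M → ℂ) =
        (((m - 1) * (charDegree (θ : kin M → ℂ) : ℤ) ^ 2 -
          (charDegree (θ : kin M → ℂ) : ℤ) * y θ : ℤ) : ℂ) := by
      intro θ hθ
      have hd := hnab hl θ (hmem θ hθ)
      obtain ⟨hy1, -⟩ := hy θ (hmem θ hθ)
      have hnorm : ∃ N : ℕ, classInner (indFun (kin M) (θ : kin M → ℂ))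
          (indFun (kin M) (θ : kin M → ℂ)) = (N : ℂ) :=
        Coherence.classInner_self_natCast (isCharacter_indFun _ (IsIrr.isCharacter θ.2))
      obtain ⟨N, hN⟩ := hnorm
      obtain ⟨y', a, b, -, -, -, hy', hyχ, -, -⟩ := h.test_coeff hμ hη hB hd.1
        (h.degN_ind θ.2).2 (hnez hd.2).1 (hnez hd.2).2 hN
      rw [hy1] at hy'
      obtain rfl : y θ = y' := by exact_mod_cast hy'
      have t := h.test_inner hμ hη hB θ hm (charDegree (θ : kin M → ℂ))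
      rw [hyχ] at t
      have t2 := congrArg (starRingEnd ℂ) t
      simp only [map_sub, map_mul, map_natCast, map_intCast, Complex.conj_conj] at t2
      rw [CharArith.charDegree_spec (IsIrr.isCharacter θ.2)]
      push_cast at t2 ⊢
      linear_combination (charDegree (θ : kin M → ℂ) : ℂ) * t2
    rw [Finset.sum_congr rfl hterm] at hw
    have hsq := h.central_sq hcen l
    simp only [CharArith.charDegree_spec (IsIrr.isCharacter (Subtype.prop _))] at hsq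
    have hsq' : ∑ θ ∈ F, (charDegree (θ : kin M → ℂ) : ℤ) ^ 2 = (Zk.index : ℤ) := by
      exact_mod_cast hsq
    have hw' : ∑ θ ∈ F, ((m - 1) * (charDegree (θ : kin M → ℂ) : ℤ) ^ 2 -
        (charDegree (θ : kin M → ℂ) : ℤ) * y θ) = (Zk.index : ℤ) * w := by exact_mod_cast hw
    rw [Finset.sum_sub_distrib, ← Finset.mul_sum, hsq'] at hw'
    set Y := ∑ θ ∈ F, -((charDegree (θ : kin M → ℂ) : ℤ) * y θ) with hY
    have hYeq : Y = (Zk.index : ℤ) * (w - m + 1) := by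
      rw [hY, Finset.sum_neg_distrib]; linear_combination hw'
    have hnn : ∀ θ ∈ F, 0 ≤ -((charDegree (θ : kin M → ℂ) : ℤ) * y θ) := fun θ hθ => by
      obtain ⟨-, -, h2⟩ := hy θ (hmem θ hθ)
      nlinarith [Int.natCast_nonneg (charDegree (θ : kin M → ℂ))]
    have hlt' : Y < (Zk.index : ℤ) := by
      rw [hY, ← hsq']
      refine Finset.sum_lt_sum (fun θ hθ => ?_) ⟨θ₁, Finset.mem_filter.2 ⟨Finset.mem_univ _, hθ₁⟩,
        ?_⟩
      · obtain ⟨-, h1, -⟩ := hy θ (hmem θ hθ)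
        nlinarith [Int.natCast_nonneg (charDegree (θ : kin M → ℂ))]
      · have hp : (0 : ℤ) < charDegree (θ₁ : kin M → ℂ) := by
          have := IsIrr.one_ne_zero θ₁.2
          rw [CharArith.charDegree_spec (IsIrr.isCharacter θ₁.2), Ne, Nat.cast_eq_zero] at this
          omega
        nlinarith
    have h0 : 0 ≤ Y := Finset.sum_nonneg hnn
    have hY0 : Y = 0 := by
      rcases lt_trichotomy (w - m + 1) 0 with hh | hh | hh
      · nlinarith [Int.natCast_nonneg Zk.index]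
      · rw [hYeq, hh, mul_zero]
      · nlinarith [Int.natCast_nonneg Zk.index]
    have := (Finset.sum_eq_zero_iff_of_nonneg hnn).1 hY0 θ
      (Finset.mem_filter.2 ⟨Finset.mem_univ _, hθ⟩)
    rw [neg_eq_zero, mul_eq_zero] at this
    refine this.resolve_left fun e => IsIrr.one_ne_zero θ.2 ?_
    rw [CharArith.charDegree_spec (IsIrr.isCharacter θ.2), Nat.cast_eq_zero]
    exact_mod_cast e
  have hres : ∀ {ψ : Right W₁ W₂}, ψ.1 ≠ 1 → ∃ l : ↥Zk →* ℂˣ, l ≠ 1 ∧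
      AboveHom Zk l (resK μ ψ) := by
    intro ψ hψ
    obtain ⟨l, hl⟩ := hhom ⟨_, h.res_irr hμ ψ⟩
    refine ⟨l, fun e => ?_, hl⟩
    obtain ⟨z, hz, hne⟩ := h.res_nontrivial hμ hη hψ
    refine hne ?_
    have := hl ⟨z, hz⟩
    simpa [e] using this
  have hy : ∀ χ, Base W₁ η ζ χ → ∀ θ : IrrCharacter (kin M), ∃ y : ℤ,
      classInner (indFun M (testFn ζ (charDegree (θ : kin M → ℂ))
        (indFun (kin M) (θ : kin M → ℂ)))) (Cfsg.conjFun χ) = (y : ℂ) := fun χ hB θ =>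
    Char.classInner_generalized_int (isGeneralized_indFun M (isGeneralized_sub (by
      simpa using isGeneralized_intCast_smul (charDegree (θ : kin M → ℂ) : ℤ) (member_gen hB.mem))
      (isGeneralized_of_isCharacter (isCharacter_indFun _ (IsIrr.isCharacter θ.2)))))
      (sirr_conj hB.sirr).isGeneralized
  -- in case A everything nontrivial on `W₂` is exact
  have main : ∀ χ, Base W₁ η ζ χ → CaseA η ζ χ →
      (∀ z ∈ W₂.subgroupOf M, ∀ z' ∈ W₂.subgroupOf M, z ≠ 1 → z' ≠ 1 →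
        χ (z : G) = χ (z' : G)) →
      ∃ ζ χ T, ExactData W₁ μ η δ d ζ χ T := by
    intro χ hB hA hconst'
    choose y hy' using hy χ hB
    have hbound : ∀ {l : ↥Zk →* ℂˣ}, l ≠ 1 → ∀ θ : IrrCharacter (kin M),
        AboveHom Zk l (θ : kin M → ℂ) →
        classInner (indFun M (testFn ζ (charDegree (θ : kin M → ℂ))
          (indFun (kin M) (θ : kin M → ℂ)))) (Cfsg.conjFun χ) = (y θ : ℂ) ∧
        -(charDegree (θ : kin M → ℂ) : ℤ) ≤ y θ ∧ y θ ≤ 0 := by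
      intro l hl θ hθ
      refine ⟨hy' θ, ?_⟩
      have hd := hnab hl θ hθ
      rcases h.ind_irr_or_col hμ θ.2 with hi | ⟨ψ, e1, e2⟩
      · exact (h.irr_bound hμ hη hB hd.1 hi (h.degN_ind θ.2).2 (hnez hd.2).1 (hnez hd.2).2
          (hy' θ)).1
      · have hψ : ψ.1 ≠ 1 := fun e => by
          obtain ⟨θ', hθ', e'⟩ := OddChars.mem_inducedIrrAbove.1 hd.1
          have hor := (OddChars.indFun_eq_iff θ.2 hθ'.1).1 e'
          rw [mem_orbit] at hor
          obtain ⟨g, hg⟩ := hor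
          refine hθ'.2.1 ?_
          rw [← hg, e1, h.res_conj hμ, show ψ = rightOne from Subtype.ext e]
          exact h.res_one hμ
        have hyθ := hy' θ
        rw [e2, e1, h.charDegree_res hμ hη] at hyθ
        rw [e1, h.charDegree_res hμ hη]
        obtain ⟨y₁, x, hx, hy₁, -, -, hle⟩ := h.col_bessel hμ hη hB hψ ∅ (by simp)
        rw [hyθ] at hy₁
        obtain rfl : y θ = y₁ := by exact_mod_cast hy₁
        obtain ⟨-, hE, -⟩ := h.col_case_a hμ hη hB hA hψ hx hyθ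
        simp only [Finset.sum_empty, add_zero] at hle
        constructor <;> by_contra hh <;> push Not at hh <;> nlinarith
    have hzero : ∀ {ψ : Right W₁ W₂}, ψ.1 ≠ 1 → ∀ {l : ↥Zk →* ℂˣ}, l ≠ 1 →
        AboveHom Zk l (resK μ ψ) →
        ∀ θ : IrrCharacter (kin M), AboveHom Zk l (θ : kin M → ℂ) → y θ = 0 := by
      intro ψ hψ l hl hlψ
      refine fibre χ hB hconst' hl y (hbound hl) ⟨_, h.res_irr hμ ψ⟩ hlψ ?_
      obtain ⟨hy1, h1, -⟩ := hbound hl ⟨_, h.res_irr hμ ψ⟩ hlψ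
      rw [show (indFun (kin M) ((⟨_, h.res_irr hμ ψ⟩ : IrrCharacter (kin M)) : kin M → ℂ)) =
        colSum μ ψ from h.col_eq hμ ψ] at hy1
      simp only [h.charDegree_res hμ hη] at hy1 h1 ⊢
      obtain ⟨y₁, x, hx, hy₁, -, -, -⟩ := h.col_bessel hμ hη hB hψ ∅ (by simp)
      rw [hy1] at hy₁
      have hey : y ⟨_, h.res_irr hμ ψ⟩ = y₁ := by exact_mod_cast hy₁
      obtain ⟨⟨q, hq⟩, -, -⟩ := h.col_case_a hμ hη hB hA hψ hx (y := y₁) (by rw [hy1, hey])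
      refine lt_of_le_of_ne h1 fun e => ?_
      obtain ⟨n, hn⟩ := hμ.deg_mod ψ
      have hdvd : (Nat.card W₁ : ℤ) ∣ δ ψ := ⟨-q - n, by rw [← hey, ← e] at hq; linarith⟩
      have he : (3 : ℤ) ≤ Nat.card W₁ := by exact_mod_cast h.card_W₁_three
      have h4 : δ ψ = 0 := Int.eq_zero_of_abs_lt_dvd hdvd (by
        rcases hμ.sign ψ with e' | e' <;> rw [e'] <;> simp only [abs_neg, abs_one] <;> omega)
      rcases hμ.sign ψ with e' | e' <;> omega
    have hT : ∀ Φ ∈ restSet (W₂.subgroupOf M), Φ ∈ inducedIrrAbove (kin M) ⊥ ∧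
        IsIrrCharacter ↥M Φ ∧ Φ ≠ ζ ∧ Φ ≠ Cfsg.conjFun ζ ∧
        classInner (indFun M (testFn ζ (degN W₁ Φ) Φ)) (Cfsg.conjFun χ) = 0 := by
      intro Φ hΦ
      obtain ⟨hΦS, hΦi, hΦZ⟩ := mem_restSet.1 hΦ
      refine ⟨hΦS, hΦi, (hnez hΦZ).1, (hnez hΦZ).2, ?_⟩
      obtain ⟨θ, hθ, hθZ, rfl⟩ := OddChars.mem_diff_iff.1 ⟨hΦS, hΦZ⟩
      obtain ⟨l, hl⟩ := hhom ⟨θ, hθ.1⟩
      have hl1 : l ≠ 1 := fun e => hθZ ⟨hθ.1, hθ.2.1, fun a ha => by
        have := hl ⟨a, ha⟩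
        simpa [e] using this⟩
      obtain ⟨θ₀, hθ₀, ⟨ψ, hψ, hψe⟩, -⟩ := h.central_fixed hS hcen hl1
      have hres₀ : resK μ ψ = (θ₀ : kin M → ℂ) := by
        have hor := (OddChars.indFun_eq_iff (h.res_irr hμ ψ) θ₀.2).1
          ((h.col_eq hμ ψ).trans hψe.symm)
        rw [mem_orbit] at hor
        obtain ⟨g, hg⟩ := hor
        rw [← hg, h.res_conj hμ]
      have hz0 := hzero hψ hl1 (hres₀ ▸ hθ₀) ⟨θ, hθ.1⟩ hl
      have e := hy' ⟨θ, hθ.1⟩
      rw [hz0, Int.cast_zero] at e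
      rw [(h.degN_ind hθ.1).1]
      exact e
    refine ⟨ζ, χ, restSet (W₂.subgroupOf M), hB, hA, fun ψ hψ => ?_,
      fun Φ hΦ => ⟨(hT Φ hΦ).1, (hT Φ hΦ).2.1, (h.member_deg (hT Φ hΦ).1).1⟩,
      fun Φ hΦ => ?_, fun Φ hΦ Φ' hΦ' hdne => ?_, fun Φ hΦ => ?_, fun Φ hΦ => ?_, ?_⟩
    · obtain ⟨l, hl, hlψ⟩ := hres hψ
      have hz0 := hzero hψ hl hlψ ⟨_, h.res_irr hμ ψ⟩ hlψ
      have e := hy' ⟨_, h.res_irr hμ ψ⟩
      rw [hz0, Int.cast_zero] at e
      refine h.col_exact hμ hη hB hA hψ ?_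
      rw [← h.col_eq hμ ψ, ← h.charDegree_res hμ hη ψ]
      exact e
    · obtain ⟨a, b, c, e, f⟩ := hT Φ hΦ
      exact (h.rest_exact hμ hη hB a b c e f).1
    · obtain ⟨a, b, c, e, f⟩ := hT Φ hΦ
      obtain ⟨a', b', c', e', f'⟩ := hT Φ' hΦ'
      exact h.rest_orth hμ hη hB a a' c c' hdne (h.rest_exact hμ hη hB a b c e f).2.2.2.2
        (h.rest_exact hμ hη hB a' b' c' e' f').2.2.2.2
    · obtain ⟨a, b, c, e, f⟩ := hT Φ hΦ
      exact (h.rest_exact hμ hη hB a b c e f).2.1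
    · obtain ⟨a, b, c, e, f⟩ := hT Φ hΦ
      exact (h.rest_exact hμ hη hB a b c e f).2.2.2.1
    · have hsum := (h.sum_rest hμ hη hZK).1
      have hZ1 : W₂.subgroupOf M ≠ ⊥ := fun e => h.W₂_ne (le_bot_iff.1 fun x hx => by
        have : (⟨x, h.W₂_le hx⟩ : M) ∈ W₂.subgroupOf M := hx
        rw [e, Subgroup.mem_bot] at this
        exact congrArg Subtype.val this)
      have hK : 3 * ((W₂.subgroupOf M).relIndex (kin M) : ℤ) ≤ (Nat.card ↥⁅M, M⁆ : ℤ) := by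
        rw [← h.relIndex_mul hμ hη hZK]
        exact_mod_cast Nat.mul_le_mul_right _ (h.card_three hμ hη hZ1)
      have : (2 : ℤ) * Nat.card ↥⁅M, M⁆ ≤ 3 * ((Nat.card W₁ : ℤ) *
          (∑ Φ ∈ restSet (W₂.subgroupOf M), (degN W₁ Φ : ℤ) ^ 2) +
          ∑ ψ ∈ Finset.univ.filter (fun ψ : Right W₁ W₂ => ψ.1 ≠ 1), (d ψ : ℤ) ^ 2) := by
        linarith
      exact_mod_cast this
  rcases h.dichotomy hμ hη hB₀ with hA | hA | ⟨j, hj, hlarge⟩
  · exact main _ hB₀ hA hconst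
  · exact main _ (h.base_flip hμ hη hB₀) hA fun z hz z' hz' h1 h2 => by
      simp [Cfsg.conjFun, hconst z hz z' hz' h1 h2]
  · exfalso
    choose y hy' using hy χ₀ hB₀
    obtain ⟨l, hl, hlj⟩ := hres hj
    obtain ⟨θ₀, hθ₀, -, huniq⟩ := h.central_fixed hS hcen hl
    have hθj : (⟨_, h.res_irr hμ j⟩ : IrrCharacter (kin M)) = θ₀ := by
      by_contra hne
      have := huniq _ hlj hne
      rw [show (indFun (kin M) ((⟨_, h.res_irr hμ j⟩ : IrrCharacter (kin M)) : kin M → ℂ)) =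
        colSum μ j from h.col_eq hμ j] at this
      exact hS.col_not_irr j this
    obtain ⟨y₁, x, hx, hy₁, -, -, hle⟩ := h.col_bessel hμ hη hB₀ hj ∅ (by simp)
    have hyj : y ⟨_, h.res_irr hμ j⟩ = y₁ := by
      have e := hy' ⟨_, h.res_irr hμ j⟩
      rw [show (indFun (kin M) ((⟨_, h.res_irr hμ j⟩ : IrrCharacter (kin M)) : kin M → ℂ)) =
        colSum μ j from h.col_eq hμ j] at e
      simp only [h.charDegree_res hμ hη] at e
      rw [hy₁] at e
      exact_mod_cast e.symm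
    have hE := hlarge 0 x hx
    simp only [Finset.sum_empty, add_zero] at hle
    have hstrict : -(d j : ℤ) < y₁ ∧ y₁ < 0 := by
      have h1 : y₁ * (y₁ * 2 + 2 * d j) < 0 := by linarith
      constructor <;> by_contra hh <;> push Not at hh <;> nlinarith
    have hbound : ∀ θ : IrrCharacter (kin M), AboveHom Zk l (θ : kin M → ℂ) →
        classInner (indFun M (testFn ζ (charDegree (θ : kin M → ℂ))
          (indFun (kin M) (θ : kin M → ℂ)))) (Cfsg.conjFun χ₀) = (y θ : ℂ) ∧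
        -(charDegree (θ : kin M → ℂ) : ℤ) ≤ y θ ∧ y θ ≤ 0 := by
      intro θ hθ
      refine ⟨hy' θ, ?_⟩
      by_cases e : θ = θ₀
      · rw [e, ← hθj, hyj]
        simp only [h.charDegree_res hμ hη]
        omega
      · have hd := hnab hl θ hθ
        exact (h.irr_bound hμ hη hB₀ hd.1 (huniq θ hθ e) (h.degN_ind θ.2).2 (hnez hd.2).1
          (hnez hd.2).2 (hy' θ)).1
    have := fibre χ₀ hB₀ hconst hl y hbound ⟨_, h.res_irr hμ j⟩ hlj (by
      rw [hyj]; simp only [h.charDegree_res hμ hη]; omega) ⟨_, h.res_irr hμ j⟩ hlj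
    omega

omit hB in
/-- Exactness. -/
theorem exists_exact : ∃ ζ χ T, ExactData W₁ μ η δ d ζ χ T := by
  have := h.nil
  have hnil : Group.IsNilpotent (kin M) :=
    Group.nilpotent_of_mulEquiv (Subgroup.subgroupOfEquivOfLe (derived_le M)).symm
  by_cases hgood : (∀ z ∈ W₂.subgroupOf M, ∀ k ∈ kin M, z * k = k * z) ∧
      IsPGroup (Nat.card W₂) ↥⁅M, M⁆
  · have := h.factPrime
    exact h.exact_of_central hμ hη hgood.1 hgood.2
  -- a prime dividing the centre whose part avoids `W₂`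
  obtain ⟨s, hs, z, hzK, hzc, hz, hzW⟩ : ∃ s : ℕ, s.Prime ∧ ∃ z : M, z ∈ kin M ∧
      (∀ k ∈ kin M, z * k = k * z) ∧ orderOf z = s ∧
      ((∀ z ∈ W₂.subgroupOf M, ∀ k ∈ kin M, z * k = k * z) → s ≠ Nat.card W₂) := by
    have hcen : ∀ s : ℕ, s.Prime → s ∣ Nat.card ↥⁅M, M⁆ → ∃ z : M, z ∈ kin M ∧
        (∀ k ∈ kin M, z * k = k * z) ∧ orderOf z = s := by
      intro s hs hdvd
      have : Fact s.Prime := ⟨hs⟩
      obtain ⟨P⟩ : Nonempty (Sylow s (kin M)) := inferInstance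
      have hPn : (P : Subgroup (kin M)).Normal :=
        Sylow.normal_of_normalizerCondition Group.normalizerCondition_of_isNilpotent P
      have hPne : (P : Subgroup (kin M)) ≠ ⊥ := P.ne_bot_of_dvd_card (by
        rwa [Nat.card_congr (Subgroup.subgroupOfEquivOfLe (derived_le M)).toEquiv])
      obtain ⟨w, hw, hw1⟩ :=
        (Subgroup.bot_or_exists_ne_one _).resolve_left (Core.inf_center_ne_bot hPne)
      obtain ⟨k, hk⟩ := IsPGroup.iff_orderOf.1 P.2 ⟨w, hw.1⟩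
      rw [← Subgroup.orderOf_coe] at hk
      have hk0 : k ≠ 0 := fun e => hw1 (orderOf_eq_one_iff.1 (by
        have : orderOf w = s ^ k := hk
        rw [this, e, pow_zero]))
      obtain ⟨v, hv, hvord⟩ : ∃ v ∈ Subgroup.zpowers w, orderOf v = s := by
        refine ⟨w ^ (s ^ (k - 1)), Subgroup.pow_mem _ (Subgroup.mem_zpowers w) _, ?_⟩
        have hk' : orderOf w = s ^ k := hk
        rw [orderOf_pow' _ (pow_ne_zero _ hs.ne_zero), hk',
          Nat.gcd_eq_right (pow_dvd_pow s (Nat.sub_le k 1)),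
          Nat.pow_div (Nat.sub_le k 1) hs.pos, show k - (k - 1) = 1 by omega, pow_one]
      refine ⟨(v : M), v.2, fun k' hk' => ?_, ?_⟩
      · have hvc : v ∈ Subgroup.center (kin M) := Subgroup.zpowers_le.2 hw.2 hv
        exact (congrArg Subtype.val (Subgroup.mem_center_iff.1 hvc ⟨k', hk'⟩)).symm
      · rw [Subgroup.orderOf_coe]; exact hvord
    by_cases hc : ∀ z ∈ W₂.subgroupOf M, ∀ k ∈ kin M, z * k = k * z
    · obtain ⟨s, hs, hdvd, hne⟩ : ∃ s, s.Prime ∧ s ∣ Nat.card ↥⁅M, M⁆ ∧ s ≠ Nat.card W₂ := by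
        by_contra hall
        push Not at hall
        refine hgood ⟨hc, IsPGroup.of_card (n := (Nat.card ↥⁅M, M⁆).primeFactorsList.length) ?_⟩
        exact Nat.eq_prime_pow_of_unique_prime_dvd Nat.card_pos.ne' fun {q} hq hqd => hall q hq hqd
      obtain ⟨z, h1, h2, h3⟩ := hcen s hs hdvd
      exact ⟨s, hs, z, h1, h2, h3, fun _ => hne⟩
    · obtain ⟨s, hs, hdvd⟩ := Nat.exists_prime_and_dvd (n := Nat.card ↥⁅M, M⁆) (fun e => by
        have h1 := Subgroup.card_dvd_of_le h.W₂_le_derived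
        rw [e, Nat.dvd_one] at h1
        exact h.prime₂.one_lt.ne' h1)
      obtain ⟨z, h1, h2, h3⟩ := hcen s hs hdvd
      exact ⟨s, hs, z, h1, h2, h3, fun hh => absurd hh hc⟩
  have : Fact s.Prime := ⟨hs⟩
  set Z : Subgroup ↥M :=
    { carrier := {x | x ∈ kin M ∧ (∀ k ∈ kin M, x * k = k * x) ∧ x ^ s = 1}
      one_mem' := ⟨(kin M).one_mem, fun k _ => by simp, one_pow _⟩
      mul_mem' := fun {a b} ⟨ha, hac, has⟩ ⟨hb, hbc, hbs⟩ => ⟨(kin M).mul_mem ha hb,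
        fun k hk => by rw [mul_assoc, hbc k hk, ← mul_assoc, hac k hk, mul_assoc],
        by rw [Commute.mul_pow (hac b hb), has, hbs, one_mul]⟩
      inv_mem' := fun {a} ⟨ha, hac, has⟩ => ⟨(kin M).inv_mem ha,
        fun k hk => (Commute.inv_left (hac k hk)).eq, by rw [inv_pow, has, inv_one]⟩ }
    with hZdef
  have hmemZ : ∀ x, x ∈ Z ↔ x ∈ kin M ∧ (∀ k ∈ kin M, x * k = k * x) ∧ x ^ s = 1 :=
    fun x => Iff.rfl
  have hn : Z.Normal := ⟨fun x hx g => by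
    obtain ⟨h1, h2, h3⟩ := (hmemZ x).1 hx
    refine (hmemZ _).2 ⟨(normal_kin M).conj_mem x h1 g, fun k hk => ?_, ?_⟩
    · have := h2 (g⁻¹ * k * g) (by simpa using (normal_kin M).conj_mem k hk g⁻¹)
      calc g * x * g⁻¹ * k = g * (x * (g⁻¹ * k * g)) * g⁻¹ := by group
        _ = g * ((g⁻¹ * k * g) * x) * g⁻¹ := by rw [this]
        _ = k * (g * x * g⁻¹) := by group
    · rw [conj_pow, h3, mul_one, mul_inv_cancel]⟩
  have hzZ : z ∈ Z := (hmemZ z).2 ⟨hzK, hzc, by rw [← hz]; exact pow_orderOf_eq_one z⟩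
  have hZ1 : Z ≠ ⊥ := fun e => by
    rw [e, Subgroup.mem_bot] at hzZ
    rw [hzZ, orderOf_one] at hz
    exact hs.one_lt.ne hz
  have hZlt : Z < kin M := by
    refine lt_of_le_of_ne (fun x hx => hx.1) fun e => ?_
    have hd : ⁅kin M, kin M⁆ = ⊥ := by
      rw [eq_bot_iff, Subgroup.commutator_le]
      intro p hp q hq
      rw [Subgroup.mem_bot, commutatorElement_eq_one_iff_mul_comm]
      rw [← e] at hp
      exact ((hmemZ p).1 hp).2.1 q hq
    obtain ⟨b, hb, hb1⟩ := (Subgroup.bot_or_exists_ne_one W₂).resolve_left h.W₂_ne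
    have := h.W₂_le_derived_kin (show (⟨b, h.W₂_le hb⟩ : M) ∈ W₂.subgroupOf M from hb)
    rw [hd, Subgroup.mem_bot] at this
    exact hb1 (congrArg Subtype.val this)
  have hZW : Z ⊓ W₂.subgroupOf M = ⊥ := by
    by_contra hne
    obtain ⟨b, ⟨hbZ, hbW⟩, hb1⟩ := (Subgroup.bot_or_exists_ne_one _).resolve_left hne
    have hcard : Nat.card (W₂.subgroupOf M) = Nat.card W₂ :=
      Nat.card_congr (Subgroup.subgroupOfEquivOfLe h.W₂_le).toEquiv
    have hord : orderOf b = Nat.card W₂ :=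
      ((Nat.dvd_prime h.prime₂).1 (hcard ▸ Subgroup.orderOf_dvd_natCard _ hbW)).resolve_left
        fun e => hb1 (orderOf_eq_one_iff.1 e)
    have hdvd : Nat.card W₂ ∣ s := hord ▸ orderOf_dvd_of_pow_eq_one ((hmemZ b).1 hbZ).2.2
    have hsr : Nat.card W₂ = s := (Nat.prime_dvd_prime_iff_eq h.prime₂ hs).1 hdvd
    refine hzW (fun w hw k hk => ?_) hsr.symm
    have hgen : Subgroup.zpowers b = W₂.subgroupOf M := Subgroup.eq_of_le_of_card_ge
      (Subgroup.zpowers_le.2 hbW) (by rw [Nat.card_zpowers, hord, hcard])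
    have hwZ : w ∈ Z := Subgroup.zpowers_le.2 hbZ (hgen ▸ hw)
    exact ((hmemZ w).1 hwZ).2.1 k hk
  exact h.exact_of_disjoint hμ hη hZ1 hZlt (fun x hx => ((hmemZ x).1 hx).2.1) hZW
    (fun x => ⟨1, Subtype.ext (by simpa using ((hmemZ (x : M)).1 x.2).2.2)⟩)

end Degen

end Cfsg.Agent.OddFinal
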