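import Cfsg.Agent.OddFinal.EtaBasic
import Cfsg.Agent.Coherence.Criteria

/-!
# Integer coefficient arrays on the grid of the cyclic pair

Coefficients of a class function vanishing on `V` form a four-term array `a i + b j - c`; this file
has the counting facts about such arrays used for the degenerate member.
-/

set_option autoImplicit false
set_option linter.unusedSectionVars false

namespace Cfsg.Agent.OddFinal

open scoped ComplexConjugate
open scoped _root_.Classical

universe u v w

section Grid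

variable {I : Type v} {J : Type w} [Fintype I] [Fintype J] (i₀ : I) (j₀ : J)

theorem sum_sq_ge_finset (x : I → J → ℤ) (s : Finset (I × J)) (hs : ∀ p ∈ s, x p.1 p.2 ≠ 0) :
    (s.card : ℤ) ≤ ∑ i, ∑ j, x i j ^ 2 := by
  rw [← Fintype.sum_prod_type']
  calc (s.card : ℤ) = ∑ _p ∈ s, (1 : ℤ) := by simp
    _ ≤ ∑ p ∈ s, x p.1 p.2 ^ 2 := Finset.sum_le_sum fun p hp =>
        Int.add_one_le_iff.2 (pow_two_pos_of_ne_zero (hs p hp))
    _ ≤ _ := Finset.sum_le_sum_of_subset_of_nonneg (Finset.subset_univ s)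
        fun p _ _ => sq_nonneg _

theorem sq_le_sum (x : I → J → ℤ) (i : I) (j : J) : x i j ^ 2 ≤ ∑ i, ∑ j, x i j ^ 2 := by
  rw [← Fintype.sum_prod_type']
  exact Finset.single_le_sum (f := fun p : I × J => x p.1 p.2 ^ 2) (fun p _ => sq_nonneg _)
    (Finset.mem_univ (i, j))

/-- A four-term array of small norm vanishes. -/
theorem four_term_small (hI : 3 ≤ Fintype.card I) (hJ : 3 ≤ Fintype.card J) (a : I → ℤ) (b : J → ℤ)
    (ha : a i₀ = 0) (hb : b j₀ = 0) (h : ∑ i, ∑ j, (a i + b j) ^ 2 ≤ 2) :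
    (∀ i, a i = 0) ∧ ∀ j, b j = 0 := by
  have hb0 : ∀ j, b j = 0 := by
    intro j
    by_contra hne
    let f : I → I × J := fun i => if a i + b j = 0 then (i, j₀) else (i, j)
    have hf : Function.Injective f := fun i i' e => by
      have h1 := congrArg Prod.fst e
      simp only [f] at h1
      split_ifs at h1 <;> exact h1
    have := sum_sq_ge_finset (fun i j => a i + b j) (Finset.univ.image f) (by
      intro p hp
      obtain ⟨i, -, rfl⟩ := Finset.mem_image.1 hp
      simp only [f]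
      split_ifs with h1
      · show a i + b j₀ ≠ 0
        rw [hb, add_zero]; omega
      · exact h1)
    rw [Finset.card_image_of_injective _ hf, Finset.card_univ] at this
    omega
  refine ⟨fun i => ?_, hb0⟩
  by_contra hne
  have := sum_sq_ge_finset (fun i j => a i + b j) ({i} ×ˢ Finset.univ) (by
    intro p hp
    rw [Finset.mem_product, Finset.mem_singleton] at hp
    rw [hp.1, hb0 p.2, add_zero]
    exact hne)
  rw [Finset.card_product, Finset.card_singleton, one_mul, Finset.card_univ] at this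
  omega

/-- If all the row values are `1`, all the column values vanish. -/
theorem columns_zero [Nonempty I] (a : I → ℤ) (b : J → ℤ) (hb : b j₀ = 1) (ha : ∀ i, a i = 1)
    (h : ∑ i, ∑ j, (a i + b j - 1) ^ 2 ≤ (Fintype.card I : ℤ)) : ∀ j, j ≠ j₀ → b j = 0 := by
  intro j hj
  simp only [ha, add_sub_cancel_left] at h
  have h1 : b j₀ ^ 2 + b j ^ 2 ≤ ∑ j, b j ^ 2 := by
    rw [← Finset.sum_pair (Ne.symm hj) (f := fun j => b j ^ 2)]
    exact Finset.sum_le_sum_of_subset_of_nonneg (Finset.subset_univ _) fun _ _ _ => sq_nonneg _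
  rw [Finset.sum_const, nsmul_eq_mul, Finset.card_univ] at h
  have hpos : (0 : ℤ) < Fintype.card I := by
    exact_mod_cast Fintype.card_pos
  rw [hb] at h1
  have h2 : b j ^ 2 ≤ 0 := by nlinarith
  exact pow_eq_zero_iff two_ne_zero |>.1 (le_antisymm h2 (sq_nonneg _))

/-- Outside the principal case some column gives every congruent array a large norm. -/
theorem shift_large (hI : 3 ≤ Fintype.card I) (hJ : 3 ≤ Fintype.card J) (a : I → ℤ) (b : J → ℤ)
    (ha : a i₀ = 1) (hb : b j₀ = 1)
    (h : ∑ i, ∑ j, (a i + b j - 1) ^ 2 ≤ (Fintype.card I : ℤ)) (hne : ∃ i, a i ≠ 1) :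
    ∃ j, j ≠ j₀ ∧ ∀ (x : I → J → ℤ) (δ : ℤ), (δ = 1 ∨ δ = -1) →
      (∀ i j', ((Fintype.card I : ℕ) : ℤ) ∣ x i j' -
        δ * ((if j' = j then 1 else 0) - (if j' = j₀ then 1 else 0) + (a i + b j' - 1))) →
      (Fintype.card I : ℤ) < ∑ i, ∑ j', x i j' ^ 2 := by
  set e := Fintype.card I with he
  have hj : ∃ j, j ≠ j₀ ∧ b j ≠ -1 := by
    by_contra hall
    push Not at hall
    have hrow : ∀ i, i ≠ i₀ → 3 ≤ ∑ j, (a i + b j - 1) ^ 2 := by
      intro i hi
      rw [← Finset.add_sum_erase Finset.univ _ (Finset.mem_univ j₀), hb,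
        Finset.sum_congr rfl fun j hj => by rw [hall j (Finset.ne_of_mem_erase hj)],
        Finset.sum_const, Finset.card_erase_of_mem (Finset.mem_univ j₀), Finset.card_univ,
        nsmul_eq_mul]
      have h2 : (2 : ℤ) ≤ ((Fintype.card J - 1 : ℕ) : ℤ) := by
        have : 2 ≤ Fintype.card J - 1 := by omega
        exact_mod_cast this
      have h3 : 0 ≤ (a i - 1) * (3 * a i - 5) := by
        rcases le_or_gt (a i) 1 with h4 | h4
        · exact mul_nonneg_of_nonpos_of_nonpos (by omega) (by omega)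
        · exact mul_nonneg (by omega) (by omega)
      nlinarith [sq_nonneg (a i + -1 - 1), mul_le_mul_of_nonneg_right h2 (sq_nonneg (a i + -1 - 1))]
    have h0 : (3 : ℤ) ≤ ∑ j, (a i₀ + b j - 1) ^ 2 := by
      have h1 : ∀ j, (1 : ℤ) ≤ (a i₀ + b j - 1) ^ 2 := fun j => by
        by_cases hjj : j = j₀
        · rw [hjj, ha, hb]; norm_num
        · rw [ha, hall j hjj]; norm_num
      calc (3 : ℤ) ≤ Fintype.card J := by exact_mod_cast hJ
        _ = ∑ _j : J, (1 : ℤ) := by simp
        _ ≤ _ := Finset.sum_le_sum fun j _ => h1 j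
    have h3 : (3 : ℤ) * e ≤ ∑ i, ∑ j, (a i + b j - 1) ^ 2 := by
      calc (3 : ℤ) * e = ∑ _i : I, (3 : ℤ) := by simp [he, mul_comm]
        _ ≤ _ := Finset.sum_le_sum fun i _ => by
            by_cases hi : i = i₀
            · rw [hi]; exact h0
            · exact hrow i hi
    have : (0 : ℤ) < e := by exact_mod_cast (show 0 < e by omega)
    omega
  obtain ⟨j, hj0, hbj⟩ := hj
  refine ⟨j, hj0, fun x δ hδ hx => ?_⟩
  obtain ⟨k, hk0, hkj⟩ : ∃ k, k ≠ j₀ ∧ k ≠ j := by
    by_contra hall
    push Not at hall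
    have : (Finset.univ : Finset J) ⊆ {j₀, j} := fun k _ => by
      rw [Finset.mem_insert, Finset.mem_singleton]
      by_cases h1 : k = j₀
      · exact Or.inl h1
      · exact Or.inr (hall k h1)
    have h2 := Finset.card_le_card this
    rw [Finset.card_univ] at h2
    have := Finset.card_le_two (a := j₀) (b := j)
    omega
  have hne0 : ∀ i j', ((if j' = j then (1 : ℤ) else 0) - (if j' = j₀ then 1 else 0) +
      (a i + b j' - 1)) ≠ 0 → x i j' ≠ 0 := by
    intro i j' hs hx0
    have hd := hx i j'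
    rw [hx0, zero_sub, dvd_neg] at hd
    set s := (if j' = j then (1 : ℤ) else 0) - (if j' = j₀ then 1 else 0) + (a i + b j' - 1) with hsd
    have hd' : (e : ℤ) ∣ s := by
      rcases hδ with e1 | e1 <;> rw [e1] at hd
      · simpa using hd
      · simpa using hd
    have hc : (a i + b j' - 1) ^ 2 ≤ (e : ℤ) :=
      (sq_le_sum (fun i j => a i + b j - 1) i j').trans h
    have he3 : (3 : ℤ) ≤ e := by exact_mod_cast hI
    have hbound : |a i + b j' - 1| + 1 < (e : ℤ) := by
      by_contra hb'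
      push Not at hb'
      have h2 : ((e : ℤ) - 1) ^ 2 ≤ |a i + b j' - 1| ^ 2 :=
        pow_le_pow_left₀ (by omega) (by omega) 2
      rw [sq_abs] at h2
      nlinarith
    have hs1 : |s| ≤ |a i + b j' - 1| + 1 := by
      have h3 : |(if j' = j then (1 : ℤ) else 0) - (if j' = j₀ then 1 else 0)| ≤ 1 := by
        split_ifs <;> norm_num
      rw [hsd]
      exact (abs_add_le _ _).trans (by omega)
    exact hs (Int.eq_zero_of_abs_lt_dvd hd' (lt_of_le_of_lt hs1 hbound))
  obtain ⟨i₁, hi₁⟩ : ∃ i, (a i + b k - 1) ≠ 0 := by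
    by_cases hbk : b k = 0
    · obtain ⟨i, hi⟩ := hne
      exact ⟨i, by omega⟩
    · exact ⟨i₀, by omega⟩
  let f : Option I → I × J := fun o => o.elim (i₁, k) fun i =>
    if a i = 1 then (i, j) else (i, j₀)
  have hf : Function.Injective f := by
    intro o o' e1
    rcases o with _ | i <;> rcases o' with _ | i'
    · rfl
    · simp only [f, Option.elim] at e1
      split_ifs at e1 <;> simp only [Prod.mk.injEq] at e1
      · exact absurd e1.2 hkj
      · exact absurd e1.2 hk0
    · simp only [f, Option.elim] at e1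
      split_ifs at e1 <;> simp only [Prod.mk.injEq] at e1
      · exact absurd e1.2.symm hkj
      · exact absurd e1.2.symm hk0
    · simp only [f, Option.elim] at e1
      have h1 := congrArg Prod.fst e1
      split_ifs at h1 <;> exact congrArg some h1
  have := sum_sq_ge_finset x (Finset.univ.image f) (by
    intro p hp
    obtain ⟨o, -, rfl⟩ := Finset.mem_image.1 hp
    rcases o with _ | i
    · simp only [f, Option.elim]
      refine hne0 _ _ ?_
      rw [if_neg hkj, if_neg hk0]
      simpa using hi₁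
    · simp only [f, Option.elim]
      split_ifs with h1
      · refine hne0 _ _ ?_
        dsimp only
        rw [if_pos rfl, if_neg hj0, h1]
        omega
      · refine hne0 _ _ ?_
        dsimp only
        rw [if_neg (Ne.symm hj0), if_pos rfl, hb]
        omega)
  rw [Finset.card_image_of_injective _ hf, Finset.card_univ, Fintype.card_option] at this
  push_cast at this
  omega

/-- An array congruent to a signed column has at least the norm of the column. -/
theorem column_tight (hI : 3 ≤ Fintype.card I) (j : J) (x : I → J → ℤ) (δ : ℤ)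
    (hδ : δ = 1 ∨ δ = -1)
    (hx : ∀ i j', ((Fintype.card I : ℕ) : ℤ) ∣ x i j' - δ * if j' = j then 1 else 0) :
    (Fintype.card I : ℤ) ≤ ∑ i, ∑ j', x i j' ^ 2 ∧
      (∑ i, ∑ j', x i j' ^ 2 ≤ (Fintype.card I : ℤ) →
        ∀ i j', x i j' = δ * if j' = j then 1 else 0) := by
  set e := Fintype.card I with he
  have hne : ∀ i, x i j ≠ 0 := fun i h0 => by
    have hd := hx i j
    rw [h0, if_pos rfl, zero_sub, mul_one, dvd_neg] at hd
    have h1 : |δ| < (e : ℤ) := by
      have : (3 : ℤ) ≤ e := by exact_mod_cast hI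
      rcases hδ with e1 | e1 <;> rw [e1] <;> norm_num <;> omega
    have := Int.eq_zero_of_abs_lt_dvd hd h1
    omega
  have hcol : ∀ i, x i j ^ 2 ≤ ∑ j', x i j' ^ 2 := fun i =>
    Finset.single_le_sum (f := fun j' => x i j' ^ 2) (fun _ _ => sq_nonneg _) (Finset.mem_univ j)
  have hrow : ∀ i, (1 : ℤ) ≤ ∑ j', x i j' ^ 2 := fun i =>
    (Int.add_one_le_iff.2 (pow_two_pos_of_ne_zero (hne i))).trans (hcol i)
  have hsum : (e : ℤ) ≤ ∑ i, ∑ j', x i j' ^ 2 := by
    calc (e : ℤ) = ∑ _i : I, (1 : ℤ) := by simp [he]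
      _ ≤ _ := Finset.sum_le_sum fun i _ => hrow i
  refine ⟨hsum, fun hle i j' => ?_⟩
  have hall : ∀ i, (1 : ℤ) = ∑ j', x i j' ^ 2 := fun i => by
    refine (Finset.sum_eq_sum_iff_of_le (fun i _ => hrow i)).1 ?_ i (Finset.mem_univ i)
    rw [Finset.sum_const, Finset.card_univ, nsmul_eq_mul, mul_one]
    exact le_antisymm hsum hle
  have hz : ∀ j'', j'' ≠ j → x i j'' = 0 := fun j'' hj'' => by
    have h1 : x i j ^ 2 + x i j'' ^ 2 ≤ ∑ j', x i j' ^ 2 := by
      rw [← Finset.sum_pair (Ne.symm hj'') (f := fun j' => x i j' ^ 2)]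
      exact Finset.sum_le_sum_of_subset_of_nonneg (Finset.subset_univ _) fun _ _ _ => sq_nonneg _
    have h2 := Int.add_one_le_iff.2 (pow_two_pos_of_ne_zero (hne i))
    rw [← hall i] at h1
    exact pow_eq_zero_iff two_ne_zero |>.1 (le_antisymm (by omega) (sq_nonneg _))
  by_cases hj' : j' = j
  · subst hj'
    rw [if_pos rfl, mul_one]
    have h1 := hcol i
    rw [← hall i] at h1
    have h2 : x i j' = 1 ∨ x i j' = -1 := by
      rcases lt_trichotomy (x i j') 0 with h3 | h3 | h3
      · exact Or.inr (by nlinarith)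
      · exact absurd h3 (hne i)
      · exact Or.inl (by nlinarith)
    have hd := hx i j'
    rw [if_pos rfl, mul_one] at hd
    have he3 : (3 : ℤ) ≤ e := by exact_mod_cast hI
    by_contra hne'
    refine hne' (sub_eq_zero.1 (Int.eq_zero_of_abs_lt_dvd hd ?_))
    rcases hδ with e1 | e1 <;> rcases h2 with e2 | e2 <;> rw [e1, e2] <;> norm_num <;> omega
  · rw [if_neg hj', mul_zero, hz j' hj']

/-- Cauchy's inequality for one column. -/
theorem column_cauchy (x : I → J → ℤ) (j : J) :
    (∑ i, x i j) ^ 2 ≤ (Fintype.card I : ℤ) * ∑ i, x i j ^ 2 := by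
  rw [← Finset.card_univ]
  exact sq_sum_le_card_mul_sum_sq

end Grid

section Coeff

variable {G : Type u} [Group G] [Fintype G] {W₁ W₂ : Subgroup G}
  {η : (↥(W₁ ⊔ W₂) →* ℂˣ) → G → ℂ}

/-- The coefficient array of a generalized character vanishing on `V`. -/
theorem exists_coeff (hη : IsCyclicTIFamily W₁ W₂ η) {Y : G → ℂ}
    (hY : IsGeneralizedCharacter G Y) (hV : ∀ w ∈ vSet W₁ W₂, Y w = 0) {c : ℤ}
    (h1 : classInner Y (fun _ => 1) = c) :
    ∃ (a : Left W₁ W₂ → ℤ) (b : Right W₁ W₂ → ℤ), a leftOne = c ∧ b rightOne = c ∧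
      ∀ (φ : Left W₁ W₂) (ψ : Right W₁ W₂),
        classInner Y (η (φ.1 * ψ.1)) = ((a φ + b ψ - c : ℤ) : ℂ) := by
  choose m hm using fun ω => Char.classInner_generalized_int hY (eta_isGeneralized hη ω)
  have hc : m 1 = c := by
    have := hm 1
    rw [hη.map_one, h1] at this
    exact_mod_cast this.symm
  refine ⟨fun φ => m φ.1, fun ψ => m ψ.1, hc, hc, fun φ ψ => ?_⟩
  rw [eta_coeff hη (Char.IsGen.isClassFunction hY) hV φ ψ, hm, hm, h1]
  push_cast
  ring

/-- Bessel's inequality for the grid together with further orthonormal functions orthogonal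
to it, in integers. -/
theorem grid_bessel (hW : IsSelfNormalizingCyclic W₁ W₂) (hη : IsCyclicTIFamily W₁ W₂ η)
    {Y : G → ℂ} (x : Left W₁ W₂ → Right W₁ W₂ → ℤ)
    (hx : ∀ φ ψ, classInner Y (η (φ.1 * ψ.1)) = (x φ ψ : ℂ))
    {ι : Type v} (s : Finset ι) (g : ι → G → ℂ) (y : ι → ℤ)
    (hg : ∀ i ∈ s, ∀ j ∈ s, classInner (g i) (g j) = if i = j then 1 else 0)
    (hgη : ∀ i ∈ s, ∀ ω, classInner (g i) (η ω) = 0)
    (hy : ∀ i ∈ s, classInner Y (g i) = (y i : ℂ)) {N : ℤ} (hN : classInner Y Y = (N : ℂ)) :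
    (∑ φ, ∑ ψ, x φ ψ ^ 2) + ∑ i ∈ s, y i ^ 2 ≤ N := by
  let t : Finset ((Left W₁ W₂ × Right W₁ W₂) ⊕ ι) := Finset.univ.disjSum s
  let f : (Left W₁ W₂ × Right W₁ W₂) ⊕ ι → G → ℂ :=
    Sum.elim (fun p => η (p.1.1 * p.2.1)) g
  let z : (Left W₁ W₂ × Right W₁ W₂) ⊕ ι → ℤ := Sum.elim (fun p => x p.1 p.2) y
  have hself : ∀ i ∈ t, classInner (f i) (f i) = 1 := by
    rintro (p | i) hi
    · exact eta_norm hη _
    · have hi' : i ∈ s := by simpa [t] using hi
      simp only [f, Sum.elim_inr, hg i hi' i hi', if_true]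
  have horth : ∀ i ∈ t, ∀ j ∈ t, i ≠ j → classInner (f i) (f j) = 0 := by
    rintro (p | i) hi (p' | i') hi' hne
    · simp only [f, Sum.elim_inl, hη.orthonormal]
      refine if_neg fun e => hne (congrArg Sum.inl ((coords hW).injective ?_))
      exact e
    · have hi'' : i' ∈ s := by simpa [t] using hi'
      exact Coherence.inner_eq_zero_comm (hgη i' hi'' _)
    · have hi'' : i ∈ s := by simpa [t] using hi
      exact hgη i hi'' _
    · have h1 : i ∈ s := by simpa [t] using hi
      have h2 : i' ∈ s := by simpa [t] using hi'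
      simp only [f, Sum.elim_inr, hg i h1 i' h2]
      exact if_neg fun e => hne (congrArg Sum.inr e)
  have hcoef : ∀ i ∈ t, classInner Y (f i) = (z i : ℂ) := by
    rintro (p | i) hi
    · exact hx _ _
    · exact hy i (by simpa [t] using hi)
  have hb := (Coherence.bessel t f (fun i hi e => by
    have := hself i hi
    rw [e] at this
    simp [classInner] at this) horth Y).1
  rw [Finset.sum_congr rfl fun i hi => by
    rw [hself i hi, Complex.one_re, div_one, hcoef i hi, Coherence.norm_intCast_sq]] at hb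
  rw [hN, Complex.intCast_re] at hb
  have e1 : ∑ i ∈ t, z i ^ 2 = (∑ φ, ∑ ψ, x φ ψ ^ 2) + ∑ i ∈ s, y i ^ 2 := by
    rw [Finset.sum_disjSum, Fintype.sum_prod_type]
    rfl
  rw [← e1]
  exact_mod_cast hb

/-- A virtual character of norm at most two, vanishing on `V` and orthogonal to the principal
character, is orthogonal to the family. -/
theorem orth_eta_of_small (hW : IsSelfNormalizingCyclic W₁ W₂) (hη : IsCyclicTIFamily W₁ W₂ η)
    (hI : 3 ≤ Nat.card W₁) (hJ : 3 ≤ Nat.card W₂) {Y : G → ℂ}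
    (hY : IsGeneralizedCharacter G Y) (hV : ∀ w ∈ vSet W₁ W₂, Y w = 0)
    (h1 : classInner Y (fun _ => 1) = 0) {N : ℤ} (hN : classInner Y Y = (N : ℂ)) (hN2 : N ≤ 2) :
    ∀ ω, classInner Y (η ω) = 0 := by
  obtain ⟨a, b, ha, hb, hab⟩ := exists_coeff hη hY hV (c := 0) (by simpa using h1)
  have hs := grid_bessel hW hη (fun φ ψ => a φ + b ψ) (fun φ ψ => by rw [hab, sub_zero])
    (∅ : Finset PUnit.{1}) (fun _ => 0) (fun _ => 0) (by simp) (by simp) (by simp) hN
  obtain ⟨h2, h3⟩ := four_term_small leftOne rightOne (by rw [card_left hW]; exact hI)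
    (by rw [card_right hW]; exact hJ) a b ha hb (by
      simp only [Finset.sum_empty, add_zero] at hs
      omega)
  intro ω
  obtain ⟨⟨φ, ψ⟩, rfl⟩ := (coords hW).surjective ω
  rw [coords_apply, hab, h2, h3]
  simp

end Coeff

end Cfsg.Agent.OddFinal
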