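import Cfsg.Agent.OddFinal.DegenerateSystem
import Cfsg.Agent.S1522
import Cfsg.Agent.OddChars.FrobeniusCoherence
import Cfsg.Agent.Char.TISylowCong
import Cfsg.Agent.Char.DerivedPrime
import Cfsg.Agent.Char.Integral
import Cfsg.Agent.Char.Artin

/-!
# The congruence at a central subgroup of a degenerate member (section E4 of the endgame)

For a normal subgroup `Z` of `M` central in `K` on which `M ∖ K` acts without fixed points, the
restriction to `K` of a signed irreducible character attached to a pair of `S(Z)` has multiplicities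
`κ θ(1)` at the characters `θ` that are nontrivial on `Z`, with `κ` an integer.
-/

set_option autoImplicit false
set_option linter.unusedSectionVars false

namespace Cfsg.Agent.OddFinal

open Cfsg Char CyclicTI
open scoped ComplexConjugate
open scoped _root_.Classical

universe u

/-- A class function whose multiplicities are `κ θ(1)` off the characters trivial on `Z`. -/
theorem sub_eq_mul_card {P : Type u} [Group P] [Fintype P] {f : P → ℂ} (hf : IsClassFunction P f)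
    (Z : Subgroup P) {κ : ℂ}
    (hκ : ∀ θ : IrrCharacter P, (∃ z ∈ Z, (θ : P → ℂ) z ≠ (θ : P → ℂ) 1) →
      classInner f (θ : P → ℂ) = κ * (θ : P → ℂ) 1)
    {z : P} (hz : z ∈ Z) (hz1 : z ≠ 1) : f 1 - f z = κ * (Nat.card P : ℂ) := by
  have hexp := classFun_expansion hf
  have hterm : ∀ θ : IrrCharacter P,
      classInner f (θ : P → ℂ) * ((θ : P → ℂ) 1 - (θ : P → ℂ) z) =
        κ * ((θ : P → ℂ) 1 * ((θ : P → ℂ) 1 - (θ : P → ℂ) z)) := by
    intro θ
    by_cases hθ : (θ : P → ℂ) z = (θ : P → ℂ) 1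
    · rw [hθ, sub_self]; ring
    · rw [hκ θ ⟨z, hz, hθ⟩]; ring
  have h1 := congrFun hexp 1
  have h2 := congrFun hexp z
  simp only [Finset.sum_apply, Pi.smul_apply, smul_eq_mul] at h1 h2
  rw [h1, h2, ← Finset.sum_sub_distrib]
  simp only [← mul_sub]
  rw [Finset.sum_congr rfl fun θ _ => hterm θ, ← Finset.mul_sum]
  congr 1
  simp only [mul_sub, Finset.sum_sub_distrib, regular_eq_sum, if_neg hz1, if_true, sub_zero]

/-- In a finite nilpotent group a subgroup meeting a Sylow complement trivially is separated by a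
character of degree prime to the complement. -/
theorem exists_irr_ne_coprime {P : Type u} [Group P] [Finite P] [hnil : Group.IsNilpotent P]
    {s : ℕ} [Fact s.Prime] (S : Sylow s P) {z : P} (hz : z ∈ (S : Subgroup P)) (hz1 : z ≠ 1) :
    ∃ θ : IrrCharacter P, ∃ n : ℕ, (θ : P → ℂ) z ≠ (θ : P → ℂ) 1 ∧ (θ : P → ℂ) 1 = n ∧
      n.Coprime (S : Subgroup P).index := by
  have hcop : (Nat.card (S : Subgroup P)).Coprime (S : Subgroup P).index := S.card_coprime_index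
  have hnorm : (S : Subgroup P).Normal :=
    Sylow.normal_of_normalizerCondition Group.normalizerCondition_of_isNilpotent S
  obtain ⟨R, hR⟩ := Subgroup.exists_right_complement'_of_coprime hcop
  have hcardR : Nat.card R = (S : Subgroup P).index := hR.symm.index_eq_card.symm
  have hcomm : ∀ a ∈ (S : Subgroup P), ∀ r ∈ R, Commute a r := fun a ha r hr =>
    Char.commute_of_nilpotent_coprime (Nat.Coprime.of_dvd (Subgroup.orderOf_dvd_natCard _ ha)
      (Subgroup.orderOf_dvd_natCard _ hr) (hcardR ▸ hcop))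
  have hRn : R.Normal := ⟨fun r hr g => by
    obtain ⟨⟨⟨a, ha⟩, ⟨b, hb⟩⟩, rfl⟩ := hR.2 g
    show a * b * r * (a * b)⁻¹ ∈ R
    have h1 : b * r * b⁻¹ ∈ R := R.mul_mem (R.mul_mem hb hr) (R.inv_mem hb)
    rw [show a * b * r * (a * b)⁻¹ = a * (b * r * b⁻¹) * a⁻¹ by group, (hcomm a ha _ h1).eq,
      mul_inv_cancel_right]
    exact h1⟩
  have hzR : z ∉ R := fun h => hz1 (Subgroup.disjoint_def.1 hR.disjoint hz h)
  have hq : (QuotientGroup.mk' R z) ≠ 1 := fun e => hzR ((QuotientGroup.eq_one_iff z).1 e)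
  obtain ⟨φ, hφ⟩ := exists_irr_ne_at_one hq
  obtain ⟨n, hn0, hn⟩ := IsIrr.degree φ.2
  refine ⟨⟨fun x => (φ : P ⧸ R → ℂ) (QuotientGroup.mk' R x),
    isIrrCharacter_comp _ (QuotientGroup.mk'_surjective R) φ.2⟩, n, ?_, ?_, ?_⟩
  · simpa using hφ
  · simpa using hn
  · have h1 := IsIrr.degree_dvd_card φ.2 hn
    have h2 : Nat.card (P ⧸ R) = Nat.card (S : Subgroup P) := by
      rw [← Subgroup.index_eq_card, hR.index_eq_card]
    exact Nat.Coprime.coprime_dvd_left (h2 ▸ h1) hcop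

variable {G : Type u} [Group G] [Fintype G] {M W₁ W₂ K : Subgroup G} [Fintype ↥M]
  {μ : (↥(W₁ ⊔ W₂) →* ℂˣ) → ↥M → ℂ} {η : (↥(W₁ ⊔ W₂) →* ℂˣ) → G → ℂ}

namespace DegSys

variable (h : DegSys M W₁ W₂ K μ η)

include h

/-- The members outside `S(Z)` are irreducible. -/
theorem nontrivial_irr {Z : Subgroup ↥M} [Z.Normal] (hZK : Z ≤ K.subgroupOf M)
    (hZc : ∀ z ∈ Z, ∀ k ∈ K.subgroupOf M, z * k = k * z)
    (hfix : ∀ g : ↥M, g ∉ K.subgroupOf M → ∀ z ∈ Z, g * z * g⁻¹ = z → z = 1) :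
    ∀ φ ∈ inducedIrrAbove (K.subgroupOf M) ⊥ \ inducedIrrAbove (K.subgroupOf M) Z,
      IsIrrCharacter ↥M φ := by
  have := h.K_normal
  intro φ hφ
  obtain ⟨θ, hθ, hn, rfl⟩ := OddChars.mem_diff_iff.1 hφ
  refine isIrr_indFun_of_inertia hθ.1 (le_antisymm (fun g hg => ?_) (fun g hg => ?_))
  swap
  · show Char.conjFun g θ = θ
    funext n
    exact (IsIrr.isCharacter hθ.1 |> isClassFunction_of_isCharacter) n ⟨g, hg⟩
  by_contra hgK
  obtain ⟨ω, hω⟩ := exists_central_hom hθ.1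
  have hcen : ∀ z (hz : z ∈ Z), (⟨z, hZK hz⟩ : K.subgroupOf M) ∈ Subgroup.center _ :=
    fun z hz => Subgroup.mem_center_iff.2 fun k => Subtype.ext (hZc z hz k k.2).symm
  let ι : Z →* Subgroup.center (K.subgroupOf M) :=
    { toFun := fun z => ⟨_, hcen z z.2⟩, map_one' := rfl, map_mul' := fun _ _ => rfl }
  let f : Z → Z := fun z => ⟨g * z * g⁻¹ * (z : ↥M)⁻¹,
    Z.mul_mem ((inferInstance : Z.Normal).conj_mem _ z.2 g) (Z.inv_mem z.2)⟩
  have hf : Function.Injective f := by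
    intro a b e
    have e' : g * (a : ↥M) * g⁻¹ * (a : ↥M)⁻¹ = g * (b : ↥M) * g⁻¹ * (b : ↥M)⁻¹ :=
      congrArg Subtype.val e
    refine Subtype.ext (mul_inv_eq_one.1 (hfix g hgK _ (Z.mul_mem a.2 (Z.inv_mem b.2)) ?_))
    have hab : ((a : ↥M))⁻¹ * (b : ↥M) = (b : ↥M) * (a : ↥M)⁻¹ :=
      (hZc b b.2 _ (hZK (Z.inv_mem a.2))).symm
    calc g * ((a : ↥M) * (b : ↥M)⁻¹) * g⁻¹
        = (g * (a : ↥M) * g⁻¹ * (a : ↥M)⁻¹) * (a : ↥M) * (g * (b : ↥M) * g⁻¹)⁻¹ := by group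
      _ = (g * (b : ↥M) * g⁻¹) * ((b : ↥M)⁻¹ * (a : ↥M)) * (g * (b : ↥M) * g⁻¹)⁻¹ := by
          rw [e']; group
      _ = ((b : ↥M)⁻¹ * (a : ↥M)) * (g * (b : ↥M) * g⁻¹) * (g * (b : ↥M) * g⁻¹)⁻¹ := by
          rw [hZc _ ((inferInstance : Z.Normal).conj_mem _ b.2 g) _
            (hZK (Z.mul_mem (Z.inv_mem b.2) a.2))]
      _ = (a : ↥M) * (b : ↥M)⁻¹ := by
          rw [mul_inv_cancel_right, hZc _ (Z.inv_mem b.2) _ (hZK a.2)]
  have hω1 : ∀ z : Z, ω (ι z) = 1 := by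
    intro w
    obtain ⟨z, rfl⟩ := Finite.surjective_of_injective hf w
    let z' : Z := ⟨g * (z : ↥M) * g⁻¹, (inferInstance : Z.Normal).conj_mem _ z.2 g⟩
    have e1 : f z = z' * z⁻¹ := rfl
    have e2 : ω (ι z') = ω (ι z) := by
      apply Units.ext
      refine mul_left_cancel₀ (IsIrr.one_ne_zero hθ.1) ?_
      rw [← hω, ← hω]
      exact congrFun hg (⟨(z : ↥M), hZK z.2⟩ : K.subgroupOf M)
    rw [e1, map_mul, map_mul, e2, map_inv, map_inv, mul_inv_cancel]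
  refine hn ⟨hθ.1, hθ.2.1, fun a ha => ?_⟩
  have h2 := hω (ι ⟨(a : ↥M), ha⟩)
  rw [hω1, Units.val_one, mul_one] at h2
  exact h2

/-- The multiplicities at the characters nontrivial on `Z` are proportional to the degrees. -/
theorem exists_ratio (hnil : Group.IsNilpotent K) (hKM : K.subgroupOf M < ⊤)
    (hfrob : ∀ k ∈ K.subgroupOf M, k ∉ ⁅K.subgroupOf M, K.subgroupOf M⁆ → ∀ x : ↥M,
      x * k * x⁻¹ * k⁻¹ ∈ ⁅K.subgroupOf M, K.subgroupOf M⁆ → x ∈ K.subgroupOf M)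
    {Z : Subgroup ↥M} [Z.Normal] (hZ1 : Z ≠ ⊥) (hZK : Z ≤ K.subgroupOf M)
    (hZc : ∀ z ∈ Z, ∀ k ∈ K.subgroupOf M, z * k = k * z)
    (hfix : ∀ g : ↥M, g ∉ K.subgroupOf M → ∀ z ∈ Z, g * z * g⁻¹ = z → z = 1)
    {ζ : ↥M → ℂ} (hζ : ζ ∈ inducedIrrAbove (K.subgroupOf M) Z) (hζi : IsIrrCharacter ↥M ζ)
    {χ : G → ℂ} (hχ : Coherence.SIrr G χ)
    (hτ : χ - Cfsg.conjFun χ = indFun M (ζ - Cfsg.conjFun ζ)) :
    ∃ κ : ℂ, ∀ θ : IrrCharacter (K.subgroupOf M),
      (∃ z ∈ Z.subgroupOf (K.subgroupOf M), (θ : K.subgroupOf M → ℂ) z ≠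
        (θ : K.subgroupOf M → ℂ) 1) →
      classInner (fun k : K.subgroupOf M => χ ((k : ↥M) : G)) (θ : K.subgroupOf M → ℂ) =
        κ * (θ : K.subgroupOf M → ℂ) 1 := by
  have := h.K_normal
  have : Group.IsNilpotent K := hnil
  have hnil' : Group.IsNilpotent (K.subgroupOf M) :=
    Group.nilpotent_of_mulEquiv (Subgroup.subgroupOfEquivOfLe h.K_le).symm
  have hne' : K.subgroupOf M ≠ ⊥ := fun e => h.K_ne <|
    eq_bot_iff.2 fun x hx => by
      have : (⟨x, h.K_le hx⟩ : ↥M) ∈ K.subgroupOf M := hx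
      rw [e, Subgroup.mem_bot] at this
      exact congrArg Subtype.val this
  obtain ⟨R, hS, -⟩ := h.exists_system
  have hirr := h.nontrivial_irr hZK hZc hfix
  obtain ⟨-, -, τ₁, hτ₁, hτ₁e⟩ := S1522.result (K.subgroupOf M) inferInstance
    (fun α : ↥M → ℂ => indFun M α) R hS h.oddM hnil' (OddChars.derived_lt hnil' hne') hKM hfrob
    Z hZ1 hZK hZc hirr
  set X := inducedIrrAbove (K.subgroupOf M) (⊥ : Subgroup ↥M) \
    inducedIrrAbove (K.subgroupOf M) Z with hX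
  have hgen := hτ₁.2.2.2
  have hζS : ζ ∈ inducedIrrAbove (K.subgroupOf M) ⊥ := OddChars.inducedIrrAbove_subset_bot hζ
  have hζ' := OddChars.inducedIrrAbove_conj_mem hζ
  have hζS' := OddChars.inducedIrrAbove_subset_bot hζ'
  have hζz := Coherence.sub_conjFun_mem (IsIrr.isCharacter hζi) hζS hζS'
  have hχ' : Coherence.SIrr G (Cfsg.conjFun χ) := by
    rcases hχ with hh | hh
    · exact Or.inl (Coherence.isIrr_conjFun hh)
    · refine Or.inr ?_
      convert Coherence.isIrr_conjFun hh using 1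
      funext g; simp [Cfsg.conjFun]
  obtain ⟨m₀, hm₀⟩ := classInner_generalized_int hχ.isGeneralized hχ'.isGeneralized
  have hζne : Cfsg.conjFun ζ ≠ ζ := hS.conj_ne ζ hζS
  have hχχ : classInner χ (Cfsg.conjFun χ) = 0 := by
    have h1 : classInner (χ - Cfsg.conjFun χ) (χ - Cfsg.conjFun χ) = 2 := by
      rw [hτ, show classInner (indFun M (ζ - Cfsg.conjFun ζ)) (indFun M (ζ - Cfsg.conjFun ζ)) =
        classInner (ζ - Cfsg.conjFun ζ) (ζ - Cfsg.conjFun ζ) from h.iso.2.2.1 _ hζz _ hζz]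
      rw [classInner_sub_left, classInner_sub_right, classInner_sub_right,
        classInner_irr_self hζi, classInner_irr_self (Coherence.isIrr_conjFun hζi),
        classInner_irr_ne hζi (Coherence.isIrr_conjFun hζi) (Ne.symm hζne),
        classInner_irr_ne (Coherence.isIrr_conjFun hζi) hζi hζne]
      norm_num
    rw [classInner_sub_left, classInner_sub_right, classInner_sub_right, hχ.inner_self,
      hχ'.inner_self, ← classInner_conj_symm χ (Cfsg.conjFun χ), hm₀, map_intCast] at h1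
    have h2 : (m₀ : ℂ) = 0 := by linear_combination -(1 / 2 : ℂ) * h1
    rw [hm₀, h2]
  have hreal : ∀ {α : G → ℂ}, IsGeneralizedCharacter G α → α 1 = Cfsg.conjFun α 1 := by
    intro α hα
    obtain ⟨a, b, ha, hb, rfl⟩ := hα
    have e1 := Coherence.isChar_conjFun_one ha
    have e2 := Coherence.isChar_conjFun_one hb
    simp only [Cfsg.conjFun, Pi.sub_apply, map_sub] at e1 e2 ⊢
    rw [e1, e2]
  -- the images of `X` are orthogonal to `χ`
  have horth : ∀ Φ ∈ X, classInner (τ₁ Φ) χ = 0 := by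
    intro Φ hΦ
    have hΦ' := OddChars.diff_conj_mem hΦ
    have hΦi := hirr Φ hΦ
    have hΦi' := hirr _ hΦ'
    have hmem : Φ ∈ zspan X := Coherence.mem_zspan_of_mem hΦ
    have hmem' : Cfsg.conjFun Φ ∈ zspan X := Coherence.mem_zspan_of_mem hΦ'
    have hsir : ∀ {Ψ : ↥M → ℂ}, Ψ ∈ X → IsIrrCharacter ↥M Ψ → Coherence.SIrr G (τ₁ Ψ) := by
      intro Ψ hΨ hi
      obtain ⟨ψ, hψ⟩ := IsGen.eq_pm_irr (hgen Ψ (Coherence.mem_zspan_of_mem hΨ)) (by
        rw [hτ₁.2.2.1 _ (Coherence.mem_zspan_of_mem hΨ) _ (Coherence.mem_zspan_of_mem hΨ),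
          classInner_irr_self hi])
      rcases hψ with e | e
      · exact Or.inl (e ▸ ψ.2)
      · exact Or.inr (by rw [e, neg_neg]; exact ψ.2)
    have hdiff : τ₁ Φ - τ₁ (Cfsg.conjFun Φ) = indFun M (Φ - Cfsg.conjFun Φ) := by
      rw [← Coherence.iso_zspan_sub hτ₁ hmem hmem']
      exact hτ₁e _ (Coherence.sub_conjFun_mem (IsIrr.isCharacter hΦi) hΦ hΦ')
    have hΦne : Cfsg.conjFun Φ ≠ Φ := hS.conj_ne Φ hΦ.1
    have hΦz := Coherence.sub_conjFun_mem (IsIrr.isCharacter hΦi) hΦ.1 hΦ'.1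
    have e0 : classInner (indFun M (ζ - Cfsg.conjFun ζ)) (indFun M (Φ - Cfsg.conjFun Φ)) = 0 := by
      rw [show classInner (indFun M (ζ - Cfsg.conjFun ζ)) (indFun M (Φ - Cfsg.conjFun Φ)) =
        classInner (ζ - Cfsg.conjFun ζ) (Φ - Cfsg.conjFun Φ) from h.iso.2.2.1 _ hζz _ hΦz]
      have ne : ∀ {a b : ↥M → ℂ}, a ∈ inducedIrrAbove (K.subgroupOf M) Z →
          b ∉ inducedIrrAbove (K.subgroupOf M) Z → a ≠ b := fun ha hb e => hb (e ▸ ha)
      rw [classInner_sub_left, classInner_sub_right, classInner_sub_right,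
        h.member_orth hζS hΦ.1 (ne hζ hΦ.2), h.member_orth hζS hΦ'.1 (ne hζ hΦ'.2),
        h.member_orth hζS' hΦ.1 (ne hζ' hΦ.2), h.member_orth hζS' hΦ'.1 (ne hζ' hΦ'.2)]
      ring
    have key := Coherence.signed_cross hχ hχ' (hsir hΦ hΦi) (hsir hΦ' hΦi') 1 1 one_ne_zero
      one_ne_zero hχχ (by
        rw [hτ₁.2.2.1 _ hmem _ hmem', classInner_irr_ne hΦi hΦi' (Ne.symm hΦne)])
      (by rw [Complex.ofReal_one, one_smul, one_smul, hτ, hdiff, e0])
      (hreal hχ.isGeneralized) (by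
        have e := congrFun hdiff 1
        rw [Pi.sub_apply, Char.indFun_apply_one, Pi.sub_apply,
          Coherence.isChar_conjFun_one (IsIrr.isCharacter hΦi), sub_self, mul_zero,
          sub_eq_zero] at e
        rw [Complex.ofReal_one, one_mul, one_mul, e])
    exact Coherence.inner_eq_zero_comm key.1
  set f : K.subgroupOf M → ℂ := fun k => χ ((k : ↥M) : G) with hf
  have hfgen : IsGeneralizedCharacter (K.subgroupOf M) f :=
    isGeneralized_comp (M.subtype.comp (K.subgroupOf M).subtype) hχ.isGeneralized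
  have hχc := IsGen.isClassFunction hχ.isGeneralized
  have hχMc : IsClassFunction ↥M (fun x : ↥M => χ (x : G)) := fun x g => hχc (x : G) (g : G)
  -- proportionality
  have hprop : ∀ θ ∈ OddChars.Above (K.subgroupOf M) ⊥, θ ∉ OddChars.Above (K.subgroupOf M) Z →
      ∀ θ' ∈ OddChars.Above (K.subgroupOf M) ⊥, θ' ∉ OddChars.Above (K.subgroupOf M) Z →
      θ' 1 * classInner θ f = θ 1 * classInner θ' f := by
    intro θ hθ hn θ' hθ' hn'
    have m1 : indFun (K.subgroupOf M) θ ∈ X := OddChars.mem_diff_iff.2 ⟨θ, hθ, hn, rfl⟩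
    have m2 : indFun (K.subgroupOf M) θ' ∈ X := OddChars.mem_diff_iff.2 ⟨θ', hθ', hn', rfl⟩
    obtain ⟨n, -, hn1⟩ := IsIrr.degree hθ.1
    obtain ⟨n', -, hn1'⟩ := IsIrr.degree hθ'.1
    set Φ := indFun (K.subgroupOf M) θ with hΦ
    set Φ' := indFun (K.subgroupOf M) θ' with hΦ'
    have z1 : Φ ∈ zspan X := Coherence.mem_zspan_of_mem m1
    have z2 : Φ' ∈ zspan X := Coherence.mem_zspan_of_mem m2
    have hα : (n' : ℤ) • Φ - (n : ℤ) • Φ' ∈ zspanOn X {1}ᶜ :=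
      Coherence.mem_zspanOn_compl_one.2 ⟨Coherence.zspan_sub (Coherence.zspan_zsmul _ z1)
        (Coherence.zspan_zsmul _ z2), by
          simp [hΦ, hΦ', Char.indFun_apply_one, hn1, hn1', ← Int.cast_smul_eq_zsmul ℂ]; ring⟩
    have e1 := hτ₁e _ hα
    beta_reduce at e1
    rw [Coherence.iso_zspan_sub hτ₁ (Coherence.zspan_zsmul _ z1) (Coherence.zspan_zsmul _ z2),
      hτ₁.2.1 _ z1, hτ₁.2.1 _ z2] at e1
    have e2 : classInner (indFun M ((n' : ℤ) • Φ - (n : ℤ) • Φ')) χ = 0 := by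
      rw [← e1]
      simp only [← Int.cast_smul_eq_zsmul ℂ, classInner_sub_left, classInner_smul_left,
        horth _ m1, horth _ m2, mul_zero, sub_zero]
    rw [classInner_indFun_left M _ hχc] at e2
    simp only [← Int.cast_smul_eq_zsmul ℂ, classInner_sub_left, classInner_smul_left,
      Int.cast_natCast] at e2
    rw [hΦ, hΦ', classInner_indFun_left _ _ hχMc, classInner_indFun_left _ _ hχMc,
      sub_eq_zero] at e2
    rw [hn1, hn1']
    exact e2
  obtain ⟨θ₀, hθ₀, hn₀⟩ := OddChars.exists_above_not_mem (K := K.subgroupOf M) hZ1 hZK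
  refine ⟨classInner θ₀ f / θ₀ 1, fun θ hθ => ?_⟩
  have hm : (θ : K.subgroupOf M → ℂ) ∈ OddChars.Above (K.subgroupOf M) ⊥ := by
    refine ⟨θ.2, fun e => ?_, fun a ha => ?_⟩
    · obtain ⟨z, -, hz⟩ := hθ
      exact hz (by rw [e])
    · rw [Subgroup.mem_bot] at ha
      rw [show a = 1 from Subtype.ext ha]
  have hm' : (θ : K.subgroupOf M → ℂ) ∉ OddChars.Above (K.subgroupOf M) Z := fun hc => by
    obtain ⟨z, hzZ, hz⟩ := hθ
    exact hz (hc.2.2 z hzZ)
  obtain ⟨m, hmm⟩ := classInner_generalized_int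
    (isGeneralized_of_isCharacter (IsIrr.isCharacter θ.2)) hfgen
  have hp := hprop _ hm hm' θ₀ hθ₀ hn₀
  rw [← classInner_conj_symm, hmm, map_intCast, ← hmm]
  have h0 := IsIrr.one_ne_zero hθ₀.1
  field_simp
  linear_combination hp

/-- A signed irreducible character that is constant on the nontrivial elements of a central
subgroup of a Sylow subgroup inside `K` satisfies the congruence. -/
theorem sylow_cong (hnil : Group.IsNilpotent K) {Z : Subgroup ↥M} [Z.Normal]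
    (hZK : Z ≤ K.subgroupOf M) (hZc : ∀ z ∈ Z, ∀ k ∈ K.subgroupOf M, z * k = k * z)
    {s : ℕ} [Fact s.Prime] (P : Sylow s G) (hPK : (P : Subgroup G) ≤ K)
    (hZP : Z ≤ (P : Subgroup G).subgroupOf M)
    {χ : G → ℂ} (hχ : Coherence.SIrr G χ)
    (hconst : ∀ z ∈ Z, ∀ z' ∈ Z, z ≠ 1 → z' ≠ 1 → χ (z : G) = χ (z' : G))
    {z : ↥M} (hz : z ∈ Z) (hz1 : z ≠ 1) :
    ∃ w : ℤ, χ 1 - χ (z : G) = ((Nat.card (P : Subgroup G) : ℤ) * w : ℤ) := by
  have := h.K_normal
  have : Group.IsNilpotent K := hnil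
  -- the Sylow subgroup
  have hmemP : ∀ y ∈ K, (∃ k : ℕ, orderOf y = s ^ k) → y ∈ (P : Subgroup G) := by
    rintro y hy ⟨k, hk⟩
    have hn : ((P.subtype hPK : Sylow s K) : Subgroup K).Normal :=
      Sylow.normal_of_normalizerCondition Group.normalizerCondition_of_isNilpotent _
    have hp : IsPGroup s (Subgroup.zpowers (⟨y, hy⟩ : K)) := by
      refine IsPGroup.of_card (n := k) ?_
      rw [Nat.card_zpowers, ← Subgroup.orderOf_coe, hk]
    obtain ⟨Q, hQ⟩ := hp.exists_le_sylow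
    have := Sylow.unique_of_normal (P.subtype hPK) hn
    rw [Subsingleton.elim Q (P.subtype hPK)] at hQ
    exact hQ (Subgroup.mem_zpowers _)
  have hconjP : ∀ m ∈ M, ∀ y ∈ (P : Subgroup G), m * y * m⁻¹ ∈ (P : Subgroup G) := by
    intro m hm y hy
    refine hmemP _ (h.K_normal.conj_mem ⟨y, h.K_le (hPK hy)⟩ (hPK hy) ⟨m, hm⟩) ?_
    obtain ⟨k, hk⟩ := IsPGroup.iff_orderOf.1 P.2 ⟨y, hy⟩
    refine ⟨k, ?_⟩
    rw [← hk, ← Subgroup.orderOf_coe]
    exact (MulAut.conj m).orderOf_eq y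
  have hsharp : ∀ y ∈ (P : Subgroup G), y ≠ 1 → y ∈ sharp K ∪ conjIn M (vSet W₁ W₂) :=
    fun y hy hy1 => Or.inl ⟨hPK hy, hy1⟩
  have hPz : (z : G) ∈ (P : Subgroup G) := hZP hz
  have hz1G : (z : G) ≠ 1 := fun e => hz1 (Subtype.ext e)
  have hnorm : Subgroup.normalizer ((P : Subgroup G) : Set G) = M := by
    refine le_antisymm (fun x hx => ?_) (fun x hx => ?_)
    · refine mem_of_conj h.dade (hsharp _ hPz hz1G) (hsharp _ ?_ ?_)
      · exact (Subgroup.mem_normalizer_iff.1 hx (z : G)).1 hPz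
      · intro e
        exact hz1G (conj_eq_one_iff.1 e)
    · refine Subgroup.mem_normalizer_iff.2 fun y => ⟨hconjP x hx y, fun hy => ?_⟩
      simpa [mul_assoc] using hconjP _ (M.inv_mem hx) _ hy
  have hTI : IsTISubset ((P : Subgroup G) : Set G) := by
    intro g hg x hx hgx
    by_contra hx1
    refine hg (hnorm.symm ▸ mem_of_conj h.dade (hsharp _ hx hx1) (hsharp _ hgx ?_))
    exact fun e => hx1 (conj_eq_one_iff.1 e)
  obtain ⟨ψ, hψ⟩ := hχ.exists_eq
  obtain ⟨δ, hδ1, hδ⟩ : ∃ δ : ℤ, (δ = 1 ∨ δ = -1) ∧ ∀ g, χ g = (δ : ℂ) * (ψ : G → ℂ) g := by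
    rcases hψ with e | e
    · exact ⟨1, Or.inl rfl, fun g => by simp [e]⟩
    · exact ⟨-1, Or.inr rfl, fun g => by simp [e]⟩
  have hδ0 : (δ : ℂ) ≠ 0 := by rcases hδ1 with rfl | rfl <;> norm_num
  obtain ⟨n, d, hn, hd, w, hw⟩ := ti_sylow_cong P hTI
    (h.odd.of_dvd_nat (Subgroup.card_subgroup_dvd_card _)) (Z.map M.subtype)
    (fun y hy => by
      obtain ⟨y, hy', rfl⟩ := Subgroup.mem_map.1 hy
      exact hZP hy')
    (fun g hg y hy => by
      obtain ⟨y, hy', rfl⟩ := Subgroup.mem_map.1 hy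
      rw [hnorm] at hg
      exact Subgroup.mem_map.2 ⟨_, (inferInstance : Z.Normal).conj_mem y hy' ⟨g, hg⟩, rfl⟩)
    (fun y hy x hx => by
      obtain ⟨y, hy', rfl⟩ := Subgroup.mem_map.1 hy
      exact congrArg Subtype.val (hZc y hy' ⟨x, h.K_le (hPK hx)⟩ (hPK hx)))
    ψ (fun y hy y' hy' hne hne' => by
      obtain ⟨a, ha, rfl⟩ := Subgroup.mem_map.1 hy
      obtain ⟨b, hb, rfl⟩ := Subgroup.mem_map.1 hy'
      have e2 := hconst a ha b hb (fun e => hne (by rw [e]; rfl)) (fun e => hne' (by rw [e]; rfl))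
      simp only [hδ] at e2
      exact mul_left_cancel₀ hδ0 e2)
    (z : G) (Subgroup.mem_map_of_mem _ hz) hz1G
  refine ⟨δ * w, ?_⟩
  rw [hδ, hδ, hn, hd]
  have : ((d - n : ℤ) : ℂ) = ((Nat.card (P : Subgroup G) * w : ℤ) : ℂ) := by rw [hw]
  push_cast at this ⊢
  linear_combination (δ : ℂ) * this

/-- The congruence: the common ratio is an integer. -/
theorem exists_kappa (hnil : Group.IsNilpotent K) (hKM : K.subgroupOf M < ⊤)
    (hfrob : ∀ k ∈ K.subgroupOf M, k ∉ ⁅K.subgroupOf M, K.subgroupOf M⁆ → ∀ x : ↥M,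
      x * k * x⁻¹ * k⁻¹ ∈ ⁅K.subgroupOf M, K.subgroupOf M⁆ → x ∈ K.subgroupOf M)
    {Z : Subgroup ↥M} [Z.Normal] (hZ1 : Z ≠ ⊥) (hZK : Z ≤ K.subgroupOf M)
    (hZc : ∀ z ∈ Z, ∀ k ∈ K.subgroupOf M, z * k = k * z)
    (hfix : ∀ g : ↥M, g ∉ K.subgroupOf M → ∀ z ∈ Z, g * z * g⁻¹ = z → z = 1)
    {s : ℕ} [Fact s.Prime] (P : Sylow s G) (hPK : (P : Subgroup G) ≤ K)
    (hZP : Z ≤ (P : Subgroup G).subgroupOf M)
    {ζ : ↥M → ℂ} (hζ : ζ ∈ inducedIrrAbove (K.subgroupOf M) Z) (hζi : IsIrrCharacter ↥M ζ)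
    {χ : G → ℂ} (hχ : Coherence.SIrr G χ)
    (hτ : χ - Cfsg.conjFun χ = indFun M (ζ - Cfsg.conjFun ζ)) :
    ∃ κ : ℤ, (∀ θ : IrrCharacter (K.subgroupOf M),
      (∃ z ∈ Z.subgroupOf (K.subgroupOf M), (θ : K.subgroupOf M → ℂ) z ≠
        (θ : K.subgroupOf M → ℂ) 1) →
      classInner (fun k : K.subgroupOf M => χ ((k : ↥M) : G)) (θ : K.subgroupOf M → ℂ) =
        (κ : ℂ) * (θ : K.subgroupOf M → ℂ) 1) ∧
      ∀ z ∈ Z, z ≠ 1 → χ 1 - χ (z : G) = (κ : ℂ) * (Nat.card K : ℂ) := by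
  have := h.K_normal
  have : Group.IsNilpotent K := hnil
  have hnil' : Group.IsNilpotent (K.subgroupOf M) :=
    Group.nilpotent_of_mulEquiv (Subgroup.subgroupOfEquivOfLe h.K_le).symm
  obtain ⟨κ, hκ⟩ := h.exists_ratio hnil hKM hfrob hZ1 hZK hZc hfix hζ hζi hχ hτ
  have hχc := IsGen.isClassFunction hχ.isGeneralized
  set f : K.subgroupOf M → ℂ := fun k => χ ((k : ↥M) : G) with hf
  have hfgen : IsGeneralizedCharacter (K.subgroupOf M) f :=
    isGeneralized_comp (M.subtype.comp (K.subgroupOf M).subtype) hχ.isGeneralized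
  have hcard : Nat.card (K.subgroupOf M) = Nat.card K :=
    Nat.card_congr (Subgroup.subgroupOfEquivOfLe h.K_le).toEquiv
  have hval : ∀ z ∈ Z, z ≠ 1 → χ 1 - χ (z : G) = κ * (Nat.card K : ℂ) := by
    intro z hz hz1
    have e := sub_eq_mul_card (IsGen.isClassFunction hfgen) (Z.subgroupOf (K.subgroupOf M)) hκ
      (z := ⟨z, hZK hz⟩) hz fun e => hz1 (congrArg Subtype.val e)
    rw [hcard] at e
    simpa [hf] using e
  obtain ⟨z, hz, hz1⟩ := (Subgroup.bot_or_exists_ne_one Z).resolve_left hZ1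
  -- the Sylow subgroup
  have hPz : (z : G) ∈ (P : Subgroup G) := hZP hz
  have hz1G : (z : G) ≠ 1 := fun e => hz1 (Subtype.ext e)
  obtain ⟨w, hw⟩ := h.sylow_cong hnil hZK hZc P hPK hZP hχ (fun y hy y' hy' hne hne' =>
    sub_right_injective ((hval y hy hne).trans (hval y' hy' hne').symm)) hz hz1
  have hw' : (κ : ℂ) * (Nat.card K : ℂ) = ((Nat.card (P : Subgroup G) : ℤ) * w : ℤ) := by
    rw [← hval z hz hz1, hw]
  -- a character nontrivial on `Z` of degree prime to `|K : P|`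
  set PK := ((P.subtype hPK : Sylow s K) : Subgroup K) with hPKdef
  set e : K.subgroupOf M ≃* K := Subgroup.subgroupOfEquivOfLe h.K_le with he
  obtain ⟨θ, n₁, hθz, hθ1, hθcop⟩ := exists_irr_ne_coprime (P.subtype hPK)
    (z := (⟨(z : G), hPK hPz⟩ : K)) hPz (fun e' => hz1G (congrArg Subtype.val e'))
  let θ' : IrrCharacter (K.subgroupOf M) := ⟨fun x => (θ : K → ℂ) (e x),
    isIrrCharacter_comp e.toMonoidHom e.surjective θ.2⟩
  have hθ' := hκ θ' ⟨⟨z, hZK hz⟩, hz, by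
    show (θ : K → ℂ) (e ⟨z, hZK hz⟩) ≠ (θ : K → ℂ) (e 1)
    rw [map_one]
    exact hθz⟩
  obtain ⟨m, hm⟩ := classInner_generalized_int hfgen
    (isGeneralized_of_isCharacter (IsIrr.isCharacter θ'.2))
  have hκn : κ * (n₁ : ℂ) = (m : ℂ) := by
    rw [← hm, hθ']
    show _ = κ * (θ : K → ℂ) (e 1)
    rw [map_one, hθ1]
  have hindex : Nat.card K = Nat.card (P : Subgroup G) * PK.index := by
    rw [← Subgroup.card_mul_index PK, hPKdef, Sylow.coe_subtype,
      Nat.card_congr (Subgroup.subgroupOfEquivOfLe hPK).toEquiv]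
  have hκi : κ * (PK.index : ℂ) = (w : ℂ) := by
    refine mul_left_cancel₀ (a := (Nat.card (P : Subgroup G) : ℂ))
      (Nat.cast_ne_zero.2 Nat.card_pos.ne') ?_
    rw [hindex] at hw'
    push_cast at hw' ⊢
    linear_combination hw'
  obtain ⟨a, b, hab⟩ := Int.isCoprime_iff_gcd_eq_one.2 (by exact_mod_cast hθcop :
    Int.gcd (n₁ : ℤ) (PK.index : ℤ) = 1)
  have hκint : κ = ((a * m + b * w : ℤ) : ℂ) := by
    have hab' : (a : ℂ) * n₁ + (b : ℂ) * PK.index = 1 := by exact_mod_cast hab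
    push_cast at hκi ⊢
    linear_combination (-κ) * hab' + (a : ℂ) * hκn + (b : ℂ) * hκi
  refine ⟨a * m + b * w, fun θ₂ hθ₂ => ?_, fun y hy hy1 => ?_⟩
  · rw [← hκint]; exact hκ θ₂ hθ₂
  · rw [← hκint]; exact hval y hy hy1

end DegSys

end Cfsg.Agent.OddFinal
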