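import Cfsg.Agent.OddFinal.DegenerateBasic
import Cfsg.Agent.OddLocal.CNFrobenius
import Cfsg.Agent.OddLocal.FittingLocal
import Cfsg.Agent.OddChars.FrobeniusCoherence
import Cfsg.Agent.Coprime.Basic
import Mathlib.GroupTheory.GroupAction.Quotient

/-!
# Group theory of a degenerate member

`P` is the `r`-part of `K = M'` for `r = |W₂|`, `R` the `r'`-part.  A `W₁`-invariant subgroup of `K`
containing `W₂` has index congruent to `1` modulo `e = |W₁|`, and a cyclic subgroup of `K` containing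
`W₂` has index greater than `2 e`.
-/

set_option autoImplicit false
set_option linter.unusedSectionVars false

namespace Cfsg.Agent.OddFinal.Degen

open Subgroup Cfsg
open scoped commutatorElement
open scoped _root_.Classical

universe u

variable {G : Type u} [Group G] [Fintype G] {M W₁ W₂ : Subgroup G} [Fintype ↥M]
  (h : Degen M W₁ W₂)

include h

theorem coprime : (Nat.card W₁).Coprime (Nat.card ↥⁅M, M⁆) := by
  have h1 : W₁.relIndex M * Nat.card W₁ = Nat.card M := by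
    rw [← Nat.card_congr (subgroupOfEquivOfLe h.W₁_le).toEquiv, relIndex, index_mul_card]
  rw [h.card_eq] at h1
  exact Nat.eq_of_mul_eq_mul_right Nat.card_pos h1 ▸ h.W₁_hall

theorem normalizer_derived : M ≤ normalizer (↑(⁅M, M⁆) : Set G) := fun x hx => by
  refine mem_set_normalizer_iff.2 fun y => ⟨fun hy => ?_, fun hy => ?_⟩
  · exact mem_subgroupOf.1 ((normal_kin M).conj_mem ⟨y, derived_le M hy⟩ hy ⟨x, hx⟩)
  · have := mem_subgroupOf.1 ((normal_kin M).conj_mem ⟨_, derived_le M hy⟩ hy ⟨x⁻¹, M.inv_mem hx⟩)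
    simpa [mul_assoc] using this

theorem commute_W : ∀ a ∈ W₁, ∀ b ∈ W₂, a * b = b * a := h.selfNorm.2.2.2.1

/-- An element of `K` in a coset of `C ⊇ W₂` stable under some `a ∈ W₁#` lies in `C`. -/
theorem fixed_coset {C : Subgroup G} (hCK : C ≤ ⁅M, M⁆) (hW₂C : W₂ ≤ C) {a : G} (ha : a ∈ W₁)
    (ha1 : a ≠ 1) (hn : a ∈ normalizer (C : Set G)) {k : G} (hk : k ∈ ⁅M, M⁆)
    (hka : k⁻¹ * (a * k * a⁻¹) ∈ C) : k ∈ C := by
  let S : Subgroup G :=
    { carrier := {x | x ∈ normalizer (C : Set G) ∧ k⁻¹ * (x * k * x⁻¹) ∈ C}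
      one_mem' := ⟨one_mem _, by simp⟩
      mul_mem' := by
        rintro x y ⟨hx, hxC⟩ ⟨hy, hyC⟩
        refine ⟨mul_mem hx hy, ?_⟩
        have e : k⁻¹ * (x * y * k * (x * y)⁻¹) =
            k⁻¹ * (x * k * x⁻¹) * (x * (k⁻¹ * (y * k * y⁻¹)) * x⁻¹) := by group
        rw [e]
        exact C.mul_mem hxC ((mem_set_normalizer_iff.1 hx _).1 hyC)
      inv_mem' := by
        rintro x ⟨hx, hxC⟩
        refine ⟨inv_mem hx, ?_⟩
        have e : k⁻¹ * (x⁻¹ * k * x⁻¹⁻¹) = (x⁻¹ * (k⁻¹ * (x * k * x⁻¹)) * x⁻¹⁻¹)⁻¹ := by group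
        rw [e]
        exact C.inv_mem ((mem_set_normalizer_iff.1 (inv_mem hx) _).1 hxC) }
  have hA : zpowers a ≤ S := zpowers_le.2 ⟨hn, hka⟩
  have hcop : (Nat.card (zpowers a)).Coprime (Nat.card C) := by
    rw [Nat.card_zpowers]
    exact (h.coprime.coprime_dvd_left (Subgroup.orderOf_dvd_natCard W₁ ha)).coprime_dvd_right
      (card_dvd_of_le hCK)
  obtain ⟨n, hn, hc⟩ := Coprime.exists_fixed_mem_leftCoset (A := zpowers a) (N := C)
    (fun x hx => (hA hx).1) hcop
    (Or.inl (Group.isSolvable_of_comm fun p q => IsMulCommutative.is_comm.comm p q))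
    (k := k) fun x hx => (hA hx).2
  have h2 : k * n ∈ W₂ := by
    rw [← h.W₂_centralizer a ha ha1]
    exact ⟨mul_mem hk (hCK hn), centralizer_le (by simp) hc⟩
  simpa using C.mul_mem (hW₂C h2) (C.inv_mem hn)

/-- A `W₁`-invariant subgroup of `H ≤ K` containing `W₂` has index `1` modulo `|W₁|`. -/
theorem index_modEq {H C : Subgroup G} (hH : H ≤ ⁅M, M⁆) (hC : C ≤ H) (hW₂C : W₂ ≤ C)
    (hHn : W₁ ≤ normalizer (H : Set G)) (hCn : W₁ ≤ normalizer (C : Set G)) :
    Nat.card W₁ ∣ C.relIndex H - 1 := by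
  have hconj : ∀ a : W₁, ∀ x ∈ H, (a : G) * x * (a : G)⁻¹ ∈ H := fun a x hx =>
    (mem_set_normalizer_iff.1 (hHn a.2) x).1 hx
  letI : SMul W₁ (H ⧸ C.subgroupOf H) :=
    ⟨fun a q => Quotient.liftOn' q
      (fun x => QuotientGroup.mk (⟨(a : G) * x * (a : G)⁻¹, hconj a x x.2⟩ : H)) fun x y hxy => by
        rw [QuotientGroup.leftRel_apply] at hxy
        refine QuotientGroup.eq.2 (mem_subgroupOf.2 ?_)
        have := (mem_set_normalizer_iff.1 (hCn a.2) _).1 (mem_subgroupOf.1 hxy)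
        convert this using 1
        simp [mul_assoc]⟩
  letI : MulAction W₁ (H ⧸ C.subgroupOf H) :=
    { one_smul := fun q => by
        induction q using QuotientGroup.induction_on with
        | _ x => exact congrArg QuotientGroup.mk (Subtype.ext (by simp))
      mul_smul := fun a b q => by
        induction q using QuotientGroup.induction_on with
        | _ x => exact congrArg QuotientGroup.mk (Subtype.ext (by simp [mul_assoc])) }
  have hsmul : ∀ (a : W₁) (x : H), a • (QuotientGroup.mk x : H ⧸ C.subgroupOf H) =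
      QuotientGroup.mk (⟨(a : G) * x * (a : G)⁻¹, hconj a x x.2⟩ : H) := fun _ _ => rfl
  have hfix : ∀ a : W₁, a ≠ 1 →
      Nat.card (MulAction.fixedBy (H ⧸ C.subgroupOf H) a) = 1 := by
    intro a ha
    rw [Nat.card_eq_one_iff_exists]
    refine ⟨⟨QuotientGroup.mk 1, ?_⟩, ?_⟩
    · rw [MulAction.mem_fixedBy, hsmul]
      exact congrArg QuotientGroup.mk (Subtype.ext (by simp))
    · rintro ⟨q, hq⟩
      induction q using QuotientGroup.induction_on with
      | _ x =>
        rw [MulAction.mem_fixedBy, hsmul, QuotientGroup.eq, mem_subgroupOf] at hq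
        have h1 := C.inv_mem hq
        have hxC : (x : G) ∈ C := by
          refine h.fixed_coset (hC.trans hH) hW₂C a.2 (fun e => ha (Subtype.ext e)) (hCn a.2)
            (hH x.2) ?_
          simpa [mul_assoc] using h1
        refine Subtype.ext (QuotientGroup.eq.2 (mem_subgroupOf.2 ?_))
        simpa using hxC
  have hb := MulAction.sum_card_fixedBy_eq_card_orbits_mul_card_group W₁ (H ⧸ C.subgroupOf H)
  have h1 : ∀ a : W₁, Fintype.card (MulAction.fixedBy (H ⧸ C.subgroupOf H) a) =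
      if a = 1 then C.relIndex H else 1 := by
    intro a
    rw [← Nat.card_eq_fintype_card]
    split_ifs with ha
    · subst ha
      rw [relIndex, index_eq_card]
      exact Nat.card_congr (Equiv.subtypeUnivEquiv fun q => one_smul _ q)
    · exact hfix a ha
  rw [Finset.sum_congr rfl fun a _ => h1 a,
    ← Finset.add_sum_erase Finset.univ _ (Finset.mem_univ (1 : W₁)), if_pos rfl,
    Finset.sum_congr rfl fun a ha => if_neg (Finset.ne_of_mem_erase ha), Finset.sum_const,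
    smul_eq_mul, mul_one, Finset.card_erase_of_mem (Finset.mem_univ _), Finset.card_univ,
    ← Nat.card_eq_fintype_card] at hb
  have h2 := C.relIndex H
  have h3 : 1 ≤ C.relIndex H := Nat.one_le_iff_ne_zero.2 Subgroup.index_ne_zero_of_finite
  have h4 : 1 ≤ Nat.card W₁ := Nat.card_pos
  obtain ⟨o, ho⟩ : ∃ o, C.relIndex H + (Nat.card W₁ - 1) = o * Nat.card W₁ := ⟨_, hb⟩
  refine ⟨o - 1, ?_⟩
  rw [Nat.mul_sub, mul_one, mul_comm, ← ho]
  omega

/-- A proper invariant subgroup containing `W₂` has index greater than `2 |W₁|`. -/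
theorem index_gt {H C : Subgroup G} (hH : H ≤ ⁅M, M⁆) (hC : C < H) (hW₂C : W₂ ≤ C)
    (hHn : W₁ ≤ normalizer (H : Set G)) (hCn : W₁ ≤ normalizer (C : Set G)) :
    2 * Nat.card W₁ < C.relIndex H := by
  obtain ⟨k, hk⟩ := h.index_modEq hH hC.le hW₂C hHn hCn
  have h1 : C.relIndex H ≠ 1 := fun e => hC.not_ge (relIndex_eq_one.1 e)
  have h0 : C.relIndex H ≠ 0 := Subgroup.index_ne_zero_of_finite
  have hodd : Odd (C.relIndex H) := Odd.of_dvd_nat (h.odd_of H) (relIndex_dvd_card C H)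
  rcases k with _ | _ | k
  · omega
  · obtain ⟨i, hi⟩ := hodd
    obtain ⟨j, hj⟩ := h.odd_of W₁
    omega
  · have : Nat.card W₁ * 2 ≤ Nat.card W₁ * (k + 1 + 1) := Nat.mul_le_mul_left _ (by omega)
    omega

/-- The `r`-part of `K`. -/
noncomputable abbrev pPart (_h : Degen M W₁ W₂) : Subgroup G := OddLocal.rPart (Nat.card W₂) ⁅M, M⁆

theorem factPrime : Fact (Nat.card W₂).Prime := ⟨h.prime₂⟩

theorem pPart_le : h.pPart ≤ ⁅M, M⁆ :=
  haveI := h.factPrime
  OddLocal.rPart_le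

theorem isPGroup_pPart : IsPGroup (Nat.card W₂) h.pPart :=
  haveI := h.factPrime
  OddLocal.isPGroup_rPart

theorem pPart_normal : M ≤ normalizer (h.pPart : Set G) :=
  haveI := h.factPrime
  OddLocal.le_normalizer_rPart h.normalizer_derived

theorem isPGroup_W₂ : IsPGroup (Nat.card W₂) W₂ := IsPGroup.of_card (n := 1) (pow_one _).symm

theorem W₂_le_pPart : W₂ ≤ h.pPart :=
  haveI := h.factPrime
  OddLocal.le_rPart_of_isPGroup h.nil h.W₂_le_derived h.isPGroup_W₂

/-- `K = P R`. -/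
theorem derived_le_sup : ⁅M, M⁆ ≤ h.pPart ⊔ OddLocal.rPrimePart (Nat.card W₂) ⁅M, M⁆ := by
  haveI := h.factPrime
  refine (OddLocal.le_iSup_rPart h.nil).trans (iSup_le fun s => ?_)
  haveI : Fact (s : ℕ).Prime := ⟨s.2⟩
  by_cases e : (s : ℕ) = Nat.card W₂
  · rw [e]; exact le_sup_left
  · exact (OddLocal.rPart_le_rPrimePart e).trans le_sup_right

/-- `W₂` lies in the derived subgroup of `P`. -/
theorem W₂_le_pPart_derived : W₂ ≤ ⁅h.pPart, h.pPart⁆ := by
  haveI := h.factPrime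
  set P := h.pPart with hP
  set R := OddLocal.rPrimePart (Nat.card W₂) ⁅M, M⁆ with hR
  have hRP : ∀ x ∈ P, ∀ y ∈ R, Commute x y := fun x hx y hy =>
    mem_centralizer_iff.1 (OddLocal.rPrimePart_le_centralizer_rPart hy) x hx
  have hPn : R ≤ normalizer (P : Set G) :=
    (OddLocal.rPrimePart_le.trans (derived_le M)).trans h.pPart_normal
  have hsplit : ∀ x ∈ P ⊔ R, ∃ p ∈ P, ∃ y ∈ R, x = p * y := fun x hx => by
    have h1 : x ∈ (↑(P ⊔ R) : Set G) := hx
    rw [coe_mul_of_right_le_normalizer_left P R hPn] at h1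
    obtain ⟨p, hp, y, hy, e⟩ := h1
    exact ⟨p, hp, y, hy, e.symm⟩
  have hN : ⁅P ⊔ R, P ⊔ R⁆ ≤ ⁅P, P⁆ ⊔ R := by
    rw [commutator_le]
    intro x hx y hy
    obtain ⟨p, hp, a, ha, rfl⟩ := hsplit x hx
    obtain ⟨q, hq, b, hb, rfl⟩ := hsplit y hy
    have e : ⁅p * a, q * b⁆ = ⁅p, q⁆ * ⁅a, b⁆ := by
      simp only [commutatorElement_def]
      have h1 : Commute a q := (hRP q hq a ha).symm
      have h2 : Commute b p⁻¹ := ((hRP p hp b hb).symm).inv_right
      have h3 : Commute (a * b * a⁻¹) q⁻¹ :=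
        ((hRP q hq _ (R.mul_mem (R.mul_mem ha hb) (R.inv_mem ha))).symm).inv_right
      have h4 : Commute (a * b * a⁻¹) p⁻¹ :=
        ((hRP p hp _ (R.mul_mem (R.mul_mem ha hb) (R.inv_mem ha))).symm).inv_right
      calc p * a * (q * b) * (p * a)⁻¹ * (q * b)⁻¹
          = p * (a * q) * b * a⁻¹ * p⁻¹ * b⁻¹ * q⁻¹ := by group
        _ = p * q * ((a * b * a⁻¹) * p⁻¹) * b⁻¹ * q⁻¹ := by rw [h1.eq]; group
        _ = p * q * p⁻¹ * ((a * b * a⁻¹) * b⁻¹ * q⁻¹) := by rw [h4.eq]; group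
        _ = p * q * p⁻¹ * (q⁻¹ * ((a * b * a⁻¹) * b⁻¹)) := by
            congr 1
            have h5 : Commute (a * b * a⁻¹ * b⁻¹) q⁻¹ := h3.mul_left
              (((hRP q hq b hb).symm).inv_right.inv_left)
            exact h5.eq
        _ = p * q * p⁻¹ * q⁻¹ * (a * b * a⁻¹ * b⁻¹) := by group
    rw [e]
    exact mul_mem (mem_sup_left (commutator_mem_commutator hp hq))
      (mem_sup_right (R.mul_mem (R.mul_mem (R.mul_mem ha hb) (R.inv_mem ha)) (R.inv_mem hb)))
  intro x hx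
  have hx' := hN (commutator_mono h.derived_le_sup h.derived_le_sup (h.W₂_derived hx))
  have h1 : x ∈ (↑(⁅P, P⁆ ⊔ R) : Set G) := hx'
  rw [coe_mul_of_right_le_normalizer_left ⁅P, P⁆ R (fun y hy => by
    refine mem_set_normalizer_iff.2 fun z => ⟨fun hz => ?_, fun hz => ?_⟩
    · have hc : Commute z y := hRP z (Subgroup.commutator_le_self P hz) y hy
      rwa [← hc.eq, mul_inv_cancel_right]
    · have hc : Commute (y * z * y⁻¹) y := hRP _ (Subgroup.commutator_le_self P hz) y hy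
      have e : y * z * y⁻¹ = z := mul_left_cancel (a := y) (by
        rw [← hc.eq]; group)
      rwa [e] at hz)] at h1
  obtain ⟨c, hc, y, hy, e⟩ := h1
  have hyP : y ∈ P := by
    rw [← mul_inv_cancel_left c⁻¹ y]
    have e' : c * y = x := e
    rw [inv_inv, e']
    exact P.mul_mem (P.inv_mem (Subgroup.commutator_le_self P hc)) (h.W₂_le_pPart hx)
  obtain ⟨k, hk⟩ := h.isPGroup_pPart.exists_card_eq
  have hy1 : y ∈ P ⊓ R := ⟨hyP, hy⟩
  have hbot : P ⊓ R = ⊥ := Subgroup.inf_eq_bot_of_coprime (by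
    rw [hP, hk]; exact (OddLocal.coprime_card_rPrimePart).symm.pow_left k)
  rw [hbot, mem_bot] at hy1
  rw [← e, hy1]
  simpa using hc

/-- `P` is not abelian, in particular larger than `W₂`. -/
theorem pPart_derived_lt : ⁅h.pPart, h.pPart⁆ < h.pPart := by
  haveI := h.factPrime
  exact OddChars.derived_lt (h.isPGroup_pPart.isNilpotent) fun e =>
    h.W₂_ne (le_bot_iff.1 (e ▸ h.W₂_le_pPart))

end Cfsg.Agent.OddFinal.Degen
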