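import Mathlib
import Cfsg.Agent.S1514
import Cfsg.Agent.OddChars.InducedFamily
import Cfsg.Agent.OddFinal.Tau
import Cfsg.Agent.OddFinal.EtaUnique

/-!
# The coherence system of a degenerate member (section E4 of the endgame)

For `K = M'` the characters induced from the non-principal irreducible characters of `K` are
irreducible or column sums `colSum μ ψ`; with induction to `G` they form a coherence system whose
pairs attached to the irreducible members are orthogonal to the family `η`.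
-/

set_option autoImplicit false
set_option linter.unusedSectionVars false

namespace Cfsg.Agent.OddFinal

open Cfsg Char CyclicTI
open scoped ComplexConjugate
open scoped _root_.Classical

universe u

variable {G : Type u} [Group G] [Fintype G] {M W₁ W₂ K : Subgroup G} [Fintype ↥M]
  {μ : (↥(W₁ ⊔ W₂) →* ℂˣ) → ↥M → ℂ} {η : (↥(W₁ ⊔ W₂) →* ℂˣ) → G → ℂ}

/-- The sum of a column. -/
noncomputable def colSum {X : Type*} (F : (↥(W₁ ⊔ W₂) →* ℂˣ) → X → ℂ) (ψ : Right W₁ W₂) :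
    X → ℂ :=
  ∑ φ : Left W₁ W₂, F (φ.1 * ψ.1)

/-- The inverse of a member of `Right`. -/
def rightInv (ψ : Right W₁ W₂) : Right W₁ W₂ :=
  ⟨ψ.1⁻¹, fun w hw => by rw [MonoidHom.inv_apply, ψ.2 w hw, inv_one]⟩

/-- What the coherence system of a degenerate member uses. -/
structure DegSys (M W₁ W₂ K : Subgroup G) [Fintype ↥M]
    (μ : (↥(W₁ ⊔ W₂) →* ℂˣ) → ↥M → ℂ) (η : (↥(W₁ ⊔ W₂) →* ℂˣ) → G → ℂ) : Prop where
  selfN : IsSelfNormalizingCyclic W₁ W₂
  odd : Odd (Nat.card G)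
  fam : IsCyclicTIFamily W₁ W₂ η
  K_le : K ≤ M
  K_normal : (K.subgroupOf M).Normal
  K_solv : Group.IsSolvable K
  K_ne : K ≠ ⊥
  dade : DadeHypothesis (sharp K ∪ conjIn M (vSet W₁ W₂)) M (fun _ => ⊥)
  disjoint : Disjoint (sharp K) (conjIn M (vSet W₁ W₂))
  irr_mu : ∀ ω, IsIrrCharacter ↥M (μ ω)
  mu_inj : Function.Injective μ
  members : ∀ χ ∈ inducedIrrAbove (K.subgroupOf M) ⊥, IsIrrCharacter ↥M χ ∨
    ∃ ψ : Right W₁ W₂, ψ.1 ≠ 1 ∧ χ = colSum μ ψ
  conj_col : ∀ ψ : Right W₁ W₂, ψ.1 ≠ 1 → conjFun (colSum μ ψ) = colSum μ (rightInv ψ)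
  tau_col : ∀ ψ : Right W₁ W₂, ψ.1 ≠ 1 → ∃ δ : ℤ, (δ = 1 ∨ δ = -1) ∧
    indFun M (colSum μ ψ - colSum μ (rightInv ψ)) =
      (δ : ℂ) • (colSum η ψ - colSum η (rightInv ψ))

theorem rightInv_ne {ψ : Right W₁ W₂} (hodd : Odd (Nat.card ↥(W₁ ⊔ W₂))) (hψ : ψ.1 ≠ 1) :
    rightInv ψ ≠ ψ := by
  intro h
  refine hψ (MonoidHom.ext fun w => ?_)
  have h2 : (ψ.1 w)⁻¹ = ψ.1 w := DFunLike.congr_fun (congrArg Subtype.val h) w
  have hN : (ψ.1 w) ^ Nat.card ↥(W₁ ⊔ W₂) = 1 := by
    rw [← MonoidHom.pow_apply, coe_hom_pow_card]; rfl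
  have hsq : (ψ.1 w) ^ 2 = 1 := by
    rw [pow_two]
    nth_rw 1 [← h2]
    exact inv_mul_cancel _
  rw [MonoidHom.one_apply]
  exact orderOf_eq_one_iff.1 (Nat.eq_one_of_dvd_coprimes (Nat.coprime_two_right.2 hodd)
    (orderOf_dvd_of_pow_eq_one hN) (orderOf_dvd_of_pow_eq_one hsq))

/-- A sum of two orthogonal signed irreducible characters that vanishes on `V` and is orthogonal
to the principal character is orthogonal to the family, and so is each summand. -/
theorem pair_orth_eta (hW : IsSelfNormalizingCyclic W₁ W₂)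
    (hodd : Odd (Nat.card ↥(W₁ ⊔ W₂))) (hη : IsCyclicTIFamily W₁ W₂ η) {α β : G → ℂ}
    (hα : Coherence.SIrr G α) (hβ : Coherence.SIrr G β) (hαβ : classInner α β = 0)
    (hV : ∀ w ∈ vSet W₁ W₂, (α + β) w = 0) (h1 : classInner (α + β) (fun _ => 1) = 0)
    (ω : ↥(W₁ ⊔ W₂) →* ℂˣ) : classInner α (η ω) = 0 ∧ classInner β (η ω) = 0 := by
  have hcl : IsClassFunction G (α + β) := Char.IsGen.isClassFunction
    (Char.isGeneralized_add hα.isGeneralized hβ.isGeneralized)
  have hS : ∀ ω, Coherence.SIrr G (η ω) := fun ω => hη.irr_or_neg ω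
  have huniq : ∀ {γ : G → ℂ}, Coherence.SIrr G γ → ∀ {ω ω' : ↥(W₁ ⊔ W₂) →* ℂˣ},
      classInner γ (η ω) ≠ 0 → classInner γ (η ω') ≠ 0 → ω = ω' := by
    intro γ hγ ω ω' h h'
    by_contra hne
    have horth := hη.orthonormal ω ω'
    rw [if_neg hne] at horth
    have key : ∀ ω'', classInner γ (η ω'') ≠ 0 →
        ∃ s : ℂ, s ≠ 0 ∧ η ω'' = s • γ := by
      intro ω'' h''
      rcases hγ.inner_cases (hS ω'') with h0 | ⟨e, -⟩ | ⟨e, -⟩
      · exact absurd h0 h''
      · exact ⟨1, one_ne_zero, by rw [one_smul, e]⟩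
      · exact ⟨-1, by norm_num, by rw [e]; simp⟩
    obtain ⟨s, hs, e⟩ := key ω h
    obtain ⟨t, ht, e'⟩ := key ω' h'
    rw [e, e', classInner_smul_left, classInner_smul_right, hγ.inner_self, mul_one] at horth
    rcases mul_eq_zero.1 horth with h0 | h0
    · exact hs h0
    · exact ht ((map_eq_zero _).1 h0)
  have hzero : ∀ ω, classInner (α + β) (η ω) = 0 := by
    haveI := CyclicTI.finite_hom (W₁ ⊔ W₂)
    letI := Fintype.ofFinite ↥(W₁ ⊔ W₂)
    have three : ∀ H : Subgroup G, H ≠ ⊥ → H ≤ W₁ ⊔ W₂ → 3 ≤ Nat.card H := by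
      intro H hH hle
      have h1 := (Subgroup.one_lt_card_iff_ne_bot H).2 hH
      obtain ⟨k, hk⟩ := hodd.of_dvd_nat (Subgroup.card_dvd_of_le hle)
      omega
    have hq := three W₁ hW.1 le_sup_left
    have hp := three W₂ hW.2.1 le_sup_right
    have hcol : ∀ (φ : Left W₁ W₂) (ψ : Right W₁ W₂), classInner (α + β) (η (φ.1 * ψ.1)) =
        classInner (α + β) (η φ.1) + classInner (α + β) (η ψ.1) := by
      intro φ ψ
      rw [eta_coeff hη hcl hV φ ψ, h1, sub_zero]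
    set c := fun ω => classInner (α + β) (η ω) with hc
    have h2 : Nat.card {ω : ↥(W₁ ⊔ W₂) →* ℂˣ // c ω ≠ 0} ≤ 2 := by
      refine (Nat.card_le_card_of_injective
        (fun x => decide (classInner α (η x.1) ≠ 0)) fun x y he => ?_).trans (by simp)
      simp only [decide_eq_decide] at he
      apply Subtype.ext
      by_cases hx : classInner α (η x.1) ≠ 0
      · exact huniq hα hx (he.1 hx)
      · refine huniq hβ ?_ ?_
        · intro h0
          exact x.2 (by simp only [hc]; rw [classInner_add_left, h0, not_not.1 hx, add_zero])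
        · intro h0
          exact y.2 (by
            simp only [hc]
            rw [classInner_add_left, h0, not_not.1 fun h => hx (he.2 h), add_zero])
    have hsub : ∀ s : Finset (↥(W₁ ⊔ W₂) →* ℂˣ), (∀ x ∈ s, c x ≠ 0) → s.card ≤ 2 := by
      intro s hs
      refine le_trans ?_ h2
      rw [← Nat.card_eq_finsetCard]
      exact Nat.card_le_card_of_injective (fun x => ⟨x.1, hs x.1 x.2⟩) fun x y h =>
        Subtype.ext (congrArg Subtype.val h :)
    -- a nonzero value on one side gives three nonzero entries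
    have hl : ∀ φ : Left W₁ W₂, c φ.1 = 0 := by
      intro φ
      by_contra hne
      have hφ1 : φ.1 ≠ 1 := fun e => hne (by simp only [hc, e, hη.map_one, h1])
      let g : Right W₁ W₂ → ↥(W₁ ⊔ W₂) →* ℂˣ := fun ψ =>
        if c (φ.1 * ψ.1) ≠ 0 then φ.1 * ψ.1 else ψ.1
      have hg : ∀ ψ, c (g ψ) ≠ 0 := by
        intro ψ
        simp only [g]
        split_ifs with h'
        · exact h'
        · intro h0
          simp only [hc] at h' h0
          rw [hcol φ ψ, h0, add_zero] at h'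
          exact h' hne
      have hinj : Function.Injective g := by
        intro a b e
        simp only [g] at e
        have hone : ∀ ψ : Right W₁ W₂, ψ.1 = (1 : ↥(W₁ ⊔ W₂) →* ℂˣ) * ψ.1 :=
          fun ψ => MonoidHom.ext fun w => (one_mul _).symm
        split_ifs at e
        · exact Subtype.ext ((CyclicTI.mul_eq_mul_iff hW.2.2.2.1 φ.2 a.2 φ.2 b.2).1 e).2
        · exact absurd ((CyclicTI.mul_eq_mul_iff hW.2.2.2.1 φ.2 a.2 (fun _ _ => rfl) b.2).1
            (e.trans (hone b))).1 hφ1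
        · exact absurd ((CyclicTI.mul_eq_mul_iff hW.2.2.2.1 φ.2 b.2 (fun _ _ => rfl) a.2).1
            (e.symm.trans (hone a))).1 hφ1
        · exact Subtype.ext e
      have hB := hsub (Finset.univ.image g) (by
        simp only [Finset.mem_image, Finset.mem_univ, true_and]
        rintro x ⟨ψ, rfl⟩; exact hg ψ)
      rw [Finset.card_image_of_injective _ hinj, Finset.card_univ, card_right hW] at hB
      omega
    intro ω
    obtain ⟨φ, ψ, hφ, hψ, rfl⟩ := CyclicTI.exists_mul_eq hW ω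
    have h3 := hcol ⟨φ, hφ⟩ ⟨ψ, hψ⟩
    simp only at h3
    rw [h3]
    have hl' := hl ⟨φ, hφ⟩
    simp only [hc] at hl'
    rw [hl', zero_add]
    -- the same on the other side
    by_contra hne
    have hall := hsub ((Finset.univ : Finset (Left W₁ W₂)).image fun φ' => φ'.1 * ψ) (by
      simp only [Finset.mem_image, Finset.mem_univ, true_and]
      rintro x ⟨φ', rfl⟩
      have h4 := hcol φ' ⟨ψ, hψ⟩
      have h5 := hl φ'
      simp only [hc] at h4 h5 ⊢
      rw [h4, h5, zero_add]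
      exact hne)
    rw [Finset.card_image_of_injective, Finset.card_univ, card_left hW] at hall
    · omega
    · exact fun a b h => Subtype.ext ((CyclicTI.mul_eq_mul_iff hW.2.2.2.1 a.2 hψ b.2 hψ).1 h).1
  have hsum := hzero ω
  rw [classInner_add_left] at hsum
  rcases hα.inner_cases (hS ω) with h0 | ⟨e, hv⟩ | ⟨e, hv⟩
  · exact ⟨h0, by rwa [h0, zero_add] at hsum⟩
  · exfalso
    have : classInner β (η ω) = 0 := by rw [← e]; exact Coherence.inner_eq_zero_comm hαβ
    rw [hv, this, add_zero] at hsum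
    exact one_ne_zero hsum
  · exfalso
    have : classInner β (η ω) = 0 := by
      have e' : η ω = -α := by rw [e, neg_neg]
      rw [e', Char.classInner_neg_right, Coherence.inner_eq_zero_comm hαβ, neg_zero]
    rw [hv, this, add_zero] at hsum
    norm_num at hsum

namespace DegSys

variable (h : DegSys M W₁ W₂ K μ η)

include h

theorem oddM : Odd (Nat.card M) := h.odd.of_dvd_nat (Subgroup.card_subgroup_dvd_card M)

theorem oddW : Odd (Nat.card ↥(W₁ ⊔ W₂)) :=
  h.odd.of_dvd_nat (Subgroup.card_subgroup_dvd_card _)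

theorem supp {α : ↥M → ℂ} (hα : α ∈ zspan (inducedIrrAbove (K.subgroupOf M) ⊥)) {x : M}
    (hx : (x : G) ∉ K) : α x = 0 := by
  have := h.K_normal
  refine Coherence.zspan_induction (P := fun α : ↥M → ℂ => α x = 0) hα ?_ rfl
    (fun β γ _ _ hb hc => by simp [hb, hc]) (fun n β _ hb => by simp [hb])
  intro χ hχ
  obtain ⟨θ, -, rfl⟩ := OddChars.mem_inducedIrrAbove.1 hχ
  exact indFun_apply_of_normal _ θ fun hm => hx hm

theorem suppOn {α : ↥M → ℂ} (hα : α ∈ zspanOn (inducedIrrAbove (K.subgroupOf M) ⊥) {1}ᶜ)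
    {x : M} (hx : (x : G) ∉ sharp K ∪ conjIn M (vSet W₁ W₂)) : α x = 0 := by
  by_cases hxK : (x : G) ∈ K
  · have : x = 1 := by
      by_contra hne
      exact hx (Or.inl ⟨hxK, fun e => hne (Subtype.ext e)⟩)
    rw [this]
    exact (Coherence.mem_zspanOn_compl_one.1 hα).2
  · exact h.supp hα.1 hxK

theorem isGen {α : ↥M → ℂ} (hα : α ∈ zspan (inducedIrrAbove (K.subgroupOf M) ⊥)) :
    IsGeneralizedCharacter ↥M α :=
  Coherence.isGeneralized_zspan (fun _ hχ => by
    obtain ⟨θ, hθ, rfl⟩ := OddChars.mem_inducedIrrAbove.1 hχ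
    exact isGeneralized_of_isCharacter (isCharacter_indFun _ (IsIrr.isCharacter hθ.1))) hα

theorem iso : IsLinearIsometryOn (zspanOn (inducedIrrAbove (K.subgroupOf M) ⊥) {1}ᶜ)
    (fun α : ↥M → ℂ => indFun M α) := by
  refine ⟨fun α _ β _ => indFun_add M α β, fun α _ n => ?_, fun α hα β hβ => ?_,
    fun α hα => isGeneralized_indFun M (h.isGen hα.1)⟩
  · show indFun M (n • α) = n • indFun M α
    rw [← Int.cast_smul_eq_zsmul ℂ, indFun_smul, Int.cast_smul_eq_zsmul]
  · exact inner_ind h.dade (IsGen.isClassFunction (h.isGen hβ.1)) (fun x hx => h.suppOn hβ hx)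
      fun x hx => h.suppOn hα hx

theorem member_orth {χ φ : ↥M → ℂ} (hχ : χ ∈ inducedIrrAbove (K.subgroupOf M) ⊥)
    (hφ : φ ∈ inducedIrrAbove (K.subgroupOf M) ⊥) (hne : χ ≠ φ) : classInner χ φ = 0 := by
  have := h.K_normal
  obtain ⟨θ, hθ, rfl⟩ := OddChars.mem_inducedIrrAbove.1 hχ
  obtain ⟨θ', hθ', rfl⟩ := OddChars.mem_inducedIrrAbove.1 hφ
  rw [classInner_indFun_indFun hθ.1 hθ'.1]
  have : IsEmpty {g : M // Char.conjFun g θ = θ'} := ⟨fun g =>
    hne ((OddChars.indFun_eq_iff hθ.1 hθ'.1).2 (mem_orbit.2 ⟨g, g.2⟩))⟩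
  simp

theorem member_inner_one {χ : ↥M → ℂ} (hχ : χ ∈ inducedIrrAbove (K.subgroupOf M) ⊥) :
    classInner χ (fun _ => 1) = 0 := by
  obtain ⟨θ, hθ, rfl⟩ := OddChars.mem_inducedIrrAbove.1 hχ
  letI := Fintype.ofFinite ↥(K.subgroupOf M)
  rw [classInner_indFun_left _ θ (fun _ _ => rfl)]
  exact classInner_irr_ne hθ.1 isIrrCharacter_one hθ.2.1

theorem col_inner (ψ ψ' : Right W₁ W₂) :
    classInner (colSum μ ψ) (colSum μ ψ') =
      if ψ = ψ' then (Nat.card W₁ : ℂ) else 0 := by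
  simp only [colSum, classInner_sum_left, classInner_sum_right,
    classInner_irr (h.irr_mu _) (h.irr_mu _)]
  have key : ∀ φ φ' : Left W₁ W₂, (μ (φ.1 * ψ.1) = μ (φ'.1 * ψ'.1)) ↔ φ = φ' ∧ ψ = ψ' :=
    fun φ φ' => ⟨fun e => by
      obtain ⟨e1, e2⟩ := (CyclicTI.mul_eq_mul_iff h.selfN.2.2.2.1 φ.2 ψ.2 φ'.2 ψ'.2).1 (h.mu_inj e)
      exact ⟨Subtype.ext e1, Subtype.ext e2⟩, fun e => by rw [e.1, e.2]⟩
  simp only [key]
  by_cases e : ψ = ψ'
  · subst e
    simp [Finset.sum_ite_eq, Finset.card_univ, card_left h.selfN]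
  · simp [e]

theorem col_not_irr (ψ : Right W₁ W₂) : ¬ IsIrrCharacter ↥M (colSum μ ψ) := fun hi => by
  have h1 := classInner_irr_self hi
  rw [h.col_inner, if_pos rfl, Nat.cast_eq_one] at h1
  exact h.selfN.1 (Subgroup.card_eq_one.1 h1)

/-- **The coherence system.** Pairs of irreducible members are orthogonal to the family. -/
theorem exists_system : ∃ R, IsCoherenceSystem (inducedIrrAbove (K.subgroupOf M) ⊥)
    (fun α : ↥M → ℂ => indFun M α) R ∧
    ∀ χ ∈ inducedIrrAbove (K.subgroupOf M) ⊥, IsIrrCharacter ↥M χ →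
      ∀ α ∈ R χ, Coherence.SIrr G α ∧ ∀ ω, classInner α (η ω) = 0 := by
  have := h.K_normal
  set S := inducedIrrAbove (K.subgroupOf M) (⊥ : Subgroup ↥M) with hS
  set τ := fun α : ↥M → ℂ => indFun M α with hτ
  let Si : Set (↥M → ℂ) := {χ | χ ∈ S ∧ IsIrrCharacter ↥M χ}
  have hSiS : Si ⊆ S := fun χ hχ => hχ.1
  have hchar : ∀ χ ∈ S, IsCharacter ↥M χ := by
    intro χ hχ
    obtain ⟨θ, hθ, rfl⟩ := OddChars.mem_inducedIrrAbove.1 hχ
    exact isCharacter_indFun _ (IsIrr.isCharacter hθ.1)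
  have hconjne : ∀ χ ∈ S, conjFun χ ≠ χ := by
    intro χ hχ e
    rcases h.members χ hχ with hi | ⟨ψ, hψ, rfl⟩
    · have h1 := h.member_inner_one hχ
      rw [eq_one_of_conjFun_eq h.oddM hi e, classInner_irr_self isIrrCharacter_one] at h1
      exact one_ne_zero h1
    · have h1 := h.col_inner ψ (rightInv ψ)
      rw [if_neg (rightInv_ne h.oddW hψ).symm, ← h.conj_col ψ hψ, e, h.col_inner, if_pos rfl,
        Nat.cast_eq_zero] at h1
      exact Nat.card_pos.ne' h1
  have hmem : ∀ χ ∈ S, χ - conjFun χ ∈ zspanOn S {1}ᶜ := fun χ hχ =>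
    Coherence.sub_conjFun_mem (hchar χ hχ) hχ (OddChars.inducedIrrAbove_conj_mem hχ)
  have hone : ∀ α ∈ zspanOn S {1}ᶜ, τ α 1 = 0 := fun α hα => by
    simp only [hτ, indFun_apply_one, (Coherence.mem_zspanOn_compl_one.1 hα).2, mul_zero]
  -- the pairs of the irreducible members
  obtain ⟨Ri, hRi⟩ : ∃ Ri : (↥M → ℂ) → Finset (G → ℂ), Si.Nonempty →
      IsCoherenceSystem Si τ Ri := by
    by_cases hne : Si.Nonempty
    · obtain ⟨Ri, hRi⟩ := S1514.result Si hne (fun χ hχ => hχ.2)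
        (fun χ hχ => ⟨⟨OddChars.inducedIrrAbove_conj_mem hχ.1, Coherence.isIrr_conjFun hχ.2⟩,
          hconjne χ hχ.1⟩) τ
        (Coherence.IsLinearIsometryOn.mono h.iso (Coherence.zspanOn_mono hSiS))
        fun α hα => hone α (Coherence.zspanOn_mono hSiS hα)
      exact ⟨Ri, fun _ => hRi⟩
    · exact ⟨fun _ => ∅, fun hh => absurd hh hne⟩
  have hirr : ∀ χ ∈ S, IsIrrCharacter ↥M χ →
      ∀ α ∈ Ri χ, Coherence.SIrr G α ∧ ∀ ω, classInner α (η ω) = 0 := by
    intro χ hχ hi α hα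
    have hsys := hRi ⟨χ, hχ, hi⟩
    have hm : χ ∈ Si := ⟨hχ, hi⟩
    have hs : ∀ β ∈ Ri χ, Coherence.SIrr G β := fun β hβ => by
      obtain ⟨ψ, e⟩ := Char.IsGen.eq_pm_irr (hsys.virtual χ hm β hβ)
        (by rw [hsys.orthonormal χ hm β hβ β hβ, if_pos rfl])
      rcases e with rfl | rfl
      · exact Or.inl ψ.2
      · exact Or.inr (by rw [neg_neg]; exact ψ.2)
    refine ⟨hs α hα, fun ω => ?_⟩
    have hcard : (Ri χ).card = 2 := by
      have e := h.iso.2.2.1 _ (hmem χ hχ) _ (hmem χ hχ)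
      simp only [← hτ] at e
      rw [hsys.sum_eq χ hm] at e
      have e2 : classInner (∑ a ∈ Ri χ, a) (∑ b ∈ Ri χ, b) = ((Ri χ).card : ℂ) := by
        rw [classInner_sum_left, Finset.cast_card]
        refine Finset.sum_congr rfl fun a ha => ?_
        rw [classInner_sum_right, Finset.sum_eq_single a]
        · rw [hsys.orthonormal χ hm a ha a ha, if_pos rfl]
        · intro b hb hne
          rw [hsys.orthonormal χ hm a ha b hb, if_neg (Ne.symm hne)]
        · exact fun hna => absurd ha hna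
      rw [e2] at e
      have hc0 : classInner χ (conjFun χ) = 0 :=
        classInner_irr_ne hi (Coherence.isIrr_conjFun hi) (hconjne χ hχ).symm
      rw [classInner_sub_sub, hc0, Coherence.inner_eq_zero_comm hc0, classInner_irr_self hi,
        classInner_irr_self (Coherence.isIrr_conjFun hi)] at e
      have e' : ((Ri χ).card : ℂ) = 2 := by linear_combination e
      exact_mod_cast e'
    obtain ⟨β, γ, hβγ, hR⟩ := Finset.card_eq_two.1 hcard
    have hβ : β ∈ Ri χ := by rw [hR]; simp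
    have hγ : γ ∈ Ri χ := by rw [hR]; simp
    have hsum : β + γ = τ (χ - conjFun χ) := by
      rw [hsys.sum_eq χ hm, hR, Finset.sum_pair hβγ]
    have key := pair_orth_eta h.selfN h.oddW h.fam (hs β hβ) (hs γ hγ)
      (by rw [hsys.orthonormal χ hm β hβ γ hγ, if_neg hβγ]) (fun w hw => ?_) ?_ ω
    · rw [hR, Finset.mem_insert, Finset.mem_singleton] at hα
      rcases hα with rfl | rfl
      · exact key.1
      · exact key.2
    · rw [hsum]
      rw [hτ]
      show indFun M (χ - conjFun χ) w = 0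
      rw [indFun_apply, Finset.sum_eq_zero, mul_zero]
      intro x _
      by_cases hxM : x⁻¹ * w * x ∈ M
      swap
      · exact extendByZero_of_not_mem M _ hxM
      rw [extendByZero_of_mem M _ hxM]
      by_cases hxK : x⁻¹ * w * x ∈ K
      swap
      · exact h.supp (hmem χ hχ).1 hxK
      by_cases hx1 : x⁻¹ * w * x = 1
      · rw [show (⟨x⁻¹ * w * x, hxM⟩ : ↥M) = 1 from Subtype.ext hx1]
        exact (Coherence.mem_zspanOn_compl_one.1 (hmem χ hχ)).2
      exfalso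
      have ha : x⁻¹ * w * x ∈ sharp K := ⟨hxK, hx1⟩
      have hwA : w ∈ sharp K ∪ conjIn M (vSet W₁ W₂) :=
        Or.inr ⟨1, M.one_mem, w, hw, by group⟩
      have hxm : x ∈ M := mem_of_conj h.dade (Or.inl ha)
        (show x * (x⁻¹ * w * x) * x⁻¹ ∈ _ by
          rw [show x * (x⁻¹ * w * x) * x⁻¹ = w by group]; exact hwA)
      exact Set.disjoint_left.1 h.disjoint ha ⟨x⁻¹, M.inv_mem hxm, w, hw, by group⟩
    · rw [hsum, hτ, classInner_indFun_left M _ (fun _ _ => rfl), classInner_sub_left,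
        h.member_inner_one hχ, h.member_inner_one (OddChars.inducedIrrAbove_conj_mem hχ),
        sub_zero]
  -- the sets attached to the columns
  choose! δ hδ htau using h.tau_col
  let Rc : Right W₁ W₂ → Finset (G → ℂ) := fun ψ =>
    (Finset.univ : Finset (Left W₁ W₂)).image (fun φ => (δ ψ : ℂ) • η (φ.1 * ψ.1)) ∪
      (Finset.univ : Finset (Left W₁ W₂)).image
        (fun φ => (-δ ψ : ℂ) • η (φ.1 * (rightInv ψ).1))
  have hd : ∀ ψ : Right W₁ W₂, ψ.1 ≠ 1 →
      (δ ψ : ℂ) * (starRingEnd ℂ) (δ ψ : ℂ) = 1 ∧ (δ ψ : ℂ) ≠ 0 := by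
    intro ψ hψ
    rcases hδ ψ hψ with e | e <;> simp [e]
  have hmulinj : ∀ {φ φ' : Left W₁ W₂} {ψ ψ' : Right W₁ W₂},
      φ.1 * ψ.1 = φ'.1 * ψ'.1 → φ = φ' ∧ ψ = ψ' := fun {φ φ' ψ ψ'} e => by
    obtain ⟨e1, e2⟩ :=
      (CyclicTI.mul_eq_mul_iff h.selfN.2.2.2.1 φ.2 ψ.2 φ'.2 ψ'.2).1 e
    exact ⟨Subtype.ext e1, Subtype.ext e2⟩
  have hsm : ∀ {s t : ℂ} {ω ω' : ↥(W₁ ⊔ W₂) →* ℂˣ}, s ≠ 0 → ω ≠ ω' →
      s • η ω ≠ t • η ω' := fun {s t ω ω'} hs hne e => by
    have := congrArg (fun f => classInner f (η ω)) e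
    simp only [classInner_smul_left, h.fam.orthonormal, if_neg (Ne.symm hne), if_true, mul_one,
      mul_zero] at this
    exact hs this
  have hRc : ∀ ψ, ∀ α ∈ Rc ψ, ∃ (φ : Left W₁ W₂),
      α = (δ ψ : ℂ) • η (φ.1 * ψ.1) ∨ α = (-δ ψ : ℂ) • η (φ.1 * (rightInv ψ).1) := by
    intro ψ α hα
    rcases Finset.mem_union.1 hα with hα | hα <;> obtain ⟨φ, -, rfl⟩ := Finset.mem_image.1 hα
    · exact ⟨φ, Or.inl rfl⟩
    · exact ⟨φ, Or.inr rfl⟩
  let idx : (↥M → ℂ) → Right W₁ W₂ := fun χ =>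
    if hx : ∃ ψ : Right W₁ W₂, ψ.1 ≠ 1 ∧ χ = colSum μ ψ then hx.choose else rightOne
  have hidx : ∀ χ ∈ S, ¬ IsIrrCharacter ↥M χ → (idx χ).1 ≠ 1 ∧ χ = colSum μ (idx χ) := by
    intro χ hχ hi
    have hx := (h.members χ hχ).resolve_left hi
    simp only [idx, dif_pos hx]
    exact hx.choose_spec
  let R : (↥M → ℂ) → Finset (G → ℂ) := fun χ =>
    if IsIrrCharacter ↥M χ then Ri χ else Rc (idx χ)
  have hRi' : ∀ χ, IsIrrCharacter ↥M χ → R χ = Ri χ := fun χ hi => if_pos hi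
  have hRc' : ∀ χ, ¬ IsIrrCharacter ↥M χ → R χ = Rc (idx χ) := fun χ hi => if_neg hi
  have horthc : ∀ {α : G → ℂ}, (∀ ω, classInner α (η ω) = 0) → ∀ ψ, ∀ β ∈ Rc ψ,
      classInner α β = 0 ∧ classInner β α = 0 := by
    intro α hα ψ β hβ
    obtain ⟨φ, e | e⟩ := hRc ψ β hβ <;> subst e <;>
      exact ⟨by rw [classInner_smul_right, hα, mul_zero],
        by rw [classInner_smul_left, Coherence.inner_eq_zero_comm (hα _), mul_zero]⟩
  obtain ⟨θ, hθ, -⟩ := OddChars.exists_linear_above (L := ↥M) (A := ⊥) (K := K.subgroupOf M)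
    (by
      have := h.K_solv
      exact Group.isSolvable_of_surjective (f := (Subgroup.subgroupOfEquivOfLe h.K_le).symm.toMonoidHom)
        (Subgroup.subgroupOfEquivOfLe h.K_le).symm.surjective)
    (bot_lt_iff_ne_bot.2 fun e => h.K_ne (by
      rw [Subgroup.subgroupOf_eq_bot, disjoint_iff, inf_eq_left.2 h.K_le] at e
      exact e))
  refine ⟨R, ⟨⟨_, OddChars.mem_inducedIrrAbove.2 ⟨θ, hθ, rfl⟩⟩, hchar,
    fun χ hχ => OddChars.inducedIrrAbove_conj_mem hχ, hconjne, h.iso, hone,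
    fun χ hχ φ hφ hne => h.member_orth hχ hφ hne, ?_, ?_, ?_, ?_⟩,
    fun χ hχ hi α hα => hirr χ hχ hi α (hRi' χ hi ▸ hα)⟩
  · intro χ hχ α hα β hβ
    by_cases hi : IsIrrCharacter ↥M χ
    · rw [hRi' χ hi] at hα hβ
      exact (hRi ⟨χ, hχ, hi⟩).orthonormal χ ⟨hχ, hi⟩ α hα β hβ
    · rw [hRc' χ hi] at hα hβ
      obtain ⟨hψ, -⟩ := hidx χ hχ hi
      obtain ⟨hd1, hd0⟩ := hd _ hψ
      have hne := rightInv_ne h.oddW hψ
      obtain ⟨φ, rfl | rfl⟩ := hRc _ α hα <;> obtain ⟨φ', rfl | rfl⟩ := hRc _ β hβ <;>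
        simp only [classInner_smul_left, classInner_smul_right, h.fam.orthonormal]
      · by_cases e : φ.1 * (idx χ).1 = φ'.1 * (idx χ).1
        · rw [if_pos e, (hmulinj e).1, if_pos rfl, mul_one]
          first | exact hd1 | exact (mul_comm _ _).trans hd1
        · rw [if_neg e, mul_zero, mul_zero, if_neg (hsm hd0 e)]
      · rw [if_neg fun e => hne (hmulinj e).2.symm, mul_zero, mul_zero,
          if_neg (hsm hd0 fun e => hne (hmulinj e).2.symm)]
      · rw [if_neg fun e => hne (hmulinj e).2, mul_zero, mul_zero,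
          if_neg (hsm (neg_ne_zero.2 hd0) fun e => hne (hmulinj e).2)]
      · by_cases e : φ.1 * (rightInv (idx χ)).1 = φ'.1 * (rightInv (idx χ)).1
        · rw [if_pos e, (hmulinj e).1, if_pos rfl, mul_one, map_neg, neg_mul_neg]
          first | exact hd1 | exact (mul_comm _ _).trans hd1
        · rw [if_neg e, mul_zero, mul_zero, if_neg (hsm (neg_ne_zero.2 hd0) e)]
  · intro χ hχ α hα
    by_cases hi : IsIrrCharacter ↥M χ
    · exact (hRi ⟨χ, hχ, hi⟩).virtual χ ⟨hχ, hi⟩ α (hRi' χ hi ▸ hα)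
    · obtain ⟨φ, rfl | rfl⟩ := hRc _ α (hRc' χ hi ▸ hα)
      · exact isGeneralized_intCast_smul _ (eta_isGeneralized h.fam _)
      · rw [← Int.cast_neg]
        exact isGeneralized_intCast_smul _ (eta_isGeneralized h.fam _)
  · intro χ hχ
    by_cases hi : IsIrrCharacter ↥M χ
    · rw [hRi' χ hi]
      exact (hRi ⟨χ, hχ, hi⟩).sum_eq χ ⟨hχ, hi⟩
    · obtain ⟨hψ, he⟩ := hidx χ hχ hi
      obtain ⟨-, hd0⟩ := hd _ hψ
      rw [hRc' χ hi]
      conv_lhs => rw [he, h.conj_col _ hψ]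
      simp only [hτ, htau _ hψ, Rc]
      have inj : ∀ (s : ℂ) (ψ : Right W₁ W₂), s ≠ 0 →
          Function.Injective fun φ : Left W₁ W₂ => s • η (φ.1 * ψ.1) := fun s ψ hs a b e => by
        by_contra hab
        exact hsm hs (fun e' => hab (hmulinj e').1) e
      rw [Finset.sum_union, Finset.sum_image ((inj _ _ hd0).injOn),
        Finset.sum_image ((inj _ _ (neg_ne_zero.2 hd0)).injOn)]
      · rw [smul_sub]
        simp only [colSum, Finset.smul_sum, neg_smul, Finset.sum_neg_distrib, sub_eq_add_neg]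
      · rw [Finset.disjoint_left]
        intro a ha ha'
        obtain ⟨φ, -, rfl⟩ := Finset.mem_image.1 ha
        obtain ⟨φ', -, e⟩ := Finset.mem_image.1 ha'
        exact hsm hd0 (fun e' => (rightInv_ne h.oddW hψ) (hmulinj e').2.symm) e.symm
  · intro χ hχ φ hφ h1 h2 α hα β hβ
    by_cases hiφ : IsIrrCharacter ↥M φ <;> by_cases hiχ : IsIrrCharacter ↥M χ
    · rw [hRi' φ hiφ] at hα; rw [hRi' χ hiχ] at hβ
      exact (hRi ⟨χ, hχ, hiχ⟩).disjoint χ ⟨hχ, hiχ⟩ φ ⟨hφ, hiφ⟩ h1 h2 α hα β hβ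
    · rw [hRi' φ hiφ] at hα; rw [hRc' χ hiχ] at hβ
      exact (horthc (hirr φ hφ hiφ α hα).2 _ β hβ).1
    · rw [hRc' φ hiφ] at hα; rw [hRi' χ hiχ] at hβ
      exact (horthc (hirr χ hχ hiχ β hβ).2 _ α hα).2
    · rw [hRc' φ hiφ] at hα; rw [hRc' χ hiχ] at hβ
      obtain ⟨hψ, he⟩ := hidx φ hφ hiφ
      obtain ⟨hψ', he'⟩ := hidx χ hχ hiχ
      have z1 : idx φ ≠ idx χ := fun e => by
        rw [he, he', e, h.col_inner, if_pos rfl, Nat.cast_eq_zero] at h1
        exact Nat.card_pos.ne' h1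
      have z2 : idx φ ≠ rightInv (idx χ) := fun e => by
        rw [he, he', h.conj_col _ hψ', e, h.col_inner, if_pos rfl, Nat.cast_eq_zero] at h2
        exact Nat.card_pos.ne' h2
      have z3 : rightInv (idx φ) ≠ idx χ := fun e => z2 (by
        rw [← e]
        exact Subtype.ext (MonoidHom.ext fun w => (inv_inv _).symm))
      have z4 : rightInv (idx φ) ≠ rightInv (idx χ) := fun e => z1 (Subtype.ext
        (MonoidHom.ext fun w => inv_injective (DFunLike.congr_fun (congrArg Subtype.val e) w)))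
      obtain ⟨φ₁, rfl | rfl⟩ := hRc _ α hα <;> obtain ⟨φ₂, rfl | rfl⟩ := hRc _ β hβ <;>
        simp only [classInner_smul_left, classInner_smul_right, h.fam.orthonormal]
      · rw [if_neg fun e => z1 (hmulinj e).2, mul_zero, mul_zero]
      · rw [if_neg fun e => z2 (hmulinj e).2, mul_zero, mul_zero]
      · rw [if_neg fun e => z3 (hmulinj e).2, mul_zero, mul_zero]
      · rw [if_neg fun e => z4 (hmulinj e).2, mul_zero, mul_zero]

end DegSys

end Cfsg.Agent.OddFinal
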