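import Cfsg.Agent.OddFinal.DegenerateAdapt
import Cfsg.Agent.OddFinal.DegenerateCoeff
import Cfsg.Agent.OddFinal.DegenerateGroup
import Cfsg.Agent.CharArith.Central

/-!
# The fixed characters of a degenerate member and their images (section E2 of the endgame)

The restrictions of the `μ (φψ)` to `K` are the fixed irreducible characters, the column sums are
their induced characters, and `τ (μ (φψ) - μ (φψ')) = δ (η (φψ) - η (φψ'))` for columns of equal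
sign and degree.
-/

set_option autoImplicit false
set_option linter.unusedSectionVars false

namespace Cfsg.Agent.OddFinal

open Cfsg Char CyclicTI
open scoped ComplexConjugate
open scoped _root_.Classical

universe u

variable {G : Type u} [Group G] {M W₁ W₂ : Subgroup G}

/-- The restriction of a column to `K = M'`. -/
abbrev resK (μ : (↥(W₁ ⊔ W₂) →* ℂˣ) → ↥M → ℂ) (ψ : Right W₁ W₂) : kin M → ℂ :=
  fun k => μ ψ.1 k

theorem leftOne_mul (ψ : Right W₁ W₂) : (leftOne : Left W₁ W₂).1 * ψ.1 = ψ.1 :=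
  MonoidHom.ext fun _ => one_mul _

theorem mul_rightOne (φ : Left W₁ W₂) : φ.1 * (rightOne : Right W₁ W₂).1 = φ.1 :=
  MonoidHom.ext fun _ => mul_one _

theorem rightInv_rightInv (ψ : Right W₁ W₂) : rightInv (rightInv ψ) = ψ :=
  Subtype.ext (MonoidHom.ext fun _ => inv_inv _)

theorem rightInv_ne_one {ψ : Right W₁ W₂} (hψ : ψ.1 ≠ 1) : (rightInv ψ).1 ≠ 1 := fun e =>
  hψ (MonoidHom.ext fun w => inv_eq_one.1 (DFunLike.congr_fun e w))

theorem leftInv_leftInv (φ : Left W₁ W₂) : leftInv (leftInv φ) = φ :=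
  Subtype.ext (MonoidHom.ext fun _ => inv_inv _)

/-- The test function of the column `ψ` at `φ`. -/
noncomputable def alpha (μ : (↥(W₁ ⊔ W₂) →* ℂˣ) → ↥M → ℂ) (δ : Right W₁ W₂ → ℤ) (ζ : ↥M → ℂ)
    (n : ℤ) (φ : Left W₁ W₂) (ψ : Right W₁ W₂) : ↥M → ℂ :=
  μ (φ.1 * ψ.1) - (δ ψ : ℂ) • μ φ.1 - (n : ℂ) • ζ

namespace Degen

variable [Fintype G] [Fintype ↥M] (h : Degen M W₁ W₂)
  {μ : (↥(W₁ ⊔ W₂) →* ℂˣ) → ↥M → ℂ} {η : (↥(W₁ ⊔ W₂) →* ℂˣ) → G → ℂ}
  {δ : Right W₁ W₂ → ℤ} {d : Right W₁ W₂ → ℕ}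
  (hμ : Chars (M := M) (W₁ := W₁) (W₂ := W₂) μ δ d)

include h hμ

theorem conj_sign (ψ : Right W₁ W₂) : (δ ψ : ℂ) * conj (δ ψ : ℂ) = 1 := by
  rcases hμ.sign ψ with e | e <;> rw [e] <;> simp

theorem normSq_off (φ : Left W₁ W₂) (ψ : Right W₁ W₂) {x : M} (hx : x ∉ kin M) :
    μ (φ.1 * ψ.1) x * conj (μ (φ.1 * ψ.1) x) = 1 := by
  obtain ⟨m, w, hw, hw2, rfl⟩ := h.exists_conj hx
  rw [isClassFunction_of_isIrr (hμ.irr _), hμ.val φ ψ w hw hw2, map_mul, mul_mul_mul_comm,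
    h.conj_sign hμ, one_mul, conj_hom, ← Units.val_mul, MonoidHom.inv_apply, mul_inv_cancel,
    Units.val_one]

theorem apply_off_ne (φ : Left W₁ W₂) (ψ : Right W₁ W₂) {x : M} (hx : x ∉ kin M) :
    μ (φ.1 * ψ.1) x ≠ 0 := fun e => by
  have := h.normSq_off hμ φ ψ hx
  rw [e, zero_mul] at this
  exact zero_ne_one this

theorem res_eq' (φ : Left W₁ W₂) (ψ : Right W₁ W₂) :
    (fun k : kin M => μ (φ.1 * ψ.1) k) = resK μ ψ :=
  funext fun k => hμ.res_eq φ ψ k k.2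

theorem res_inner (ψ : Right W₁ W₂) : classInner (resK μ ψ) (resK μ ψ) = 1 := by
  have h1 := classInner_irr_self (hμ.irr ψ.1)
  rw [classInner, inv_mul_eq_iff_eq_mul₀ card_ne_zero, mul_one,
    ← Finset.sum_filter_add_sum_filter_not Finset.univ (· ∈ kin M),
    Finset.sum_subtype (F := inferInstance) (Finset.univ.filter fun x : M => x ∈ kin M)
      (p := (· ∈ kin M)) (fun x => by simp) (fun x => μ ψ.1 x * conj (μ ψ.1 x)),
    Finset.sum_congr rfl (s₁ := Finset.univ.filter fun x : M => x ∉ kin M) (g := fun _ => (1 : ℂ))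
      (fun x hx => by
        have := h.normSq_off hμ leftOne ψ (Finset.mem_filter.1 hx).2
        rwa [leftOne_mul] at this),
    Finset.sum_const, nsmul_eq_mul, mul_one] at h1
  have h2 : (Nat.card M : ℂ) =
      (Nat.card (kin M) : ℂ) + ((Finset.univ.filter fun x : M => x ∉ kin M).card : ℂ) := by
    rw [← Nat.cast_add, Nat.card_eq_fintype_card (α := ↥(kin M)),
      Nat.card_eq_fintype_card, Fintype.card_subtype (fun x : M => x ∈ kin M),
      Finset.card_filter_add_card_filter_not, Finset.card_univ]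
  rw [classInner, inv_mul_eq_iff_eq_mul₀ card_ne_zero, mul_one]
  linear_combination h1 + h2

theorem res_irr (ψ : Right W₁ W₂) : IsIrrCharacter (kin M) (resK μ ψ) :=
  (isIrr_iff_norm_one (isCharacter_res (kin M) (IsIrr.isCharacter (hμ.irr ψ.1)))).2
    (h.res_inner hμ ψ)

theorem res_conj (ψ : Right W₁ W₂) (g : M) : Char.conjFun g (resK μ ψ) = resK μ ψ := by
  funext k
  rw [conjFun_apply]
  exact isClassFunction_of_isIrr (hμ.irr ψ.1) _ g

theorem res_invariant (ψ : Right W₁ W₂) :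
    PrimePair.Invariant (W₁.subgroupOf M) (resK μ ψ) := fun x _ => h.res_conj hμ ψ x

theorem col_inner (ψ ψ' : Right W₁ W₂) :
    classInner (colSum μ ψ) (colSum μ ψ') = if ψ = ψ' then (Nat.card W₁ : ℂ) else 0 := by
  simp only [colSum, classInner_sum_left, classInner_sum_right,
    classInner_irr (hμ.irr _) (hμ.irr _)]
  have key : ∀ φ φ' : Left W₁ W₂, (μ (φ.1 * ψ.1) = μ (φ'.1 * ψ'.1)) ↔ φ = φ' ∧ ψ = ψ' :=
    fun φ φ' => ⟨fun e => by
      obtain ⟨e1, e2⟩ :=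
        (CyclicTI.mul_eq_mul_iff h.selfNorm.2.2.2.1 φ.2 ψ.2 φ'.2 ψ'.2).1 (hμ.inj e)
      exact ⟨Subtype.ext e1, Subtype.ext e2⟩, fun e => by rw [e.1, e.2]⟩
  simp only [key]
  by_cases e : ψ = ψ'
  · subst e
    simp [Finset.sum_ite_eq, Finset.card_univ, card_left h.selfNorm]
  · simp [e]

/-- A column sum is induced from its restriction. -/
theorem col_eq (ψ : Right W₁ W₂) : indFun (kin M) (resK μ ψ) = colSum μ ψ := by
  set I := indFun (kin M) (resK μ ψ) with hI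
  have e1 : classInner I (colSum μ ψ) = (Nat.card W₁ : ℂ) := by
    simp only [colSum, classInner_sum_right]
    rw [Finset.sum_congr rfl fun φ _ => by
      rw [hI, classInner_indFun_left _ _ (isClassFunction_of_isIrr (hμ.irr _)), h.res_eq' hμ,
        h.res_inner hμ]]
    simp [card_left h.selfNorm]
  have e2 : classInner I I = (Nat.card W₁ : ℂ) := by
    have e := OddChars.classInner_indFun_self (L := ↥M) (h.res_irr hμ ψ)
    have horb : Char.orbit (G := ↥M) (resK μ ψ) = {resK μ ψ} := by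
      ext f
      rw [Finset.mem_singleton, mem_orbit]
      exact ⟨fun ⟨g, hg⟩ => hg ▸ h.res_conj hμ ψ g, fun e => ⟨1, by rw [e, h.res_conj hμ]⟩⟩
    rwa [horb, Finset.card_singleton, Nat.cast_one, mul_one, h.index_kin] at e
  rw [← sub_eq_zero, ← Char.classInner_self_eq_zero, classInner_sub_sub, e1, e2,
    h.col_inner hμ, if_pos rfl, show classInner (colSum μ ψ) I = (Nat.card W₁ : ℂ) by
      rw [← classInner_conj_symm, e1, map_natCast]]
  ring

theorem col_apply_one (ψ : Right W₁ W₂) : colSum μ ψ 1 = (Nat.card W₁ : ℂ) * d ψ := by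
  simp [colSum, hμ.deg, card_left h.selfNorm]

theorem res_inj {ψ ψ' : Right W₁ W₂} (e : resK μ ψ = resK μ ψ') : ψ = ψ' := by
  by_contra hne
  have h1 := h.col_inner hμ ψ ψ
  rw [if_pos rfl] at h1
  have h2 := h.col_inner hμ ψ ψ'
  rw [if_neg hne, ← h.col_eq hμ ψ', ← e, h.col_eq hμ, h1] at h2
  exact Nat.card_pos.ne' (Nat.cast_eq_zero.1 h2)

theorem res_one : resK μ (rightOne : Right W₁ W₂) = fun _ => 1 := funext fun k => by
  have := hμ.left_kin leftOne k k.2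
  exact this

theorem res_ne_one {ψ : Right W₁ W₂} (hψ : ψ.1 ≠ 1) : resK μ ψ ≠ fun _ => 1 := fun e =>
  hψ (congrArg Subtype.val (h.res_inj hμ (e.trans (h.res_one hμ).symm)))

/-- The fixed irreducible characters of `K` are the restrictions. -/
theorem eq_res_of_invariant {θ : kin M → ℂ} (hθ : IsIrrCharacter (kin M) θ)
    (hi : PrimePair.Invariant (W₁.subgroupOf M) θ) : ∃ ψ, θ = resK μ ψ := by
  let T := {χ : IrrCharacter (kin M) // PrimePair.Invariant (W₁.subgroupOf M) (χ : kin M → ℂ)}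
  let F : Right W₁ W₂ → T := fun ψ => ⟨⟨resK μ ψ, h.res_irr hμ ψ⟩, h.res_invariant hμ ψ⟩
  have hF : Function.Injective F := fun a b e =>
    h.res_inj hμ (congrArg (fun x : T => ((x.1 : IrrCharacter (kin M)) : kin M → ℂ)) e)
  have hb : Function.Bijective F := by
    rw [Nat.bijective_iff_injective_and_card]
    refine ⟨hF, ?_⟩
    rw [h.pair.card_invariant, Nat.card_eq_fintype_card, card_right h.selfNorm,
      Nat.card_congr (Subgroup.subgroupOfEquivOfLe h.W₂_le).toEquiv]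
  obtain ⟨ψ, hψ⟩ := hb.2 ⟨⟨θ, hθ⟩, hi⟩
  exact ⟨ψ, (congrArg (fun x : T => ((x.1 : IrrCharacter (kin M)) : kin M → ℂ)) hψ).symm⟩

/-- The characters induced from `K` are irreducible or column sums. -/
theorem ind_irr_or_col {θ : kin M → ℂ} (hθ : IsIrrCharacter (kin M) θ) :
    IsIrrCharacter ↥M (indFun (kin M) θ) ∨
      ∃ ψ : Right W₁ W₂, θ = resK μ ψ ∧ indFun (kin M) θ = colSum μ ψ := by
  by_cases hi : PrimePair.Invariant (W₁.subgroupOf M) θ
  · obtain ⟨ψ, rfl⟩ := h.eq_res_of_invariant hμ hθ hi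
    exact Or.inr ⟨ψ, rfl, h.col_eq hμ ψ⟩
  · exact Or.inl (h.pair.isIrr_indFun hθ hi)

theorem members : ∀ χ ∈ inducedIrrAbove (kin M) ⊥, IsIrrCharacter ↥M χ ∨
    ∃ ψ : Right W₁ W₂, ψ.1 ≠ 1 ∧ χ = colSum μ ψ := by
  intro χ hχ
  obtain ⟨θ, hθ, rfl⟩ := OddChars.mem_inducedIrrAbove.1 hχ
  refine (h.ind_irr_or_col hμ hθ.1).imp id ?_
  rintro ⟨ψ, rfl, e⟩
  exact ⟨ψ, fun e1 => hθ.2.1 (by
    rw [show ψ = rightOne from Subtype.ext e1]; exact h.res_one hμ), e⟩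

theorem conj_mu (φ : Left W₁ W₂) (ψ : Right W₁ W₂) :
    Cfsg.conjFun (μ (φ.1 * ψ.1)) = μ ((leftInv φ).1 * (rightInv ψ).1) ∧
      δ (rightInv ψ) = δ ψ := by
  have hirr := Coherence.isIrr_conjFun (hμ.irr (φ.1 * ψ.1))
  have hval : ∀ v : ↥(W₁ ⊔ W₂), (v : G) ∉ W₂ → Cfsg.conjFun (μ (φ.1 * ψ.1)) ⟨v, h.W_le v.2⟩ =
      (δ ψ : ℂ) * (((φ.1 * ψ.1)⁻¹ : ↥(W₁ ⊔ W₂) →* ℂˣ) v : ℂ) := by
    intro v hv
    show conj _ = _
    rw [hμ.val φ ψ _ v.2 hv, map_mul, map_intCast, conj_hom]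
  obtain ⟨ω, hω⟩ : ∃ ω, Cfsg.conjFun (μ (φ.1 * ψ.1)) = μ ω := by
    by_contra hne
    push Not at hne
    obtain ⟨a, ha, ha1⟩ := (Subgroup.bot_or_exists_ne_one W₁).resolve_left h.W₁_ne
    have ha2 : a ∉ W₂ := fun hm => ha1 (by
      have : a ∈ W₁ ⊓ W₂ := ⟨ha, hm⟩
      rwa [h.selfNorm.2.2.1, Subgroup.mem_bot] at this)
    have h0 := hμ.other _ hirr hne ⟨a, h.W₁_le ha⟩ (Subgroup.mem_sup_left ha) ha2
    rw [hval ⟨a, Subgroup.mem_sup_left ha⟩ ha2] at h0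
    rcases mul_eq_zero.1 h0 with e | e
    · rcases hμ.sign ψ with e' | e' <;> rw [e'] at e <;> simp at e
    · exact Units.ne_zero _ e
  obtain ⟨⟨φ', ψ'⟩, rfl⟩ := (coords h.selfNorm).surjective ω
  rw [coords_apply] at hω
  have hc : ∀ v : ↥(W₁ ⊔ W₂), (v : G) ∈ OddFinal.vSet W₁ W₂ →
      ((φ'.1 * ψ'.1 * (φ.1 * ψ.1)) v : ℂ) = (δ ψ : ℂ) * δ ψ' := by
    intro v hv
    have e := hval v hv.2.2
    rw [hω, hμ.val φ' ψ' ⟨v, h.W_le v.2⟩ v.2 hv.2.2, MonoidHom.inv_apply,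
      Units.val_inv_eq_inv_val, Subtype.coe_eta] at e
    have hne := Units.ne_zero ((φ.1 * ψ.1) v)
    have hsq : (δ ψ' : ℂ) * δ ψ' = 1 := by rcases hμ.sign ψ' with e' | e' <;> simp [e']
    rw [eq_mul_inv_iff_mul_eq₀ hne] at e
    rw [MonoidHom.mul_apply, Units.val_mul]
    linear_combination (δ ψ' : ℂ) * e -
      (((φ'.1 * ψ'.1) v : ℂ) * ((φ.1 * ψ.1) v : ℂ)) * hsq
  obtain ⟨h1, h2⟩ := hom_eq_one_of_const h.selfNorm h.oddW hc
  have h3 : φ'.1 * ψ'.1 = (leftInv φ).1 * (rightInv ψ).1 := by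
    refine MonoidHom.ext fun w => ?_
    exact (eq_inv_of_mul_eq_one_left (DFunLike.congr_fun h1 w)).trans (mul_inv _ _)
  obtain ⟨h4, h5⟩ := (CyclicTI.mul_eq_mul_iff h.selfNorm.2.2.2.1 φ'.2 ψ'.2 (leftInv φ).2
    (rightInv ψ).2).1 h3
  refine ⟨hω.trans (by rw [h3]), ?_⟩
  rw [← show ψ' = rightInv ψ from Subtype.ext h5]
  rcases hμ.sign ψ with e | e <;> rcases hμ.sign ψ' with e' | e' <;>
    rw [e, e'] at h2 ⊢ <;> norm_num at h2

theorem d_inv (ψ : Right W₁ W₂) : d (rightInv ψ) = d ψ := by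
  have e := congrFun (h.conj_mu hμ leftOne ψ).1 1
  rw [show Cfsg.conjFun (μ ((leftOne : Left W₁ W₂).1 * ψ.1)) 1 =
      conj (μ ((leftOne : Left W₁ W₂).1 * ψ.1) 1) from rfl, hμ.deg, map_natCast,
    show (leftInv (leftOne : Left W₁ W₂)).1 = (leftOne : Left W₁ W₂).1 from
      MonoidHom.ext fun _ => inv_one,
    hμ.deg] at e
  exact_mod_cast e.symm

theorem conj_col (ψ : Right W₁ W₂) :
    Cfsg.conjFun (colSum μ ψ) = colSum μ (rightInv ψ) := by
  have e : Cfsg.conjFun (colSum μ ψ) = ∑ φ : Left W₁ W₂, μ ((leftInv φ).1 * (rightInv ψ).1) := by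
    rw [← Finset.sum_congr rfl fun φ _ => (h.conj_mu hμ φ ψ).1]
    funext x
    simp [colSum, Cfsg.conjFun]
  rw [e]
  exact Fintype.sum_equiv ⟨leftInv, leftInv, leftInv_leftInv, leftInv_leftInv⟩ _ _ fun _ => rfl

omit hμ in
/-- A fixed linear character of `K` is principal. -/
theorem linear_not_invariant {θ : kin M → ℂ} (hθ : IsIrrCharacter (kin M) θ) (h1 : θ 1 = 1)
    (hi : PrimePair.Invariant (W₁.subgroupOf M) θ) : θ = fun _ => 1 := by
  obtain ⟨f, hf⟩ := IsChar.exists_hom (IsIrr.isCharacter hθ) h1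
  obtain ⟨a, ha, ha1⟩ := (Subgroup.bot_or_exists_ne_one W₁).resolve_left h.W₁_ne
  set a' : M := ⟨a, h.W₁_le ha⟩
  have hfa : ∀ k : kin M, f ((MulAut.conjNormal a' : MulAut (kin M)) k) = f k := fun k => by
    have e := congrFun (hi a' ha) k
    rw [conjFun_apply, hf] at e
    exact Units.ext e
  set C : Subgroup G := f.ker.map (M.subtype.comp (kin M).subtype)
  have hmem : ∀ x (hx : x ∈ ⁅M, M⁆), x ∈ C ↔ f ⟨⟨x, derived_le M hx⟩, hx⟩ = 1 := by
    intro x hx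
    refine ⟨?_, fun e => ⟨⟨⟨x, derived_le M hx⟩, hx⟩, e, rfl⟩⟩
    rintro ⟨y, hy, rfl⟩
    exact hy
  have hCK : C ≤ ⁅M, M⁆ := by rintro x ⟨y, -, rfl⟩; exact y.2
  have hWC : W₂ ≤ C := by
    refine h.W₂_derived.trans (Subgroup.commutator_le.2 fun p hp q hq => ?_)
    let i : ∀ x, x ∈ ⁅M, M⁆ → kin M := fun x hx => ⟨⟨x, derived_le M hx⟩, hx⟩
    refine ⟨i p hp * i q hq * (i p hp)⁻¹ * (i q hq)⁻¹, MonoidHom.mem_ker.2 ?_, rfl⟩
    simp [mul_comm (f (i p hp))]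
  have hn : a ∈ Subgroup.normalizer (C : Set G) := by
    have key : ∀ x, x ∈ C → a * x * a⁻¹ ∈ C := by
      rintro x ⟨y, hy, rfl⟩
      refine ⟨(MulAut.conjNormal a' : MulAut (kin M)) y, MonoidHom.mem_ker.2 ((hfa y).trans hy),
        ?_⟩
      simp [a', MulAut.conjNormal_apply]
    refine Subgroup.mem_set_normalizer_iff.2 fun x => ⟨key x, fun hx => ?_⟩
    obtain ⟨y, hy, e⟩ := hx
    refine ⟨(MulAut.conjNormal a' : MulAut (kin M)).symm y, MonoidHom.mem_ker.2 ?_, ?_⟩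
    · rw [← hfa, MulEquiv.apply_symm_apply]
      exact hy
    · simp only [MonoidHom.comp_apply, Subgroup.coe_subtype] at e ⊢
      rw [MulAut.conjNormal_symm_apply]
      simp [a', e, mul_assoc]
  funext k
  have hk : ((k : M) : G) ∈ C := by
    refine h.fixed_coset hCK hWC ha ha1 hn k.2 ?_
    refine ⟨k⁻¹ * (MulAut.conjNormal a' : MulAut (kin M)) k, MonoidHom.mem_ker.2 ?_, ?_⟩
    · rw [map_mul, hfa, map_inv, inv_mul_cancel]
    · simp [a', MulAut.conjNormal_apply]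
  rw [hf]
  show (f k : ℂ) = 1
  rw [show f k = 1 from (hmem _ k.2).1 hk, Units.val_one]

theorem d_odd (ψ : Right W₁ W₂) : Odd (d ψ) := by
  have e := hμ.deg leftOne ψ
  rw [leftOne_mul] at e
  exact (h.odd_of M).of_dvd_nat (IsIrr.degree_dvd_card (hμ.irr ψ.1) e)

theorem d_one_lt {ψ : Right W₁ W₂} (hψ : ψ.1 ≠ 1) : 1 < d ψ := by
  obtain ⟨k, hk⟩ := h.d_odd hμ ψ
  rcases Nat.eq_zero_or_pos k with rfl | hk0
  · exfalso
    refine h.res_ne_one hμ hψ (h.linear_not_invariant (h.res_irr hμ ψ) ?_ (h.res_invariant hμ ψ))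
    have e := hμ.deg leftOne ψ
    rw [leftOne_mul, hk] at e
    simpa [resK] using e
  · omega

theorem d_ge {ψ : Right W₁ W₂} (hψ : ψ.1 ≠ 1) :
    2 * (Nat.card W₁ : ℤ) - 1 ≤ (d ψ : ℤ) := by
  obtain ⟨n, hn⟩ := hμ.deg_mod ψ
  have h1 := h.d_one_lt hμ hψ
  have he := h.card_W₁_three
  obtain ⟨i, hi⟩ := h.d_odd hμ ψ
  obtain ⟨j, hj⟩ := h.odd_of W₁
  have hn0 : 0 < n := by
    rcases hμ.sign ψ with e | e <;> rw [e] at hn
    · by_contra hle
      push Not at hle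
      nlinarith [mul_nonpos_of_nonpos_of_nonneg hle (Int.natCast_nonneg (Nat.card W₁))]
    · by_contra hle
      push Not at hle
      nlinarith [mul_nonpos_of_nonpos_of_nonneg hle (Int.natCast_nonneg (Nat.card W₁))]
  have hn1 : n ≠ 1 := by
    rintro rfl
    rcases hμ.sign ψ with e | e <;> rw [e] at hn <;> omega
  have h2 : (2 : ℤ) * Nat.card W₁ ≤ n * Nat.card W₁ :=
    mul_le_mul_of_nonneg_right (by omega) (Int.natCast_nonneg _)
  rcases hμ.sign ψ with e | e <;> rw [e] at hn <;> omega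

omit hμ in
/-- An irreducible character induced from a linear character of `K`. -/
theorem exists_zeta : ∃ ζ, ζ ∈ inducedIrrAbove (kin M) ⊥ ∧ IsIrrCharacter ↥M ζ ∧
    ζ 1 = (Nat.card W₁ : ℂ) := by
  have := h.nil
  have hne : (⊥ : Subgroup ↥M) < kin M := bot_lt_iff_ne_bot.2 fun e => h.W₂_ne (by
    rw [Subgroup.subgroupOf_eq_bot, disjoint_iff, inf_eq_left.2 (derived_le M)] at e
    exact le_bot_iff.1 (e ▸ h.W₂_le_derived))
  have : Group.IsNilpotent (kin M) :=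
    Group.nilpotent_of_mulEquiv (Subgroup.subgroupOfEquivOfLe (derived_le M)).symm
  obtain ⟨θ, hθ, h1⟩ :=
    OddChars.exists_linear_above (L := ↥M) (A := ⊥) (K := kin M) inferInstance hne
  refine ⟨_, OddChars.mem_inducedIrrAbove.2 ⟨θ, hθ, rfl⟩, h.pair.isIrr_indFun hθ.1 fun hi => ?_, ?_⟩
  · exact hθ.2.1 (h.linear_not_invariant hθ.1 h1 hi)
  · rw [indFun_apply_one, h.index_kin, h1, mul_one]

omit hμ in
theorem member_off {χ : ↥M → ℂ} (hχ : χ ∈ inducedIrrAbove (kin M) ⊥) {x : M} (hx : x ∉ kin M) :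
    χ x = 0 := by
  obtain ⟨θ, -, rfl⟩ := OddChars.mem_inducedIrrAbove.1 hχ
  exact indFun_apply_of_normal _ θ hx

theorem mu_left_apply_one (φ : Left W₁ W₂) : μ φ.1 1 = 1 := hμ.left_kin φ 1 (kin M).one_mem

theorem alpha_supp {ζ : ↥M → ℂ} (hζ : ζ ∈ inducedIrrAbove (kin M) ⊥)
    (hζ1 : ζ 1 = (Nat.card W₁ : ℂ)) {ψ : Right W₁ W₂} {n : ℤ}
    (hn : (d ψ : ℤ) - δ ψ = n * (Nat.card W₁ : ℤ)) (φ : Left W₁ W₂) (x : M)
    (hx : (x : G) ∉ aSet M W₁ W₂) : alpha μ δ ζ n φ ψ x = 0 := by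
  simp only [alpha, Pi.sub_apply, Pi.smul_apply, smul_eq_mul]
  by_cases hk : x ∈ kin M
  · have hx1 : x = 1 := by_contra fun e => hx (h.mem_aSet hk e)
    subst hx1
    rw [hμ.deg, h.mu_left_apply_one hμ, hζ1]
    have e : (d ψ : ℂ) - (δ ψ : ℂ) = (n : ℂ) * (Nat.card W₁ : ℂ) := by exact_mod_cast hn
    linear_combination e
  · obtain ⟨m, w, hw, hw2, rfl⟩ := h.exists_conj_left hk hx
    have hwW : (w : G) ∈ W₁ ⊔ W₂ := Subgroup.mem_sup_left hw
    rw [isClassFunction_of_isIrr (hμ.irr _), isClassFunction_of_isIrr (hμ.irr φ.1),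
      member_off h hζ hk, mul_zero, sub_zero, hμ.val φ ψ w hwW hw2]
    have e := hμ.val φ rightOne w hwW hw2
    rw [mul_rightOne, hμ.left_sign, Int.cast_one, one_mul] at e
    rw [e, MonoidHom.mul_apply, ψ.2 _ hw, mul_one, sub_self]

theorem alpha_isClass {ζ : ↥M → ℂ} (hζ : IsIrrCharacter ↥M ζ) (n : ℤ) (φ : Left W₁ W₂)
    (ψ : Right W₁ W₂) : IsClassFunction ↥M (alpha μ δ ζ n φ ψ) := fun g k => by
  simp only [alpha, Pi.sub_apply, Pi.smul_apply, isClassFunction_of_isIrr (hμ.irr _) g k,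
    isClassFunction_of_isIrr hζ g k]

theorem alpha_gen {ζ : ↥M → ℂ} (hζ : IsIrrCharacter ↥M ζ) (n : ℤ) (φ : Left W₁ W₂)
    (ψ : Right W₁ W₂) : IsGeneralizedCharacter ↥M (alpha μ δ ζ n φ ψ) :=
  have g : ∀ {χ : ↥M → ℂ}, IsIrrCharacter ↥M χ → IsGeneralizedCharacter ↥M χ := fun hχ =>
    isGeneralized_of_isCharacter (IsIrr.isCharacter hχ)
  isGeneralized_sub (isGeneralized_sub (g (hμ.irr _)) (isGeneralized_intCast_smul _ (g (hμ.irr _))))
    (isGeneralized_intCast_smul _ (g hζ))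

/-- `τ α` is `δ (η (φψ) - η φ)` plus a function `Θ` not depending on `φ`. -/
theorem tau_alpha (hη : IsCyclicTIFamily W₁ W₂ η) {ζ : ↥M → ℂ}
    {ψ : Right W₁ W₂} (hψ : ψ.1 ≠ 1) (n : ℤ) (φ : Left W₁ W₂) :
    indFun M (alpha μ δ ζ n φ ψ) - (δ ψ : ℂ) • (η (φ.1 * ψ.1) - η φ.1) =
      indFun M (alpha μ δ ζ n leftOne ψ) - (δ ψ : ℂ) • (η ψ.1 - η 1) := by
  by_cases hφ : φ.1 = 1
  · rw [show φ = leftOne from Subtype.ext hφ, leftOne_mul]
    rfl
  have e1 := hμ.induced φ ψ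
  have e2 := hμ.induced φ rightOne
  rw [mul_rightOne, hμ.left_sign, Int.cast_one, one_smul] at e2
  rw [indFun_sub] at e1 e2
  have e3 := hη.induced_eq φ.1 ψ.1 hφ hψ φ.2 ψ.2
  have e4 : indFun (W₁ ⊔ W₂) (fun w => ((φ.1 * ψ.1) w : ℂ) - (ψ.1 w : ℂ)) -
      indFun (W₁ ⊔ W₂) (fun w => (φ.1 w : ℂ) - ((rightOne : Right W₁ W₂).1 w : ℂ)) =
      indFun (W₁ ⊔ W₂)
        (fun w => 1 - (φ.1 w : ℂ) - (ψ.1 w : ℂ) + (φ.1 w : ℂ) * (ψ.1 w : ℂ)) := by
    rw [← indFun_sub]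
    congr 1
    funext w
    simp only [Pi.sub_apply, MonoidHom.mul_apply, Units.val_mul, rightOne, MonoidHom.one_apply,
      Units.val_one]
    ring
  simp only [alpha, leftOne_mul]
  simp only [show (leftOne : Left W₁ W₂).1 = 1 from rfl, indFun_sub, indFun_smul]
  funext g
  have f1 := congrFun e1 g
  have f2 := congrFun e2 g
  have f3 := congrFun e3 g
  have f4 := congrFun e4 g
  simp only [Pi.sub_apply, Pi.add_apply, Pi.smul_apply, smul_eq_mul, hη.map_one,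
    show (rightOne : Right W₁ W₂).1 = (1 : ↥(W₁ ⊔ W₂) →* ℂˣ) from rfl] at f1 f2 f3 f4 ⊢
  linear_combination f1 - (δ ψ : ℂ) * f2 + (δ ψ : ℂ) * f4 + (δ ψ : ℂ) * f3

/-- `τ (μ (φψ) - μ (φψ')) = δ (η (φψ) - η (φψ'))` for columns of equal sign and degree. -/
theorem tau_mu_diff (hη : IsCyclicTIFamily W₁ W₂ η) {ψ ψ' : Right W₁ W₂} (hψ : ψ.1 ≠ 1)
    (hψ' : ψ'.1 ≠ 1) (hne : ψ ≠ ψ') (hδ : δ ψ' = δ ψ) (hd : d ψ' = d ψ) (φ : Left W₁ W₂) :
    indFun M (μ (φ.1 * ψ.1) - μ (φ.1 * ψ'.1)) =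
      (δ ψ : ℂ) • (η (φ.1 * ψ.1) - η (φ.1 * ψ'.1)) := by
  obtain ⟨ζ, hζ, hζi, hζ1⟩ := h.exists_zeta
  obtain ⟨n, hn⟩ := hμ.deg_mod ψ
  have hn' : (d ψ' : ℤ) - δ ψ' = n * (Nat.card W₁ : ℤ) := by rw [hδ, hd]; exact hn
  let T : Left W₁ W₂ → G → ℂ := fun φ =>
    indFun M (μ (φ.1 * ψ.1) - μ (φ.1 * ψ'.1)) -
      (δ ψ : ℂ) • (η (φ.1 * ψ.1) - η (φ.1 * ψ'.1))
  suffices hT : T φ = 0 from sub_eq_zero.1 hT
  have halpha : ∀ φ : Left W₁ W₂, μ (φ.1 * ψ.1) - μ (φ.1 * ψ'.1) =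
      alpha μ δ ζ n φ ψ - alpha μ δ ζ n φ ψ' := fun φ => by
    simp only [alpha, hδ]
    abel
  have hconst : ∀ φ, T φ = T leftOne := fun φ => by
    have a1 := h.tau_alpha hμ hη hψ n φ (ζ := ζ)
    have a2 := h.tau_alpha hμ hη hψ' n φ (ζ := ζ)
    simp only [T, halpha, indFun_sub, leftOne_mul]
    rw [hδ] at a2
    funext g
    have b1 := congrFun a1 g
    have b2 := congrFun a2 g
    simp only [Pi.sub_apply, Pi.smul_apply, smul_eq_mul] at b1 b2 ⊢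
    linear_combination b1 - b2
  rw [hconst]
  have hsupp : ∀ (φ : Left W₁ W₂) (x : M), (x : G) ∉ aSet M W₁ W₂ → (μ (φ.1 * ψ.1) - μ (φ.1 * ψ'.1)) x = 0 := by
    intro φ x hx
    rw [halpha, Pi.sub_apply, h.alpha_supp hμ hζ hζ1 hn φ x hx,
      h.alpha_supp hμ hζ hζ1 hn' φ x hx, sub_zero]
  have hgen : IsGeneralizedCharacter G (T leftOne) :=
    isGeneralized_sub (isGeneralized_indFun M (isGeneralized_sub
      (isGeneralized_of_isCharacter (IsIrr.isCharacter (hμ.irr _)))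
      (isGeneralized_of_isCharacter (IsIrr.isCharacter (hμ.irr _)))))
      (isGeneralized_intCast_smul _ (isGeneralized_sub (eta_isGeneralized hη _)
        (eta_isGeneralized hη _)))
  generalize hZ : T leftOne = Z at hconst hgen ⊢
  choose x hx using fun (p : Left W₁ W₂ × Right W₁ W₂) =>
    Char.classInner_generalized_int hgen (eta_isGeneralized hη (p.1.1 * p.2.1))
  obtain ⟨N, hN⟩ := Char.classInner_generalized_int hgen hgen
  have hD : ∀ φ, 2 * δ ψ * (x (φ, ψ) - x (φ, ψ')) = -N := by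
    intro φ
    have hne' : φ.1 * ψ.1 ≠ φ.1 * ψ'.1 := fun e => hne (Subtype.ext
      ((CyclicTI.mul_eq_mul_iff h.selfNorm.2.2.2.1 φ.2 ψ.2 φ.2 ψ'.2).1 e).2)
    have hf2 : classInner (μ (φ.1 * ψ.1) - μ (φ.1 * ψ'.1)) (μ (φ.1 * ψ.1) - μ (φ.1 * ψ'.1)) =
        2 := by
      rw [classInner_sub_sub, classInner_irr_self (hμ.irr _), classInner_irr_self (hμ.irr _),
        classInner_irr_ne (hμ.irr _) (hμ.irr _) fun e => hne' (hμ.inj e),
        classInner_irr_ne (hμ.irr _) (hμ.irr _) fun e => hne' (hμ.inj e).symm]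
      ring
    have hi := inner_ind h.dade (f := μ (φ.1 * ψ.1) - μ (φ.1 * ψ'.1))
      (f' := μ (φ.1 * ψ.1) - μ (φ.1 * ψ'.1)) (fun g k => by
        simp [isClassFunction_of_isIrr (hμ.irr _) g k]) (hsupp φ) (hsupp φ)
    rw [hf2, show indFun M (μ (φ.1 * ψ.1) - μ (φ.1 * ψ'.1)) =
      Z + (δ ψ : ℂ) • (η (φ.1 * ψ.1) - η (φ.1 * ψ'.1)) by
        rw [← hconst φ]; simp [T]] at hi
    have hsd : (δ ψ : ℂ) * (δ ψ : ℂ) = 1 := by rcases hμ.sign ψ with e | e <;> simp [e]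
    simp only [classInner_add_left, classInner_add_right, classInner_sub_left,
      classInner_sub_right, classInner_smul_left, classInner_smul_right, hη.orthonormal,
      if_true, if_neg hne', if_neg (Ne.symm hne'), map_intCast, hN] at hi
    rw [← classInner_conj_symm Z (η (φ.1 * ψ.1)), ← classInner_conj_symm Z (η (φ.1 * ψ'.1)),
      hx (φ, ψ), hx (φ, ψ'), map_intCast, map_intCast] at hi
    have hi' : ((2 * δ ψ * (x (φ, ψ) - x (φ, ψ')) : ℤ) : ℂ) = ((-N : ℤ) : ℂ) := by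
      push_cast
      linear_combination hi - 2 * hsd
    exact_mod_cast hi'
  have hb := grid_bessel h.selfNorm hη (fun φ ψ => x (φ, ψ)) (fun φ ψ => hx (φ, ψ))
    (∅ : Finset PUnit.{1}) (fun _ => 0) (fun _ => 0) (by simp) (by simp) (by simp) hN
  simp only [Finset.sum_empty, add_zero] at hb
  set D := x (leftOne, ψ) - x (leftOne, ψ') with hDdef
  have hD' : ∀ φ, x (φ, ψ) - x (φ, ψ') = D := fun φ => by
    rcases hμ.sign ψ with e | e <;>
      · have a1 := hD φ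
        have a2 := hD leftOne
        rw [e] at a1 a2
        omega
  have hN0 : N = 0 := by
    by_contra hN0
    have hD0 : D ≠ 0 := fun e => hN0 (by
      have := hD leftOne
      rw [hD' leftOne, e] at this
      simpa using this.symm)
    have hrow : ∀ φ : Left W₁ W₂, max 2 (D ^ 2) ≤ 2 * ∑ ψ'' : Right W₁ W₂, x (φ, ψ'') ^ 2 := by
      intro φ
      have h1 : x (φ, ψ) ^ 2 + x (φ, ψ') ^ 2 ≤ ∑ ψ'' : Right W₁ W₂, x (φ, ψ'') ^ 2 := by
        rw [← Finset.sum_pair hne (f := fun ψ'' => x (φ, ψ'') ^ 2)]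
        exact Finset.sum_le_sum_of_subset_of_nonneg (Finset.subset_univ _)
          fun _ _ _ => sq_nonneg _
      have h2 := hD' φ
      refine max_le ?_ (by rw [← h2]; nlinarith [sq_nonneg (x (φ, ψ) + x (φ, ψ'))])
      have h3 : 0 < x (φ, ψ) ^ 2 + x (φ, ψ') ^ 2 := by
        by_contra h4
        push Not at h4
        have := sq_nonneg (x (φ, ψ))
        have := sq_nonneg (x (φ, ψ'))
        have e1 : x (φ, ψ) = 0 := pow_eq_zero_iff two_ne_zero |>.1 (by omega)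
        have e2 : x (φ, ψ') = 0 := pow_eq_zero_iff two_ne_zero |>.1 (by omega)
        omega
      omega
    have hsum := Finset.sum_le_sum (s := (Finset.univ : Finset (Left W₁ W₂))) fun φ _ => hrow φ
    rw [Finset.sum_const, Finset.card_univ, card_left h.selfNorm, nsmul_eq_mul,
      ← Finset.mul_sum] at hsum
    have he : (3 : ℤ) ≤ Nat.card W₁ := by exact_mod_cast h.card_W₁_three
    have hm : (2 : ℤ) ≤ max 2 (D ^ 2) := le_max_left _ _
    have hm' : D ^ 2 ≤ max 2 (D ^ 2) := le_max_right _ _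
    have h3 := mul_le_mul_of_nonneg_right he (le_trans zero_le_two hm)
    have hN' := hD leftOne
    rw [hD' leftOne] at hN'
    have hsD : 2 * δ ψ * D ≤ 2 * |D| ∧ -(2 * |D|) ≤ 2 * δ ψ * D := by
      rcases hμ.sign ψ with e | e <;> rw [e] <;>
        constructor <;> nlinarith [le_abs_self D, neg_abs_le D]
    have habs : 1 ≤ |D| := Int.one_le_abs hD0
    rcases le_or_gt 2 |D| with h4 | h4
    · nlinarith [mul_le_mul_of_nonneg_left h4 (abs_nonneg D), sq_abs D]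
    · omega
  refine (Char.classInner_self_eq_zero _).1 ?_
  rw [hN, hN0, Int.cast_zero]

theorem tau_mu_conj (hη : IsCyclicTIFamily W₁ W₂ η) (φ : Left W₁ W₂) {ψ : Right W₁ W₂}
    (hψ : ψ.1 ≠ 1) :
    indFun M (μ (φ.1 * ψ.1) - μ (φ.1 * ψ.1⁻¹)) =
      (δ ψ : ℂ) • (η (φ.1 * ψ.1) - η (φ.1 * ψ.1⁻¹)) :=
  h.tau_mu_diff hμ hη hψ (ψ' := rightInv ψ) (rightInv_ne_one hψ)
    (rightInv_ne h.oddW hψ).symm (h.conj_mu hμ leftOne ψ).2 (h.d_inv hμ ψ) φ

/-- The coherence data of the member. -/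
theorem degSys (hη : IsCyclicTIFamily W₁ W₂ η) : DegSys M W₁ W₂ ⁅M, M⁆ μ η :=
  h.toDegSys hμ hη (h.members hμ) (fun ψ _ => h.conj_col hμ ψ)
    fun φ _ hψ => h.tau_mu_conj hμ hη φ hψ

end Degen

end Cfsg.Agent.OddFinal
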