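import Cfsg.Agent.OddFinal.DegenerateTau
import Cfsg.Agent.S1517

/-!
# The image of `Ind 1 - ζ` and the test functions of a degenerate member (section E of the endgame)

`ζ` is induced from a linear character of `K` and `χ - conj χ` is the image of `ζ - conj ζ`.
In case A the image of `Ind 1 - ζ` is the principal column minus `χ`; otherwise some column has
large norm modulo `|W₁|`.
-/

set_option autoImplicit false
set_option linter.unusedSectionVars false

namespace Cfsg.Agent.OddFinal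

open Cfsg Char CyclicTI
open scoped ComplexConjugate
open scoped _root_.Classical

universe u

variable {G : Type u} [Group G] [Fintype G] {M W₁ W₂ : Subgroup G} [Fintype ↥M]

theorem sirr_conj {α : G → ℂ} (h : Coherence.SIrr G α) : Coherence.SIrr G (Cfsg.conjFun α) := by
  rcases h with h | h
  · exact Or.inl (Coherence.isIrr_conjFun h)
  · refine Or.inr ?_
    convert Coherence.isIrr_conjFun h using 1
    funext g; simp [Cfsg.conjFun]

/-- `ζ` is induced from a linear character of `K` and `χ` is attached to it. -/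
structure Base (W₁ : Subgroup G) {W₂ : Subgroup G} (η : (↥(W₁ ⊔ W₂) →* ℂˣ) → G → ℂ)
    (ζ : ↥M → ℂ) (χ : G → ℂ) : Prop where
  mem : ζ ∈ inducedIrrAbove (kin M) ⊥
  irr : IsIrrCharacter ↥M ζ
  one : ζ 1 = (Nat.card W₁ : ℂ)
  sirr : Coherence.SIrr G χ
  tau : indFun M (ζ - Cfsg.conjFun ζ) = χ - Cfsg.conjFun χ
  orth : ∀ ω, classInner χ (η ω) = 0

/-- The image of `Ind 1 - ζ`. -/
noncomputable def yFun (ζ : ↥M → ℂ) : G → ℂ :=
  indFun M (indFun (kin M) (fun _ => (1 : ℂ)) - ζ)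

/-- Case A: the image of `Ind 1 - ζ` is the principal column minus `χ`. -/
def CaseA (η : (↥(W₁ ⊔ W₂) →* ℂˣ) → G → ℂ) (ζ : ↥M → ℂ) (χ : G → ℂ) : Prop :=
  yFun ζ = colSum η (rightOne : Right W₁ W₂) - χ

/-- `n ζ - Φ`. -/
def testFn (ζ : ↥M → ℂ) (n : ℕ) (Φ : ↥M → ℂ) : ↥M → ℂ := (n : ℂ) • ζ - Φ

namespace Degen

variable (h : Degen M W₁ W₂) {μ : (↥(W₁ ⊔ W₂) →* ℂˣ) → ↥M → ℂ}
  {η : (↥(W₁ ⊔ W₂) →* ℂˣ) → G → ℂ} {δ : Right W₁ W₂ → ℤ} {d : Right W₁ W₂ → ℕ}
  (hμ : Chars (M := M) (W₁ := W₁) (W₂ := W₂) μ δ d) (hη : IsCyclicTIFamily W₁ W₂ η)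
  {ζ : ↥M → ℂ} {χ : G → ℂ}

include h hμ hη

omit hμ hη in
theorem kin_supp {f : ↥M → ℂ} (h0 : ∀ x, x ∉ kin M → f x = 0) (h1 : f 1 = 0) :
    ∀ x : M, (x : G) ∉ aSet M W₁ W₂ → f x = 0 := h.supp_of_kin h0 h1

omit hμ hη in
theorem tau_zero_v {f : ↥M → ℂ} (hc : IsClassFunction ↥M f) (h0 : ∀ x, x ∉ kin M → f x = 0)
    (h1 : f 1 = 0) : ∀ w ∈ OddFinal.vSet W₁ W₂, indFun M f w = 0 := fun w hw => by
  have e := indFun_coe h.dade hc (h.kin_supp h0 h1) (a := ⟨w, h.W_le hw.1⟩) (h.vSet_subset hw)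
  rw [e]
  exact h0 _ (h.not_mem_kin hw.1 hw.2.2)

omit h hμ hη in
theorem member_gen {Φ : ↥M → ℂ} (hΦ : Φ ∈ inducedIrrAbove (kin M) ⊥) :
    IsGeneralizedCharacter ↥M Φ := by
  obtain ⟨θ, hθ, rfl⟩ := OddChars.mem_inducedIrrAbove.1 hΦ
  exact isGeneralized_of_isCharacter (isCharacter_indFun _ (IsIrr.isCharacter hθ.1))

omit hμ hη in
theorem ind_one_apply_one : indFun (kin M) (fun _ => (1 : ℂ)) 1 = (Nat.card W₁ : ℂ) := by
  rw [indFun_apply_one, h.index_kin, mul_one]

omit hμ hη in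
theorem ind_one_gen : IsGeneralizedCharacter ↥M (indFun (kin M) fun _ => (1 : ℂ)) :=
  isGeneralized_of_isCharacter (isCharacter_indFun _ (IsIrr.isCharacter isIrrCharacter_one))

theorem ind_one_eq : indFun (kin M) (fun _ => (1 : ℂ)) = colSum μ (rightOne : Right W₁ W₂) := by
  rw [← h.col_eq hμ, h.res_one hμ]

theorem ind_one_member {Φ : ↥M → ℂ} (hΦ : Φ ∈ inducedIrrAbove (kin M) ⊥) :
    classInner (indFun (kin M) fun _ => (1 : ℂ)) Φ = 0 := by
  obtain ⟨θ, hθ, rfl⟩ := OddChars.mem_inducedIrrAbove.1 hΦ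
  rw [classInner_indFun_indFun isIrrCharacter_one hθ.1]
  have : IsEmpty {g : M // Char.conjFun g (fun _ => (1 : ℂ)) = θ} :=
    ⟨fun g => hθ.2.1 (g.2.symm.trans rfl)⟩
  simp

/-- Attached pairs exist above every proper normal subgroup, and are constant on a central `W₂`. -/
theorem exists_base {A : Subgroup ↥M} [A.Normal] (hA : A < kin M) :
    ∃ ζ χ, Base W₁ η ζ χ ∧ ζ ∈ inducedIrrAbove (kin M) A ∧
      ((∀ z ∈ W₂.subgroupOf M, ∀ k ∈ kin M, z * k = k * z) →
        ∀ z ∈ W₂.subgroupOf M, ∀ z' ∈ W₂.subgroupOf M, z ≠ 1 → z' ≠ 1 →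
          χ (z : G) = χ (z' : G)) := by
  have := h.nil
  have : Group.IsNilpotent (kin M) :=
    Group.nilpotent_of_mulEquiv (Subgroup.subgroupOfEquivOfLe (derived_le M)).symm
  have hS := h.degSys hμ hη
  obtain ⟨θ, hθ, hθ1⟩ := OddChars.exists_linear_above (L := ↥M) (A := A) (K := kin M)
    inferInstance hA
  set ζ := indFun (kin M) θ with hζdef
  have hζA : ζ ∈ inducedIrrAbove (kin M) A := OddChars.mem_inducedIrrAbove.2 ⟨θ, hθ, rfl⟩
  have hζS : ζ ∈ inducedIrrAbove (kin M) ⊥ := OddChars.inducedIrrAbove_subset_bot hζA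
  have hζi : IsIrrCharacter ↥M ζ := h.pair.isIrr_indFun hθ.1 fun hi =>
    hθ.2.1 (h.linear_not_invariant hθ.1 hθ1 hi)
  have hζ1 : ζ 1 = (Nat.card W₁ : ℂ) := by
    rw [hζdef, indFun_apply_one, h.index_kin, hθ1, mul_one]
  let F : Set (↥M → ℂ) := {Φ | Φ ∈ inducedIrrAbove (kin M) ⊥ ∧ IsIrrCharacter ↥M Φ ∧
    Φ 1 = (Nat.card W₁ : ℂ)}
  have hFζ : ζ ∈ F := ⟨hζS, hζi, hζ1⟩
  have hconj : ∀ Φ ∈ F, Cfsg.conjFun Φ ∈ F := fun Φ hΦ => ⟨OddChars.inducedIrrAbove_conj_mem hΦ.1,
    Coherence.isIrr_conjFun hΦ.2.1, by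
      rw [Coherence.isChar_conjFun_one (IsIrr.isCharacter hΦ.2.1), hΦ.2.2]⟩
  obtain ⟨R, hR, -⟩ := hS.exists_system
  have hne : ∀ Φ ∈ F, Cfsg.conjFun Φ ≠ Φ := fun Φ hΦ => hR.conj_ne Φ hΦ.1
  obtain ⟨R', hR'⟩ := S1514.result F ⟨ζ, hFζ⟩ (fun Φ hΦ => hΦ.2.1)
    (fun Φ hΦ => ⟨hconj Φ hΦ, hne Φ hΦ⟩) (fun α : ↥M → ℂ => indFun M α)
    (Coherence.IsLinearIsometryOn.mono hS.iso (Coherence.zspanOn_mono fun Φ hΦ => hΦ.1))
    (fun α hα => by
      simp only [indFun_apply_one, (Coherence.mem_zspanOn_compl_one.1 hα).2, mul_zero])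
  obtain ⟨-, τ₁, hτ₁, hτ₁e⟩ := S1517.result F _ R' hR' fun a ha b hb => by rw [ha.2.2, hb.2.2]
  have hsirr : ∀ Φ ∈ F, Coherence.SIrr G (τ₁ Φ) := fun Φ hΦ => by
    obtain ⟨ψ, hψ⟩ := IsGen.eq_pm_irr (hτ₁.2.2.2 Φ (Coherence.mem_zspan_of_mem hΦ)) (by
      rw [hτ₁.2.2.1 _ (Coherence.mem_zspan_of_mem hΦ) _ (Coherence.mem_zspan_of_mem hΦ),
        classInner_irr_self hΦ.2.1])
    rcases hψ with e | e
    · exact Or.inl (e ▸ ψ.2)
    · exact Or.inr (by rw [e, neg_neg]; exact ψ.2)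
  have horth : ∀ a ∈ F, ∀ b ∈ F, a ≠ b → classInner (τ₁ a) (τ₁ b) = 0 := fun a ha b hb hab => by
    rw [hτ₁.2.2.1 _ (Coherence.mem_zspan_of_mem ha) _ (Coherence.mem_zspan_of_mem hb),
      classInner_irr_ne ha.2.1 hb.2.1 hab]
  have htau : ∀ a ∈ F, ∀ b ∈ F, a 1 = b 1 → indFun M (a - b) = τ₁ a - τ₁ b := fun a ha b hb hab => by
    rw [← Coherence.iso_zspan_sub hτ₁ (Coherence.mem_zspan_of_mem ha)
      (Coherence.mem_zspan_of_mem hb)]
    exact (hτ₁e _ (Coherence.mem_zspanOn_compl_one.2 ⟨Coherence.zspan_sub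
      (Coherence.mem_zspan_of_mem ha) (Coherence.mem_zspan_of_mem hb), by simp [hab]⟩)).symm
  set χ := τ₁ ζ with hχdef
  set χ' := τ₁ (Cfsg.conjFun ζ) with hχ'def
  have hsχ : Coherence.SIrr G χ := hsirr _ hFζ
  have hsχ' : Coherence.SIrr G χ' := hsirr _ (hconj _ hFζ)
  have hχχ' : classInner χ χ' = 0 := horth _ hFζ _ (hconj _ hFζ) (Ne.symm (hne _ hFζ))
  have ht : indFun M (ζ - Cfsg.conjFun ζ) = χ - χ' :=
    htau _ hFζ _ (hconj _ hFζ) (by rw [hζ1, (hconj _ hFζ).2.2])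
  have hc : Cfsg.conjFun χ + χ = Cfsg.conjFun χ' + χ' := by
    have e := OddFinal.conjFun_indFun M (ζ - Cfsg.conjFun ζ)
    rw [ht, show (fun x => conj ((ζ - Cfsg.conjFun ζ) x)) = -(ζ - Cfsg.conjFun ζ) from
      funext fun x => by simp [Cfsg.conjFun], indFun_neg, ht] at e
    funext g
    have e' := congrFun e g
    simp only [Cfsg.conjFun, Pi.sub_apply, Pi.neg_apply, map_sub, Pi.add_apply] at e' ⊢
    linear_combination e'
  have hconjχ : χ' = Cfsg.conjFun χ := by
    have e := congrArg (fun f => classInner f χ) hc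
    simp only [classInner_add_left, hsχ.inner_self, Coherence.inner_eq_zero_comm hχχ',
      add_zero] at e
    rcases (sirr_conj hsχ').inner_cases hsχ with h1 | ⟨h1, -⟩ | ⟨-, h1⟩
    · exfalso
      rw [h1] at e
      rcases (sirr_conj hsχ).inner_cases hsχ with h2 | ⟨-, h2⟩ | ⟨h2, -⟩
      · rw [h2] at e; norm_num at e
      · rw [h2] at e; norm_num at e
      · have e1 : Cfsg.conjFun χ 1 = χ 1 := by
          rcases hsχ with hh | hh
          · exact Coherence.isChar_conjFun_one (IsIrr.isCharacter hh)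
          · have := Coherence.isChar_conjFun_one (IsIrr.isCharacter hh)
            simpa [Cfsg.conjFun] using this
        rw [h2, Pi.neg_apply] at e1
        exact hsχ.apply_one_ne_zero (by linear_combination -(1 / 2 : ℂ) * e1)
    · rw [← h1, Coherence.conjFun_conjFun]
    · exfalso
      rw [h1] at e
      rcases (sirr_conj hsχ).inner_cases hsχ with h2 | ⟨-, h2⟩ | ⟨-, h2⟩ <;>
        rw [h2] at e <;> norm_num at e
  have hsupp : ∀ x, x ∉ kin M → (ζ - Cfsg.conjFun ζ) x = 0 := fun x hx => by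
    simp [Cfsg.conjFun, h.member_off hζS hx]
  have horthη : ∀ ω, classInner χ (η ω) = 0 := fun ω => by
    refine (pair_orth_eta h.selfNorm h.oddW hη hsχ hsχ'.neg
      (by rw [classInner_neg_right, hχχ', neg_zero]) (fun w hw => ?_) ?_ ω).1
    · rw [← sub_eq_add_neg, ← ht]
      exact h.tau_zero_v (IsGen.isClassFunction (isGeneralized_sub (member_gen hζS)
        (member_gen (OddChars.inducedIrrAbove_conj_mem hζS)))) hsupp
        (by simp [Cfsg.conjFun, hζ1]) w hw
    · rw [← sub_eq_add_neg, ← ht, classInner_indFun_left M _ (fun _ _ => rfl), classInner_sub_left,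
        hS.member_inner_one hζS, hS.member_inner_one (OddChars.inducedIrrAbove_conj_mem hζS),
        sub_zero]
  refine ⟨ζ, χ, ⟨hζS, hζi, hζ1, hsχ, ht.trans (by rw [hconjχ]), horthη⟩, hζA, fun hcen => ?_⟩
  refine hS.const_of_prime (F := F) (fun Φ hΦ => ⟨hΦ.1, hΦ.2.1⟩) hconj ?_ hsirr horth htau hFζ
    (Z := W₂.subgroupOf M) ?_ (fun z hz => h.W₂_le_derived hz) fun z hz => ?_
  · intro σ Φ hΦ
    obtain ⟨θ', hθ', rfl⟩ := OddChars.mem_inducedIrrAbove.1 hΦ.1
    refine ⟨OddChars.mem_inducedIrrAbove.2 ⟨fun k => σ (θ' k), ⟨isIrr_map σ hθ'.1,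
      fun e => hθ'.2.1 (funext fun k => σ.injective (by rw [congrFun e k, map_one])),
      fun a ha => congrArg σ (hθ'.2.2 a ha)⟩, ?_⟩, isIrr_map σ hΦ.2.1, by
        show σ (indFun (kin M) θ' 1) = _
        rw [hΦ.2.2, map_natCast]⟩
    funext g
    simp only [indFun_apply, map_mul, map_inv₀, map_natCast, map_sum]
    congr 1
    refine Finset.sum_congr rfl fun x _ => ?_
    by_cases hx : x⁻¹ * g * x ∈ kin M
    · simp [extendByZero_of_mem _ _ hx]
    · simp [extendByZero_of_not_mem _ _ hx]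
  · rw [Nat.card_congr (Subgroup.subgroupOfEquivOfLe h.W₂_le).toEquiv]
    exact h.prime₂
  · have := h.normal_W₂ hcen
    have hlin : ∀ y : kin M, (y : ↥M) ∈ W₂.subgroupOf M → θ y = 1 := by
      intro y hy
      obtain ⟨f, hf⟩ := IsChar.exists_hom (IsIrr.isCharacter hθ.1) hθ1
      have h1 : (y : ↥M) ∈ ⁅kin M, kin M⁆ := h.W₂_le_derived_kin hy
      have h2 : ⁅kin M, kin M⁆ ≤ f.ker.map (kin M).subtype := by
        rw [Subgroup.commutator_le]
        intro p hp q hq
        refine Subgroup.mem_map.2 ⟨⟨p, hp⟩ * ⟨q, hq⟩ * (⟨p, hp⟩)⁻¹ * (⟨q, hq⟩)⁻¹,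
          MonoidHom.mem_ker.2 ?_, rfl⟩
        rw [map_mul, map_mul, map_mul, map_inv, map_inv]
        simp [mul_comm (f ⟨p, hp⟩)]
      obtain ⟨w, hw, e⟩ := h2 h1
      rw [hf]
      show (f y : ℂ) = 1
      rw [← show w = y from Subtype.ext e, MonoidHom.mem_ker.1 hw, Units.val_one]
    rw [hζdef, indFun_apply, indFun_apply]
    congr 1
    refine Finset.sum_congr rfl fun x _ => ?_
    have hzx : x⁻¹ * z * x ∈ W₂.subgroupOf M := by
      simpa using (inferInstance : (W₂.subgroupOf M).Normal).conj_mem z hz x⁻¹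
    have hzk : x⁻¹ * z * x ∈ kin M := h.W₂_le_derived hzx
    rw [mul_one, inv_mul_cancel, extendByZero_of_mem _ _ hzk,
      extendByZero_of_mem _ _ (kin M).one_mem, hlin ⟨_, hzk⟩ hzx]
    exact hθ1.symm

variable (hB : Base W₁ η ζ χ)

include hB

theorem conj_orth (ω : ↥(W₁ ⊔ W₂) →* ℂˣ) : classInner (Cfsg.conjFun χ) (η ω) = 0 := by
  have e : η ω = Cfsg.conjFun (η ω⁻¹) := by
    rw [eta_conj h.selfNorm h.oddW hη, show (ω⁻¹)⁻¹ = ω from MonoidHom.ext fun _ => inv_inv _]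
  rw [e, Coherence.classInner_conjFun, Coherence.inner_eq_zero_comm (hB.orth _)]

theorem zeta_ne : Cfsg.conjFun ζ ≠ ζ := by
  obtain ⟨R, hR, -⟩ := (h.degSys hμ hη).exists_system
  exact hR.conj_ne ζ hB.mem

theorem chi_conj : classInner χ (Cfsg.conjFun χ) = 0 := by
  have hc := IsGen.isClassFunction (isGeneralized_sub (member_gen hB.mem)
    (member_gen (OddChars.inducedIrrAbove_conj_mem hB.mem)))
  have hs : ∀ x, x ∉ kin M → (ζ - Cfsg.conjFun ζ) x = 0 := fun x hx => by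
    simp [Cfsg.conjFun, h.member_off hB.mem hx]
  have h0 : (ζ - Cfsg.conjFun ζ) 1 = 0 := by simp [Cfsg.conjFun, hB.one]
  have e := inner_ind h.dade hc (h.kin_supp hs h0) (h.kin_supp hs h0)
  obtain ⟨m, hm⟩ := Char.classInner_generalized_int hB.sirr.isGeneralized
    (sirr_conj hB.sirr).isGeneralized
  have hne := h.zeta_ne hμ hη hB
  rw [hB.tau, classInner_sub_sub, classInner_sub_sub, hB.sirr.inner_self,
    (sirr_conj hB.sirr).inner_self, ← classInner_conj_symm χ (Cfsg.conjFun χ), hm, map_intCast,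
    classInner_irr_self hB.irr, classInner_irr_self (Coherence.isIrr_conjFun hB.irr),
    classInner_irr_ne hB.irr (Coherence.isIrr_conjFun hB.irr) hne.symm,
    classInner_irr_ne (Coherence.isIrr_conjFun hB.irr) hB.irr hne] at e
  rw [hm]
  linear_combination -(1 / 2 : ℂ) * e

/-- Replacing `χ` by `- conj χ`. -/
theorem base_flip : Base W₁ η ζ (-Cfsg.conjFun χ) := by
  refine ⟨hB.mem, hB.irr, hB.one, (sirr_conj hB.sirr).neg, ?_, fun ω => ?_⟩
  · rw [hB.tau]
    funext g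
    simp [Cfsg.conjFun]
    ring
  · rw [classInner_neg_left, h.conj_orth hμ hη hB, neg_zero]

/-- The image of `n ζ - Φ` against the family and the attached pair. -/
theorem test_coeff {Φ : ↥M → ℂ} (hΦ : Φ ∈ inducedIrrAbove (kin M) ⊥) {n : ℕ}
    (hn : Φ 1 = (Nat.card W₁ : ℂ) * n) (hne : Φ ≠ ζ) (hne' : Φ ≠ Cfsg.conjFun ζ) {N : ℕ}
    (hN : classInner Φ Φ = (N : ℂ)) :
    ∃ (y : ℤ) (a : Left W₁ W₂ → ℤ) (b : Right W₁ W₂ → ℤ), a leftOne = 0 ∧ b rightOne = 0 ∧
      (∀ φ ψ, classInner (indFun M (testFn ζ n Φ)) (η (φ.1 * ψ.1)) = ((a φ + b ψ : ℤ) : ℂ)) ∧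
      classInner (indFun M (testFn ζ n Φ)) (Cfsg.conjFun χ) = (y : ℂ) ∧
      classInner (indFun M (testFn ζ n Φ)) χ = ((n + y : ℤ) : ℂ) ∧
      classInner (indFun M (testFn ζ n Φ)) (indFun M (testFn ζ n Φ)) = ((n ^ 2 + N : ℕ) : ℂ) ∧
      (∑ φ, ∑ ψ, (a φ + b ψ) ^ 2) + ((n + y) ^ 2 + y ^ 2) ≤ (n : ℤ) ^ 2 + N := by
  have hS := h.degSys hμ hη
  set f := testFn ζ n Φ with hf
  have hfgen : IsGeneralizedCharacter ↥M f :=
    isGeneralized_sub (by
      simpa using isGeneralized_intCast_smul (n : ℤ) (member_gen hB.mem)) (member_gen hΦ)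
  have hf0 : ∀ x, x ∉ kin M → f x = 0 := fun x hx => by
    simp [hf, testFn, h.member_off hB.mem hx, h.member_off hΦ hx]
  have hf1 : f 1 = 0 := by simp [hf, testFn, hB.one, hn, mul_comm]
  have hfc := IsGen.isClassFunction hfgen
  have hgen : IsGeneralizedCharacter G (indFun M f) := isGeneralized_indFun M hfgen
  obtain ⟨a, b, ha, hb, hab⟩ := exists_coeff hη hgen (h.tau_zero_v hfc hf0 hf1) (c := 0) (by
    rw [classInner_indFun_left M _ (fun _ _ => rfl), hf, testFn, classInner_sub_left,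
      classInner_smul_left, hS.member_inner_one hB.mem, hS.member_inner_one hΦ]
    simp)
  obtain ⟨y, hy⟩ := Char.classInner_generalized_int hgen (sirr_conj hB.sirr).isGeneralized
  have hζ' := OddChars.inducedIrrAbove_conj_mem hB.mem
  have hζne := h.zeta_ne hμ hη hB
  have hdiff : classInner (indFun M f) (indFun M (ζ - Cfsg.conjFun ζ)) = (n : ℂ) := by
    have hgc : IsClassFunction ↥M (ζ - Cfsg.conjFun ζ) :=
      IsGen.isClassFunction (isGeneralized_sub (member_gen hB.mem) (member_gen hζ'))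
    rw [inner_ind h.dade hgc (h.kin_supp (fun x hx => by
      simp [Cfsg.conjFun, h.member_off hB.mem hx]) (by simp [Cfsg.conjFun, hB.one]))
      (h.kin_supp hf0 hf1), hf, testFn, classInner_sub_left, classInner_smul_left,
      classInner_sub_right, classInner_sub_right, classInner_irr_self hB.irr,
      classInner_irr_ne hB.irr (Coherence.isIrr_conjFun hB.irr) hζne.symm,
      hS.member_orth hΦ hB.mem hne, hS.member_orth hΦ hζ' hne']
    ring
  have hy' : classInner (indFun M f) χ = ((n + y : ℤ) : ℂ) := by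
    rw [hB.tau, classInner_sub_right, hy] at hdiff
    push_cast
    linear_combination hdiff
  have hnorm : classInner (indFun M f) (indFun M f) = ((n ^ 2 + N : ℕ) : ℂ) := by
    rw [inner_ind h.dade hfc (h.kin_supp hf0 hf1) (h.kin_supp hf0 hf1), hf, testFn,
      classInner_sub_sub, classInner_smul_left, classInner_smul_left, classInner_smul_right,
      classInner_smul_right, classInner_irr_self hB.irr, hN, hS.member_orth hΦ hB.mem hne,
      hS.member_orth hB.mem hΦ hne.symm, map_natCast]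
    push_cast
    ring
  refine ⟨y, a, b, ha, hb, fun φ ψ => by rw [hab, sub_zero], hy, hy', hnorm, ?_⟩
  have hN' : classInner (indFun M f) (indFun M f) = (((n ^ 2 + N : ℕ) : ℤ) : ℂ) := by
    rw [hnorm]; norm_cast
  have hcc := h.chi_conj hμ hη hB
  have hbes := grid_bessel h.selfNorm hη (fun φ ψ => a φ + b ψ)
    (fun φ ψ => by rw [hab, sub_zero]) (Finset.univ : Finset (ULift.{0} Bool))
    (fun i => if i.down then χ else Cfsg.conjFun χ) (fun i => if i.down then n + y else y)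
    (by
      rintro ⟨i⟩ - ⟨j⟩ -
      cases i <;> cases j <;> simp [hB.sirr.inner_self, (sirr_conj hB.sirr).inner_self, hcc,
        Coherence.inner_eq_zero_comm hcc])
    (by
      rintro ⟨i⟩ - ω
      cases i <;> simp [hB.orth, h.conj_orth hμ hη hB])
    (by
      rintro ⟨i⟩ -
      cases i <;> simp [hy, hy']) hN'
  rw [← Equiv.ulift.symm.sum_comp, Fintype.sum_bool] at hbes
  simpa [add_assoc] using hbes

/-- For a column the image of `d ζ - colSum μ ψ` is congruent to a shifted column. -/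
theorem col_congr {ψ : Right W₁ W₂} (hψ : ψ.1 ≠ 1) :
    ∃ Θ : G → ℂ, IsGeneralizedCharacter G Θ ∧ indFun M (testFn ζ (d ψ) (colSum μ ψ)) =
      -((δ ψ : ℂ) • (colSum η ψ - colSum η (rightOne : Right W₁ W₂) + yFun ζ) +
        (Nat.card W₁ : ℂ) • Θ) := by
  obtain ⟨n, hn⟩ := hμ.deg_mod ψ
  set Θ := indFun M (alpha μ δ ζ n leftOne ψ) - (δ ψ : ℂ) • (η ψ.1 - η 1) with hΘ
  refine ⟨Θ, isGeneralized_sub (isGeneralized_indFun M (h.alpha_gen hμ hB.irr n leftOne ψ))
    (isGeneralized_intCast_smul _ (isGeneralized_sub (eta_isGeneralized hη _)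
      (eta_isGeneralized hη _))), ?_⟩
  have hsum : ∑ φ : Left W₁ W₂, indFun M (alpha μ δ ζ n φ ψ) =
      (Nat.card W₁ : ℂ) • Θ + (δ ψ : ℂ) • (colSum η ψ - colSum η (rightOne : Right W₁ W₂)) := by
    rw [Finset.sum_congr rfl fun φ _ => sub_eq_iff_eq_add.1 (h.tau_alpha hμ hη hψ n φ (ζ := ζ)),
      Finset.sum_add_distrib, Finset.sum_const, Finset.card_univ, card_left h.selfNorm,
      ← hΘ, ← Nat.cast_smul_eq_nsmul ℂ]
    simp only [colSum, mul_rightOne, Finset.smul_sum, smul_sub, Finset.sum_sub_distrib]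
  have halpha : ∑ φ : Left W₁ W₂, alpha μ δ ζ n φ ψ = colSum μ ψ -
      (δ ψ : ℂ) • indFun (kin M) (fun _ => (1 : ℂ)) -
      ((n : ℂ) * (Nat.card W₁ : ℂ)) • ζ := by
    rw [h.ind_one_eq hμ hη]
    simp only [alpha, colSum, mul_rightOne, Finset.sum_sub_distrib, Finset.smul_sum,
      Finset.sum_const, Finset.card_univ, card_left h.selfNorm]
    rw [mul_comm (n : ℂ), ← smul_smul, ← Nat.cast_smul_eq_nsmul ℂ]
  rw [← Char.indFun_sum, halpha] at hsum
  have hd : (d ψ : ℂ) = (δ ψ : ℂ) + (n : ℂ) * (Nat.card W₁ : ℂ) := by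
    have e : (d ψ : ℂ) - (δ ψ : ℂ) = (n : ℂ) * (Nat.card W₁ : ℂ) := by exact_mod_cast hn
    linear_combination e
  simp only [yFun, testFn, indFun_sub, indFun_smul, hd] at hsum ⊢
  funext g
  have e := congrFun hsum g
  simp only [Pi.sub_apply, Pi.add_apply, Pi.smul_apply, Pi.neg_apply, smul_eq_mul] at e ⊢
  linear_combination -e

/-- The coefficients of the image of `Ind 1 - ζ`. -/
theorem y_coeff :
    ∃ (y : ℤ) (a : Left W₁ W₂ → ℤ) (b : Right W₁ W₂ → ℤ), a leftOne = 1 ∧ b rightOne = 1 ∧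
      (∀ φ ψ, classInner (yFun ζ) (η (φ.1 * ψ.1)) = ((a φ + b ψ - 1 : ℤ) : ℂ)) ∧
      classInner (yFun ζ) χ = (y : ℂ) ∧
      classInner (yFun ζ) (Cfsg.conjFun χ) = ((y + 1 : ℤ) : ℂ) ∧
      classInner (yFun ζ) (yFun ζ) = ((Nat.card W₁ + 1 : ℕ) : ℂ) ∧
      (∑ φ, ∑ ψ, (a φ + b ψ - 1) ^ 2) + (y ^ 2 + (y + 1) ^ 2) ≤ (Nat.card W₁ : ℤ) + 1 := by
  have hS := h.degSys hμ hη
  set I := indFun (kin M) (fun _ => (1 : ℂ)) with hI
  set f := I - ζ with hf
  have hfgen : IsGeneralizedCharacter ↥M f := isGeneralized_sub h.ind_one_gen (member_gen hB.mem)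
  have hf0 : ∀ x, x ∉ kin M → f x = 0 := fun x hx => by
    simp [hf, hI, h.member_off hB.mem hx, indFun_apply_of_normal _ _ hx]
  have hf1 : f 1 = 0 := by simp [hf, hI, hB.one, h.ind_one_apply_one]
  have hfc := IsGen.isClassFunction hfgen
  have hgen : IsGeneralizedCharacter G (indFun M f) := isGeneralized_indFun M hfgen
  have hI1 : classInner I (fun _ => 1) = 1 := by
    rw [hI, classInner_indFun_left _ _ (fun _ _ => rfl)]
    exact classInner_irr_self isIrrCharacter_one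
  obtain ⟨a, b, ha, hb, hab⟩ := exists_coeff hη hgen (h.tau_zero_v hfc hf0 hf1) (c := 1) (by
    rw [classInner_indFun_left M _ (fun _ _ => rfl), hf, classInner_sub_left,
      hS.member_inner_one hB.mem, hI1]
    simp)
  obtain ⟨y, hy⟩ := Char.classInner_generalized_int hgen hB.sirr.isGeneralized
  have hζ' := OddChars.inducedIrrAbove_conj_mem hB.mem
  have hζne := h.zeta_ne hμ hη hB
  have hy' : classInner (indFun M f) (Cfsg.conjFun χ) = ((y + 1 : ℤ) : ℂ) := by
    have hgc : IsClassFunction ↥M (ζ - Cfsg.conjFun ζ) :=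
      IsGen.isClassFunction (isGeneralized_sub (member_gen hB.mem) (member_gen hζ'))
    have e := inner_ind h.dade hgc (h.kin_supp (fun x hx => by
      simp [Cfsg.conjFun, h.member_off hB.mem hx]) (by simp [Cfsg.conjFun, hB.one]))
      (h.kin_supp hf0 hf1)
    rw [hB.tau, classInner_sub_right, hy, hf, classInner_sub_left, classInner_sub_right,
      classInner_sub_right, hI, h.ind_one_member hμ hη hB.mem, h.ind_one_member hμ hη hζ',
      classInner_irr_self hB.irr,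
      classInner_irr_ne hB.irr (Coherence.isIrr_conjFun hB.irr) hζne.symm] at e
    rw [hf]
    push_cast
    linear_combination -e
  have hnorm : classInner (indFun M f) (indFun M f) = ((Nat.card W₁ + 1 : ℕ) : ℂ) := by
    rw [inner_ind h.dade hfc (h.kin_supp hf0 hf1) (h.kin_supp hf0 hf1), hf, classInner_sub_sub,
      classInner_irr_self hB.irr, h.ind_one_member hμ hη hB.mem,
      Coherence.inner_eq_zero_comm (h.ind_one_member hμ hη hB.mem), hI, h.ind_one_eq hμ hη,
      h.col_inner hμ, if_pos rfl]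
    push_cast
    ring
  refine ⟨y, a, b, ha, hb, hab, hy, hy', hnorm, ?_⟩
  have hN' : classInner (indFun M f) (indFun M f) = (((Nat.card W₁ + 1 : ℕ) : ℤ) : ℂ) := by
    rw [hnorm]; norm_cast
  have hcc := h.chi_conj hμ hη hB
  have hbes := grid_bessel h.selfNorm hη (fun φ ψ => a φ + b ψ - 1) hab
    (Finset.univ : Finset (ULift.{0} Bool))
    (fun i => if i.down then χ else Cfsg.conjFun χ) (fun i => if i.down then y else y + 1)
    (by
      rintro ⟨i⟩ - ⟨j⟩ -
      cases i <;> cases j <;> simp [hB.sirr.inner_self, (sirr_conj hB.sirr).inner_self, hcc,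
        Coherence.inner_eq_zero_comm hcc])
    (by
      rintro ⟨i⟩ - ω
      cases i <;> simp [hB.orth, h.conj_orth hμ hη hB])
    (by
      rintro ⟨i⟩ -
      cases i <;> simp [hy, hy']) hN'
  rw [← Equiv.ulift.symm.sum_comp, Fintype.sum_bool] at hbes
  simpa [add_assoc] using hbes

/-- The dichotomy: case A for `χ` or `- conj χ`, or a column of large norm modulo `|W₁|`. -/
theorem dichotomy :
    CaseA η ζ χ ∨ CaseA η ζ (-Cfsg.conjFun χ) ∨
      ∃ j : Right W₁ W₂, j.1 ≠ 1 ∧ ∀ (y : ℤ) (x : Left W₁ W₂ → Right W₁ W₂ → ℤ),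
        (∀ φ ψ, classInner (indFun M (testFn ζ (d j) (colSum μ j))) (η (φ.1 * ψ.1)) =
          (x φ ψ : ℂ)) → (Nat.card W₁ : ℤ) < ∑ φ, ∑ ψ, x φ ψ ^ 2 := by
  obtain ⟨y, a, b, ha, hb, hab, hy, hy', hnorm, hle⟩ := h.y_coeff hμ hη hB
  have hE : ∑ φ, ∑ ψ, (a φ + b ψ - 1) ^ 2 ≤ (Fintype.card (Left W₁ W₂) : ℤ) := by
    rw [card_left h.selfNorm]
    have : 1 ≤ y ^ 2 + (y + 1) ^ 2 := by nlinarith [sq_nonneg (2 * y + 1)]
    omega
  have hI : 3 ≤ Fintype.card (Left W₁ W₂) := by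
    rw [card_left h.selfNorm]; exact h.card_W₁_three
  by_cases hall : ∀ φ, a φ = 1
  · have : Nonempty (Left W₁ W₂) := ⟨leftOne⟩
    have hb0 := columns_zero (rightOne : Right W₁ W₂) a b hb hall hE
    have hx : ∀ φ ψ, a φ + b ψ - 1 = if ψ = rightOne then 1 else 0 := fun φ ψ => by
      split_ifs with e
      · rw [hall, e, hb]; norm_num
      · rw [hall, hb0 ψ e]; norm_num
    have hsum : ∑ φ, ∑ ψ, (a φ + b ψ - 1) ^ 2 = (Nat.card W₁ : ℤ) := by
      simp [hx, card_left h.selfNorm]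
    rw [hsum] at hle
    have hy2 : y = -1 ∨ y = 0 := by
      have h1 : y * (y + 1) ≤ 0 := by nlinarith
      rcases lt_trichotomy y (-1) with h2 | h2 | h2
      · nlinarith
      · exact Or.inl h2
      · exact Or.inr (by nlinarith)
    have hcol : classInner (yFun ζ) (colSum η (rightOne : Right W₁ W₂)) =
        (Nat.card W₁ : ℂ) := by
      simp only [colSum, classInner_sum_right, hab, hx, if_true]
      simp [card_left h.selfNorm]
    have hcc : classInner (colSum η (rightOne : Right W₁ W₂))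
        (colSum η (rightOne : Right W₁ W₂)) = (Nat.card W₁ : ℂ) := by
      simp only [colSum, classInner_sum_left, classInner_sum_right, hη.orthonormal, mul_rightOne,
        Subtype.val_inj]
      simp [Finset.sum_ite_eq, card_left h.selfNorm]
    have key : ∀ {α : G → ℂ}, Coherence.SIrr G α → (∀ ω, classInner α (η ω) = 0) →
        classInner (yFun ζ) α = -1 → CaseA η ζ α := by
      intro α hs ho he
      have hcα : classInner α (colSum η (rightOne : Right W₁ W₂)) = 0 := by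
        simp [colSum, classInner_sum_right, ho]
      rw [CaseA, ← sub_eq_zero, ← Char.classInner_self_eq_zero]
      set C := colSum η (rightOne : Right W₁ W₂) - α with hC
      have hCC : classInner C C = (Nat.card W₁ : ℂ) + 1 := by
        rw [hC, classInner_sub_sub, hcc, hcα, Coherence.inner_eq_zero_comm hcα, hs.inner_self]
        ring
      have hYC : classInner (yFun ζ) C = (Nat.card W₁ : ℂ) + 1 := by
        rw [hC, classInner_sub_right, hcol, he]; ring
      rw [classInner_sub_sub, hnorm, hYC, hCC, ← classInner_conj_symm (yFun ζ) C, hYC]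
      simp
    rcases hy2 with e | e
    · exact Or.inl (key hB.sirr hB.orth (by rw [hy, e]; norm_num))
    · refine Or.inr (Or.inl (key (sirr_conj hB.sirr).neg (fun ω => by
        rw [classInner_neg_left, h.conj_orth hμ hη hB, neg_zero]) ?_))
      rw [classInner_neg_right, hy', e]
      norm_num
  · push Not at hall
    obtain ⟨j, hj, hlarge⟩ := shift_large (leftOne : Left W₁ W₂) (rightOne : Right W₁ W₂) hI
      (by rw [card_right h.selfNorm]; exact h.card_W₂_three) a b ha hb hE hall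
    have hj' : j.1 ≠ 1 := fun e => hj (Subtype.ext e)
    refine Or.inr (Or.inr ⟨j, hj', fun z x hx => ?_⟩)
    obtain ⟨Θ, hΘ, heq⟩ := h.col_congr hμ hη hB hj'
    rw [← card_left h.selfNorm]
    refine hlarge x (-δ j) (by rcases hμ.sign j with e | e <;> rw [e] <;> norm_num) fun φ ψ => ?_
    obtain ⟨t, ht⟩ := Char.classInner_generalized_int hΘ (eta_isGeneralized hη (φ.1 * ψ.1))
    refine ⟨-t, ?_⟩
    have e := hx φ ψ
    rw [heq, classInner_neg_left, classInner_add_left, classInner_smul_left,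
      classInner_smul_left, classInner_add_left, classInner_sub_left, hab, ht] at e
    simp only [colSum, classInner_sum_left, hη.orthonormal,
      ← coords_apply h.selfNorm, (coords h.selfNorm).injective.eq_iff, Prod.mk.injEq] at e
    simp only [Finset.sum_ite_eq', ite_and, Finset.mem_univ, if_true] at e
    rw [card_left h.selfNorm]
    have e' : ((x φ ψ - -δ j * ((if ψ = j then 1 else 0) - (if ψ = rightOne then 1 else 0) +
        (a φ + b ψ - 1)) : ℤ) : ℂ) = (((Nat.card W₁ : ℕ) : ℤ) * -t : ℤ) := by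
      simp only [eq_comm (a := ψ)]
      push_cast at e ⊢
      linear_combination -e
    exact_mod_cast e'

end Degen

end Cfsg.Agent.OddFinal
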