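import Cfsg.Agent.OddFinal.TwoChar

/-!
# A member whose derived subgroup is a trivial intersection set

For members of Type III and IV the characters `ζ` of degree `q` of `M / K` enter: the image of
`q 1_N - ζ`, `N = M'`, has coefficient `a` at every `η φ` and `1 - a` at every `η ψ`, with
`a = 0` or `a = 1`, and `a = 1` if `q < p`.
-/

set_option autoImplicit false
set_option linter.unusedSectionVars false

namespace Cfsg.Agent.OddFinal

open Cfsg Char CyclicTI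
open scoped ComplexConjugate
open scoped _root_.Classical

universe u

variable {G : Type u} [Group G] [Fintype G]

/-- What the argument uses about the derived subgroup `N` of a member of Type III or IV. -/
structure IsDerived (M W₁ W₂ K N : Subgroup G) [Fintype ↥M] (d : ℕ)
    (μ : (↥(W₁ ⊔ W₂) →* ℂˣ) → ↥M → ℂ) (π : ↥M → ℂ) (Z : Finset (↥M → ℂ)) : Prop where
  K_le : K ≤ N
  N_le : N ≤ M
  normal : M ≤ Subgroup.normalizer (N : Set G)
  card_eq : Nat.card M = Nat.card W₁ * Nat.card N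
  dade : DadeHypothesis (sharp N ∪ conjIn M (vSet W₁ W₂)) M (fun _ => ⊥)
  disjoint : Disjoint (sharp N) (conjIn M (vSet W₁ W₂))
  irr : ∀ ζ ∈ Z, IsIrrCharacter ↥M ζ
  deg : ∀ ζ ∈ Z, ζ 1 = (Nat.card W₁ : ℂ)
  supp : ∀ ζ ∈ Z, ∀ x : M, (x : G) ∉ N → ζ x = 0
  orth : ∀ ζ ∈ Z, ∀ [Fintype ↥N], ∑ k : N, ζ ⟨k.1, N_le k.2⟩ = 0
  not_mu : ∀ ζ ∈ Z, ∀ ω, μ ω ≠ ζ
  conj_mem : ∀ ζ ∈ Z, conjFun ζ ∈ Z
  res_mu : ∀ (φ : Left W₁ W₂) (ψ : Right W₁ W₂), ψ.1 ≠ 1 → ∀ x : M, (x : G) ∈ N →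
    μ (φ.1 * ψ.1) x = μ ψ.1 x
  pi_eq : π = (fun _ => 1) + ∑ ζ ∈ Z, ζ
  card_Z : Nat.card W₁ * Z.card + 1 = d

variable {M W₁ W₂ K N : Subgroup G} [Fintype ↥M] {d : ℕ} {X : Finset (↥M → ℂ)}
  {μ : (↥(W₁ ⊔ W₂) →* ℂˣ) → ↥M → ℂ} {η : (↥(W₁ ⊔ W₂) →* ℂˣ) → G → ℂ} {A : Set G}
  {π : ↥M → ℂ} {Z : Finset (↥M → ℂ)}

/-- The image of `q 1_N - ζ`. -/
noncomputable def derY (M W₁ N : Subgroup G) (ζ : ↥M → ℂ) : G → ℂ :=
  indFun M (kerChar M W₁ N 1 - ζ)

theorem Ctx.sq_sum_le {B : Set G} (h : Ctx M W₁ W₂ K d X μ η B) {ι : Type*} [Fintype ι]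
    (e : ι → ↥(W₁ ⊔ W₂) →* ℂˣ) (he : Function.Injective e) {Y : G → ℂ}
    (hY : IsGeneralizedCharacter G Y) (c : ι → ℤ) (hc : ∀ i, classInner Y (η (e i)) = c i)
    {n : ℤ} (hn : classInner Y Y = n) :
    ∑ i, c i ^ 2 ≤ n ∧ (∑ i, c i ^ 2 = n → Y = ∑ i, (c i : ℂ) • η (e i)) := by
  obtain ⟨-, hnorm⟩ := h.residual e he Y c hc
  set R := (∑ k, (c k : ℂ) • η (e k)) - Y with hR
  have hRg : IsGeneralizedCharacter G R :=
    isGeneralized_sub (isGeneralized_sum _ _ fun x _ => isGeneralized_intCast_smul _ (h.eta_gen _))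
      hY
  obtain ⟨m, -, -, hm⟩ := IsGen.exists_mult hRg
  rw [hn, hm] at hnorm
  have h1 : n = (∑ ψ, m ψ ^ 2) + ∑ i, c i ^ 2 := by exact_mod_cast hnorm
  have h2 : (0 : ℤ) ≤ ∑ ψ, m ψ ^ 2 := Finset.sum_nonneg fun _ _ => sq_nonneg _
  refine ⟨by linarith, fun e' => ?_⟩
  have h3 : classInner R R = 0 := by
    rw [hm, show (∑ ψ, m ψ ^ 2) = (0 : ℤ) by linarith, Int.cast_zero]
  rw [classInner_self_eq_zero, hR, sub_eq_zero] at h3
  exact h3.symm

theorem inner_ind_one (f : ↥M → ℂ) :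
    classInner (indFun M f) (fun _ => 1) = classInner f (fun _ => 1) :=
  classInner_indFun_left M f (fun _ _ => rfl)

/-- The arithmetic of the pattern. -/
theorem pattern_derived {p q a b : ℤ} (hp : 3 ≤ p) (hq : 3 ≤ q)
    (h : (q - 1) * a ^ 2 + (p - 1) * b ^ 2 + (q - 1) * (p - 1) * (a + b - 1) ^ 2 ≤ q) :
    a + b = 1 ∧ (a = 0 ∨ a = 1) ∧ (q + 1 < p → a = 1) := by
  have n1 : 0 ≤ (q - 1) * a ^ 2 := mul_nonneg (by linarith) (sq_nonneg _)
  have n2 : 0 ≤ (p - 1) * b ^ 2 := mul_nonneg (by linarith) (sq_nonneg _)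
  have hab : a + b = 1 := by
    by_contra hne
    have h1 : 1 ≤ (a + b - 1) ^ 2 := by
      have := sq_pos_of_ne_zero (show a + b - 1 ≠ 0 by omega); omega
    have h2 : (q - 1) * 2 ≤ (q - 1) * (p - 1) := mul_le_mul_of_nonneg_left (by linarith) (by linarith)
    nlinarith [mul_le_mul_of_nonneg_left h1 (show 0 ≤ (q - 1) * (p - 1) by nlinarith)]
  obtain rfl : b = 1 - a := by omega
  rw [show a + (1 - a) - 1 = 0 by ring] at h
  refine ⟨hab, ?_, fun hqp => ?_⟩
  · by_contra hne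
    have h1 : 1 ≤ a ^ 2 := by
      have := sq_pos_of_ne_zero (show a ≠ 0 by omega); omega
    have h2 : 1 ≤ (1 - a) ^ 2 := by
      have := sq_pos_of_ne_zero (show 1 - a ≠ 0 by omega); omega
    nlinarith [mul_le_mul_of_nonneg_left h1 (show (0 : ℤ) ≤ q - 1 by linarith),
      mul_le_mul_of_nonneg_left h2 (show (0 : ℤ) ≤ p - 1 by linarith)]
  · by_contra hne
    have h2 : 1 ≤ (1 - a) ^ 2 := by
      have := sq_pos_of_ne_zero (show 1 - a ≠ 0 by omega); omega
    nlinarith [mul_le_mul_of_nonneg_left h2 (show (0 : ℤ) ≤ p - 1 by linarith)]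

variable (hD : IsDerived M W₁ W₂ K N d μ π Z)

include hD

theorem IsDerived.isClassFunction_ker : IsClassFunction ↥M (kerChar M W₁ N 1) := fun g k => by
  have hiff : ((k * g * k⁻¹ : ↥M) : G) ∈ N ↔ (g : G) ∈ N := by
    simp only [Subgroup.coe_mul, Subgroup.coe_inv]
    exact (Subgroup.mem_normalizer_iff.1 (hD.normal k.2) g).symm
  simp only [kerChar, hiff]

theorem IsDerived.inner_ker (F : ↥M → ℂ) :
    classInner F (kerChar M W₁ N 1) =
      (Nat.card N : ℂ)⁻¹ * ∑ k : N, F ⟨k.1, hD.N_le k.2⟩ := by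
  have hc : (Nat.card M : ℂ) = (Nat.card W₁ : ℂ) * Nat.card N := by
    rw [hD.card_eq]; push_cast; ring
  have hne : (Nat.card W₁ : ℂ) ≠ 0 := Nat.cast_ne_zero.2 Nat.card_pos.ne'
  have hsum : ∑ x : M, F x * conj (kerChar M W₁ N 1 x) =
      (Nat.card W₁ : ℂ) * ∑ k : N, F ⟨k.1, hD.N_le k.2⟩ := by
    rw [Finset.mul_sum, ← Finset.sum_subset
      (Finset.subset_univ (Finset.univ.filter fun x : M => (x : G) ∈ N))
      fun x _ hx => by
        rw [show kerChar M W₁ N 1 x = 0 from if_neg (by simpa using hx), map_zero, mul_zero]]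
    refine Finset.sum_bij' (fun (x : ↥M) hx => (⟨(x : G), (Finset.mem_filter.1 hx).2⟩ : ↥N))
      (fun k _ => (⟨k.1, hD.N_le k.2⟩ : ↥M)) (by simp) (by simp) (by simp) (by simp) ?_
    intro x hx
    rw [show kerChar M W₁ N 1 x = _ from if_pos (Finset.mem_filter.1 hx).2, map_natCast, mul_comm,
      mul_one]
  simp only [classInner]
  rw [hsum, hc]
  field_simp

theorem IsDerived.ker_inner (F : ↥M → ℂ) :
    classInner (kerChar M W₁ N 1) F =
      conj ((Nat.card N : ℂ)⁻¹ * ∑ k : N, F ⟨k.1, hD.N_le k.2⟩) := by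
  rw [← classInner_conj_symm, hD.inner_ker]

theorem IsDerived.inner_ker_ker :
    classInner (kerChar M W₁ N 1) (kerChar M W₁ N 1) = (Nat.card W₁ : ℂ) := by
  rw [hD.inner_ker, Finset.sum_congr rfl fun (k : ↥N) _ =>
    show kerChar M W₁ N 1 ⟨k.1, hD.N_le k.2⟩ = ((Nat.card W₁ * 1 : ℕ) : ℂ) from if_pos k.2,
    Finset.sum_const, Finset.card_univ, nsmul_eq_mul, Nat.card_eq_fintype_card, ← mul_assoc,
    inv_mul_cancel₀ (Nat.cast_ne_zero.2 Fintype.card_ne_zero), one_mul, mul_one]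

theorem IsDerived.isGeneralized_ker : IsGeneralizedCharacter ↥M (kerChar M W₁ N 1) := by
  have : kerChar M W₁ N 1 = indFun (N.subgroupOf M) (fun _ => (1 : ℂ)) := by
    funext x
    have hcard : Nat.card (N.subgroupOf M) = Nat.card N :=
      Nat.card_congr (Subgroup.subgroupOfEquivOfLe hD.N_le).toEquiv
    have hmem : ∀ y : M, y⁻¹ * x * y ∈ N.subgroupOf M ↔ (x : G) ∈ N := fun y => by
      rw [Subgroup.mem_subgroupOf, Subgroup.coe_mul, Subgroup.coe_mul, Subgroup.coe_inv]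
      have := Subgroup.mem_normalizer_iff.1 (hD.normal (M.inv_mem y.2)) (x : G)
      rw [inv_inv] at this
      exact this.symm
    rw [indFun_apply, hcard]
    by_cases hx : (x : G) ∈ N
    · rw [kerChar, if_pos hx, Finset.sum_congr rfl fun y _ =>
        extendByZero_of_mem _ _ ((hmem y).2 hx), Finset.sum_const, Finset.card_univ, nsmul_eq_mul,
        mul_one, mul_one, ← Nat.card_eq_fintype_card, hD.card_eq, Nat.cast_mul]
      have : (Nat.card N : ℂ) ≠ 0 := Nat.cast_ne_zero.2 Nat.card_pos.ne'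
      field_simp
    · rw [kerChar, if_neg hx, Finset.sum_congr rfl fun y _ =>
        extendByZero_of_not_mem _ _ (fun hh => hx ((hmem y).1 hh)), Finset.sum_const_zero,
        mul_zero]
  rw [this]
  exact isGeneralized_indFun _ (isGeneralized_of_isCharacter isCharacter_one)

theorem IsDerived.sum_one : classInner (kerChar M W₁ N 1) (fun _ => 1) = 1 := by
  rw [hD.ker_inner, Finset.sum_const, Finset.card_univ, nsmul_eq_mul, mul_one,
    Nat.card_eq_fintype_card, inv_mul_cancel₀ (Nat.cast_ne_zero.2 Fintype.card_ne_zero), map_one]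

theorem IsDerived.zeta_one {ζ : ↥M → ℂ} (hζ : ζ ∈ Z) :
    classInner ζ (fun _ => 1) = 0 := by
  refine classInner_irr_ne (hD.irr ζ hζ) isIrrCharacter_one fun e => ?_
  have h1 := hD.orth ζ hζ
  rw [e] at h1
  simp [Finset.card_univ] at h1

theorem IsDerived.ker_zeta {ζ : ↥M → ℂ} (hζ : ζ ∈ Z) :
    classInner (kerChar M W₁ N 1) ζ = 0 ∧ classInner ζ (kerChar M W₁ N 1) = 0 := by
  constructor
  · rw [hD.ker_inner, hD.orth ζ hζ, mul_zero, map_zero]
  · rw [hD.inner_ker, hD.orth ζ hζ, mul_zero]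

theorem IsDerived.zeta_zeta {ζ ζ' : ↥M → ℂ} (hζ : ζ ∈ Z) (hζ' : ζ' ∈ Z) :
    classInner ζ ζ' = if ζ = ζ' then 1 else 0 :=
  classInner_irr (hD.irr ζ hζ) (hD.irr ζ' hζ')

/-- The test function `q 1_N - ζ`. -/
theorem IsDerived.base_spec {ζ : ↥M → ℂ} (hζ : ζ ∈ Z) :
    IsClassFunction ↥M (kerChar M W₁ N 1 - ζ) ∧
      IsGeneralizedCharacter ↥M (kerChar M W₁ N 1 - ζ) ∧
      (∀ x : M, (x : G) ∉ sharp N → (kerChar M W₁ N 1 - ζ) x = 0) ∧
      classInner (kerChar M W₁ N 1 - ζ) (fun _ => 1) = 1 := by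
  have hg := isGeneralized_sub hD.isGeneralized_ker
    (isGeneralized_of_isCharacter (IsIrr.isCharacter (hD.irr ζ hζ)))
  refine ⟨IsGen.isClassFunction hg, hg, fun x hx => ?_, ?_⟩
  · rw [Pi.sub_apply]
    by_cases hN : (x : G) ∈ N
    · have hx1 : x = 1 := by
        by_contra hne
        exact hx ⟨hN, fun e => hne (Subtype.ext e)⟩
      rw [kerChar, if_pos hN, hx1, hD.deg ζ hζ, mul_one, sub_self]
    · rw [kerChar, if_neg hN, hD.supp ζ hζ x hN, sub_self]
  · rw [classInner_sub_left, hD.sum_one, hD.zeta_one hζ, sub_zero]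

theorem IsDerived.big {f : ↥M → ℂ} (hf : ∀ x : M, (x : G) ∉ sharp N → f x = 0) :
    ∀ x : M, (x : G) ∉ sharp N ∪ conjIn M (vSet W₁ W₂) → f x = 0 :=
  fun x hx => hf x fun h' => hx (Or.inl h')

theorem IsDerived.ind_eq_zero {f : ↥M → ℂ} (hf : ∀ x : M, (x : G) ∉ sharp N → f x = 0) {g : G}
    (hg : g ∉ conjAll (sharp N)) : indFun M f g = 0 :=
  indFun_eq_zero_of hf hg

theorem IsDerived.sharp_disjoint :
    Disjoint (conjAll (sharp N)) (conjAll (vSet W₁ W₂)) := by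
  rw [Set.disjoint_left]
  rintro g ⟨x, a, ha, rfl⟩ ⟨y, w, hw, he⟩
  have hwM : w ∈ conjIn M (vSet W₁ W₂) := ⟨1, M.one_mem, w, hw, by group⟩
  have he' : w = (y⁻¹ * x) * a * (y⁻¹ * x)⁻¹ := by
    rw [show w = y⁻¹ * (y * w * y⁻¹) * y by group, ← he]; group
  have hm := mem_of_conj hD.dade (Or.inl ha) (x := y⁻¹ * x) (he' ▸ Or.inr hwM)
  have hwK : w ∈ sharp N := by
    refine ⟨?_, fun h1 => ha.2 ?_⟩
    · rw [he']
      exact (Subgroup.mem_normalizer_iff.1 (hD.normal hm) a).1 ha.1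
    · rw [Set.mem_singleton_iff] at h1 ⊢
      rw [h1, eq_comm, conj_eq_one_iff] at he'
      exact he'
  exact Set.disjoint_left.1 hD.disjoint hwK hwM

variable (h : Ctx M W₁ W₂ K d X μ η (conjAll A))
  (hNA : Disjoint (conjAll (sharp N)) (conjAll A))

include h

theorem IsDerived.mu_zeta (ω : ↥(W₁ ⊔ W₂) →* ℂˣ) {ζ : ↥M → ℂ} (hζ : ζ ∈ Z) :
    classInner (μ ω) ζ = 0 ∧ classInner ζ (μ ω) = 0 :=
  ⟨classInner_irr_ne (h.side.irr_mu _) (hD.irr ζ hζ) (hD.not_mu ζ hζ ω),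
    classInner_irr_ne (hD.irr ζ hζ) (h.side.irr_mu _) (Ne.symm (hD.not_mu ζ hζ ω))⟩

theorem IsDerived.mu_ker (φ : Left W₁ W₂) {ψ : Right W₁ W₂} (hψ : ψ.1 ≠ 1) :
    classInner (μ (φ.1 * ψ.1)) (kerChar M W₁ N 1) = 0 := by
  have hq : (Nat.card W₁ : ℂ) ≠ 0 := Nat.cast_ne_zero.2 Nat.card_pos.ne'
  have hs : ∑ k : ↥N, colChar μ ψ ⟨k.1, hD.N_le k.2⟩ =
      (Nat.card W₁ : ℂ) * ∑ k : ↥N, μ (φ.1 * ψ.1) ⟨k.1, hD.N_le k.2⟩ := by
    rw [Finset.mul_sum]
    refine Finset.sum_congr rfl fun k _ => ?_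
    rw [colChar, Finset.sum_apply, Finset.sum_congr rfl fun φ' _ => hD.res_mu φ' ψ hψ _ k.2,
      Finset.sum_const, Finset.card_univ, h.card_left, nsmul_eq_mul, hD.res_mu φ ψ hψ _ k.2]
  have hzero : ∑ k : ↥N, colChar μ ψ ⟨k.1, hD.N_le k.2⟩ = 0 := by
    rw [← Finset.sum_subset
      (Finset.subset_univ (Finset.univ.filter fun k : ↥N => (k : G) ∈ K)) fun k _ hk => by
        rw [colChar, Finset.sum_apply, h.side.supp_sum ψ hψ _ (by simpa using hk)]]
    rw [Finset.sum_bij' (fun (k : ↥N) hk => (⟨(k : G), (Finset.mem_filter.1 hk).2⟩ : ↥K))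
      (fun k _ => (⟨k.1, hD.K_le k.2⟩ : ↥N)) (t := Finset.univ)
      (g := fun k : ↥K => colChar μ ψ ⟨k.1, h.side.K_le k.2⟩)
      (by simp) (by simp) (by simp) (by simp) (by simp)]
    simp only [colChar, Finset.sum_apply]
    rw [Finset.sum_comm]
    exact Finset.sum_eq_zero fun φ' _ => h.side.orth_mu φ' ψ hψ
  rw [hzero] at hs
  rw [hD.inner_ker, (mul_eq_zero.1 hs.symm).resolve_left hq, mul_zero]

include hNA

/-- The coefficients of an image from `sharp N`. -/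
theorem IsDerived.coeff {F : ↥M → ℂ} (hg : IsGeneralizedCharacter ↥M F)
    (hs : ∀ x : M, (x : G) ∉ sharp N → F x = 0) :
    (∀ (φ : Left W₁ W₂) (ψ : Right W₁ W₂),
      classInner (indFun M F) (η (φ.1 * ψ.1)) =
        classInner (indFun M F) (η φ.1) + classInner (indFun M F) (η ψ.1) -
          classInner F (fun _ => 1)) ∧
      (∀ φ φ' : Left W₁ W₂, φ.1 ≠ 1 → φ'.1 ≠ 1 →
        classInner (indFun M F) (η φ.1) = classInner (indFun M F) (η φ'.1)) ∧
      ∀ ψ ψ' : Right W₁ W₂, ψ.1 ≠ 1 → ψ'.1 ≠ 1 →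
        classInner (indFun M F) (η ψ.1) - classInner (indFun M F) (η ψ'.1) =
          classInner F (μ ψ.1) - classInner F (μ ψ'.1) := by
  have hc := IsGen.isClassFunction hg
  set Y := indFun M F with hY
  have hYc : IsClassFunction G Y := isClassFunction_indFun M _
  have hV : ∀ g ∈ conjAll (vSet W₁ W₂), Y g = 0 := fun g hg =>
    hD.ind_eq_zero hs (Set.disjoint_right.1 hD.sharp_disjoint hg)
  have hB : ∀ g ∈ conjAll A, Y g = 0 := fun g hg =>
    hD.ind_eq_zero hs (Set.disjoint_right.1 hNA hg)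
  refine ⟨fun φ ψ => ?_, fun φ φ' hφ hφ' => ?_, fun ψ ψ' hψ hψ' => ?_⟩
  · rw [eta_coeff h.fam hYc (fun w hw => hV w ⟨1, w, hw, by group⟩) φ ψ, hY,
      inner_ind_one]
  · have := h.row Y hYc hB hV φ φ' rightOne hφ hφ'
    rwa [show φ.1 * (rightOne : Right W₁ W₂).1 = φ.1 by ext w; simp [rightOne],
      show φ'.1 * (rightOne : Right W₁ W₂).1 = φ'.1 by ext w; simp [rightOne]] at this
  · have hone : ∀ ψ : Right W₁ W₂, (leftOne : Left W₁ W₂).1 * ψ.1 = ψ.1 := fun _ => by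
      ext w; simp [leftOne]
    have ht := h.side.tau_mu leftOne ψ ψ' hψ hψ'
    rw [hone, hone] at ht
    have hd : ∀ x : M, (x : G) ∉ sharp N ∪ conjIn M (vSet W₁ W₂) →
        (μ ψ.1 - μ ψ'.1) x = 0 := fun x hx => by
      have := h.side.supp_diff leftOne ψ ψ' hψ hψ' x fun hh => hx
        (hh.imp (fun hk => ⟨hD.K_le hk.1, hk.2⟩) id)
      rw [hone, hone] at this
      rw [Pi.sub_apply, this, sub_self]
    have hdc : IsClassFunction ↥M (μ ψ.1 - μ ψ'.1) := fun g k => by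
      simp only [Pi.sub_apply, isClassFunction_of_isIrr (h.side.irr_mu _) g k]
    rw [← classInner_sub_right, ← classInner_sub_right, ← ht, hY]
    exact inner_ind hD.dade hdc hd (hD.big hs)

theorem IsDerived.pattern :
    ∃ a : ℤ, (a = 0 ∨ a = 1) ∧ (Nat.card W₁ + 1 < Nat.card W₂ → a = 1) ∧ ∀ ζ ∈ Z,
      (∀ φ : Left W₁ W₂, φ.1 ≠ 1 → classInner (derY M W₁ N ζ) (η φ.1) = a) ∧
      ∀ ψ : Right W₁ W₂, ψ.1 ≠ 1 → classInner (derY M W₁ N ζ) (η ψ.1) = 1 - (a : ℂ) := by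
  obtain ⟨φ₀, hφ₀⟩ : ∃ φ : Left W₁ W₂, φ.1 ≠ 1 := by
    by_contra hh
    push_neg at hh
    have : Subsingleton (Left W₁ W₂) := ⟨fun x y => Subtype.ext ((hh x).trans (hh y).symm)⟩
    have h3 := h.three_le.1
    rw [← h.card_left] at h3
    have := Fintype.card_le_one_iff_subsingleton.2 this
    omega
  obtain ⟨ψ₀, hψ₀⟩ := h.exists_right
  have hq : (3 : ℤ) ≤ Nat.card W₁ := by exact_mod_cast h.three_le.1
  have hp : (3 : ℤ) ≤ Nat.card W₂ := by exact_mod_cast h.three_le.2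
  have hsum : ∀ a b : ℤ, ∑ x : Left W₁ W₂ × Right W₁ W₂,
      ((if x.1 = leftOne then 0 else a) + (if x.2 = rightOne then 0 else b) +
        if x.1 = leftOne ∧ x.2 = rightOne then 1
        else if x.1 = leftOne ∨ x.2 = rightOne then 0 else -1) ^ 2 =
      1 + ((Nat.card W₁ : ℤ) - 1) * a ^ 2 + ((Nat.card W₂ : ℤ) - 1) * b ^ 2 +
        ((Nat.card W₁ : ℤ) - 1) * ((Nat.card W₂ : ℤ) - 1) * (a + b - 1) ^ 2 := by
    intro a b
    rw [Fintype.sum_prod_type, ← Finset.add_sum_erase _ _ (Finset.mem_univ leftOne)]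
    simp only [← Finset.add_sum_erase _ _ (Finset.mem_univ rightOne)]
    rw [Finset.sum_congr (s₁ := Finset.univ.erase (leftOne : Left W₁ W₂)) rfl
      (g := fun _ => a ^ 2 + ((Nat.card W₂ : ℤ) - 1) * (a + b - 1) ^ 2) fun x hx => ?_]
    · rw [Finset.sum_congr (s₁ := Finset.univ.erase (rightOne : Right W₁ W₂)) rfl
        (g := fun _ => b ^ 2) fun y hy => by simp [(Finset.mem_erase.1 hy).1]]
      simp only [Finset.sum_const, Finset.card_erase_of_mem (Finset.mem_univ _), Finset.card_univ,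
        h.card_left, h.card_right, nsmul_eq_mul, Nat.cast_sub (Nat.card_pos (α := W₁)),
        Nat.cast_sub (Nat.card_pos (α := W₂))]
      simp
      ring
    · have hx1 := (Finset.mem_erase.1 hx).1
      rw [Finset.sum_congr (s₁ := Finset.univ.erase (rightOne : Right W₁ W₂)) rfl
        (g := fun _ => (a + b - 1) ^ 2) fun y hy => by
          simp [hx1, (Finset.mem_erase.1 hy).1, sub_eq_add_neg]]
      simp only [Finset.sum_const, Finset.card_erase_of_mem (Finset.mem_univ _), Finset.card_univ,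
        h.card_right, nsmul_eq_mul, Nat.cast_sub (Nat.card_pos (α := W₂))]
      simp [hx1]
  have key : ∀ ζ ∈ Z, ∃ a : ℤ, (a = 0 ∨ a = 1) ∧ (Nat.card W₁ + 1 < Nat.card W₂ → a = 1) ∧
      (∀ φ : Left W₁ W₂, φ.1 ≠ 1 → classInner (derY M W₁ N ζ) (η φ.1) = a) ∧
      ∀ ψ : Right W₁ W₂, ψ.1 ≠ 1 → classInner (derY M W₁ N ζ) (η ψ.1) = 1 - (a : ℂ) := by
    intro ζ hζ
    obtain ⟨hc, hgen, hs, h1⟩ := hD.base_spec hζ
    obtain ⟨c1, c2, c3⟩ := hD.coeff h hNA hgen hs
    set Y := indFun M (kerChar M W₁ N 1 - ζ) with hY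
    have hYg : IsGeneralizedCharacter G Y := isGeneralized_indFun M hgen
    obtain ⟨a, ha⟩ := classInner_generalized_int hYg (h.eta_gen φ₀.1)
    obtain ⟨b, hb⟩ := classInner_generalized_int hYg (h.eta_gen ψ₀.1)
    have hA : ∀ φ : Left W₁ W₂, φ.1 ≠ 1 → classInner Y (η φ.1) = a := fun φ hφ =>
      (c2 φ φ₀ hφ hφ₀).trans ha
    have hB : ∀ ψ : Right W₁ W₂, ψ.1 ≠ 1 → classInner Y (η ψ.1) = b := fun ψ hψ => by
      have := c3 ψ ψ₀ hψ hψ₀
      rw [classInner_sub_left, classInner_sub_left,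
        ← classInner_conj_symm (μ ψ.1) (kerChar M W₁ N 1),
        ← classInner_conj_symm (μ ψ₀.1) (kerChar M W₁ N 1)] at this
      have e1 : ∀ ψ : Right W₁ W₂, (leftOne : Left W₁ W₂).1 * ψ.1 = ψ.1 := fun _ => by
        ext w; simp [leftOne]
      rw [← e1 ψ, ← e1 ψ₀, hD.mu_ker h leftOne hψ, hD.mu_ker h leftOne hψ₀,
        (hD.mu_zeta h _ hζ).2, (hD.mu_zeta h _ hζ).2, e1, e1, map_zero, sub_self, sub_eq_zero,
        hb] at this
      exact this
    have h11 : classInner Y (η 1) = 1 := by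
      rw [h.fam.map_one, hY, classInner_indFun_left M _ (fun _ _ => rfl)]; exact h1
    have hnn : classInner Y Y = (((Nat.card W₁ : ℤ) + 1 : ℤ) : ℂ) := by
      rw [hY, inner_ind hD.dade hc (hD.big hs) (hD.big hs)]
      simp only [classInner_sub_left, classInner_sub_right, hD.inner_ker_ker,
        (hD.ker_zeta hζ).1, (hD.ker_zeta hζ).2, classInner_irr_self (hD.irr ζ hζ)]
      push_cast; ring
    have hle := (h.sq_sum_le (fun x : Left W₁ W₂ × Right W₁ W₂ => x.1.1 * x.2.1)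
      (mulBij h.selfN).1 hYg (fun x => (if x.1 = leftOne then 0 else a) +
        (if x.2 = rightOne then 0 else b) + if x.1 = leftOne ∧ x.2 = rightOne then 1
        else if x.1 = leftOne ∨ x.2 = rightOne then 0 else -1) (fun x => by
      obtain ⟨φ, ψ⟩ := x
      rw [c1, h1]
      by_cases e1 : φ = leftOne <;> by_cases e2 : ψ = rightOne
      · subst e1 e2; simp [leftOne, rightOne, h11]
      · subst e1
        rw [hB ψ fun e => e2 (Subtype.ext e)]
        simp [leftOne, h11, e2]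
      · subst e2
        rw [hA φ fun e => e1 (Subtype.ext e)]
        simp [rightOne, h11, e1]
      · rw [hA φ fun e => e1 (Subtype.ext e), hB ψ fun e => e2 (Subtype.ext e)]
        simp [e1, e2, sub_eq_add_neg]) hnn).1
    rw [hsum] at hle
    obtain ⟨p1, p2, p3⟩ := pattern_derived hp hq (a := a) (b := b) (by linarith)
    refine ⟨a, p2, fun hlt => p3 (by omega), hA, fun ψ hψ => ?_⟩
    rw [show (1 : ℂ) - a = ((1 - a : ℤ) : ℂ) by push_cast; rfl, show 1 - a = b by omega]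
    exact hB ψ hψ
  rcases Z.eq_empty_or_nonempty with hZ | ⟨ζ₀, hζ₀⟩
  · exact ⟨1, Or.inr rfl, fun _ => rfl, by simp [hZ]⟩
  obtain ⟨a, a1, a2, a3, a4⟩ := key ζ₀ hζ₀
  refine ⟨a, a1, a2, fun ζ hζ => ?_⟩
  obtain ⟨a', -, -, b3, b4⟩ := key ζ hζ
  suffices a' = a by subst this; exact ⟨b3, b4⟩
  obtain ⟨hc, hgen, hs, -⟩ := hD.base_spec hζ
  obtain ⟨hc₀, hgen₀, hs₀, -⟩ := hD.base_spec hζ₀
  by_contra hne
  have hζne : ζ ≠ ζ₀ := fun e => hne (by
    have := b3 φ₀ hφ₀; rw [e, a3 φ₀ hφ₀] at this; exact_mod_cast this.symm)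
  set Y := derY M W₁ N ζ - derY M W₁ N ζ₀ with hY
  have hnn : classInner Y Y = ((2 : ℤ) : ℂ) := by
    rw [hY, derY, derY, ← Char.indFun_sub, sub_sub_sub_cancel_left,
      inner_ind hD.dade (fun g k => by
        simp only [Pi.sub_apply, isClassFunction_of_isIrr (hD.irr _ hζ) g k,
          isClassFunction_of_isIrr (hD.irr _ hζ₀) g k])
        (hD.big fun x hx => ?_) (hD.big fun x hx => ?_)]
    · simp only [classInner_sub_left, classInner_sub_right, hD.zeta_zeta hζ hζ,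
        hD.zeta_zeta hζ₀ hζ₀, hD.zeta_zeta hζ hζ₀, hD.zeta_zeta hζ₀ hζ, if_neg hζne,
        if_neg hζne.symm, if_true]
      norm_num
    all_goals
      have e1 := hs x hx
      have e2 := hs₀ x hx
      rw [Pi.sub_apply] at e1 e2 ⊢
      linear_combination e1 - e2
  have hYg : IsGeneralizedCharacter G Y :=
    isGeneralized_sub (isGeneralized_indFun M hgen) (isGeneralized_indFun M hgen₀)
  have h11 : classInner Y (η 1) = 0 := by
    rw [hY, classInner_sub_left, h.fam.map_one, derY, derY, inner_ind_one, inner_ind_one]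
    simp only [classInner_sub_left, hD.sum_one, hD.zeta_one hζ, hD.zeta_one hζ₀, sub_self]
  obtain ⟨c1, -, -⟩ := hD.coeff h hNA hgen hs
  obtain ⟨d1, -, -⟩ := hD.coeff h hNA hgen₀ hs₀
  have hu : ∀ φ : Left W₁ W₂, classInner Y (η φ.1) = ((if φ = leftOne then 0 else a' - a : ℤ) : ℂ) :=
    fun φ => by
      split_ifs with e
      · rw [e]; exact h11.trans Int.cast_zero.symm
      · rw [hY, classInner_sub_left, b3 φ fun e' => e (Subtype.ext e'),
          a3 φ fun e' => e (Subtype.ext e')]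
        push_cast; rfl
  have hv : ∀ ψ : Right W₁ W₂,
      classInner Y (η ψ.1) = ((if ψ = rightOne then 0 else a - a' : ℤ) : ℂ) := fun ψ => by
    split_ifs with e
    · rw [e]; exact h11.trans Int.cast_zero.symm
    · rw [hY, classInner_sub_left, b4 ψ fun e' => e (Subtype.ext e'),
        a4 ψ fun e' => e (Subtype.ext e')]
      push_cast; ring
  have hle := (h.sq_sum_le (fun x : Left W₁ W₂ × Right W₁ W₂ => x.1.1 * x.2.1)
    (mulBij h.selfN).1 hYg
    (fun x => (if x.1 = leftOne then 0 else a' - a) + if x.2 = rightOne then 0 else a - a')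
    (fun x => by
      have e1 := c1 x.1 x.2
      have e2 := d1 x.1 x.2
      rw [Int.cast_add, ← hu, ← hv, hY]
      simp only [derY, classInner_sub_left, hD.sum_one, hD.zeta_one hζ, hD.zeta_one hζ₀] at e1 e2 ⊢
      linear_combination e1 - e2) hnn).1
  have e3 : ∑ x : Left W₁ W₂ × Right W₁ W₂,
      ((if x.1 = leftOne then 0 else a' - a) + if x.2 = rightOne then 0 else a - a') ^ 2 =
      ((Nat.card W₁ : ℤ) - 1 + ((Nat.card W₂ : ℤ) - 1)) * (a' - a) ^ 2 := by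
    have su : ∀ t : ℤ, ∑ φ : Left W₁ W₂, (if φ = leftOne then 0 else t) =
        ((Nat.card W₁ : ℤ) - 1) * t := fun t => by
      have e' : ∀ φ : Left W₁ W₂, (if φ = leftOne then 0 else t) =
          t + if φ = leftOne then -t else 0 := fun φ => by split_ifs <;> simp
      simp only [e', Finset.sum_add_distrib, Finset.sum_ite_eq', Finset.mem_univ, if_true,
        Finset.sum_const, Finset.card_univ, h.card_left, nsmul_eq_mul]
      ring
    have sv : ∀ t : ℤ, ∑ ψ : Right W₁ W₂, (if ψ = rightOne then 0 else t) =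
        ((Nat.card W₂ : ℤ) - 1) * t := fun t => by
      have e' : ∀ ψ : Right W₁ W₂, (if ψ = rightOne then 0 else t) =
          t + if ψ = rightOne then -t else 0 := fun ψ => by split_ifs <;> simp
      simp only [e', Finset.sum_add_distrib, Finset.sum_ite_eq', Finset.mem_univ, if_true,
        Finset.sum_const, Finset.card_univ, h.card_right, nsmul_eq_mul]
      ring
    have hin : ∀ u t : ℤ, ∑ ψ : Right W₁ W₂, (u + if ψ = rightOne then 0 else t) ^ 2 =
        (Nat.card W₂ : ℤ) * u ^ 2 + (2 * u * t + t ^ 2) * ((Nat.card W₂ : ℤ) - 1) := fun u t => by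
      rw [Finset.sum_congr rfl (g := fun ψ => u ^ 2 +
        if ψ = rightOne then 0 else 2 * u * t + t ^ 2) fun ψ _ => by split_ifs <;> ring,
        Finset.sum_add_distrib, sv, Finset.sum_const, Finset.card_univ, h.card_right, nsmul_eq_mul]
      ring
    rw [Fintype.sum_prod_type]
    rw [Finset.sum_congr rfl (g := fun φ : Left W₁ W₂ => (a - a') ^ 2 * ((Nat.card W₂ : ℤ) - 1) +
      if φ = leftOne then 0 else (Nat.card W₂ : ℤ) * (a' - a) ^ 2 +
        2 * (a' - a) * (a - a') * ((Nat.card W₂ : ℤ) - 1)) fun φ _ => by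
          refine (hin (if φ = leftOne then 0 else a' - a) (a - a')).trans ?_
          split_ifs <;> ring,
      Finset.sum_add_distrib, su, Finset.sum_const, Finset.card_univ, h.card_left, nsmul_eq_mul]
    ring
  rw [e3] at hle
  have h5 : 1 ≤ (a' - a) ^ 2 := by
    have := sq_pos_of_ne_zero (sub_ne_zero.2 hne); omega
  nlinarith [mul_le_mul_of_nonneg_left h5
    (show (0 : ℤ) ≤ (Nat.card W₁ : ℤ) - 1 + ((Nat.card W₂ : ℤ) - 1) by linarith)]

end Cfsg.Agent.OddFinal
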