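import Cfsg.Agent.OddFinal.Derived

/-!
# A member of Type III or IV with the first pattern does not exist

If the image of `q 1_N - ζ` is `Σ_φ η φ - χ ζ`, the characters `χ ζ` are coherent with the columns,
so `χ ζ` has mass almost `1` on the conjugates of `N`; but it has no zero outside the special
regions.
-/

set_option autoImplicit false
set_option linter.unusedSectionVars false

namespace Cfsg.Agent.OddFinal

open Cfsg Char CyclicTI
open scoped ComplexConjugate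
open scoped _root_.Classical

universe u

variable {G : Type u} [Group G] [Fintype G] {M W₁ W₂ K N : Subgroup G} [Fintype ↥M] {d : ℕ}
  {X : Finset (↥M → ℂ)} {μ : (↥(W₁ ⊔ W₂) →* ℂˣ) → ↥M → ℂ}
  {η : (↥(W₁ ⊔ W₂) →* ℂˣ) → G → ℂ} {A : Set G} {π : ↥M → ℂ} {Z : Finset (↥M → ℂ)}

/-- The residual character of `q 1_N - ζ` in the first pattern. -/
noncomputable def derChi (M W₁ W₂ N : Subgroup G) (η : (↥(W₁ ⊔ W₂) →* ℂˣ) → G → ℂ)
    (ζ : ↥M → ℂ) : G → ℂ :=
  (∑ φ : Left W₁ W₂, η φ.1) - derY M W₁ N ζ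

/-- The first pattern. -/
def IsFirstPattern (M W₁ W₂ N : Subgroup G) (η : (↥(W₁ ⊔ W₂) →* ℂˣ) → G → ℂ)
    (Z : Finset (↥M → ℂ)) : Prop :=
  ∀ ζ ∈ Z, (∀ φ : Left W₁ W₂, φ.1 ≠ 1 → classInner (derY M W₁ N ζ) (η φ.1) = 1) ∧
    ∀ ψ : Right W₁ W₂, ψ.1 ≠ 1 → classInner (derY M W₁ N ζ) (η ψ.1) = 0

theorem exact_arith {p q m t c d : ℤ} (hp : 3 ≤ p) (hq : 3 ≤ q) (hm : 2 ≤ m) (ht : t ≠ 0)
    (hd : d = q * m + 1)
    (h : (q - 1) * (p - 1) * c ^ 2 ≤ q + d ^ 2) : c ^ 2 < (m * (q - 1)) ^ 2 * t ^ 2 := by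
  have h1 : 1 ≤ t ^ 2 := by
    have := sq_pos_of_ne_zero ht; omega
  refine lt_of_lt_of_le ?_ (le_mul_of_one_le_right (sq_nonneg _) h1)
  by_contra hc
  push_neg at hc
  have h2 : (q - 1) * 2 * (m * (q - 1)) ^ 2 ≤ (q - 1) * (p - 1) * c ^ 2 :=
    mul_le_mul (mul_le_mul_of_nonneg_left (by linarith) (by linarith)) hc (sq_nonneg _)
      (by nlinarith)
  subst hd
  have e1 : 2 * 2 ≤ (q - 1) * (q - 1) := by nlinarith
  have e2 : 4 * ((q - 1) * 2) * m ^ 2 ≤ (q - 1) * 2 * (m * (q - 1)) ^ 2 := by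
    nlinarith [mul_nonneg (mul_nonneg (show (0:ℤ) ≤ (q - 1) * 2 by linarith) (sq_nonneg m))
      (show (0 : ℤ) ≤ (q - 1) * (q - 1) - 4 by linarith)]
  nlinarith [mul_nonneg (mul_nonneg (show (0:ℤ) ≤ q - 3 by linarith) (show (0:ℤ) ≤ q - 3 by linarith))
    (sq_nonneg m), mul_le_mul hm hm (by norm_num) (by linarith),
    mul_nonneg (show (0:ℤ) ≤ q - 3 by linarith) (show (0:ℤ) ≤ m - 2 by linarith)]

variable (hD : IsDerived M W₁ W₂ K N d μ π Z) (h : Ctx M W₁ W₂ K d X μ η (conjAll A))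
  (hNA : Disjoint (conjAll (sharp N)) (conjAll A)) (hP : IsFirstPattern M W₁ W₂ N η Z)
  (hb : IsBridge M W₁ W₂ K d X μ π)

include hD h hNA hP

theorem IsDerived.sum_left (φ : Left W₁ W₂) (ψ : Right W₁ W₂) :
    classInner (∑ φ' : Left W₁ W₂, η φ'.1) (η (φ.1 * ψ.1)) = if ψ = rightOne then 1 else 0 := by
  rw [classInner_sum_left, Finset.sum_congr rfl fun φ' _ => show classInner (η φ'.1) (η (φ.1 * ψ.1))
      = if φ' = φ ∧ rightOne = ψ then 1 else 0 by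
    conv_lhs => rw [show φ'.1 = φ'.1 * (rightOne : Right W₁ W₂).1 by ext w; simp [rightOne]]
    exact h.inner_eta φ' φ rightOne ψ]
  simp [ite_and, eq_comm]

theorem IsDerived.derY_eta {ζ : ↥M → ℂ} (hζ : ζ ∈ Z) (φ : Left W₁ W₂) (ψ : Right W₁ W₂) :
    classInner (derY M W₁ N ζ) (η (φ.1 * ψ.1)) = if ψ = rightOne then 1 else 0 := by
  obtain ⟨-, hgen, hs, h1⟩ := hD.base_spec hζ
  obtain ⟨c1, -, -⟩ := hD.coeff h hNA hgen hs
  have h11 : classInner (derY M W₁ N ζ) (η 1) = 1 := by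
    rw [h.fam.map_one, derY, inner_ind_one, h1]
  have hl : classInner (derY M W₁ N ζ) (η φ.1) = 1 := by
    by_cases e : φ.1 = 1
    · rw [e, h11]
    · exact (hP ζ hζ).1 φ e
  rw [derY] at hl h11 ⊢
  rw [c1, hl, h1]
  split_ifs with e
  · rw [e, show (rightOne : Right W₁ W₂).1 = 1 from rfl, h11]; ring
  · rw [← derY, (hP ζ hζ).2 ψ fun e' => e (Subtype.ext e')]; ring

theorem IsDerived.chi_orth {ζ : ↥M → ℂ} (hζ : ζ ∈ Z) (φ : Left W₁ W₂) (ψ : Right W₁ W₂) :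
    classInner (derChi M W₁ W₂ N η ζ) (η (φ.1 * ψ.1)) = 0 := by
  rw [derChi, classInner_sub_left, hD.sum_left h hNA hP, hD.derY_eta h hNA hP hζ, sub_self]

theorem IsDerived.chi_orth' {ζ : ↥M → ℂ} (hζ : ζ ∈ Z) (ω : ↥(W₁ ⊔ W₂) →* ℂˣ) :
    classInner (derChi M W₁ W₂ N η ζ) (η ω) = 0 ∧
      classInner (η ω) (derChi M W₁ W₂ N η ζ) = 0 := by
  obtain ⟨⟨φ, ψ⟩, hx⟩ := (mulBij h.selfN).2 ω
  have e : classInner (derChi M W₁ W₂ N η ζ) (η ω) = 0 := by
    rw [← hx]; exact hD.chi_orth h hNA hP hζ φ ψ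
  exact ⟨e, by rw [← classInner_conj_symm, e, map_zero]⟩

theorem IsDerived.derY_eq (ζ : ↥M → ℂ) :
    derY M W₁ N ζ = (∑ φ : Left W₁ W₂, η φ.1) - derChi M W₁ W₂ N η ζ := by
  rw [derChi, sub_sub_cancel]

theorem IsDerived.chi_inner {ζ ζ' : ↥M → ℂ} (hζ : ζ ∈ Z) (hζ' : ζ' ∈ Z) :
    classInner (derChi M W₁ W₂ N η ζ) (derChi M W₁ W₂ N η ζ') = if ζ = ζ' then 1 else 0 := by
  obtain ⟨hc', -, hs', -⟩ := hD.base_spec hζ'
  obtain ⟨-, -, hs, -⟩ := hD.base_spec hζ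
  have hY : classInner (derY M W₁ N ζ) (derY M W₁ N ζ') =
      (Nat.card W₁ : ℂ) + if ζ = ζ' then 1 else 0 := by
    rw [derY, derY, inner_ind hD.dade hc' (hD.big hs') (hD.big hs)]
    simp only [classInner_sub_left, classInner_sub_right, hD.inner_ker_ker,
      (hD.ker_zeta hζ).2, (hD.ker_zeta hζ').1, hD.zeta_zeta hζ hζ']
    ring
  have hSS : classInner (∑ φ : Left W₁ W₂, η φ.1) (∑ φ : Left W₁ W₂, η φ.1) =
      (Nat.card W₁ : ℂ) := by
    rw [classInner_sum_right, Finset.sum_congr rfl (g := fun _ => (1 : ℂ)) fun φ _ => by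
      rw [show φ.1 = φ.1 * (rightOne : Right W₁ W₂).1 by ext w; simp [rightOne],
        hD.sum_left h hNA hP, if_pos rfl], Finset.sum_const, Finset.card_univ, h.card_left,
      nsmul_eq_mul, mul_one]
  have hS : ∀ ξ ∈ Z, classInner (derChi M W₁ W₂ N η ξ) (∑ φ : Left W₁ W₂, η φ.1) = 0 := fun ξ hξ => by
    rw [classInner_sum_right]; exact Finset.sum_eq_zero fun φ _ => (hD.chi_orth' h hNA hP hξ _).1
  have hS' : ∀ ξ ∈ Z, classInner (∑ φ : Left W₁ W₂, η φ.1) (derChi M W₁ W₂ N η ξ) = 0 :=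
    fun ξ hξ => by rw [← classInner_conj_symm, hS ξ hξ, map_zero]
  rw [hD.derY_eq h hNA hP ζ, hD.derY_eq h hNA hP ζ'] at hY
  simp only [classInner_sub_left, classInner_sub_right, hSS, hS ζ hζ, hS' ζ' hζ'] at hY
  linear_combination hY

theorem IsDerived.chi_gen {ζ : ↥M → ℂ} (hζ : ζ ∈ Z) :
    IsGeneralizedCharacter G (derChi M W₁ W₂ N η ζ) :=
  isGeneralized_sub (isGeneralized_sum _ _ fun _ _ => h.eta_gen _)
    (isGeneralized_indFun M (hD.base_spec hζ).2.1)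

include hb

theorem IsDerived.pi_inner :
    classInner π (kerChar M W₁ N 1) = 1 ∧ (∀ ζ ∈ Z, classInner π ζ = 1) ∧
      classInner π π = (Z.card : ℂ) + 1 ∧
      ∀ (φ : Left W₁ W₂) (ψ : Right W₁ W₂), ψ.1 ≠ 1 → classInner π (μ (φ.1 * ψ.1)) = 0 := by
  have o1 : ∀ ζ ∈ Z, classInner (fun _ => (1 : ℂ)) ζ = 0 := fun ζ hζ => by
    rw [← classInner_conj_symm, hD.zeta_one hζ, map_zero]
  have hz : ∀ ζ ∈ Z, classInner π ζ = 1 := fun ζ hζ => by
    rw [hD.pi_eq, classInner_add_left, classInner_sum_left, o1 ζ hζ,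
      Finset.sum_congr rfl fun ξ hξ => hD.zeta_zeta hξ hζ]
    simp [hζ]
  refine ⟨?_, hz, ?_, fun φ ψ hψ => ?_⟩
  · rw [hD.pi_eq, classInner_add_left, classInner_sum_left,
      Finset.sum_eq_zero fun ξ hξ => (hD.ker_zeta hξ).2, add_zero, ← classInner_conj_symm,
      hD.sum_one, map_one]
  · conv_lhs => arg 2; rw [hD.pi_eq]
    rw [classInner_add_right, classInner_sum_right, hb.inner_one, Finset.sum_congr rfl hz]
    simp
    ring
  · rw [hD.pi_eq, classInner_add_left, classInner_sum_left,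
      Finset.sum_eq_zero fun ξ hξ => (hD.mu_zeta h _ hξ).2, add_zero, ← classInner_conj_symm,
      classInner_irr_ne (h.side.irr_mu _) isIrrCharacter_one, map_zero]
    intro e
    have h1 := hD.mu_ker h φ hψ
    rw [e, ← classInner_conj_symm, hD.sum_one, map_one] at h1
    exact one_ne_zero h1

theorem IsDerived.mu_psi {ψ : Right W₁ W₂} (hψ : ψ.1 ≠ 1) :
    classInner (μ ψ.1) (kerChar M W₁ N 1) = 0 ∧
      (∀ ζ ∈ Z, classInner (μ ψ.1) ζ = 0) ∧ classInner π (μ ψ.1) = 0 := by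
  refine ⟨?_, fun ζ hζ => (hD.mu_zeta h _ hζ).1, hb.orth_mu ψ hψ⟩
  have e : (leftOne : Left W₁ W₂).1 * ψ.1 = ψ.1 := by ext w; simp [leftOne]
  rw [← e]; exact hD.mu_ker h leftOne hψ

/-- The bridge image is exact. -/
theorem IsDerived.bridge_exact {Γ : G → ℂ} (hΓg : IsGeneralizedCharacter G Γ)
    (hΓr : conjFun Γ = Γ) (hΓ1 : classInner Γ (fun _ => 1) = 0)
    (hτ : ∀ ψ : Right W₁ W₂, ψ.1 ≠ 1 →
      indFun M (π - μ ψ.1) = (fun _ => 1) - η ψ.1 + Γ ∧
      classInner (indFun M (π - μ ψ.1)) (indFun M (π - μ ψ.1)) = classInner π π + 1 ∧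
      classInner (indFun M (π - μ ψ.1)) (fun _ => 1) = 1) :
    Γ = ∑ ζ ∈ Z, derChi M W₁ W₂ N η ζ := by
  obtain ⟨pK, pZ, pP, -⟩ := hD.pi_inner h hNA hP hb
  set S := ∑ φ : Left W₁ W₂, η φ.1 with hS
  have hWodd : Odd (Nat.card ↥(W₁ ⊔ W₂)) :=
    h.odd.of_dvd_nat (Subgroup.card_subgroup_dvd_card _)
  have hSg : IsGeneralizedCharacter G S := isGeneralized_sum _ _ fun _ _ => h.eta_gen _
  have hS1 : classInner S (fun _ => 1) = 1 := by
    rw [← h.fam.map_one, hS, show (1 : ↥(W₁ ⊔ W₂) →* ℂˣ) = (leftOne : Left W₁ W₂).1 *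
      (rightOne : Right W₁ W₂).1 by ext w; simp [leftOne, rightOne], hD.sum_left h hNA hP,
      if_pos rfl]
  have hSr : conjFun S = S := by
    have e : conjFun S = ∑ φ : Left W₁ W₂, conjFun (η φ.1) := by
      funext g; simp [hS, conjFun]
    rw [e, hS]
    refine Finset.sum_nbij' (fun φ => leftInv φ) (fun φ => leftInv φ) (by simp) (by simp)
      (fun φ _ => Subtype.ext (MonoidHom.ext fun w => by simp [leftInv]))
      (fun φ _ => Subtype.ext (MonoidHom.ext fun w => by simp [leftInv]))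
      (fun φ _ => eta_conj h.selfN hWodd h.fam φ.1)
  obtain ⟨gn, hgn⟩ := real_inner_parity h.odd hΓg hSg hΓr hSr
  rw [hΓ1, zero_mul, sub_zero] at hgn
  obtain ⟨ψ₀, hψ₀⟩ := h.exists_right
  obtain ⟨τ0, -, -⟩ := hτ ψ₀ hψ₀
  obtain ⟨hβc, -, hβs⟩ := h.beta_spec hb hψ₀
  have hbig : ∀ x : M, (x : G) ∉ sharp N ∪ conjIn M (vSet W₁ W₂) → (π - μ ψ₀.1) x = 0 :=
    fun x hx => hβs x fun hh => hx (hh.imp (fun hk => ⟨hD.K_le hk.1, hk.2⟩) id)
  have ht : ∀ ζ ∈ Z, classInner Γ (derChi M W₁ W₂ N η ζ) = ((2 * gn + 1 : ℤ) : ℂ) := by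
    intro ζ hζ
    obtain ⟨hc, -, hs, h1⟩ := hD.base_spec hζ
    have key : classInner (indFun M (π - μ ψ₀.1)) (derY M W₁ N ζ) = 0 := by
      rw [derY, inner_ind hD.dade hc (hD.big hs) hbig]
      simp only [classInner_sub_left, classInner_sub_right, pK, pZ ζ hζ,
        (hD.mu_psi h hNA hP hb hψ₀).1, (hD.mu_psi h hNA hP hb hψ₀).2.1 ζ hζ]
      ring
    rw [τ0, classInner_add_left, classInner_sub_left] at key
    have e1 : classInner (fun _ : G => (1 : ℂ)) (derY M W₁ N ζ) = 1 := by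
      rw [← classInner_conj_symm, derY, inner_ind_one, h1, map_one]
    have e2 : classInner (η ψ₀.1) (derY M W₁ N ζ) = 0 := by
      rw [← classInner_conj_symm, (hP ζ hζ).2 ψ₀ hψ₀, map_zero]
    rw [e1, e2, hD.derY_eq h hNA hP, classInner_sub_right, ← hS, hgn] at key
    push_cast
    linear_combination -key
  set t : ℤ := 2 * gn + 1 with htdef
  have hΓV : ∀ w ∈ vSet W₁ W₂, Γ w = 0 := by
    intro w hw
    have hwM : w ∈ M := h.side.W_le hw.1
    have e := congrFun τ0 w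
    have hv := indFun_coe h.side.dade hβc hβs (a := ⟨w, hwM⟩)
      (Or.inr ⟨1, M.one_mem, w, hw, by group⟩)
    rw [hv, Pi.sub_apply, hb.val_V _ hw] at e
    have hval := h.side.mu_val leftOne ψ₀ ⟨w, hwM⟩ hw.1 hw.2.2 hψ₀
    rw [show (leftOne : Left W₁ W₂).1 * ψ₀.1 = ψ₀.1 by ext w; simp [leftOne]] at hval
    rw [hval, Pi.add_apply, Pi.sub_apply] at e
    have e4 := h.fam.eq_on ψ₀.1 ⟨w, hw.1⟩ hw.2.1 hw.2.2
    simp only at e4
    rw [e4] at e
    linear_combination -e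
  have hΓc : IsClassFunction G Γ := IsGen.isClassFunction hΓg
  obtain ⟨c, hc⟩ := classInner_generalized_int hΓg (h.eta_gen ψ₀.1)
  have hnorm : ∀ ψ : Right W₁ W₂, ψ.1 ≠ 1 →
      classInner Γ Γ = (Z.card : ℂ) + 2 * classInner Γ (η ψ.1) := fun ψ hψ => by
    obtain ⟨e1, e2, -⟩ := hτ ψ hψ
    rw [e1, pP] at e2
    obtain ⟨k, hk⟩ := classInner_generalized_int hΓg (h.eta_gen ψ.1)
    have hk' : classInner (η ψ.1) Γ = k := by rw [← classInner_conj_symm, hk, map_intCast]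
    have hΓ1' : classInner (fun _ : G => (1 : ℂ)) Γ = 0 := by
      rw [← classInner_conj_symm, hΓ1, map_zero]
    have hη1' : classInner (fun _ : G => (1 : ℂ)) (η ψ.1) = 0 := by
      rw [← classInner_conj_symm, eta_inner_one h.fam hψ, map_zero]
    simp only [classInner_add_left, classInner_add_right, classInner_sub_left,
      classInner_sub_right, hΓ1, hΓ1', hη1', eta_inner_one h.fam hψ, eta_norm h.fam,
      classInner_irr_self isIrrCharacter_one, hk, hk'] at e2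
    rw [hk]; linear_combination e2
  have hcol : ∀ ψ : Right W₁ W₂, ψ.1 ≠ 1 → classInner Γ (η ψ.1) = c := fun ψ hψ => by
    have a1 := hnorm ψ hψ
    have a2 := hnorm ψ₀ hψ₀
    rw [hc] at a2
    linear_combination (a2 - a1) / 2
  choose u hu using fun φ : Left W₁ W₂ => classInner_generalized_int hΓg (h.eta_gen φ.1)
  have hu0 : u leftOne = 0 := by
    have := hu leftOne
    rw [show (leftOne : Left W₁ W₂).1 = 1 from rfl, h.fam.map_one, hΓ1] at this
    exact_mod_cast this.symm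
  set Γ' := Γ - (t : ℂ) • ∑ ζ ∈ Z, derChi M W₁ W₂ N η ζ with hΓ'
  have hΓ'g : IsGeneralizedCharacter G Γ' :=
    isGeneralized_sub hΓg (isGeneralized_intCast_smul _
      (isGeneralized_sum _ _ fun ζ hζ => hD.chi_gen h hNA hP hζ))
  have hcoef : ∀ x : Left W₁ W₂ × Right W₁ W₂, classInner Γ' (η (x.1.1 * x.2.1)) =
      ((u x.1 + if x.2 = rightOne then 0 else c : ℤ) : ℂ) := fun x => by
    rw [hΓ', classInner_sub_left, classInner_smul_left, classInner_sum_left,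
      Finset.sum_eq_zero fun ζ hζ => hD.chi_orth h hNA hP hζ x.1 x.2, mul_zero, sub_zero,
      eta_coeff h.fam hΓc hΓV, hu, hΓ1]
    split_ifs with e
    · rw [e, show (rightOne : Right W₁ W₂).1 = 1 from rfl, h.fam.map_one, hΓ1]; push_cast; ring
    · rw [hcol x.2 fun e' => e (Subtype.ext e')]; push_cast; ring
  have hself : classInner Γ' Γ' =
      (((Z.card : ℤ) * (1 - t ^ 2) + 2 * c : ℤ) : ℂ) := by
    have a1 : classInner Γ (∑ ζ ∈ Z, derChi M W₁ W₂ N η ζ) = (Z.card : ℂ) * (t : ℂ) := by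
      rw [classInner_sum_right, Finset.sum_congr rfl ht, Finset.sum_const, nsmul_eq_mul]
    have a2 : classInner (∑ ζ ∈ Z, derChi M W₁ W₂ N η ζ) Γ = (Z.card : ℂ) * (t : ℂ) := by
      rw [← classInner_conj_symm, a1]; simp
    have a3 : classInner (∑ ζ ∈ Z, derChi M W₁ W₂ N η ζ) (∑ ζ ∈ Z, derChi M W₁ W₂ N η ζ) =
        (Z.card : ℂ) := by
      rw [classInner_sum_right, Finset.sum_congr rfl (g := fun _ => (1 : ℂ)) fun ζ hζ => by
        rw [classInner_sum_left, Finset.sum_congr rfl fun ξ hξ => hD.chi_inner h hNA hP hξ hζ]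
        simp [hζ], Finset.sum_const, nsmul_eq_mul, mul_one]
    have a4 := hnorm ψ₀ hψ₀
    rw [hc] at a4
    simp only [hΓ', classInner_sub_left, classInner_sub_right, classInner_smul_left,
      classInner_smul_right, a1, a2, a3, a4, map_intCast]
    push_cast; ring
  obtain ⟨hle, hzero⟩ := h.sq_sum_le (fun x : Left W₁ W₂ × Right W₁ W₂ => x.1.1 * x.2.1)
    (mulBij h.selfN).1 hΓ'g _ hcoef hself
  have hq : (3 : ℤ) ≤ Nat.card W₁ := by exact_mod_cast h.three_le.1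
  have hp : (3 : ℤ) ≤ Nat.card W₂ := by exact_mod_cast h.three_le.2
  have hrow : ∀ v : ℤ, ∑ y : Right W₁ W₂, (v + if y = rightOne then 0 else c) ^ 2 =
      v ^ 2 + ((Nat.card W₂ : ℤ) - 1) * (v + c) ^ 2 := fun v => by
    rw [← Finset.add_sum_erase _ _ (Finset.mem_univ rightOne),
      Finset.sum_congr rfl (g := fun _ => (v + c) ^ 2) fun y hy => by
        rw [if_neg (Finset.mem_erase.1 hy).1], Finset.sum_const,
      Finset.card_erase_of_mem (Finset.mem_univ _), Finset.card_univ, h.card_right, nsmul_eq_mul,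
      Nat.cast_sub Nat.card_pos]
    simp
  rw [Fintype.sum_prod_type] at hle hzero
  simp only [hrow] at hle hzero
  have ht2 : 1 ≤ t ^ 2 := by
    have := sq_pos_of_ne_zero (show t ≠ 0 by omega); omega
  have hc0 : c = 0 := by
    by_contra hc0
    have hc2 : 1 ≤ c ^ 2 := by have := sq_pos_of_ne_zero hc0; omega
    have hper : ∀ v : ℤ, 1 ≤ v ^ 2 + ((Nat.card W₂ : ℤ) - 1) * (v + c) ^ 2 := fun v => by
      rcases eq_or_ne v 0 with rfl | hv
      · nlinarith [mul_le_mul_of_nonneg_left hc2 (show (0 : ℤ) ≤ Nat.card W₂ - 1 by linarith)]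
      · have := sq_pos_of_ne_zero hv
        nlinarith [mul_nonneg (show (0 : ℤ) ≤ Nat.card W₂ - 1 by linarith) (sq_nonneg (v + c))]
    have h2 : (Nat.card W₂ - 1 : ℤ) * c ^ 2 + ((Nat.card W₁ : ℤ) - 1) ≤
        ∑ φ : Left W₁ W₂, (u φ ^ 2 + ((Nat.card W₂ : ℤ) - 1) * (u φ + c) ^ 2) := by
      rw [← Finset.add_sum_erase _ _ (Finset.mem_univ leftOne), hu0]
      refine add_le_add (by ring_nf; rfl) ?_
      refine le_trans (le_of_eq ?_) (Finset.sum_le_sum fun φ _ => hper (u φ))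
      rw [Finset.sum_const, Finset.card_erase_of_mem (Finset.mem_univ _), Finset.card_univ,
        h.card_left, nsmul_eq_mul, mul_one, Nat.cast_sub Nat.card_pos]
      simp
    have hZ0 : (0 : ℤ) ≤ Z.card := Nat.cast_nonneg _
    nlinarith [mul_le_mul_of_nonneg_left hc2 (show (0 : ℤ) ≤ Nat.card W₂ - 1 by linarith),
      mul_nonneg hZ0 (show (0 : ℤ) ≤ t ^ 2 - 1 by linarith), sq_nonneg (c - 1)]
  subst hc0
  have hsum0 : ∀ φ ∈ (Finset.univ : Finset (Left W₁ W₂)),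
      0 ≤ u φ ^ 2 + ((Nat.card W₂ : ℤ) - 1) * (u φ + 0) ^ 2 := fun φ _ => by
    have := sq_nonneg (u φ)
    nlinarith [mul_nonneg (show (0 : ℤ) ≤ Nat.card W₂ - 1 by linarith) (sq_nonneg (u φ + 0))]
  have hM0 : (0 : ℤ) ≤ (Z.card : ℤ) * (t ^ 2 - 1) :=
    mul_nonneg (Nat.cast_nonneg _) (by linarith)
  have hS0 := Finset.sum_nonneg hsum0
  have hall : ∑ φ : Left W₁ W₂, (u φ ^ 2 + ((Nat.card W₂ : ℤ) - 1) * (u φ + 0) ^ 2) = 0 := by
    linarith
  have huz : ∀ φ : Left W₁ W₂, u φ = 0 := fun φ => by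
    have := (Finset.sum_eq_zero_iff_of_nonneg hsum0).1 hall φ (Finset.mem_univ _)
    nlinarith [mul_nonneg (show (0 : ℤ) ≤ Nat.card W₂ - 1 by linarith) (sq_nonneg (u φ + 0)),
      sq_nonneg (u φ)]
  have hgn0 : gn = 0 := by
    have e : classInner Γ S = 0 := by
      rw [hS, classInner_sum_right]
      exact Finset.sum_eq_zero fun φ _ => by rw [hu, huz φ, Int.cast_zero]
    rw [e] at hgn
    have : ((2 * gn : ℤ) : ℂ) = 0 := by push_cast; exact hgn.symm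
    have := Int.cast_eq_zero.1 this
    omega
  have ht1 : t = 1 := by omega
  have hz2 : (Z.card : ℤ) * (1 - t ^ 2) + 2 * 0 = 0 := by rw [ht1]; ring
  have := hzero (by rw [hall, hz2])
  have hR0 : ∑ x : Left W₁ W₂ × Right W₁ W₂,
      ((u x.1 + if x.2 = rightOne then 0 else (0 : ℤ) : ℤ) : ℂ) • η (x.1.1 * x.2.1) = 0 :=
    Finset.sum_eq_zero fun x _ => by simp [huz]
  rw [hR0, hΓ', sub_eq_zero, ht1, Int.cast_one, one_smul] at this
  exact this

end Cfsg.Agent.OddFinal
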