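import Cfsg.Agent.OddFinal.DerivedExact

/-!
# No member of Type III or IV has the first pattern

`χ ζ` has mass at least `1 - q / (d + d² (p - 1))` on the conjugates of `N`, and at least the
proportion of the rest of the group outside the special regions.
-/

set_option autoImplicit false
set_option linter.unusedSectionVars false

namespace Cfsg.Agent.OddFinal

open Cfsg Char CyclicTI
open scoped ComplexConjugate
open scoped _root_.Classical

universe u

variable {G : Type u} [Group G] [Fintype G] {M W₁ W₂ K N : Subgroup G} [Fintype ↥M] {d : ℕ}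
  {X : Finset (↥M → ℂ)} {μ : (↥(W₁ ⊔ W₂) →* ℂˣ) → ↥M → ℂ}
  {η : (↥(W₁ ⊔ W₂) →* ℂˣ) → G → ℂ} {A : Set G} {π : ↥M → ℂ} {Z : Finset (↥M → ℂ)}

theorem mass_conjAll_sharp_le (hD : IsDerived M W₁ W₂ K N d μ π Z) :
    mass (conjAll (sharp N)) (fun _ => 1) ≤ 1 / (Nat.card W₁ : ℝ) := by
  have hnorm : ∀ x k : M, ((k * x * k⁻¹ : ↥M) : G) ∈ sharp N ↔ (x : G) ∈ sharp N := fun x k => by
    have h1 : (k : G) * x * (k : G)⁻¹ ∈ N ↔ (x : G) ∈ N :=
      (Subgroup.mem_normalizer_iff.1 (hD.normal k.2) x).symm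
    simp only [sharp, Set.mem_diff, SetLike.mem_coe, Set.mem_singleton_iff, Subgroup.coe_mul,
      Subgroup.coe_inv, conj_eq_one_iff, h1]
  set f : ↥M → ℂ := fun x => if (x : G) ∈ sharp N then 1 else 0 with hf
  have hc : IsClassFunction ↥M f := fun g k => by simp only [hf, hnorm]
  have hs : ∀ x : M, (x : G) ∉ sharp N → f x = 0 := fun x hx => if_neg hx
  calc mass (conjAll (sharp N)) (fun _ => 1)
      = mass (conjAll (sharp N)) (indFun M f) := by
        refine mass_congr fun g hg => ?_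
        obtain ⟨y, a, ha, rfl⟩ := hg
        rw [isClassFunction_indFun M f a y,
          indFun_coe hD.dade hc (hD.big hs) (a := ⟨a, hD.N_le ha.1⟩) (Or.inl ha),
          show f ⟨a, hD.N_le ha.1⟩ = 1 from if_pos ha]
    _ ≤ (classInner (indFun M f) (indFun M f)).re := mass_le_norm _ _
    _ ≤ _ := by
      rw [inner_ind hD.dade hc (hD.big hs) (hD.big hs), classInner_self_eq, Complex.ofReal_re,
        hD.card_eq, Nat.cast_mul, mul_inv, one_div, mul_assoc]
      refine mul_le_of_le_one_right (by positivity) ?_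
      rw [inv_mul_le_one₀ (by exact_mod_cast Nat.card_pos)]
      calc ∑ x : M, Complex.normSq (f x)
          ≤ ∑ x : M, (if (x : G) ∈ N then (1 : ℝ) else 0) := Finset.sum_le_sum fun x _ => by
            simp only [hf]
            split_ifs with h1 h2
            · simp
            · exact absurd h1.1 h2
            · simp
            · simp
        _ = (Nat.card N : ℝ) := by
            rw [Finset.sum_boole, Nat.card_congr (Subgroup.subgroupOfEquivOfLe hD.N_le).symm.toEquiv,
              Nat.card_eq_fintype_card, Fintype.card_subtype]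
            simp [Subgroup.mem_subgroupOf]

theorem derived_arith {p q m : ℝ} {d : ℝ} (hp : 3 ≤ p) (hq : 3 ≤ q) (hm : 2 ≤ m)
    (hd : d = q * m + 1) {v aN aA E : ℝ} (hv : v = (q - 1) * (p - 1) / (q * p))
    (hN : aN ≤ 1 / q) (hA : aA ≤ 1 / (7 * p)) (hE : E = d + d ^ 2 * (p - 1))
    (h : 1 - v - aN - aA ≤ q / E) : False := by
  have h1 : 1 - v - 1 / q - 1 / (7 * p) ≤ q / E := le_trans (by linarith) h
  have hE0 : 0 < E := by rw [hE, hd]; nlinarith
  have e : 1 - v - 1 / q - 1 / (7 * p) = (6 * q - 7) / (7 * (q * p)) := by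
    rw [hv]; field_simp; ring
  rw [e, div_le_div_iff₀ (by positivity) hE0, hE, hd] at h1
  have h2 : (2 * q) ^ 2 * (2 * p / 3) ≤ (q * m + 1) ^ 2 * (p - 1) :=
    mul_le_mul (pow_le_pow_left₀ (by linarith) (by nlinarith) 2) (by linarith) (by linarith)
      (sq_nonneg _)
  have h3 : (3 : ℝ) * q ≤ 6 * q - 7 := by linarith
  have h4 : 3 * q * ((2 * q) ^ 2 * (2 * p / 3)) ≤
      (6 * q - 7) * (q * m + 1 + (q * m + 1) ^ 2 * (p - 1)) :=
    mul_le_mul h3 (by nlinarith) (by positivity) (by linarith)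
  have h5 : (3 : ℝ) * (p * q ^ 2) ≤ q * (p * q ^ 2) :=
    mul_le_mul_of_nonneg_right hq (by positivity)
  have h6 : (0 : ℝ) < p * q ^ 2 := by positivity
  nlinarith

variable (hD : IsDerived M W₁ W₂ K N d μ π Z) (h : Ctx M W₁ W₂ K d X μ η (conjAll A))
  (hNA : Disjoint (conjAll (sharp N)) (conjAll A)) (hP : IsFirstPattern M W₁ W₂ N η Z)
  (hb : IsBridge M W₁ W₂ K d X μ π)

include hD h hNA hP hb

/-- Step 2: the image of a column minus `d ζ`. -/
theorem IsDerived.col_inner (hZ : 2 ≤ Z.card) {ζ ζ' : ↥M → ℂ} (hζ : ζ ∈ Z) (hζ' : ζ' ∈ Z)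
    {ψ : Right W₁ W₂} (hψ : ψ.1 ≠ 1) :
    classInner (indFun M (colChar μ ψ - (d : ℂ) • ζ)) (derChi M W₁ W₂ N η ζ') =
      if ζ = ζ' then -(d : ℂ) else 0 := by
  obtain ⟨pK, pZ, -, pμ⟩ := hD.pi_inner h hNA hP hb
  set F : ↥M → ℂ := colChar μ ψ - (d : ℂ) • ζ with hF
  have hFg : IsGeneralizedCharacter ↥M F := by
    refine isGeneralized_sub (isGeneralized_sum _ _ fun φ _ =>
      isGeneralized_of_isCharacter (IsIrr.isCharacter (h.side.irr_mu _))) ?_
    simpa using isGeneralized_intCast_smul (d : ℤ)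
      (isGeneralized_of_isCharacter (IsIrr.isCharacter (hD.irr ζ hζ)))
  have hFs : ∀ x : M, (x : G) ∉ sharp N → F x = 0 := by
    intro x hx
    simp only [hF, Pi.sub_apply, Pi.smul_apply, smul_eq_mul, colChar, Finset.sum_apply]
    by_cases hN : (x : G) ∈ N
    · have hx1 : x = 1 := by
        by_contra hne
        exact hx ⟨hN, fun e => hne (Subtype.ext e)⟩
      subst hx1
      rw [Finset.sum_congr rfl fun φ _ => h.side.deg_mu φ ψ hψ, Finset.sum_const, Finset.card_univ,
        h.card_left, nsmul_eq_mul, hD.deg ζ hζ]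
      ring
    · rw [h.side.supp_sum ψ hψ x fun hk => hN (hD.K_le hk), hD.supp ζ hζ x hN, mul_zero, sub_zero]
  have hcolK : classInner (colChar μ ψ) (kerChar M W₁ N 1) = 0 := by
    rw [colChar, classInner_sum_left, Finset.sum_eq_zero fun φ _ => hD.mu_ker h φ hψ]
  have hcolZ : ∀ ξ ∈ Z, classInner (colChar μ ψ) ξ = 0 := fun ξ hξ => by
    rw [colChar, classInner_sum_left, Finset.sum_eq_zero fun φ _ => (hD.mu_zeta h _ hξ).1]
  have hF1 : classInner F (fun _ => 1) = 0 := by
    rw [hF, classInner_sub_left, classInner_smul_left, hD.zeta_one hζ, mul_zero, sub_zero, colChar,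
      classInner_sum_left, Finset.sum_eq_zero fun φ _ => ?_]
    refine classInner_irr_ne (h.side.irr_mu _) isIrrCharacter_one fun e => ?_
    have h1 := hD.mu_ker h φ hψ
    rw [e, ← classInner_conj_symm, hD.sum_one, map_one] at h1
    exact one_ne_zero h1
  have hFc := IsGen.isClassFunction hFg
  set Y := indFun M F with hY
  have hYg : IsGeneralizedCharacter G Y := isGeneralized_indFun M hFg
  obtain ⟨c1, c2, -⟩ := hD.coeff h hNA hFg hFs
  obtain ⟨φ₀, hφ₀⟩ : ∃ φ : Left W₁ W₂, φ.1 ≠ 1 := by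
    by_contra hh
    push_neg at hh
    have : Subsingleton (Left W₁ W₂) := ⟨fun x y => Subtype.ext ((hh x).trans (hh y).symm)⟩
    have h3 := h.three_le.1
    rw [← h.card_left] at h3
    have := Fintype.card_le_one_iff_subsingleton.2 this
    omega
  obtain ⟨a, ha⟩ := classInner_generalized_int hYg (h.eta_gen φ₀.1)
  have h11 : classInner Y (η 1) = 0 := by rw [h.fam.map_one, hY, inner_ind_one, hF1]
  have hY1' : classInner Y (fun _ => 1) = 0 := by rw [← h.fam.map_one]; exact h11
  have hYS : classInner Y (∑ φ : Left W₁ W₂, η φ.1) = ((Nat.card W₁ : ℂ) - 1) * a := by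
    rw [classInner_sum_right, ← Finset.add_sum_erase _ _ (Finset.mem_univ leftOne),
      show (leftOne : Left W₁ W₂).1 = 1 from rfl, h11, zero_add,
      Finset.sum_congr rfl (g := fun _ => (a : ℂ)) fun φ hφ =>
        (c2 φ φ₀ (fun e => (Finset.mem_erase.1 hφ).1 (Subtype.ext e)) hφ₀).trans ha,
      Finset.sum_const, Finset.card_erase_of_mem (Finset.mem_univ _), Finset.card_univ,
      h.card_left, nsmul_eq_mul, Nat.cast_sub Nat.card_pos, Nat.cast_one]
  have hz : ∀ ξ ∈ Z, classInner Y (derChi M W₁ W₂ N η ξ) =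
      ((Nat.card W₁ : ℂ) - 1) * a - if ζ = ξ then (d : ℂ) else 0 := by
    intro ξ hξ
    obtain ⟨hc', -, hs', -⟩ := hD.base_spec hξ
    rw [derChi, classInner_sub_right, hYS, derY, hY,
      inner_ind hD.dade hc' (hD.big hs') (hD.big hFs), hF, classInner_sub_left,
      classInner_smul_left, classInner_sub_right, classInner_sub_right, hcolK, hcolZ ξ hξ,
      (hD.ker_zeta hζ).2, hD.zeta_zeta hζ hξ]
    split_ifs <;> ring
  obtain ⟨Γ, hΓg, hΓr, hΓ1, hτ⟩ := h.tau_beta hb
  have hΓ := hD.bridge_exact h hNA hP hb hΓg hΓr hΓ1 hτ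
  set m : ℤ := (Z.card : ℤ) * ((Nat.card W₁ : ℤ) - 1) with hm
  have he : ∀ ψ' : Right W₁ W₂, ψ'.1 ≠ 1 →
      classInner Y (η ψ'.1) = (((if ψ = ψ' then 1 else 0) + m * a : ℤ) : ℂ) := by
    intro ψ' hψ'
    obtain ⟨hβc, -, hβs⟩ := h.beta_spec hb hψ'
    have hbig : ∀ x : M, (x : G) ∉ sharp N ∪ conjIn M (vSet W₁ W₂) → (π - μ ψ'.1) x = 0 :=
      fun x hx => hβs x fun hh => hx (hh.imp (fun hk => ⟨hD.K_le hk.1, hk.2⟩) id)
    have key : classInner Y (indFun M (π - μ ψ'.1)) =
        -(if ψ = ψ' then 1 else 0) - (d : ℂ) := by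
      rw [hY, inner_ind hD.dade hβc hbig (hD.big hFs), hF, classInner_sub_left,
        classInner_smul_left, classInner_sub_right, classInner_sub_right,
        ← classInner_conj_symm π ζ, pZ ζ hζ, map_one, (hD.mu_zeta h _ hζ).2, colChar,
        classInner_sum_left, classInner_sum_left,
        Finset.sum_eq_zero fun φ _ => (by
          rw [← classInner_conj_symm, pμ φ ψ hψ, map_zero] :
          classInner (μ (φ.1 * ψ.1)) π = 0)]
      rw [Finset.sum_congr rfl fun φ _ => show classInner (μ (φ.1 * ψ.1)) (μ ψ'.1) =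
        if φ = leftOne ∧ ψ = ψ' then 1 else 0 by
          conv_lhs => rw [show ψ'.1 = (leftOne : Left W₁ W₂).1 * ψ'.1 by ext w; simp [leftOne]]
          exact h.mu_irr φ leftOne ψ ψ']
      simp [ite_and]
    rw [(hτ ψ' hψ').1, classInner_add_right, classInner_sub_right, hY1', hΓ, classInner_sum_right,
      Finset.sum_congr rfl hz, Finset.sum_sub_distrib, Finset.sum_const, Finset.sum_ite_eq,
      if_pos hζ, nsmul_eq_mul] at key
    rw [hm]
    push_cast
    linear_combination -key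
  have hFF : classInner Y Y = (((Nat.card W₁ : ℤ) + (d : ℤ) ^ 2 : ℤ) : ℂ) := by
    rw [hY, inner_ind hD.dade hFc (hD.big hFs) (hD.big hFs), hF]
    simp only [classInner_sub_left, classInner_sub_right, classInner_smul_left,
      classInner_smul_right, map_natCast, hcolZ ζ hζ, h.colChar_inner, if_true,
      hD.zeta_zeta hζ hζ]
    rw [← classInner_conj_symm (colChar μ ψ) ζ, hcolZ ζ hζ, map_zero]
    push_cast
    ring
  have ha0 : a = 0 := by
    by_contra hne
    obtain ⟨hle, -⟩ := h.sq_sum_le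
      (fun x : {φ : Left W₁ W₂ // φ.1 ≠ 1} × {ψ : Right W₁ W₂ // ψ.1 ≠ 1} => x.1.1.1 * x.2.1.1)
      (fun x y e => by
        have := (mulBij h.selfN).1 (a₁ := (x.1.1, x.2.1)) (a₂ := (y.1.1, y.2.1)) e
        exact Prod.ext (Subtype.ext (congrArg Prod.fst this))
          (Subtype.ext (congrArg Prod.snd this)))
      hYg (fun x => a + ((if ψ = x.2.1 then 1 else 0) + m * a)) (fun x => by
        rw [c1, (c2 x.1.1 φ₀ x.1.2 hφ₀).trans ha, he x.2.1 x.2.2, hF1]
        push_cast; ring) hFF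
    have hq : (3 : ℤ) ≤ Nat.card W₁ := by exact_mod_cast h.three_le.1
    have hp : (3 : ℤ) ≤ Nat.card W₂ := by exact_mod_cast h.three_le.2
    have hM : (2 : ℤ) ≤ Z.card := by exact_mod_cast hZ
    have hm0 : 0 ≤ m := by rw [hm]; exact mul_nonneg (Nat.cast_nonneg _) (by linarith)
    have hlow : ∀ δ : ℤ, (δ = 0 ∨ δ = 1) → m ^ 2 * a ^ 2 ≤ (a + (δ + m * a)) ^ 2 := by
      intro δ hδ
      rcases lt_or_gt_of_ne hne with hneg | hpos
      · have h1 : a + (δ + m * a) ≤ m * a := by rcases hδ with rfl | rfl <;> omega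
        have h2 : m * a ≤ 0 := by nlinarith
        nlinarith
      · have h1 : m * a ≤ a + (δ + m * a) := by rcases hδ with rfl | rfl <;> omega
        have h2 : 0 ≤ m * a := by positivity
        nlinarith
    have hsum : (((Nat.card W₁ : ℤ) - 1) * ((Nat.card W₂ : ℤ) - 1)) * (m ^ 2 * a ^ 2) ≤
        (Nat.card W₁ : ℤ) + (d : ℤ) ^ 2 := by
      refine le_trans (le_trans (le_of_eq ?_) (Finset.sum_le_sum fun x _ =>
        hlow (if ψ = x.2.1 then 1 else 0) (by split_ifs <;> simp))) hle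
      have cl : Fintype.card {φ : Left W₁ W₂ // φ.1 ≠ 1} = Nat.card W₁ - 1 := by
        rw [Fintype.card_subtype, show (Finset.univ.filter fun φ : Left W₁ W₂ => φ.1 ≠ 1) =
          Finset.univ.erase leftOne by ext φ; simp [leftOne, Subtype.ext_iff],
          Finset.card_erase_of_mem (Finset.mem_univ _), Finset.card_univ, h.card_left]
      have cr : Fintype.card {ψ : Right W₁ W₂ // ψ.1 ≠ 1} = Nat.card W₂ - 1 := by
        rw [Fintype.card_subtype, show (Finset.univ.filter fun φ : Right W₁ W₂ => φ.1 ≠ 1) =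
          Finset.univ.erase rightOne by ext φ; simp [rightOne, Subtype.ext_iff],
          Finset.card_erase_of_mem (Finset.mem_univ _), Finset.card_univ, h.card_right]
      rw [Finset.sum_const, Finset.card_univ, Fintype.card_prod, cl, cr, nsmul_eq_mul,
        Nat.cast_mul, Nat.cast_sub Nat.card_pos, Nat.cast_sub Nat.card_pos, Nat.cast_one]
    have hd : (d : ℤ) = (Nat.card W₁ : ℤ) * Z.card + 1 := by exact_mod_cast hD.card_Z.symm
    have h1 : 1 ≤ a ^ 2 := by have := sq_pos_of_ne_zero hne; omega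
    have := exact_arith hp hq hM (one_ne_zero (α := ℤ)) hd (c := m) (le_trans
      (mul_le_mul_of_nonneg_left (le_mul_of_one_le_right (sq_nonneg m) h1)
        (mul_nonneg (by linarith) (by linarith))) hsum)
    rw [hm] at this
    nlinarith
  rw [hz ζ' hζ', ha0]
  split_ifs <;> simp

omit hP in
theorem IsDerived.two_le_card (hd : 1 < d) : 2 ≤ Z.card := by
  have h1 : Odd d := by
    refine h.odd.of_dvd_nat (dvd_trans ?_ (Subgroup.card_subgroup_dvd_card M))
    rw [h.side.card_eq]; exact dvd_mul_of_dvd_left (dvd_mul_left d _) _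
  by_contra hne
  have h2 : Odd (Nat.card W₁) := h.odd.of_dvd_nat (Subgroup.card_subgroup_dvd_card _)
  have h3 := hD.card_Z
  rcases (show Z.card = 0 ∨ Z.card = 1 by omega) with e | e <;> rw [e] at h3
  · omega
  · obtain ⟨k, hk⟩ := h1
    obtain ⟨l, hl⟩ := h2
    omega

/-- A member of Type III or IV with the first pattern does not exist. -/
theorem IsDerived.false_of_first (hd : 1 < d)
    (hAV : Disjoint (conjAll A) (conjAll (vSet W₁ W₂)))
    (hA : mass (conjAll A) (fun _ => 1) ≤ 1 / (7 * (Nat.card W₂ : ℝ))) : False := by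
  have hZ := hD.two_le_card h hNA hb hd
  obtain ⟨ζ, hζ⟩ : Z.Nonempty := Finset.card_pos.1 (by omega)
  obtain ⟨pK, pZ, -, -⟩ := hD.pi_inner h hNA hP hb
  set E : ℕ := d + d ^ 2 * (Nat.card W₂ - 1) with hE
  set A₀ : ↥M → ℂ := (Nat.card W₁ : ℂ) • (∑ ξ ∈ Z, ξ) + kerChar M W₁ N 1 +
    (d : ℂ) • ∑ ψ ∈ rightSet W₁ W₂, colChar μ ψ with hA₀
  set f : ↥M → ℂ := (E : ℂ) • ζ - A₀ with hf
  have hM1 : (Z.card : ℂ) * Nat.card W₁ + 1 = d := by
    rw [mul_comm]; exact_mod_cast hD.card_Z
  have hEc : (E : ℂ) = (d : ℂ) + (d : ℂ) ^ 2 * ((rightSet W₁ W₂).card : ℂ) := by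
    rw [h.card_rightSet, hE]; push_cast [Nat.cast_sub (Nat.card_pos (α := W₂))]; ring
  have hsplit : f = (Nat.card W₁ : ℂ) • (∑ ξ ∈ Z, (ζ - ξ)) + (ζ - kerChar M W₁ N 1) +
      (d : ℂ) • ∑ ψ ∈ rightSet W₁ W₂, ((d : ℂ) • ζ - colChar μ ψ) := by
    funext x
    simp only [hf, hA₀, hEc, Pi.sub_apply, Pi.add_apply, Pi.smul_apply, Finset.sum_apply,
      Finset.sum_sub_distrib, Finset.sum_const, smul_eq_mul, nsmul_eq_mul, Pi.mul_apply,
      Pi.natCast_apply]
    linear_combination -(ζ x) * hM1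
  have hfc : IsClassFunction ↥M f := fun g k => by
    simp only [hf, hA₀, Pi.sub_apply, Pi.add_apply, Pi.smul_apply, Finset.sum_apply,
      isClassFunction_of_isIrr (hD.irr ζ hζ) g k, hD.isClassFunction_ker g k,
      fun ψ => h.isClassFunction_colChar ψ g k]
    rw [Finset.sum_congr rfl fun ξ hξ => isClassFunction_of_isIrr (hD.irr ξ hξ) g k]
  have hcolN : ∀ ψ ∈ rightSet W₁ W₂, ∀ x : M, (x : G) ∉ sharp N →
      ((d : ℂ) • ζ - colChar μ ψ) x = 0 := by
    intro ψ hψ x hx
    simp only [Pi.sub_apply, Pi.smul_apply, smul_eq_mul, colChar, Finset.sum_apply]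
    by_cases hN : (x : G) ∈ N
    · have hx1 : x = 1 := by
        by_contra hne
        exact hx ⟨hN, fun e => hne (Subtype.ext e)⟩
      subst hx1
      rw [Finset.sum_congr rfl fun φ _ => h.side.deg_mu φ ψ (mem_rightSet.1 hψ), Finset.sum_const,
        Finset.card_univ, h.card_left, nsmul_eq_mul, hD.deg ζ hζ]
      ring
    · rw [h.side.supp_sum ψ (mem_rightSet.1 hψ) x fun hk => hN (hD.K_le hk), hD.supp ζ hζ x hN,
        mul_zero, sub_zero]
  have hfs : ∀ x : M, (x : G) ∉ sharp N → f x = 0 := by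
    intro x hx
    have h1 : ∀ ξ ∈ Z, ζ x - ξ x = 0 := fun ξ hξ => by
      have a1 := (hD.base_spec hζ).2.2.1 x hx
      have a2 := (hD.base_spec hξ).2.2.1 x hx
      rw [Pi.sub_apply] at a1 a2
      linear_combination a2 - a1
    have h2 := (hD.base_spec hζ).2.2.1 x hx
    rw [Pi.sub_apply] at h2
    rw [hsplit]
    simp only [Pi.add_apply, Pi.smul_apply, Finset.sum_apply, Pi.sub_apply, smul_eq_mul]
    rw [Finset.sum_eq_zero h1, Finset.sum_eq_zero fun ψ hψ => by
      have := hcolN ψ hψ x hx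
      simpa using this]
    linear_combination -h2
  have hcolker : ∀ ψ ∈ rightSet W₁ W₂, classInner (colChar μ ψ) (kerChar M W₁ N 1) = 0 :=
    fun ψ hψ => by
      rw [colChar, classInner_sum_left,
        Finset.sum_eq_zero fun φ _ => hD.mu_ker h φ (mem_rightSet.1 hψ)]
  have hcolz : ∀ ψ ∈ rightSet W₁ W₂, ∀ ξ ∈ Z, classInner (colChar μ ψ) ξ = 0 := fun ψ _ ξ hξ => by
    rw [colChar, classInner_sum_left, Finset.sum_eq_zero fun φ _ => (hD.mu_zeta h _ hξ).1]
  have hn : classInner f f = (((E : ℝ) * ((E : ℝ) - Nat.card W₁) : ℝ) : ℂ) := by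
    have a1 : classInner A₀ ζ = (Nat.card W₁ : ℂ) := by
      rw [hA₀, classInner_add_left, classInner_add_left, classInner_smul_left,
        classInner_smul_left, classInner_sum_left, classInner_sum_left,
        Finset.sum_congr rfl fun ξ hξ => hD.zeta_zeta hξ hζ, (hD.ker_zeta hζ).1,
        Finset.sum_eq_zero fun ψ hψ => hcolz ψ hψ ζ hζ]
      simp [hζ]
    have a2 : classInner A₀ (kerChar M W₁ N 1) = (Nat.card W₁ : ℂ) := by
      rw [hA₀, classInner_add_left, classInner_add_left, classInner_smul_left,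
        classInner_smul_left, classInner_sum_left, classInner_sum_left,
        Finset.sum_eq_zero fun ξ hξ => (hD.ker_zeta hξ).2, hD.inner_ker_ker,
        Finset.sum_eq_zero hcolker]
      ring
    have a3 : ∀ ξ ∈ Z, classInner A₀ ξ = (Nat.card W₁ : ℂ) := fun ξ hξ => by
      rw [hA₀, classInner_add_left, classInner_add_left, classInner_smul_left,
        classInner_smul_left, classInner_sum_left, classInner_sum_left,
        Finset.sum_congr rfl fun ξ' hξ' => hD.zeta_zeta hξ' hξ, (hD.ker_zeta hξ).1,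
        Finset.sum_eq_zero fun ψ hψ => hcolz ψ hψ ξ hξ]
      simp [hξ]
    have a4 : ∀ ψ ∈ rightSet W₁ W₂, classInner A₀ (colChar μ ψ) =
        (d : ℂ) * Nat.card W₁ := fun ψ hψ => by
      rw [hA₀, classInner_add_left, classInner_add_left, classInner_smul_left,
        classInner_smul_left, classInner_sum_left, classInner_sum_left,
        Finset.sum_eq_zero fun ξ hξ => (by
          rw [← classInner_conj_symm, hcolz ψ hψ ξ hξ, map_zero] :
          classInner ξ (colChar μ ψ) = 0), ← classInner_conj_symm (colChar μ ψ),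
        hcolker ψ hψ, map_zero, Finset.sum_congr rfl fun ψ' _ => h.colChar_inner ψ' ψ]
      simp [hψ]
    have a5 : classInner A₀ A₀ = (Nat.card W₁ : ℂ) * E := by
      conv_lhs => arg 2; rw [hA₀]
      rw [classInner_add_right, classInner_add_right, classInner_smul_right, classInner_smul_right,
        classInner_sum_right, classInner_sum_right, Finset.sum_congr rfl a3, a2,
        Finset.sum_congr rfl a4, Finset.sum_const, Finset.sum_const, hEc]
      simp only [map_natCast, nsmul_eq_mul]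
      linear_combination (Nat.card W₁ : ℂ) * hM1
    rw [hf, classInner_sub_left, classInner_sub_right, classInner_sub_right, classInner_smul_left,
      classInner_smul_left, classInner_smul_right, classInner_smul_right, a5, a1,
      classInner_irr_self (hD.irr ζ hζ), ← classInner_conj_symm A₀ ζ, a1, map_natCast]
    push_cast
    simp only [map_natCast]
    ring
  set χ := derChi M W₁ W₂ N η ζ with hχ
  have hχS : classInner (∑ φ : Left W₁ W₂, η φ.1) χ = 0 := by
    rw [classInner_sum_left]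
    exact Finset.sum_eq_zero fun φ _ => (hD.chi_orth' h hNA hP hζ _).2
  have hY : ∀ ξ ∈ Z, classInner (derY M W₁ N ξ) χ = -(if ξ = ζ then 1 else 0) := fun ξ hξ => by
    rw [hD.derY_eq h hNA hP ξ, classInner_sub_left, hχS, hχ, hD.chi_inner h hNA hP hξ hζ,
      zero_sub]
  have hcoef : classInner (indFun M f) χ = (((E : ℝ) - Nat.card W₁ : ℝ) : ℂ) := by
    have b1 : ∀ ξ ∈ Z, classInner (indFun M (ζ - ξ)) χ = 1 - if ξ = ζ then 1 else 0 := fun ξ hξ => by
      rw [show ζ - ξ = (kerChar M W₁ N 1 - ξ) - (kerChar M W₁ N 1 - ζ) by abel, Char.indFun_sub,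
        classInner_sub_left, ← derY, ← derY, hY ξ hξ, hY ζ hζ, if_pos rfl]
      ring
    have b2 : classInner (indFun M (ζ - kerChar M W₁ N 1)) χ = 1 := by
      rw [show ζ - kerChar M W₁ N 1 = (-1 : ℂ) • (kerChar M W₁ N 1 - ζ) by
        rw [neg_one_smul, neg_sub], Char.indFun_smul, classInner_smul_left, ← derY, hY ζ hζ,
        if_pos rfl]
      ring
    have b3 : ∀ ψ ∈ rightSet W₁ W₂,
        classInner (indFun M ((d : ℂ) • ζ - colChar μ ψ)) χ = (d : ℂ) := fun ψ hψ => by
      rw [show (d : ℂ) • ζ - colChar μ ψ = (-1 : ℂ) • (colChar μ ψ - (d : ℂ) • ζ) by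
        rw [neg_one_smul, neg_sub], Char.indFun_smul, classInner_smul_left, hχ,
        hD.col_inner h hNA hP hb hZ hζ hζ (mem_rightSet.1 hψ), if_pos rfl]
      ring
    rw [hsplit, Char.indFun_add, Char.indFun_add, classInner_add_left, classInner_add_left,
      Char.indFun_smul, Char.indFun_smul, classInner_smul_left, classInner_smul_left,
      Char.indFun_sum, Char.indFun_sum, classInner_sum_left, classInner_sum_left,
      Finset.sum_congr rfl b1, b2, Finset.sum_congr rfl b3, Finset.sum_sub_distrib,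
      Finset.sum_ite_eq', if_pos hζ, Finset.sum_const, Finset.sum_const, nsmul_eq_mul,
      nsmul_eq_mul]
    push_cast
    rw [hEc]
    linear_combination hM1
  set SN := conjAll (sharp N) with hSN
  set SA := conjAll A with hSA
  set SV := conjAll (vSet W₁ W₂) with hSV
  set G₀ : Set G := (SV ∪ SN ∪ SA)ᶜ with hG₀
  have d1 : Disjoint SV SN := hD.sharp_disjoint.symm
  have d2 : Disjoint (SV ∪ SN) SA := Set.disjoint_union_left.2 ⟨hAV.symm, hNA⟩
  have split : ∀ Y : G → ℂ,
      (classInner Y Y).re = mass SV Y + mass SN Y + mass SA Y + mass G₀ Y := fun Y => by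
    rw [hG₀, mass_compl, mass_union d2, mass_union d1]; ring
  have hcov : mass G₀ (fun _ => 1) ≤ mass G₀ χ := by
    refine mass_one_le fun g hg => ?_
    simp only [hG₀, Set.mem_compl_iff, Set.mem_union, not_or] at hg
    obtain ⟨n, hn⟩ := RowUniform.left_value h.selfN h.odd h.fam h.row hg.2 hg.1.1
    have hval : χ g = ((1 + ((Nat.card W₁ : ℤ) - 1) * n : ℤ) : ℂ) := by
      have e0 : derY M W₁ N ζ g = 0 := hD.ind_eq_zero (hD.base_spec hζ).2.2.1 hg.1.2
      rw [hχ, derChi, Pi.sub_apply, e0, sub_zero, Finset.sum_apply,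
        ← Finset.add_sum_erase _ _ (Finset.mem_univ leftOne),
        show (leftOne : Left W₁ W₂).1 = 1 from rfl, h.fam.map_one,
        Finset.sum_congr rfl (g := fun _ => (n : ℂ)) fun φ hφ =>
          hn φ fun e => (Finset.mem_erase.1 hφ).1 (Subtype.ext e), Finset.sum_const,
        Finset.card_erase_of_mem (Finset.mem_univ _), Finset.card_univ, h.card_left, nsmul_eq_mul,
        Nat.cast_sub Nat.card_pos, Nat.cast_one]
      push_cast; rfl
    rw [hval]
    refine one_le_norm_intCast fun e => ?_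
    obtain ⟨l, hl⟩ : Odd (Nat.card W₁) := h.odd.of_dvd_nat (Subgroup.card_subgroup_dvd_card _)
    rw [hl] at e
    push_cast at e
    have h2 : (2 : ℤ) ∣ 1 := ⟨-((l : ℤ) * n), by linear_combination e⟩
    omega
  have e1 := split χ
  rw [hχ, hD.chi_inner h hNA hP hζ hζ, if_pos rfl, Complex.one_re, ← hχ] at e1
  have e3 := split (fun _ => 1)
  rw [classInner_irr_self isIrrCharacter_one, Complex.one_re] at e3
  have hV1 : mass SV (fun _ => 1) = ((Nat.card W₁ : ℝ) - 1) * ((Nat.card W₂ : ℝ) - 1) /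
      (Nat.card W₁ * Nat.card W₂) := by
    rw [hSV, conjAll_vSet_eq, ← h.fam.map_one, mass_vG h.selfN h.fam]
  have n1 := mass_nonneg SV χ
  have n2 := mass_nonneg SA χ
  have hqR : (3 : ℝ) ≤ Nat.card W₁ := by exact_mod_cast h.three_le.1
  have hpR : (3 : ℝ) ≤ Nat.card W₂ := by exact_mod_cast h.three_le.2
  have hmR : (2 : ℝ) ≤ Z.card := by exact_mod_cast hZ
  have hdR : (d : ℝ) = (Nat.card W₁ : ℝ) * Z.card + 1 := by exact_mod_cast hD.card_Z.symm
  have hER : (E : ℝ) = (d : ℝ) + (d : ℝ) ^ 2 * ((Nat.card W₂ : ℝ) - 1) := by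
    rw [hE]; push_cast [Nat.cast_sub (Nat.card_pos (α := W₂))]; ring
  have hEq : (Nat.card W₁ : ℝ) < E := by
    rw [hER, hdR]
    nlinarith [mul_nonneg (sq_nonneg ((Nat.card W₁ : ℝ) * Z.card + 1))
      (show (0 : ℝ) ≤ (Nat.card W₂ : ℝ) - 1 by linarith)]
  have key : ‖classInner (indFun M f) χ‖ ^ 2 ≤
      ((E : ℝ) * ((E : ℝ) - Nat.card W₁)) * mass SN χ := by
    refine (norm_classInner_sq_le (fun g hg => hD.ind_eq_zero hfs hg) χ).trans_eq ?_
    rw [inner_ind hD.dade hfc (hD.big hfs) (hD.big hfs), hn, Complex.ofReal_re]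
  rw [hcoef, Complex.norm_real, Real.norm_eq_abs, sq_abs] at key
  have hE0 : (0 : ℝ) < E := by linarith
  have hmass : 1 - (Nat.card W₁ : ℝ) / E ≤ mass SN χ := by
    rw [one_sub_div hE0.ne', div_le_iff₀ hE0]
    refine le_of_mul_le_mul_left ?_ (show (0 : ℝ) < (E : ℝ) - Nat.card W₁ by linarith)
    calc ((E : ℝ) - Nat.card W₁) * ((E : ℝ) - Nat.card W₁) = ((E : ℝ) - Nat.card W₁) ^ 2 := by ring
      _ ≤ _ := key
      _ = _ := by ring
  refine derived_arith (p := Nat.card W₂) (q := Nat.card W₁) (m := Z.card) (d := d) hpR hqR hmR hdR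
    hV1 (mass_conjAll_sharp_le hD) hA hER ?_
  linarith

end Cfsg.Agent.OddFinal
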