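import Cfsg.Agent.OddFinal.NoSupport
import Cfsg.Agent.S1379

/-!
# Disjointness of the conjugates of `A(S)`, `A(T)`, `V` and of `Ã(L)` (Peterfalvi 8.17)
-/

set_option autoImplicit false
set_option linter.unusedSectionVars false

namespace Cfsg.Agent.OddFinal

open Subgroup Cfsg OddLocal

universe u

variable {G : Type u} [Group G] [Finite G] {M N L S T W₁ W₂ U V K : Subgroup G}

/-- No conjugate of `A` is `B`. -/
def Nonconj (S T : Subgroup G) : Prop :=
  ∀ g : G, T.map (MulAut.conj g).toMonoidHom ≠ S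

theorem Nonconj.symm (h : Nonconj S T) : Nonconj T S := fun g e =>
  h g⁻¹ (by rw [← e, map_conj_inv_cancel])

/-- The two members of a pair are not conjugate. -/
theorem Pair.nonconj (h : Pair S T W₁ W₂ U V) : Nonconj S T := by
  intro g e
  have hi : Function.Injective (MulAut.conj g).toMonoidHom := (MulAut.conj g).injective
  have hS := IsComplIn.card_mul h.dataS.W₁_compl
  have hT := IsComplIn.card_mul h.dataT.W₁_compl
  have h1 : Nat.card S = Nat.card T := by rw [← e, card_map_of_injective hi]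
  have h2 : Nat.card ↥⁅S, S⁆ = Nat.card ↥⁅T, T⁆ := by
    rw [← e, ← map_commutator, card_map_of_injective hi]
  rw [h1, h2, ← hT] at hS
  have hcard : Nat.card W₁ = Nat.card W₂ := Nat.eq_of_mul_eq_mul_left Nat.card_pos hS
  obtain ⟨hne, -, hdis, -, hcyc, -⟩ := h.dataS.selfNormalizing
  haveI := hcyc
  obtain ⟨r, hr, hr1⟩ := exists_prime_dvd_of_ne_bot hne
  haveI := Fact.mk hr
  obtain ⟨a, ha⟩ := exists_prime_orderOf_dvd_card' r hr1
  obtain ⟨b, hb⟩ := exists_prime_orderOf_dvd_card' r (hcard ▸ hr1 : r ∣ Nat.card W₂)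
  have heq : zpowers (a : G) = zpowers (b : G) := eq_of_card_eq_of_isCyclic hcyc
    (zpowers_le.2 (le_sup_left (a := W₁) a.2)) (zpowers_le.2 (le_sup_right (a := W₁) b.2))
    (by rw [Nat.card_zpowers, Nat.card_zpowers, orderOf_coe, orderOf_coe, ha, hb])
  have h3 : (a : G) ∈ W₁ ⊓ W₂ := ⟨a.2,
    (zpowers_le.2 b.2 : zpowers (b : G) ≤ W₂) (heq ▸ mem_zpowers (a : G))⟩
  rw [hdis, mem_bot] at h3
  exact hr.one_lt.ne' (by rw [← ha, ← orderOf_coe, h3, orderOf_one])

variable (hG : IsMinSimpleOddOrder G)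
include hG

/-- `V` is disjoint from every conjugate of `A(M)`. -/
theorem disjoint_typeA_vSet (hM : IsCoatom M) (hd : IsTypePWith M W₁ U W₂) (hn : IsTypeNotI M) :
    Disjoint (conjAll (typeA M)) (conjAll (vSet W₁ W₂)) := by
  rw [Set.disjoint_left]
  rintro g ⟨x, a, ha, rfl⟩ ⟨y, v, hv, e⟩
  have hvc : v ∈ conjIn M (vSet W₁ W₂) := ⟨1, one_mem _, v, hv, by group⟩
  have hm : y⁻¹ * x ∈ M := by
    refine mem_of_typeA0_conj hG hM hn (typeA_subset_typeA0 hG hM ha) ?_
    rw [show y⁻¹ * x * a * (y⁻¹ * x)⁻¹ = y⁻¹ * (x * a * x⁻¹) * y by group, e,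
      show y⁻¹ * (y * v * y⁻¹) * y = v by group]
    exact conjIn_vSet_subset hG hM hd hvc
  have h1 := typeA_invariant hG hM hm ha
  rw [show y⁻¹ * x * a * (y⁻¹ * x)⁻¹ = y⁻¹ * (x * a * x⁻¹) * y by group, e,
    show y⁻¹ * (y * v * y⁻¹) * y = v by group, typeA, if_neg (not_typeI hG hM hn)] at h1
  exact not_mem_derived_of_conjIn hG hM hd hvc h1.1

/-- `A₁(M)` does not meet a conjugate of `A(N)`, for `M` not of Type I. -/
theorem typeA1_not_mem_typeA (hM : IsCoatom M) (hN : IsCoatom N) (hn : IsTypeNotI M)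
    (hnc : Nonconj M N) {a c : G} (ha : a ∈ typeA1 M) (hc : c * a * c⁻¹ ∈ typeA N) : False := by
  have hT := OddTypeOne.tau2Empty hG
  refine (OddTypeOne.centralizer_of_mem hT hG (isCoatom_map_conj hM c) hN
    (OddTypeOne.nonconj_map hnc c) (OddTypeOne.typeA1_conj hG hM ha) hc).1 ?_
  exact OddTypeOne.centralizer_conj_le hG (no_support hG hM hn
    (typeA_subset_typeA0 hG hM (typeA1_subset_typeA hG hM ha)))

/-- An element of `A(M)` with all its primes outside `σ(M)` determines `M`. -/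
theorem unique_of_typeA (hM : IsCoatom M) (hn : IsTypeNotI M) {b : G} (hb : b ∈ typeA M)
    (hσ : ∀ p : ℕ, p.Prime → p ∣ orderOf b → p ∉ sigma M) :
    centralizer ({b} : Set G) ≤ M ∧
      ∀ L : Subgroup G, IsCoatom L → centralizer ({b} : Set G) ≤ L → L = M := by
  rw [typeA, if_neg (not_typeI hG hM hn), typeCore_eq hG hM] at hb
  obtain ⟨hbD, hb1, y, hy, hy1, hby⟩ := hb
  obtain ⟨K', U', h⟩ := exists_decomposition hG hM
  obtain ⟨W₁, U, W₂, hd⟩ := hn.isOfTypeP
  rcases Cfsg.Agent.S1432.result hG M hM y hy hy1 b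
      ⟨commutator_le_self M hbD, mem_centralizer_singleton_iff.2 hby⟩ hb1 hσ with
    ⟨hκ, -⟩ | ⟨-, -, hC, hu⟩
  · obtain ⟨q, hq, hq1⟩ := Nat.exists_prime_and_dvd (mt orderOf_eq_one_iff.mp hb1)
    exact absurd (hκ q hq hq1) ((isPiHallOf_derived hG hM h
      (kappa_of_typeP hG hM h hd)).2.1 q hq (hq1.trans (Subgroup.orderOf_dvd_natCard _ hbD)))
  · exact ⟨hC, hu⟩

/-- The sets `A(M)` of two members not of Type I, not conjugate, have disjoint conjugates. -/
theorem disjoint_typeA (hM : IsCoatom M) (hN : IsCoatom N) (hnM : IsTypeNotI M)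
    (hnN : IsTypeNotI N) (hnc : Nonconj M N) :
    Disjoint (conjAll (typeA M)) (conjAll (typeA N)) := by
  rw [Set.disjoint_left]
  rintro g ⟨x, a, ha, rfl⟩ ⟨y, b, hb, e⟩
  have hc : b = (y⁻¹ * x) * a * (y⁻¹ * x)⁻¹ := by
    rw [show y⁻¹ * x * a * (y⁻¹ * x)⁻¹ = y⁻¹ * (x * a * x⁻¹) * y by group, e]; group
  generalize y⁻¹ * x = c at hc
  have ha1 : a ≠ 1 := fun h => one_not_mem_typeA0 hG hM (h ▸ typeA_subset_typeA0 hG hM ha)
  have key : ∀ (X Y : Subgroup G), IsCoatom X → IsCoatom Y → IsTypeNotI X → Nonconj X Y →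
      ∀ (a b c : G), a ∈ typeA X → b ∈ typeA Y → b = c * a * c⁻¹ →
        ∀ p : ℕ, p.Prime → p ∣ orderOf a → p ∉ sigma X := by
    intro X Y hX hY hnX hXY a b c ha hb hc p hp hd hpσ
    have ha' := OddTypeOne.typeA_subset hG hX ha
    have ho : orderOf (a ^ (orderOf a / p)) = p :=
      orderOf_pow_orderOf_div (orderOf_pos a).ne' hd
    have hne : a ^ (orderOf a / p) ≠ 1 := fun h => hp.one_lt.ne (by rw [← ho, h, orderOf_one])
    refine typeA1_not_mem_typeA hG hX hY hnX hXY (a := a ^ (orderOf a / p)) (c := c) ?_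
      (OddTypeOne.typeA_pow hG hY hb ?_ fun h => hne (conj_eq_one_iff.1 h))
    · rw [typeA1_eq hG hX]
      refine ⟨sigma_elt_mem hG hX (pow_mem ha' _) fun q hq hq1 => ?_, hne⟩
      rw [ho, Nat.prime_dvd_prime_iff_eq hq hp] at hq1
      exact hq1 ▸ hpσ
    · rw [hc, ← conj_pow]
      exact pow_mem (mem_zpowers _) _
  have hb' : b ≠ 1 := fun h => one_not_mem_typeA0 hG hN (h ▸ typeA_subset_typeA0 hG hN hb)
  obtain ⟨h1, -⟩ := unique_of_typeA hG hM hnM ha (key M N hM hN hnM hnc a b c ha hb hc)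
  obtain ⟨-, h2⟩ := unique_of_typeA hG hN hnN hb (key N M hN hM hnN hnc.symm b a c⁻¹ hb ha
    (by rw [hc]; group))
  refine hnc.symm c ?_
  refine h2 _ (isCoatom_map_conj hM c) ?_
  rw [hc]
  exact OddTypeOne.centralizer_conj_le hG h1

/-- The three sets of a pair. -/
theorem Pair.disjoint (h : Pair S T W₁ W₂ U V) :
    Disjoint (conjAll (typeA S)) (conjAll (typeA T)) ∧
      Disjoint (conjAll (typeA S)) (conjAll (vSet W₁ W₂)) ∧
      Disjoint (conjAll (typeA T)) (conjAll (vSet W₁ W₂)) := by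
  refine ⟨disjoint_typeA hG h.maxS h.maxT h.typeS h.typeT h.nonconj,
    disjoint_typeA_vSet hG h.maxS h.dataS h.typeS, ?_⟩
  have := disjoint_typeA_vSet hG h.maxT h.dataT h.typeT
  rwa [vSet_comm] at this

theorem conjAll_mono {A B : Set G} (hAB : A ⊆ B) : conjAll A ⊆ conjAll B := by
  rintro g ⟨x, a, ha, rfl⟩
  exact ⟨x, a, hAB ha, rfl⟩

/-- The kernels of the two sides and `V`. -/
theorem Pair.disjoint_kernels (h : Pair S T W₁ W₂ U V) {KS KT : Subgroup G}
    (hKS : sharp KS ⊆ typeA S) (hKT : sharp KT ⊆ typeA T) :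
    Disjoint (conjAll (sharp KS)) (conjAll (sharp KT)) ∧
      Disjoint (conjAll (sharp KS)) (conjAll (vSet W₁ W₂)) ∧
      Disjoint (conjAll (sharp KT)) (conjAll (vSet W₁ W₂)) := by
  obtain ⟨h1, h2, h3⟩ := h.disjoint hG
  exact ⟨h1.mono (conjAll_mono hG hKS) (conjAll_mono hG hKT),
    h2.mono_left (conjAll_mono hG hKS), h3.mono_left (conjAll_mono hG hKT)⟩

/-- If no non-identity element of `U` fixes a non-identity element of `M_σ` then `A(M) = A₁(M)`. -/
theorem typeA_eq_typeA1_of_free (hM : IsCoatom M) (hd : IsTypePWith M W₁ U W₂)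
    (hII : IsOfTypeII M)
    (hfree : ∀ u ∈ U, ∀ x ∈ fittingHallOf M, u * x = x * u → u = 1 ∨ x = 1) :
    typeA M = typeA1 M := by
  refine subset_antisymm (fun a ha => by_contra fun ha1 => ?_) (typeA1_subset_typeA hG hM)
  obtain ⟨he, -⟩ := decomposition_of_typeI_or_II hG hM (Or.inr ⟨hII, hd.U_compl⟩)
  have ha' := ha
  rw [typeA, if_neg (not_typeI hG hM (Or.inl hII)), typeCore_eq hG hM] at ha'
  obtain ⟨haD, ha0, y, hy, hy1, hay⟩ := ha'
  have haM := commutator_le_self M haD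
  rw [typeA1_eq hG hM] at ha1
  obtain ⟨p, hp, hpd, hpσ⟩ : ∃ p : ℕ, p.Prime ∧ p ∣ orderOf a ∧ p ∉ sigma M := by
    by_contra hall
    push Not at hall
    exact ha1 ⟨sigma_elt_mem hG hM haM hall, ha0⟩
  have ho : orderOf (a ^ (orderOf a / p)) = p :=
    orderOf_pow_orderOf_div (orderOf_pos a).ne' hpd
  have hidx : ¬ p ∣ U.relIndex ⁅M, M⁆ := by
    have h1 := Coprime.card_mul_relIndex_of_le hd.U_compl.2.1
    rw [← IsComplIn.card_mul hd.U_compl, mul_comm (Nat.card ↥(fittingHallOf M))] at h1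
    rw [Nat.eq_of_mul_eq_mul_left Nat.card_pos h1, he]
    exact fun h => hpσ (piNum_sigmaCore M p hp h)
  obtain ⟨k, hk, hkU⟩ := exists_conj_le_of_relIndex (π := {r | r = p})
    (Coprime.isSolvable_of_le (commutator_le_self M) (isSolvable_coatom hG hM)) hd.U_compl.2.1
    (fun r _ hr => (show r = p from hr) ▸ hidx) (zpowers_le.2 (pow_mem haD (orderOf a / p)))
    (fun r hr hd' => by
      rw [Nat.card_zpowers, ho, Nat.prime_dvd_prime_iff_eq hr hp] at hd'
      exact hd')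
  have hu : k * a ^ (orderOf a / p) * k⁻¹ ∈ U := hkU ⟨_, mem_zpowers _, rfl⟩
  have hx : k * y * k⁻¹ ∈ fittingHallOf M := by
    rw [he]
    exact (mem_normalizer_iff.1 (le_normalizer_sigmaCore M (commutator_le_self M hk)) y).1 hy
  have hcomm : Commute (a ^ (orderOf a / p)) y := (show Commute a y from hay).pow_left _
  rcases hfree _ hu _ hx (hcomm.map (MulAut.conj k).toMonoidHom).eq with h | h
  · exact hp.one_lt.ne (by rw [← ho, conj_eq_one_iff.1 h, orderOf_one])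
  · exact hy1 (conj_eq_one_iff.1 h)

/-- For `L` of Type I, `A(L) = A₁(L) = M_σ \ {1}`. -/
theorem typeA_eq_of_typeI (hL : IsCoatom L) (hI : IsOfTypeI L) : typeA L = typeA1 L :=
  subset_antisymm (fun a ha => by
    rw [typeA1_eq hG hL]
    exact ⟨OddTypeOne.typeA_eq_of_kappa_empty (OddTypeOne.tau2Empty hG) hG hL
      ((OddTypeOne.typeI_iff_kappa (OddTypeOne.tau2Empty hG) hG hL).1 hI) ha,
      fun h => one_not_mem_typeA0 hG hL ((show a = 1 from h) ▸ typeA_subset_typeA0 hG hL ha)⟩)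
    (typeA1_subset_typeA hG hL)

theorem tildeOf_eq_conjAll (hM : IsCoatom M) (hn : IsTypeNotI M) {A : Set G}
    (hA : A ⊆ typeA0 M) : tildeOf M A = conjAll A := by
  ext g
  constructor
  · rintro ⟨a, ha, r, hr, y, rfl⟩
    rw [supportR_eq hG hM hn (hA ha), mem_bot] at hr
    exact ⟨y, a, ha, by rw [hr, mul_one]⟩
  · rintro ⟨y, a, ha, rfl⟩
    exact ⟨a, ha, 1, one_mem _, y, by group⟩

/-- `Ã(L)` for `L` of Type I avoids the conjugates of `A₁(M)`. -/
theorem disjoint_tilde_typeA1 (hL : IsCoatom L) (hI : IsOfTypeI L) (hM : IsCoatom M)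
    (hn : IsTypeNotI M) : Disjoint (tildeOf L (typeA L)) (conjAll (typeA1 M)) := by
  have hnc : ∀ g : G, M ≠ L.map (MulAut.conj g).toMonoidHom := fun g e => by
    obtain ⟨K, U', h⟩ := exists_decomposition hG hM
    obtain ⟨W₁, U, W₂, hd⟩ := hn.isOfTypeP
    have hk : kappa L = ∅ := (OddTypeOne.typeI_iff_kappa (OddTypeOne.tau2Empty hG) hG hL).1 hI
    obtain ⟨r, hr, hr1⟩ := exists_prime_dvd_of_ne_bot (kappa_of_typeP hG hM h hd)
    have hrM := h.hall.2.1 r hr hr1
    have h1 := kappa_subset_map_conj hG hM g⁻¹ hrM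
    rw [e, map_conj_inv_cancel, hk] at h1
    exact h1
  rw [← tildeOf_eq_conjAll hG hM hn
      ((typeA1_subset_typeA hG hM).trans (typeA_subset_typeA0 hG hM)),
    typeA_eq_of_typeI hG hL hI, typeA1_eq hG hL, typeA1_eq hG hM, Set.disjoint_iff_inter_eq_empty]
  exact tildeOf_sigma_disjoint hG hL hM hnc

/-- `Ã(L)` for `L` of Type I avoids the conjugates of `V`. -/
theorem disjoint_tilde_vSet (hL : IsCoatom L) (hI : IsOfTypeI L) (hM : IsCoatom M)
    (hd : IsTypePWith M W₁ U W₂) :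
    Disjoint (tildeOf L (typeA L)) (conjAll (vSet W₁ W₂)) := by
  rw [typeA_eq_of_typeI hG hL hI, typeA1_eq hG hL, Set.disjoint_left]
  rintro g hg ⟨y, v, hv, rfl⟩
  have hP : IsOfTypeP M := ⟨W₁, U, W₂, hd⟩
  obtain ⟨K, U', h⟩ := exists_decomposition hG hM
  have hK := kappa_of_typeP hG hM h hd
  have hv0 : v ∈ typeA0 M := conjIn_vSet_subset hG hM hd ⟨1, one_mem _, v, hv, by group⟩
  rw [typeA0_eq_of_ne hG hM h hK] at hv0
  rcases hv0 with hA | ⟨m, hm, z, hz, rfl⟩
  · rw [typeA, if_neg (not_typeI_of_typeP hG hM hP)] at hA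
    exact not_mem_derived_of_conjIn hG hM hd ⟨1, one_mem _, v, hv, by group⟩ hA.1
  · refine ((Cfsg.Agent.S1379.result hG).2.2 M K U' hM h hK).2 L hL (y * m) z hz ?_
    rw [show y * m * z * (y * m)⁻¹ = y * (m * z * m⁻¹) * y⁻¹ by group]
    exact hg

end Cfsg.Agent.OddFinal
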