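import Cfsg.Agent.OddFinal.FixedFrame
import Cfsg.Agent.Char.Gen
import Cfsg.Agent.Char.Induced

/-!
# The fixed characters `μ ω` of a frame

For a linear character `ω` of `W = W₁ ⊔ W₂`, `lam ω` is the invariant character of `K` agreeing
with `ω` on `W₂`, `ext ω` its extension to `H = K ⊔ W₁` by `ω` on `W₁`, and `mu ω` is either the
inflation of `ω` (when `ω` is trivial on `W₂`) or the character induced from `ext ω`.
-/

set_option autoImplicit false
set_option linter.unusedSectionVars false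

namespace Cfsg.Agent.OddFinal.Fixed

open Subgroup Cfsg Cfsg.Agent.Char CyclicTI
open scoped ComplexConjugate
open scoped _root_.Classical

universe u

variable {L : Type u} [Group L] [Fintype L] {N K W₁ W₂ : Subgroup L} [N.Normal] [K.Normal]

theorem conj_unit {A : Type*} [Group A] [Finite A] (f : A →* ℂˣ) (x : A) :
    conj (f x : ℂ) = ((f⁻¹ : A →* ℂˣ) x : ℂ) := by
  rw [← IsChar.inv_eq_conj (isCharacter_hom f) x, MonoidHom.inv_apply, map_inv]

/-- The restriction to `W₂` of a linear character of `W`. -/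
noncomputable def res₂ (ω : ↥(W₁ ⊔ W₂) →* ℂˣ) : ↥W₂ →* ℂˣ :=
  ω.comp (Subgroup.inclusion le_sup_right)

theorem sum_hom_conj {A : Type*} [Group A] [Fintype A] (f f' : A →* ℂˣ) :
    ∑ k : A, (f k : ℂ) * conj (f' k : ℂ) = if f = f' then (Nat.card A : ℂ) else 0 := by
  have e := classInner_hom f f'
  have hc : (Nat.card A : ℂ) ≠ 0 := Nat.cast_ne_zero.2 Nat.card_pos.ne'
  simp only [classInner, inv_mul_eq_iff_eq_mul₀ hc] at e
  rw [e]
  split_ifs <;> ring

namespace Frame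

variable (h : Frame N K W₁ W₂)
include h

/-- The invariant character of `K` agreeing with `ω` on `W₂`. -/
noncomputable def lam (ω : ↥(W₁ ⊔ W₂) →* ℂˣ) : ↥K →* ℂˣ := (h.ext (res₂ ω)).choose

theorem lam_inv (ω : ↥(W₁ ⊔ W₂) →* ℂˣ) : Inv W₁ (h.lam ω) :=
  (h.ext (res₂ ω)).choose_spec.1

theorem lam_apply (ω : ↥(W₁ ⊔ W₂) →* ℂˣ) {b : L} (hb : b ∈ W₂) :
    h.lam ω ⟨b, h.le₂ hb⟩ = ω ⟨b, mem_sup_right hb⟩ :=
  (h.ext (res₂ ω)).choose_spec.2 ⟨b, hb⟩

theorem lam_ne {ω : ↥(W₁ ⊔ W₂) →* ℂˣ} (hω : ¬ ∀ w : ↥(W₁ ⊔ W₂), (w : L) ∈ W₂ → ω w = 1) :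
    h.lam ω ≠ 1 := fun e => hω fun w hw => by
  have h1 := h.lam_apply ω hw
  rw [e, MonoidHom.one_apply] at h1
  exact h1.symm

/-- The subgroup `H = K W₁`. -/
def top (_h : Frame N K W₁ W₂) : Subgroup L := K ⊔ W₁

theorem mem_top {x : L} (hx : x ∈ h.top) :
    x * (h.pair.proj x : L)⁻¹ ∈ K := by
  obtain ⟨k, hk, a, ha, rfl⟩ := mem_sup_of_normal_left.1 hx
  rw [h.pair.proj_mul (h.le hk) ha, mul_inv_cancel_right]
  exact hk

theorem top_inf : h.top ⊓ N = K := by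
  refine le_antisymm (fun x hx => ?_) (le_inf le_sup_left h.le)
  have h1 := h.mem_top hx.1
  rwa [h.pair.proj_mem hx.2, OneMemClass.coe_one, inv_one, mul_one] at h1

/-- The factor in `K` of an element of `H`. -/
noncomputable def kpart (x : ↥h.top) : ↥K := ⟨_, h.mem_top x.2⟩

theorem kpart_mul (x y : ↥h.top) : h.kpart (x * y) = h.kpart x *
    ⟨(h.pair.proj (x : L) : L) * (h.kpart y) * (h.pair.proj (x : L) : L)⁻¹,
      Subgroup.Normal.conj_mem ‹_› _ (h.kpart y).2 _⟩ := by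
  refine Subtype.ext ?_
  simp only [kpart, Subgroup.coe_mul, map_mul, mul_inv_rev]
  group

/-- The extension to `H` of `lam ω`, by `ω` on `W₁`. -/
noncomputable def extH (ω : ↥(W₁ ⊔ W₂) →* ℂˣ) : ↥h.top →* ℂˣ where
  toFun x := h.lam ω (h.kpart x) * h.pair.lift ω x
  map_one' := by
    rw [show h.kpart 1 = 1 from Subtype.ext (by simp [kpart]), map_one, OneMemClass.coe_one,
      map_one, mul_one]
  map_mul' x y := by
    have h1 : h.lam ω ⟨(h.pair.proj (x : L) : L) * (h.kpart y) * (h.pair.proj (x : L) : L)⁻¹,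
        Subgroup.Normal.conj_mem ‹_› _ (h.kpart y).2 _⟩ = h.lam ω (h.kpart y) := by
      conv_rhs => rw [← h.lam_inv ω _ (inv_mem (h.pair.proj (x : L)).2)]
      rw [cj_apply]
      exact congrArg _ (Subtype.ext (by simp))
    rw [kpart_mul, map_mul, h1, Subgroup.coe_mul, map_mul, mul_mul_mul_comm]

theorem extH_apply_K (ω : ↥(W₁ ⊔ W₂) →* ℂˣ) (x : ↥h.top) (hx : (x : L) ∈ K) :
    h.extH ω x = h.lam ω ⟨x, hx⟩ := by
  show h.lam ω (h.kpart x) * h.pair.lift ω x = _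
  rw [h.pair.lift_mem ω (h.le hx), mul_one]
  exact congrArg _ (Subtype.ext (by simp [kpart, h.pair.proj_mem (h.le hx)]))

theorem W_le_top : W₁ ⊔ W₂ ≤ h.top :=
  sup_le le_sup_right (h.le₂.trans le_sup_left)

theorem extH_apply_W (ω : ↥(W₁ ⊔ W₂) →* ℂˣ) (w : ↥(W₁ ⊔ W₂)) :
    h.extH ω ⟨w, h.W_le_top w.2⟩ = ω w := by
  obtain ⟨a, ha, b, hb, e⟩ := (mem_sup_iff h.pair.comm).1 w.2
  have hw : w = ⟨b, mem_sup_right hb⟩ * ⟨a, mem_sup_left ha⟩ :=
    Subtype.ext (by rw [← e]; exact h.pair.comm a ha b hb)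
  have hx : (⟨w, h.W_le_top w.2⟩ : ↥h.top) = ⟨b, h.W_le_top (mem_sup_right hb)⟩ *
      ⟨a, h.W_le_top (mem_sup_left ha)⟩ :=
    Subtype.ext ((congrArg Subtype.val hw : _) : (w : L) = b * a)
  rw [hx, map_mul, hw, map_mul, h.extH_apply_K ω _ (h.le₂ hb), h.lam_apply ω hb]
  congr 1
  show h.lam ω (h.kpart _) * h.pair.lift ω a = _
  rw [show h.kpart ⟨a, h.W_le_top (mem_sup_left ha)⟩ = 1 from
    Subtype.ext (by simp [kpart, h.pair.proj_self ha]), map_one, one_mul]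
  simp only [PrimePair.lift, MonoidHom.coe_comp, Function.comp_apply]
  exact congrArg ω (Subtype.ext (h.pair.proj_self ha))

theorem extH_one : h.extH 1 = 1 := MonoidHom.ext fun x => by
  show h.lam 1 (h.kpart x) * h.pair.lift 1 x = 1
  have : h.lam 1 = 1 := h.inv_unique (h.lam_inv 1) (fun a _ => cj_hom_one a) fun b => by
    rw [h.lam_apply 1 b.2]; rfl
  rw [this]
  simp [PrimePair.lift]

theorem extH_injective : Function.Injective h.extH := fun ω ω' e =>
  MonoidHom.ext fun w => by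
    have := DFunLike.congr_fun e ⟨w, h.W_le_top w.2⟩
    rwa [h.extH_apply_W, h.extH_apply_W] at this

/-- The linear character of `H` as a function. -/
noncomputable def extC (ω : ↥(W₁ ⊔ W₂) →* ℂˣ) : ↥h.top → ℂ := fun x => (h.extH ω x : ℂ)

/-- The fixed character attached to `ω`. -/
noncomputable def mu (ω : ↥(W₁ ⊔ W₂) →* ℂˣ) : L → ℂ :=
  if ∀ w : ↥(W₁ ⊔ W₂), (w : L) ∈ W₂ → ω w = 1 then fun g => (h.pair.lift ω g : ℂ)
  else indFun h.top (h.extC ω)

/-! ### Values of functions induced from `H` -/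

theorem conj_mem_top {g x : L} (hx : x ∈ h.top) (hxK : x ∉ K) (hg : g⁻¹ * x * g ∈ h.top) :
    g ∈ h.top := by
  obtain ⟨n, hn, c, hc, rfl⟩ := mem_sup_of_normal_left.1
    (show g ∈ N ⊔ W₁ from h.pair.sup ▸ Subgroup.mem_top g)
  have hcH : c ∈ h.top := mem_sup_right hc
  have h1 : n⁻¹ * x * n ∈ h.top := by
    have := h.top.mul_mem (h.top.mul_mem hcH hg) (inv_mem hcH)
    simpa [mul_assoc] using this
  obtain ⟨k, hk, a, ha, rfl⟩ := mem_sup_of_normal_left.1 hx
  have ha1 : a ≠ 1 := fun e => hxK (by simpa [e] using hk)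
  have h2 : n⁻¹ * a * n * a⁻¹ ∈ h.top := by
    have h3 : n⁻¹ * k * n ∈ h.top :=
      mem_sup_left (by simpa using Subgroup.Normal.conj_mem ‹K.Normal› k hk n⁻¹)
    have h4 := h.top.mul_mem (h.top.mul_mem (inv_mem h3) h1) (inv_mem (mem_sup_right ha))
    simpa [mul_assoc] using h4
  have h2' : n⁻¹ * a * n * a⁻¹ ∈ N := by
    rw [show n⁻¹ * a * n * a⁻¹ = n⁻¹ * (a * n * a⁻¹) by group]
    exact N.mul_mem (N.inv_mem hn) (Subgroup.Normal.conj_mem ‹N.Normal› n hn a)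
  exact h.top.mul_mem (mem_sup_left (h.fpf ha ha1 hn (h.top_inf ▸ ⟨h2, h2'⟩))) hcH

theorem ind_apply_out {F : ↥h.top → ℂ} (hF : IsClassFunction ↥h.top F) {x : L} (hx : x ∈ h.top)
    (hxK : x ∉ K) : indFun h.top F x = F ⟨x, hx⟩ := by
  have key : ∀ g : L, extendByZero h.top F (g⁻¹ * x * g) =
      if g ∈ h.top then F ⟨x, hx⟩ else 0 := fun g => by
    split_ifs with hg
    · have hm := h.top.mul_mem (h.top.mul_mem (inv_mem hg) hx) hg
      rw [extendByZero_of_mem _ _ hm]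
      have e := hF ⟨x, hx⟩ ⟨g⁻¹, inv_mem hg⟩
      rw [← e]
      exact congrArg F (Subtype.ext (by simp))
    · exact extendByZero_of_not_mem _ _ fun hm => hg (h.conj_mem_top hx hxK hm)
  simp only [indFun_apply, key, Finset.sum_ite, Finset.sum_const_zero, add_zero, Finset.sum_const,
    nsmul_eq_mul]
  rw [show (Finset.univ.filter (· ∈ h.top)).card = Nat.card h.top by
    rw [Nat.card_eq_fintype_card, Fintype.card_subtype], ← mul_assoc,
    inv_mul_cancel₀ (Nat.cast_ne_zero.2 Nat.card_pos.ne'), one_mul]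

theorem ind_apply_N {F : ↥h.top → ℂ} {x : L} (hxN : x ∈ N) (hxK : x ∉ K) :
    indFun h.top F x = 0 := by
  refine indFun_apply_eq_zero _ _ fun g hg => hxK ?_
  have hgN : g⁻¹ * x * g ∈ N := by
    simpa using Subgroup.Normal.conj_mem ‹N.Normal› x hxN g⁻¹
  have := Subgroup.Normal.conj_mem ‹K.Normal› _ (h.top_inf ▸ ⟨hg, hgN⟩ : g⁻¹ * x * g ∈ K) g
  simpa [mul_assoc] using this

theorem ind_apply_K {F : ↥h.top → ℂ} {f : ↥K →* ℂˣ}
    (hF : ∀ (x : ↥h.top) (hx : (x : L) ∈ K), F x = (f ⟨x, hx⟩ : ℂ)) {x : L} (hx : x ∈ K) :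
    indFun h.top F x = (Nat.card h.top : ℂ)⁻¹ * ∑ g : L, (cj K g f ⟨x, hx⟩ : ℂ) := by
  rw [indFun_apply]
  congr 1
  refine Finset.sum_congr rfl fun g _ => ?_
  have hg : g⁻¹ * x * g ∈ K := by simpa using Subgroup.Normal.conj_mem ‹K.Normal› x hx g⁻¹
  rw [extendByZero_of_mem h.top F (show g⁻¹ * x * g ∈ h.top from mem_sup_left hg), hF _ hg,
    cj_apply]

/-! ### Inner products -/

theorem card_top : Nat.card h.top = Nat.card K * Nat.card W₁ := by
  have e : Nat.card h.top = Nat.card (↥K × ↥W₁) := by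
    refine (Nat.card_congr (Equiv.ofBijective (fun p : ↥K × ↥W₁ =>
      (⟨p.1 * p.2, mul_mem_sup p.1.2 p.2.2⟩ : ↥h.top)) ⟨?_, fun x => ?_⟩)).symm
    · rintro ⟨k, a⟩ ⟨k', a'⟩ e
      have e1 : (k : L) * a = k' * a' := congrArg Subtype.val e
      have ha : a = a' := Subtype.ext (by
        rw [← h.pair.proj_mul (h.le k.2) a.2, e1, h.pair.proj_mul (h.le k'.2) a'.2])
      subst ha
      exact Prod.ext (Subtype.ext (mul_right_cancel e1)) rfl
    · obtain ⟨k, hk, a, ha, e⟩ := mem_sup_of_normal_left.1 x.2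
      exact ⟨(⟨k, hk⟩, ⟨a, ha⟩), Subtype.ext e⟩
  rw [e, Nat.card_prod]

/-- The inner product of two functions induced from `H`. -/
theorem inner_ind_ind (ω ω' : ↥(W₁ ⊔ W₂) →* ℂˣ) :
    classInner (indFun h.top (h.extC ω)) (indFun h.top (h.extC ω')) =
      (if ω = ω' then 1 else 0) + (Nat.card h.top : ℂ)⁻¹ *
        ((Nat.card h.top : ℂ)⁻¹ * (Nat.card K : ℂ) *
            (Nat.card {g : L // cj K g (h.lam ω') = h.lam ω} : ℂ) -
          if h.lam ω = h.lam ω' then (Nat.card K : ℂ) else 0) := by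
  rw [classInner_indFun_left _ _ (isClassFunction_indFun _ _)]
  have hcf : ∀ ν, IsClassFunction ↥h.top (h.extC ν) := fun ν x y => by
    simp [extC, map_mul, mul_comm (h.extH ν y) (h.extH ν x)]
  have h0 : classInner (h.extC ω) (h.extC ω') = if ω = ω' then 1 else 0 := by
    have e := classInner_hom (h.extH ω) (h.extH ω')
    rw [show classInner (h.extC ω) (h.extC ω') =
      if h.extH ω = h.extH ω' then 1 else 0 from e]
    simp only [h.extH_injective.eq_iff]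
  set D : ↥h.top → ℂ := fun x =>
    h.extC ω x * (conj (indFun h.top (h.extC ω') x) - conj (h.extC ω' x)) with hD
  have hsplit : classInner (h.extC ω) (fun x : ↥h.top => indFun h.top (h.extC ω') x) =
      classInner (h.extC ω) (h.extC ω') + (Nat.card h.top : ℂ)⁻¹ * ∑ x, D x := by
    simp only [classInner, hD, mul_sub, Finset.sum_sub_distrib]
    ring
  have hDK : ∑ x, D x = ∑ k : ↥K, D ⟨k, mem_sup_left k.2⟩ := by
    rw [← Finset.sum_subset (Finset.subset_univ (Finset.univ.filter fun x : ↥h.top => (x : L) ∈ K))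
      fun x _ hx => by
        have hxK : (x : L) ∉ K := by simpa using hx
        simp only [hD, h.ind_apply_out (hcf ω') x.2 hxK, sub_self, mul_zero]]
    refine Finset.sum_bij' (fun x hx => (⟨(x : L), (Finset.mem_filter.1 hx).2⟩ : ↥K))
      (fun k _ => ⟨k, mem_sup_left k.2⟩) ?_ ?_ ?_ ?_ ?_
    all_goals intros
    all_goals simp
  have hval : ∀ k : ↥K, D ⟨k, mem_sup_left k.2⟩ = (Nat.card h.top : ℂ)⁻¹ *
      (∑ g : L, (h.lam ω k : ℂ) * conj (cj K g (h.lam ω') k : ℂ)) -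
        (h.lam ω k : ℂ) * conj (h.lam ω' k : ℂ) := fun k => by
    have e : ∀ ν, h.extC ν ⟨k, mem_sup_left k.2⟩ = (h.lam ν k : ℂ) := fun ν => by
      simp only [extC]
      rw [h.extH_apply_K ν _ k.2]
    simp only [hD]
    rw [h.ind_apply_K (f := h.lam ω') (fun x hx => by simp only [extC]; rw [h.extH_apply_K ω' _ hx])
      k.2, e, e, map_mul, map_inv₀, map_natCast, map_sum, mul_sub, ← mul_assoc,
      mul_comm (h.lam ω k : ℂ), mul_assoc, Finset.mul_sum]
  rw [hsplit, h0, hDK, Finset.sum_congr rfl fun k _ => hval k, Finset.sum_sub_distrib,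
    ← Finset.mul_sum, Finset.sum_comm,
    Finset.sum_congr rfl fun g _ => sum_hom_conj (h.lam ω) (cj K g (h.lam ω')), sum_hom_conj]
  congr 3
  rw [Finset.sum_ite, Finset.sum_const_zero, add_zero, Finset.sum_const, nsmul_eq_mul,
    Nat.card_eq_fintype_card (α := {g : L // cj K g (h.lam ω') = h.lam ω}), Fintype.card_subtype]
  rw [show (Finset.univ.filter fun x => h.lam ω = cj K x (h.lam ω')) =
    Finset.univ.filter fun x => cj K x (h.lam ω') = h.lam ω from Finset.ext fun x => by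
      simp [eq_comm]]
  ring

theorem card_stab {ω ω' : ↥(W₁ ⊔ W₂) →* ℂˣ} (hne : h.lam ω' ≠ 1) :
    Nat.card {g : L // cj K g (h.lam ω') = h.lam ω} =
      if h.lam ω = h.lam ω' then Nat.card h.top else 0 := by
  split_ifs with e
  · refine Nat.card_congr (Equiv.subtypeEquivRight fun g => ?_)
    refine ⟨fun hg => (h.mem_of_cj_eq (h.lam_inv ω') hne (h.lam_inv ω) hg).1, fun hg => ?_⟩
    obtain ⟨k, hk, a, ha, rfl⟩ := mem_sup_of_normal_left.1 hg
    rw [cj_mul, h.lam_inv ω' a ha, cj_of_mem hk, e]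
  · have : IsEmpty {g : L // cj K g (h.lam ω') = h.lam ω} :=
      ⟨fun g => e (h.mem_of_cj_eq (h.lam_inv ω') hne (h.lam_inv ω) g.2).2⟩
    exact Nat.card_of_isEmpty

theorem inner_ind_of_ne (ω : ↥(W₁ ⊔ W₂) →* ℂˣ) {ω' : ↥(W₁ ⊔ W₂) →* ℂˣ}
    (hne : h.lam ω' ≠ 1) :
    classInner (indFun h.top (h.extC ω)) (indFun h.top (h.extC ω')) =
      if ω = ω' then 1 else 0 := by
  rw [h.inner_ind_ind, h.card_stab hne]
  have hc : (Nat.card h.top : ℂ) ≠ 0 := Nat.cast_ne_zero.2 Nat.card_pos.ne'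
  split_ifs <;> (push_cast; field_simp; ring)

theorem isCharacter_ind (ω : ↥(W₁ ⊔ W₂) →* ℂˣ) : IsCharacter L (indFun h.top (h.extC ω)) :=
  isCharacter_indFun _ (isCharacter_hom (h.extH ω))

theorem isIrr_mu (ω : ↥(W₁ ⊔ W₂) →* ℂˣ) : IsIrrCharacter L (h.mu ω) := by
  rw [mu]
  split_ifs with hω
  · exact isIrrCharacter_hom _
  · exact (isIrr_iff_norm_one (h.isCharacter_ind ω)).2
      (by rw [h.inner_ind_of_ne ω (h.lam_ne hω), if_pos rfl])

end Frame

end Cfsg.Agent.OddFinal.Fixed
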