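import Cfsg.Agent.CyclicTI.Semidirect
import Cfsg.Agent.Coprime.Basic
import Mathlib.GroupTheory.FiniteAbelian.Duality

/-!
# A kernel with fixed linear characters inside `L = N ⋊ W₁`

`Frame N K W₁ W₂`: `K` is normal in `L`, `W₂ ≤ K ≤ N`, every linear character of `W₂` extends to a
`W₁`-invariant linear character of `K`, and a nontrivial such character is stabilised in `N` only
by `K`.
-/

set_option autoImplicit false
set_option linter.unusedSectionVars false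

namespace Cfsg.Agent.OddFinal.Fixed

open Subgroup CyclicTI

universe u

variable {L : Type u} [Group L]

/-- The conjugate `k ↦ f (x⁻¹ k x)` of a linear character of a normal subgroup. -/
def cj (K : Subgroup L) [hK : K.Normal] (x : L) (f : ↥K →* ℂˣ) : ↥K →* ℂˣ where
  toFun k := f ⟨x⁻¹ * k * x, by simpa using hK.conj_mem (k : L) k.2 x⁻¹⟩
  map_one' := by
    rw [← map_one f]
    exact congrArg f (Subtype.ext (by simp))
  map_mul' a b := by
    rw [← map_mul f]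
    exact congrArg f (Subtype.ext (by simp [mul_assoc]))

variable {K : Subgroup L} [hK : K.Normal]

theorem cj_apply (x : L) (f : ↥K →* ℂˣ) (k : ↥K) :
    cj K x f k = f ⟨x⁻¹ * k * x, by simpa using hK.conj_mem (k : L) k.2 x⁻¹⟩ := rfl

theorem cj_mul (x y : L) (f : ↥K →* ℂˣ) : cj K (x * y) f = cj K x (cj K y f) :=
  MonoidHom.ext fun k => by
    simp only [cj_apply]
    exact congrArg f (Subtype.ext (by simp [mul_assoc]))

theorem cj_of_mem {x : L} (hx : x ∈ K) (f : ↥K →* ℂˣ) : cj K x f = f :=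
  MonoidHom.ext fun k => by
    rw [cj_apply, show (⟨x⁻¹ * k * x, _⟩ : ↥K) = ⟨x, hx⟩⁻¹ * k * ⟨x, hx⟩ from Subtype.ext rfl,
      map_mul, map_mul, map_inv]
    exact inv_mul_cancel_comm _ _

theorem cj_one (f : ↥K →* ℂˣ) : cj K 1 f = f := cj_of_mem K.one_mem f

theorem cj_hom_one (x : L) : cj K x (1 : ↥K →* ℂˣ) = 1 := rfl

theorem cj_hom_mul (x : L) (f f' : ↥K →* ℂˣ) : cj K x (f * f') = cj K x f * cj K x f' := rfl

theorem cj_hom_inv (x : L) (f : ↥K →* ℂˣ) : cj K x f⁻¹ = (cj K x f)⁻¹ := rfl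

theorem cj_eq_iff {x : L} {f f' : ↥K →* ℂˣ} : cj K x f = f' ↔ f = cj K x⁻¹ f' := by
  constructor <;> rintro rfl
  · rw [← cj_mul, inv_mul_cancel, cj_one]
  · rw [← cj_mul, mul_inv_cancel, cj_one]

/-- `f` is fixed by every element of `A`. -/
def Inv (A : Subgroup L) (f : ↥K →* ℂˣ) : Prop := ∀ a ∈ A, cj K a f = f

/-- `K` with enough fixed linear characters, each of inertia group `K` in `N`. -/
structure Frame (N K W₁ W₂ : Subgroup L) [K.Normal] : Prop where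
  pair : PrimePair N W₁ W₂
  le : K ≤ N
  le₂ : W₂ ≤ K
  ext : ∀ f : ↥W₂ →* ℂˣ, ∃ g : ↥K →* ℂˣ, Inv W₁ g ∧ ∀ b : ↥W₂, g ⟨b, le₂ b.2⟩ = f b
  stab : ∀ g : ↥K →* ℂˣ, Inv W₁ g → g ≠ 1 → ∀ x ∈ N, cj K x g = g → x ∈ K

variable {N W₁ W₂ : Subgroup L} [N.Normal] [Finite L]

theorem exists_conj_mul (hP : PrimePair N W₁ W₂) {x : L} (hx : x ∉ N) :
    ∃ n ∈ N, ∃ a ∈ W₁, a ≠ 1 ∧ ∃ b ∈ W₂, x = n * (a * b) * n⁻¹ := by
  have := Fintype.ofFinite L
  set a : L := (hP.proj x : L) with ha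
  have hxa : x * a⁻¹ ∈ N := hP.mem_of_proj x
  have ha1 : a ≠ 1 := fun e => hx (by simpa [e] using hxa)
  have haW : a ∈ W₁ := (hP.proj x).2
  let Q := ↥N ⧸ W₂.subgroupOf N
  have hmap : ∀ (c : Q) (b : ↥W₂),
      (c.out : L) * (a * b) * (c.out : L)⁻¹ * a⁻¹ ∈ N := fun c b => by
    have e : (c.out : L) * (a * b) * (c.out : L)⁻¹ * a⁻¹ =
        (c.out : L) * (a * ((b : L) * (c.out : L)⁻¹) * a⁻¹) := by group
    rw [e]
    exact N.mul_mem c.out.2 (Subgroup.Normal.conj_mem ‹_› _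
      (N.mul_mem (hP.le₂ b.2) (N.inv_mem c.out.2)) a)
  let F : Q × ↥W₂ → ↥N := fun p => ⟨_, hmap p.1 p.2⟩
  have hinj : Function.Injective F := by
    rintro ⟨c, b⟩ ⟨c', b'⟩ e
    have e1 : (c.out : L) * (a * b) * (c.out : L)⁻¹ = (c'.out : L) * (a * b') * (c'.out : L)⁻¹ :=
      mul_right_cancel (congrArg Subtype.val e)
    have e2 : ((c'.out : L)⁻¹ * c.out) * (a * b) * ((c'.out : L)⁻¹ * c.out)⁻¹ = a * b' := by
      rw [mul_inv_rev, inv_inv, show (c'.out : L)⁻¹ * (c.out : L) * (a * b) * ((c.out : L)⁻¹ * c'.out)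
        = (c'.out : L)⁻¹ * ((c.out : L) * (a * b) * (c.out : L)⁻¹) * c'.out by group, e1]
      group
    set g := (c'.out : L)⁻¹ * c.out with hg
    have hgW : g ∈ W₁ ⊔ W₂ :=
      hP.mem_of_conj haW ha1 b.2 (e2 ▸ mul_mem_sup haW b'.2)
    have hg2 : g ∈ W₂ := by
      obtain ⟨a', ha', b', hb', e'⟩ := (mem_sup_iff hP.comm).1 hgW
      have h1 := hP.proj_mem (N.mul_mem (N.inv_mem c'.out.2) c.out.2)
      rw [← hg, ← e', map_mul, hP.proj_mem (hP.le₂ hb'), mul_one] at h1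
      have h2 : a' = 1 := by rw [← hP.proj_self ha', h1]; rfl
      rw [← e', h2, one_mul]; exact hb'
    have hc : c' = c := by
      rw [← c.out_eq, ← c'.out_eq]
      exact QuotientGroup.eq.2 (mem_subgroupOf.2 hg2)
    subst hc
    exact Prod.ext rfl (Subtype.ext (mul_left_cancel (mul_left_cancel (mul_right_cancel e1))))
  have hcard : Nat.card (Q × ↥W₂) = Nat.card ↥N := by
    rw [Nat.card_prod, card_eq_card_quotient_mul_card_subgroup (W₂.subgroupOf N),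
      Nat.card_congr (subgroupOfEquivOfLe hP.le₂).toEquiv]
  obtain ⟨⟨c, b⟩, hcb⟩ := ((Nat.bijective_iff_injective_and_card F).2 ⟨hinj, hcard⟩).2 ⟨_, hxa⟩
  exact ⟨c.out, c.out.2, a, haW, ha1, b, b.2,
    (mul_right_cancel (congrArg Subtype.val hcb)).symm⟩

theorem coprime_zpowers (hP : PrimePair N W₁ W₂) {a : L} (ha : a ∈ W₁) {H : Subgroup L}
    (hH : H ≤ N) : (Nat.card (zpowers a)).Coprime (Nat.card H) :=
  (hP.coprime.coprime_dvd_left (card_dvd_of_le (zpowers_le.2 ha))).coprime_dvd_right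
    (card_dvd_of_le hH)

theorem mem_W₂_of_commute (hP : PrimePair N W₁ W₂) {a c : L} (ha : a ∈ W₁) (ha1 : a ≠ 1)
    (hc : c ∈ N) (hcc : c ∈ centralizer (zpowers a : Set L)) : c ∈ W₂ :=
  hP.cent a ha ha1 ▸ ⟨hc, centralizer_le (Set.singleton_subset_iff.2 (mem_zpowers a)) hcc⟩

namespace Frame

variable (h : Frame N K W₁ W₂)
include h

/-- `W₁` acts on `N / K` without fixed points. -/
theorem fpf {a u : L} (ha : a ∈ W₁) (ha1 : a ≠ 1) (hu : u ∈ N)
    (hc : u⁻¹ * a * u * a⁻¹ ∈ K) : u ∈ K := by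
  have hstep : ∀ b ∈ zpowers a, u⁻¹ * (b * u * b⁻¹) ∈ K := by
    intro b hb
    have h1 : ∀ b ∈ zpowers a, QuotientGroup.mk' K u * QuotientGroup.mk' K b =
        QuotientGroup.mk' K b * QuotientGroup.mk' K u := by
      rintro _ ⟨j, rfl⟩
      rw [map_zpow]
      refine (Commute.zpow_right ?_ j)
      have h2 := (QuotientGroup.eq_one_iff _).2 hc
      rw [← QuotientGroup.mk'_apply K, map_mul, map_mul, map_mul, map_inv, map_inv,
        mul_inv_eq_one, mul_assoc, inv_mul_eq_iff_eq_mul] at h2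
      exact h2.symm
    refine (QuotientGroup.eq_one_iff _).1 ?_
    rw [← QuotientGroup.mk'_apply K, map_mul, map_mul, map_mul, map_inv, map_inv, ← h1 b hb]
    group
  obtain ⟨n, hn, hcn⟩ := Coprime.exists_fixed_mem_leftCoset (A := zpowers a) (N := K) (k := u)
    le_normalizer_of_normal (coprime_zpowers h.pair ha h.le) (Or.inl inferInstance) hstep
  have h1 : u * n ∈ W₂ := mem_W₂_of_commute h.pair ha ha1 (N.mul_mem hu (h.le hn)) hcn
  simpa using K.mul_mem (h.le₂ h1) (K.inv_mem hn)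

/-- A character fixed by `a ≠ 1` in `W₁` and trivial on `W₂` is trivial. -/
theorem eq_one_of_fixed {a : L} (ha : a ∈ W₁) (ha1 : a ≠ 1) {g : ↥K →* ℂˣ}
    (hg : cj K a g = g) (h2 : ∀ b : ↥W₂, g ⟨b, h.le₂ b.2⟩ = 1) : g = 1 := by
  set Z : Subgroup L := g.ker.map K.subtype with hZ
  have hZK : Z ≤ K := map_subtype_le _
  have hmem : ∀ {k : L} (hk : k ∈ K), k ∈ Z ↔ g ⟨k, hk⟩ = 1 := fun {k} hk => by
    rw [hZ, mem_map]
    constructor
    · rintro ⟨z, hz, rfl⟩; exact hz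
    · exact fun e => ⟨⟨k, hk⟩, e, rfl⟩
  have hval : ∀ (b : L) (hb : b ∈ zpowers a) (k : ↥K),
      g ⟨b * k * b⁻¹, hK.conj_mem (k : L) k.2 b⟩ = g k := by
    intro b hb k
    have hfix : cj K b⁻¹ g = g := by
      obtain ⟨j, hj⟩ := inv_mem hb
      rw [← hj]
      show cj K (a ^ j) g = g
      clear hj
      induction j using Int.induction_on with
      | zero => rw [zpow_zero]; exact cj_one g
      | succ i ih => rw [zpow_add_one, cj_mul, hg, ih]
      | pred i ih =>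
        rw [zpow_sub_one, cj_mul, show cj K a⁻¹ g = g from (cj_eq_iff.1 hg).symm, ih]
    conv_rhs => rw [← hfix]
    exact congrArg g (Subtype.ext (by simp))
  have hZn : zpowers a ≤ normalizer (Z : Set L) := by
    refine zpowers_le.2 (mem_normalizer_iff.2 fun k => ?_)
    constructor
    · intro hk
      rw [hmem (hK.conj_mem k (hZK hk) a), hval a (mem_zpowers a) ⟨k, hZK hk⟩]
      exact (hmem (hZK hk)).1 hk
    · intro hk
      have hkK : k ∈ K := by simpa [mul_assoc] using hK.conj_mem _ (hZK hk) a⁻¹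
      rw [hmem hkK, ← hval a (mem_zpowers a) ⟨k, hkK⟩]
      exact (hmem _).1 hk
  refine MonoidHom.ext fun k => ?_
  obtain ⟨n, hn, hcn⟩ := Coprime.exists_fixed_mem_leftCoset hZn
    (coprime_zpowers h.pair ha (hZK.trans h.le)) (Or.inl inferInstance) (k := (k : L))
    fun b hb => by
      have hbk := hK.conj_mem (k : L) k.2 b
      rw [hmem (K.mul_mem (K.inv_mem k.2) hbk),
        show (⟨(k : L)⁻¹ * (b * k * b⁻¹), _⟩ : ↥K) = k⁻¹ * ⟨b * k * b⁻¹, hbk⟩ from rfl, map_mul,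
        map_inv, hval b hb k, inv_mul_cancel]
  have hkn : (k : L) * n ∈ W₂ :=
    mem_W₂_of_commute h.pair ha ha1 (h.le (K.mul_mem k.2 (hZK hn))) hcn
  have h3 := h2 ⟨_, hkn⟩
  rwa [show (⟨(k : L) * n, _⟩ : ↥K) = k * ⟨n, hZK hn⟩ from rfl, map_mul,
    (hmem (hZK hn)).1 hn, mul_one] at h3

/-- Two invariant characters agreeing on `W₂` are equal. -/
theorem inv_unique {g g' : ↥K →* ℂˣ} (hg : Inv W₁ g) (hg' : Inv W₁ g')
    (he : ∀ b : ↥W₂, g ⟨b, h.le₂ b.2⟩ = g' ⟨b, h.le₂ b.2⟩) : g = g' := by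
  obtain ⟨a, ha, ha1⟩ := SetLike.not_le_iff_exists.1 (fun hle => h.pair.ne₁ (le_bot_iff.1 hle))
  have := h.eq_one_of_fixed ha (fun e => ha1 (mem_bot.2 e)) (g := g * g'⁻¹)
    (by rw [cj_hom_mul, cj_hom_inv, hg a ha, hg' a ha])
    fun b => by rw [MonoidHom.mul_apply, MonoidHom.inv_apply, he b, mul_inv_cancel]
  exact mul_inv_eq_one.1 this

/-- A character fixed by one `a ≠ 1` in `W₁` is fixed by all of `W₁`. -/
theorem inv_of_fixed {a : L} (ha : a ∈ W₁) (ha1 : a ≠ 1) {g : ↥K →* ℂˣ}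
    (hg : cj K a g = g) : Inv W₁ g := by
  obtain ⟨g', hg', he⟩ := h.ext (g.comp (Subgroup.inclusion h.le₂))
  have hge : g = g' := mul_inv_eq_one.1 <| h.eq_one_of_fixed ha ha1 (g := g * g'⁻¹)
    (by rw [cj_hom_mul, cj_hom_inv, hg, hg' a ha]) fun b => by
      rw [MonoidHom.mul_apply, MonoidHom.inv_apply, he b]
      exact mul_inv_cancel _
  exact hge ▸ hg'

/-- The stabiliser of a nontrivial invariant character is `K W₁`. -/
theorem mem_of_cj_eq {g g' : ↥K →* ℂˣ} (hg : Inv W₁ g) (hg1 : g ≠ 1) (hg' : Inv W₁ g') {x : L}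
    (he : cj K x g = g') : x ∈ K ⊔ W₁ ∧ g' = g := by
  obtain ⟨n, hn, c, hc, rfl⟩ := mem_sup_of_normal_left.1
    (show x ∈ N ⊔ W₁ from h.pair.sup ▸ mem_top x)
  rw [cj_mul, hg c hc] at he
  obtain ⟨a, ha, ha1⟩ := SetLike.not_le_iff_exists.1 (fun hle => h.pair.ne₁ (le_bot_iff.1 hle))
  have hm : cj K (n⁻¹ * a * n * a⁻¹) g = g := by
    rw [cj_mul, hg _ (inv_mem ha), cj_mul, cj_mul, he, hg' a ha, ← he, ← cj_mul, inv_mul_cancel,
      cj_one]
  have hmN : n⁻¹ * a * n * a⁻¹ ∈ N := by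
    rw [show n⁻¹ * a * n * a⁻¹ = n⁻¹ * (a * n * a⁻¹) by group]
    exact N.mul_mem (N.inv_mem hn) (Subgroup.Normal.conj_mem ‹_› n hn a)
  have hnK : n ∈ K :=
    h.fpf ha (fun e => ha1 (mem_bot.2 e)) hn (h.stab g hg hg1 _ hmN hm)
  exact ⟨mul_mem_sup hnK hc, by rw [← he, cj_of_mem hnK]⟩

end Frame

/-- Fixed extensions exist when `W₂` meets trivially a normal subgroup with abelian quotient. -/
theorem ext_of_quotient (hP : PrimePair N W₁ W₂) (hKN : K ≤ N) (h2 : W₂ ≤ K) {K₀ : Subgroup L}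
    [hK₀ : K₀.Normal] (hc : ∀ x ∈ K, ∀ y ∈ K, x * y * x⁻¹ * y⁻¹ ∈ K₀) (hb : W₂ ⊓ K₀ = ⊥)
    (f : ↥W₂ →* ℂˣ) : ∃ g : ↥K →* ℂˣ, Inv W₁ g ∧ ∀ b : ↥W₂, g ⟨b, h2 b.2⟩ = f b := by
  have := Fintype.ofFinite L
  have := Fintype.ofFinite ↥W₁
  let V := K.map (QuotientGroup.mk' K₀)
  have : IsMulCommutative ↥V := ⟨⟨fun a b => by
    obtain ⟨x, hx, ex⟩ := a.2
    obtain ⟨y, hy, ey⟩ := b.2
    refine Subtype.ext ?_
    show (a : L ⧸ K₀) * b = b * a
    have h1 := (QuotientGroup.eq_one_iff _).2 (hc x hx y hy)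
    rw [← QuotientGroup.mk'_apply K₀, map_mul, map_mul, map_mul, map_inv, map_inv, mul_inv_eq_one,
      mul_inv_eq_iff_eq_mul] at h1
    rw [← ex, ← ey, h1]⟩⟩
  let : CommGroup ↥V := { (inferInstance : Group ↥V) with mul_comm := mul_comm' }
  let π : ↥K →* ↥V := (QuotientGroup.mk' K₀).subgroupMap K
  let ι : ↥W₂ →* ↥V := π.comp (Subgroup.inclusion h2)
  have hι : Function.Injective ι := (injective_iff_map_eq_one _).2 fun b hbb => by
    have h1 : (b : L) ∈ W₂ ⊓ K₀ :=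
      ⟨b.2, (QuotientGroup.eq_one_iff (b : L)).1 (congrArg Subtype.val hbb)⟩
    rw [hb, mem_bot] at h1
    exact Subtype.ext h1
  obtain ⟨g₀, hg₀⟩ := MonoidHom.domRestrict_surjective ℂ ι.range
    (f.comp (MonoidHom.ofInjective hι).symm.toMonoidHom)
  set g₁ : ↥K →* ℂˣ := g₀.comp π with hg₁def
  have hg₁ : ∀ b : ↥W₂, g₁ ⟨b, h2 b.2⟩ = f b := fun b => by
    have e := DFunLike.congr_fun hg₀ (MonoidHom.ofInjective hι b)
    simp only [MonoidHom.comp_apply, MulEquiv.coe_toMonoidHom, MulEquiv.symm_apply_apply] at e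
    exact e
  set g₂ : ↥K →* ℂˣ := ∏ a : ↥W₁, cj K (a : L) g₁ with hg₂def
  have happly : ∀ k, g₂ k = ∏ a : ↥W₁, cj K (a : L) g₁ k := fun k => by
    rw [hg₂def, MonoidHom.finsetProd_apply]
  have hinv : Inv W₁ g₂ := fun c hc => MonoidHom.ext fun k => by
    rw [cj_apply, happly, happly]
    refine Fintype.prod_equiv (Equiv.mulLeft (⟨c, hc⟩ : ↥W₁)) _ _ fun a => ?_
    simp only [Equiv.coe_mulLeft, Subgroup.coe_mul, cj_apply]
    exact congrArg g₁ (Subtype.ext (by simp [mul_assoc]))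
  have hres : ∀ b : ↥W₂, g₂ ⟨b, h2 b.2⟩ = f b ^ Nat.card W₁ := fun b => by
    rw [happly, Finset.prod_congr rfl fun (a : ↥W₁) _ => show cj K (a : L) g₁ ⟨b, h2 b.2⟩ = f b by
      rw [cj_apply, ← hg₁ b]
      exact congrArg g₁ (Subtype.ext (show (a : L)⁻¹ * b * a = b by
        rw [mul_assoc, ← hP.comm a a.2 b b.2, inv_mul_cancel_left])),
      Finset.prod_const, Finset.card_univ, Nat.card_eq_fintype_card]
  obtain ⟨r, -, hr⟩ := Nat.exists_mul_mod_eq_one_of_coprime (n := Nat.card W₁) (k := Nat.card W₂)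
    (hP.coprime.coprime_dvd_right (card_dvd_of_le hP.le₂))
    ((one_lt_card_iff_ne_bot W₂).2 hP.ne₂)
  refine ⟨g₂ ^ r, fun c hc => MonoidHom.ext fun k => by
    rw [cj_apply, MonoidHom.pow_apply, MonoidHom.pow_apply, ← cj_apply, hinv c hc], fun b => ?_⟩
  have hb1 : f b ^ Nat.card W₂ = 1 := by rw [← map_pow, pow_card_eq_one', map_one]
  rw [MonoidHom.pow_apply, hres, ← pow_mul, ← Nat.mod_add_div (Nat.card W₁ * r) (Nat.card W₂), hr,
    pow_add, pow_mul, hb1, one_pow, mul_one, pow_one]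

end Cfsg.Agent.OddFinal.Fixed
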