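import Cfsg.Agent.OddFinal.Tau
import Cfsg.Agent.OddFinal.EtaUnique

/-!
# The image of a difference of two fixed characters

A generalized character of norm two of `M`, supported in a trivial intersection set and equal to
`ω - ω'` on `vSet W₁ W₂`, induces to `η ω - η ω'` when `ω, ω'` have the same left coordinate.
-/

set_option autoImplicit false
set_option linter.unusedSectionVars false

namespace Cfsg.Agent.OddFinal

open Cfsg Cfsg.Agent.Char CyclicTI
open scoped ComplexConjugate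
open scoped _root_.Classical

universe u

variable {G : Type u} [Group G] [Fintype G] {W₁ W₂ : Subgroup G}
  {η : (↥(W₁ ⊔ W₂) →* ℂˣ) → G → ℂ}

theorem sq_sum_eq_two {a b c e c' e' : ℤ} (h1 : a - b - c + e = 2) (h2 : a - b - c' + e' = 2)
    (h : a ^ 2 + b ^ 2 + c ^ 2 + e ^ 2 + c' ^ 2 + e' ^ 2 ≤ 2) : a = 1 ∧ b = -1 := by
  have hb : ∀ x : ℤ, x ^ 2 ≤ 2 → x = -1 ∨ x = 0 ∨ x = 1 := fun x hx => by
    have h1 : x ≤ 1 := by nlinarith
    have h2 : -1 ≤ x := by nlinarith
    omega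
  rcases hb a (by nlinarith) with rfl | rfl | rfl <;>
    rcases hb b (by nlinarith) with rfl | rfl | rfl <;>
      rcases hb c (by nlinarith) with rfl | rfl | rfl <;>
        rcases hb c' (by nlinarith) with rfl | rfl | rfl <;>
          first | omega | (exfalso; nlinarith)

/-- C3. -/
theorem ind_eq_eta_sub (hW : IsSelfNormalizingCyclic W₁ W₂) (hη : IsCyclicTIFamily W₁ W₂ η)
    (hq : 3 ≤ Nat.card W₁) {M : Subgroup G} [Fintype ↥M] {A : Set G}
    (hD : DadeHypothesis A M (fun _ => (⊥ : Subgroup G))) (hVA : vSet W₁ W₂ ⊆ A)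
    {f : ↥M → ℂ} (hf : IsGeneralizedCharacter ↥M f) (hfA : ∀ x : M, (x : G) ∉ A → f x = 0)
    (hf2 : classInner f f = 2) (φ : Left W₁ W₂) {ψ ψ' : Right W₁ W₂} (hne : ψ ≠ ψ')
    (hfV : ∀ (x : M) (h : (x : G) ∈ W₁ ⊔ W₂), (x : G) ∈ vSet W₁ W₂ →
      f x = ((φ.1 * ψ.1) ⟨x.1, h⟩ : ℂ) - ((φ.1 * ψ'.1) ⟨x.1, h⟩ : ℂ)) :
    indFun M f = η (φ.1 * ψ.1) - η (φ.1 * ψ'.1) := by
  have hfc := IsGen.isClassFunction hf
  set Z : G → ℂ := indFun M f with hZ
  have hZg : IsGeneralizedCharacter G Z := isGeneralized_indFun M hf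
  have hZ2 : classInner Z Z = 2 := by rw [hZ, inner_ind hD hfc hfA hfA, hf2]
  have hinj : ∀ (i i' : Left W₁ W₂) (j j' : Right W₁ W₂),
      i.1 * j.1 = i'.1 * j'.1 ↔ i = i' ∧ j = j' := fun i i' j j' => by
    refine ⟨fun e => ?_, fun e => by rw [e.1, e.2]⟩
    obtain ⟨h1, h2⟩ := (CyclicTI.mul_eq_mul_iff hW.2.2.2.1 i.2 j.2 i'.2 j'.2).1 e
    exact ⟨Subtype.ext h1, Subtype.ext h2⟩
  have hint : ∀ (i : Left W₁ W₂) (j : Right W₁ W₂),
      ∃ n : ℤ, classInner Z (η (i.1 * j.1)) = n := fun i j =>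
    classInner_generalized_int hZg (eta_isGeneralized hη _)
  choose x hx using hint
  set Y : G → ℂ := Z - η (φ.1 * ψ.1) + η (φ.1 * ψ'.1) with hY
  have hYc : IsClassFunction G Y := fun g k => by
    simp only [hY, Pi.sub_apply, Pi.add_apply, isClassFunction_indFun M f g k, hZ,
      eta_isClassFunction hη _ g k]
  have hYV : ∀ w ∈ vSet W₁ W₂, Y w = 0 := fun w hw => by
    have hwM : w ∈ M := hD.subset (hVA hw)
    simp only [hY, Pi.sub_apply, Pi.add_apply, hZ]
    rw [indFun_coe hD hfc hfA (a := ⟨w, hwM⟩) (hVA hw), hfV ⟨w, hwM⟩ hw.1 hw,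
      hη.eq_on _ ⟨w, hw.1⟩ hw.2.1 hw.2.2, hη.eq_on _ ⟨w, hw.1⟩ hw.2.1 hw.2.2]
    ring
  let e : Left W₁ W₂ → Right W₁ W₂ → ℤ := fun i j =>
    (if i = φ ∧ j = ψ' then 1 else 0) - (if i = φ ∧ j = ψ then 1 else 0)
  have hcY : ∀ (i : Left W₁ W₂) (j : Right W₁ W₂),
      classInner Y (η (i.1 * j.1)) = ((x i j + e i j : ℤ) : ℂ) := fun i j => by
    rw [hY, classInner_add_left, classInner_sub_left, hη.orthonormal, hη.orthonormal, hx]
    simp only [hinj, e, eq_comm (a := φ) (b := i), eq_comm (a := ψ) (b := j),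
      eq_comm (a := ψ') (b := j)]
    split_ifs <;> push_cast <;> ring
  have hfour : ∀ i : Left W₁ W₂, i ≠ φ → x φ ψ - x φ ψ' - x i ψ + x i ψ' = 2 := fun i hi => by
    have key : ∀ (i : Left W₁ W₂) (j : Right W₁ W₂), ((x i j + e i j : ℤ) : ℂ) =
        classInner Y (η i.1) + classInner Y (η j.1) - classInner Y (fun _ => 1) := fun i j => by
      rw [← hcY, eta_coeff hη hYc hYV i j]
    have h4 : ((x φ ψ + e φ ψ : ℤ) : ℂ) - ((x φ ψ' + e φ ψ' : ℤ) : ℂ) -
        ((x i ψ + e i ψ : ℤ) : ℂ) + ((x i ψ' + e i ψ' : ℤ) : ℂ) = 0 := by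
      simp only [key]; ring
    have h5 : x φ ψ + e φ ψ - (x φ ψ' + e φ ψ') - (x i ψ + e i ψ) + (x i ψ' + e i ψ') = 0 := by
      exact_mod_cast h4
    simp only [e, hi, hne, Ne.symm hne, false_and, and_false, and_self, if_false, if_true] at h5
    omega
  obtain ⟨i₁, hi₁, i₂, hi₂, hi⟩ : ∃ i₁ : Left W₁ W₂, i₁ ≠ φ ∧ ∃ i₂, i₂ ≠ φ ∧ i₁ ≠ i₂ := by
    have hc : 1 < (Finset.univ.erase φ).card := by
      rw [Finset.card_erase_of_mem (Finset.mem_univ φ), Finset.card_univ, card_left hW]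
      omega
    obtain ⟨a, ha, b, hb, hab⟩ := Finset.one_lt_card.1 hc
    exact ⟨a, (Finset.mem_erase.1 ha).1, b, (Finset.mem_erase.1 hb).1, hab⟩
  let s : Finset (Left W₁ W₂ × Right W₁ W₂) :=
    {(φ, ψ), (φ, ψ'), (i₁, ψ), (i₁, ψ'), (i₂, ψ), (i₂, ψ')}
  have hbessel : (∑ p ∈ s, (x p.1 p.2) ^ 2 : ℤ) ≤ 2 := by
    set P : G → ℂ := ∑ p ∈ s, (x p.1 p.2 : ℂ) • η (p.1.1 * p.2.1) with hP
    have h1 : classInner Z P = ((∑ p ∈ s, (x p.1 p.2) ^ 2 : ℤ) : ℂ) := by
      rw [hP, classInner_sum_right, Int.cast_sum]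
      refine Finset.sum_congr rfl fun p _ => ?_
      rw [classInner_smul_right, hx, map_intCast]
      push_cast; ring
    have h2 : classInner P P = ((∑ p ∈ s, (x p.1 p.2) ^ 2 : ℤ) : ℂ) := by
      rw [hP, classInner_sum_left, Int.cast_sum]
      refine Finset.sum_congr rfl fun p hp => ?_
      rw [classInner_smul_left, classInner_sum_right, Finset.sum_eq_single p]
      · rw [classInner_smul_right, hη.orthonormal, if_pos rfl, map_intCast]
        push_cast; ring
      · intro b _ hb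
        rw [classInner_smul_right, hη.orthonormal, if_neg, mul_zero]
        intro he
        obtain ⟨e1, e2⟩ := (hinj _ _ _ _).1 he
        exact hb (Prod.ext e1.symm e2.symm)
      · exact fun h => absurd hp h
    have h3 : classInner (Z - P) (Z - P) =
        ((2 - ∑ p ∈ s, (x p.1 p.2) ^ 2 : ℤ) : ℂ) := by
      have h1' : classInner P Z = ((∑ p ∈ s, (x p.1 p.2) ^ 2 : ℤ) : ℂ) := by
        rw [← classInner_conj_symm, h1, map_intCast]
      rw [classInner_sub_left, classInner_sub_right, classInner_sub_right, hZ2, h1, h1', h2]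
      push_cast; ring
    have h4 : 0 ≤ (classInner (Z - P) (Z - P)).re := by
      rw [← mass_univ]; exact mass_nonneg _ _
    rw [h3, Complex.intCast_re] at h4
    have : (0 : ℤ) ≤ 2 - ∑ p ∈ s, (x p.1 p.2) ^ 2 := by exact_mod_cast h4
    linarith
  have hd : ∀ (a b : Left W₁ W₂) (c d : Right W₁ W₂), a ≠ b → (a, c) ≠ (b, d) :=
    fun a b c d h e => h (congrArg Prod.fst e)
  have hd' : ∀ (a : Left W₁ W₂), (a, ψ) ≠ (a, ψ') := fun a e => hne (congrArg Prod.snd e)
  simp only [s] at hbessel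
  rw [Finset.sum_insert, Finset.sum_insert, Finset.sum_insert, Finset.sum_insert,
    Finset.sum_insert, Finset.sum_singleton] at hbessel
  · obtain ⟨hA, hB⟩ := sq_sum_eq_two (hfour i₁ hi₁) (hfour i₂ hi₂) (by linarith)
    have h0 : classInner Y Y = 0 := by
      have hne' : φ.1 * ψ.1 ≠ φ.1 * ψ'.1 := fun e => hne ((hinj _ _ _ _).1 e).2
      have e1 : classInner Z (η (φ.1 * ψ.1)) = 1 := by rw [hx, hA]; norm_num
      have e2 : classInner Z (η (φ.1 * ψ'.1)) = -1 := by rw [hx, hB]; norm_num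
      have e1' : classInner (η (φ.1 * ψ.1)) Z = 1 := by rw [← classInner_conj_symm, e1, map_one]
      have e2' : classInner (η (φ.1 * ψ'.1)) Z = -1 := by
        rw [← classInner_conj_symm, e2, map_neg, map_one]
      rw [hY]
      simp only [classInner_add_left, classInner_add_right, classInner_sub_left,
        classInner_sub_right, hZ2, e1, e2, e1', e2', hη.orthonormal, if_pos, hne', Ne.symm hne',
        if_false]
      ring
    have h := (classInner_self_eq_zero Y).1 h0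
    funext g
    have h' := congrFun h g
    simp only [hY, Pi.sub_apply, Pi.add_apply, Pi.zero_apply] at h' ⊢
    linear_combination h'
  all_goals simp only [Finset.mem_insert, Finset.mem_singleton, not_or]
  all_goals simp [hd', hd _ _ _ _ hi₁.symm, hd _ _ _ _ hi₂.symm, hd _ _ _ _ hi]

end Cfsg.Agent.OddFinal
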