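import Cfsg.Agent.OddFinal.FixedValues

/-!
# The irreducible characters induced from regular linear characters of `K`
-/

set_option autoImplicit false
set_option linter.unusedSectionVars false

namespace Cfsg.Agent.OddFinal.Fixed

open Subgroup Cfsg Cfsg.Agent.Char CyclicTI
open scoped ComplexConjugate
open scoped _root_.Classical

universe u

variable {L : Type u} [Group L] [Fintype L] {N K W₁ W₂ : Subgroup L} [N.Normal] [K.Normal]

/-- The nontrivial linear characters of `K` whose stabiliser in `A` is contained in `K`. -/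
def RegIn (A K : Subgroup L) [K.Normal] (g : ↥K →* ℂˣ) : Prop :=
  g ≠ 1 ∧ ∀ x ∈ A, cj K x g = g → x ∈ K

/-- The linear character as a function. -/
noncomputable def homC {A : Type*} [Group A] (g : A →* ℂˣ) : A → ℂ := fun k => (g k : ℂ)

theorem inner_indK (g g' : ↥K →* ℂˣ) :
    classInner (indFun K (homC g)) (indFun K (homC g')) =
      (Nat.card K : ℂ)⁻¹ * (Nat.card {x : L // cj K x g' = g} : ℂ) := by
  rw [classInner_indFun_left _ _ (isClassFunction_indFun _ _)]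
  simp only [classInner]
  congr 1
  have hk : ∀ k : ↥K, conj (indFun K (homC g') k) =
      (Nat.card K : ℂ)⁻¹ * ∑ x : L, conj (cj K x g' k : ℂ) := fun k => by
    rw [indFun_apply_coe_of_normal, map_mul, map_inv₀, map_natCast, map_sum]
    rfl
  simp only [hk, Finset.mul_sum]
  rw [Finset.sum_comm]
  have hx : ∀ x : L, ∑ k : ↥K, homC g k * ((Nat.card K : ℂ)⁻¹ * conj (cj K x g' k : ℂ)) =
      if cj K x g' = g then 1 else 0 := fun x => by
    rw [Finset.sum_congr rfl fun k _ => show homC g k * ((Nat.card K : ℂ)⁻¹ *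
      conj (cj K x g' k : ℂ)) = (Nat.card K : ℂ)⁻¹ * ((g k : ℂ) * conj (cj K x g' k : ℂ)) by
        simp only [homC]; ring, ← Finset.mul_sum, sum_hom_conj]
    by_cases e : g = cj K x g'
    · rw [if_pos e, if_pos e.symm, inv_mul_cancel₀ (Nat.cast_ne_zero.2 Nat.card_pos.ne')]
    · rw [if_neg e, if_neg (Ne.symm e), mul_zero]
  rw [Finset.sum_congr rfl fun x _ => hx x, Finset.sum_boole, Nat.card_eq_fintype_card,
    Fintype.card_subtype]

theorem card_fix_of_reg {g : ↥K →* ℂˣ} (hg : RegIn ⊤ K g) :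
    Nat.card {x : L // cj K x g = g} = Nat.card K :=
  Nat.card_congr (Equiv.subtypeEquivRight fun x =>
    ⟨fun hx => hg.2 x (Subgroup.mem_top x) hx, fun hx => cj_of_mem hx g⟩)

theorem isIrr_indK {g : ↥K →* ℂˣ} (hg : RegIn ⊤ K g) : IsIrrCharacter L (indFun K (homC g)) :=
  (isIrr_iff_norm_one (isCharacter_indFun _ (isCharacter_hom g : IsCharacter ↥K (homC g)))).2
    (show classInner (indFun K (homC g)) (indFun K (homC g)) = 1 by
      rw [inner_indK, card_fix_of_reg hg, inv_mul_cancel₀ (Nat.cast_ne_zero.2 Nat.card_pos.ne')])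

theorem regIn_top_cj {g : ↥K →* ℂˣ} (hg : RegIn ⊤ K g) (y : L) : RegIn ⊤ K (cj K y g) := by
  refine ⟨fun e => hg.1 ?_, fun x _ hx => ?_⟩
  · rwa [cj_eq_iff, cj_hom_one] at e
  · rw [← cj_mul] at hx
    have h1 : cj K (y⁻¹ * (x * y)) g = g := by
      rw [cj_mul, hx, ← cj_mul, inv_mul_cancel, cj_one]
    have h2 := hg.2 _ (Subgroup.mem_top _) h1
    simpa [mul_assoc] using Subgroup.Normal.conj_mem ‹K.Normal› _ h2 y

theorem indK_eq_iff {g g' : ↥K →* ℂˣ} (hg : RegIn ⊤ K g) :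
    indFun K (homC g') = indFun K (homC g) ↔ ∃ x : L, cj K x g = g' := by
  refine ⟨fun e => ?_, fun ⟨x, hx⟩ => ?_⟩
  · by_contra hno
    push Not at hno
    have h0 : classInner (indFun K (homC g')) (indFun K (homC g)) = 0 := by
      rw [inner_indK, @Nat.card_of_isEmpty {x : L // cj K x g = g'} ⟨fun x => hno x.1 x.2⟩,
        Nat.cast_zero, mul_zero]
    rw [e, classInner_irr_self (isIrr_indK hg)] at h0
    exact one_ne_zero h0
  · subst hx
    funext y
    by_cases hy : y ∈ K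
    · rw [show y = ((⟨y, hy⟩ : ↥K) : L) from rfl, indFun_apply_coe_of_normal,
        indFun_apply_coe_of_normal]
      congr 1
      refine Fintype.sum_equiv (Equiv.mulRight x) _ _ fun z => ?_
      simp only [homC, cj_apply, Equiv.coe_mulRight]
      exact congrArg Units.val (congrArg g (Subtype.ext (by simp [mul_assoc])))
    · rw [indFun_apply_of_normal _ _ hy, indFun_apply_of_normal _ _ hy]

variable (K) in
/-- The irreducible characters induced from regular linear characters. -/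
noncomputable def regChars : Finset (L → ℂ) :=
  Finset.image (fun g : {g : ↥K →* ℂˣ // RegIn ⊤ K g} => indFun K (homC g.1))
    (@Finset.univ _ (Fintype.ofFinite _))

instance : Finite {g : ↥K →* ℂˣ // RegIn ⊤ K g} :=
  have := CyclicTI.finite_hom K
  inferInstance

theorem mem_regChars {χ : L → ℂ} :
    χ ∈ regChars K ↔ ∃ g : ↥K →* ℂˣ, RegIn ⊤ K g ∧ indFun K (homC g) = χ := by
  simp [regChars]

theorem regChars_irr : ∀ χ ∈ regChars K, IsIrrCharacter L χ := fun χ hχ => by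
  obtain ⟨g, hg, rfl⟩ := mem_regChars.1 hχ
  exact isIrr_indK hg

theorem regChars_out : ∀ χ ∈ regChars K, ∀ x ∉ K, χ x = 0 := fun χ hχ x hx => by
  obtain ⟨g, -, rfl⟩ := mem_regChars.1 hχ
  exact indFun_apply_of_normal _ _ hx

theorem regChars_one : ∀ χ ∈ regChars K, χ 1 = (K.index : ℂ) := fun χ hχ => by
  obtain ⟨g, -, rfl⟩ := mem_regChars.1 hχ
  rw [indFun_apply_one, homC, map_one, Units.val_one, mul_one]

theorem regChars_conj : ∀ χ ∈ regChars K, Cfsg.conjFun χ ∈ regChars K := fun χ hχ => by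
  obtain ⟨g, hg, rfl⟩ := mem_regChars.1 hχ
  refine mem_regChars.2 ⟨g⁻¹, ⟨fun e => hg.1 (MonoidHom.ext fun k =>
    inv_eq_one.1 (DFunLike.congr_fun e k)), fun x hx e => hg.2 x hx ?_⟩, ?_⟩
  · exact MonoidHom.ext fun k => inv_injective (DFunLike.congr_fun e k)
  · funext y
    show _ = conj (indFun K (homC g) y)
    by_cases hy : y ∈ K
    · rw [show y = ((⟨y, hy⟩ : ↥K) : L) from rfl, indFun_apply_coe_of_normal,
        indFun_apply_coe_of_normal, map_mul, map_inv₀, map_natCast, map_sum]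
      congr 1
      refine Finset.sum_congr rfl fun z _ => ?_
      simp only [homC]
      rw [conj_unit]
    · rw [indFun_apply_of_normal _ _ hy, indFun_apply_of_normal _ _ hy, map_zero]

theorem regChars_sum : ∀ χ ∈ regChars K, ∑ k : ↥K, χ k = 0 := fun χ hχ => by
  obtain ⟨g, hg, rfl⟩ := mem_regChars.1 hχ
  simp only [indFun_apply_coe_of_normal, ← Finset.mul_sum]
  rw [Finset.sum_comm, Finset.sum_eq_zero, mul_zero]
  intro x _
  have hs := sum_hom_conj (cj K x g) 1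
  simp only [MonoidHom.one_apply, Units.val_one, map_one, mul_one] at hs
  show ∑ k : ↥K, (cj K x g k : ℂ) = 0
  rw [hs, if_neg]
  exact fun e => (regIn_top_cj hg x).1 e

theorem card_regChars :
    (regChars K).card * K.index = Nat.card {g : ↥K →* ℂˣ // RegIn ⊤ K g} := by
  let := Fintype.ofFinite {g : ↥K →* ℂˣ // RegIn ⊤ K g}
  let F : {g : ↥K →* ℂˣ // RegIn ⊤ K g} → (L → ℂ) := fun g => indFun K (homC g.1)
  have hreg : regChars K = Finset.image F Finset.univ := Finset.ext fun χ => by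
    rw [mem_regChars, Finset.mem_image]
    exact ⟨fun ⟨g, hg, e⟩ => ⟨⟨g, hg⟩, Finset.mem_univ _, e⟩, fun ⟨g, _, e⟩ => ⟨g.1, g.2, e⟩⟩
  rw [Nat.card_eq_fintype_card (α := {g : ↥K →* ℂˣ // RegIn ⊤ K g}), ← Finset.card_univ,
    Finset.card_eq_sum_card_image F Finset.univ, hreg]
  symm
  rw [Finset.sum_congr rfl (g := fun _ => K.index), Finset.sum_const, smul_eq_mul]
  intro χ hχ
  obtain ⟨g₀, -, rfl⟩ := Finset.mem_image.1 hχ
  rw [← Fintype.card_subtype, ← Nat.card_eq_fintype_card, Subgroup.index_eq_card]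
  let T : L ⧸ K → {g : {g : ↥K →* ℂˣ // RegIn ⊤ K g} // F g = F g₀} := fun c =>
    ⟨⟨cj K c.out g₀.1, regIn_top_cj g₀.2 _⟩, (indK_eq_iff g₀.2).2 ⟨c.out, rfl⟩⟩
  refine (Nat.card_congr (Equiv.ofBijective T ⟨fun c c' e => ?_, fun g => ?_⟩)).symm
  · have e1 : cj K c.out g₀.1 = cj K c'.out g₀.1 := congrArg (fun z => z.1.1) e
    have e2 : cj K (c'.out⁻¹ * c.out) g₀.1 = g₀.1 := by
      rw [cj_mul, e1, ← cj_mul, inv_mul_cancel, cj_one]
    rw [← c.out_eq, ← c'.out_eq]
    exact ((QuotientGroup.eq).2 (g₀.2.2 _ (Subgroup.mem_top _) e2)).symm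
  · obtain ⟨x, hx⟩ := (indK_eq_iff g₀.2).1 g.2
    refine ⟨(x : L ⧸ K), Subtype.ext (Subtype.ext ?_)⟩
    show cj K (x : L ⧸ K).out g₀.1 = g.1.1
    obtain ⟨k, hk⟩ := QuotientGroup.mk_out_eq_mul K x
    rw [hk, cj_mul, cj_of_mem k.2, hx]

namespace Frame

variable (h : Frame N K W₁ W₂)
include h

theorem index_K : K.index = Nat.card W₁ * K.relIndex N := by
  rw [← relIndex_mul_index h.le, h.pair.index_left, mul_comm]

theorem mu_not_mem_regChars (ω : ↥(W₁ ⊔ W₂) →* ℂˣ) : h.mu ω ∉ regChars K := fun hm => by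
  obtain ⟨a, ha, ha1⟩ := SetLike.not_le_iff_exists.1 (fun hle => h.pair.ne₁ (le_bot_iff.1 hle))
  have hw : ((⟨a, mem_sup_left ha⟩ : ↥(W₁ ⊔ W₂)) : L) ∉ W₂ := fun hh => ha1 (by
    have : a ∈ N ⊓ W₁ := ⟨h.pair.le₂ hh, ha⟩
    rwa [h.pair.disj] at this)
  have e := h.mu_apply_W ω hw
  rw [regChars_out _ hm _ (h.not_mem_K hw)] at e
  exact (Units.ne_zero _) e.symm

/-- The translates of the nontrivial invariant characters are the characters regular in `N` that
are not regular in `L`. -/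
theorem card_regIn :
    (regChars K).card * (Nat.card W₁ * K.relIndex N) + (Nat.card W₂ - 1) * K.relIndex N =
      Nat.card {g : ↥K →* ℂˣ // RegIn N K g} := by
  have := CyclicTI.finite_hom K
  rw [← h.index_K, card_regChars]
  let Inv' := {f : ↥W₂ →* ℂˣ // f ≠ 1}
  have hW₂ : Nat.card Inv' = Nat.card W₂ - 1 := by
    have := Fintype.ofFinite (↥W₂ →* ℂˣ)
    have hcyc := h.pair.cyc₂
    let : CommGroup ↥W₂ := { (inferInstance : Group ↥W₂) with mul_comm := hcyc.isMulCommutative.is_comm.comm }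
    rw [Nat.card_eq_fintype_card (α := Inv'), Fintype.card_subtype_compl, Fintype.card_subtype_eq,
      ← Nat.card_eq_fintype_card (α := ↥W₂ →* ℂˣ)]
    congr 1
    exact CommGroup.card_monoidHom_of_hasEnoughRootsOfUnity ↥W₂ ℂ
  have hN : Nat.card (↥N ⧸ K.subgroupOf N) = K.relIndex N := (Subgroup.index_eq_card _).symm
  let ext' : Inv' → (↥K →* ℂˣ) := fun f => (h.ext f.1).choose
  have hext1 : ∀ f, Inv W₁ (ext' f) := fun f => (h.ext f.1).choose_spec.1
  have hext2 : ∀ (f : Inv') (b : ↥W₂), ext' f ⟨b, h.le₂ b.2⟩ = f.1 b :=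
    fun f => (h.ext f.1).choose_spec.2
  have hne : ∀ f, ext' f ≠ 1 := fun f e => f.2 (MonoidHom.ext fun b => by
    rw [← hext2 f b, e]; rfl)
  have hsub : ∀ g, RegIn ⊤ K g → RegIn N K g := fun g hg =>
    ⟨hg.1, fun x _ e => hg.2 x (Subgroup.mem_top x) e⟩
  have hnon : ∀ (f : Inv') (n : L), n ∈ N →
      RegIn N K (cj K n (ext' f)) ∧ ¬ RegIn ⊤ K (cj K n (ext' f)) := fun f n hn => by
    refine ⟨⟨fun e => hne f (by rwa [cj_eq_iff, cj_hom_one] at e), fun x hx e => ?_⟩, fun hr => ?_⟩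
    · have e1 : cj K (n⁻¹ * x * n) (ext' f) = ext' f := by
        rw [cj_mul, cj_mul, e, ← cj_mul, inv_mul_cancel, cj_one]
      have h2 := h.stab _ (hext1 f) (hne f) _ (N.mul_mem (N.mul_mem (N.inv_mem hn) hx) hn) e1
      simpa [mul_assoc] using Subgroup.Normal.conj_mem ‹K.Normal› _ h2 n
    · obtain ⟨a, ha, ha1⟩ := SetLike.not_le_iff_exists.1 (fun hle => h.pair.ne₁ (le_bot_iff.1 hle))
      have h2 := hr.2 (n * a * n⁻¹) (Subgroup.mem_top _) (by
        rw [← cj_mul, show n * a * n⁻¹ * n = n * a by group, cj_mul, hext1 f a ha])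
      have h3 : a ∈ W₁ ⊓ K :=
        ⟨ha, by simpa [mul_assoc] using Subgroup.Normal.conj_mem ‹K.Normal› _ h2 n⁻¹⟩
      rw [h.W₁_inf_K] at h3
      exact ha1 h3
  let T : Inv' × (↥N ⧸ K.subgroupOf N) → {g : ↥K →* ℂˣ // RegIn N K g ∧ ¬ RegIn ⊤ K g} :=
    fun p => ⟨cj K (p.2.out : L) (ext' p.1), hnon p.1 _ p.2.out.2⟩
  have hT : Function.Bijective T := by
    refine ⟨?_, fun g => ?_⟩
    · rintro ⟨f, c⟩ ⟨f', c'⟩ e
      have e1 : cj K (c.out : L) (ext' f) = cj K (c'.out : L) (ext' f') := congrArg Subtype.val e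
      have e2 : cj K ((c'.out : L)⁻¹ * c.out) (ext' f) = ext' f' := by
        rw [cj_mul, e1, ← cj_mul, inv_mul_cancel, cj_one]
      obtain ⟨hm, he⟩ := h.mem_of_cj_eq (hext1 f) (hne f) (hext1 f') e2
      have hf : f = f' := Subtype.ext (MonoidHom.ext fun b => by rw [← hext2, ← hext2, he])
      subst hf
      refine Prod.ext rfl ?_
      rw [← c.out_eq, ← c'.out_eq]
      refine (QuotientGroup.eq.2 (mem_subgroupOf.2 ?_)).symm
      have h5 : (c'.out : L)⁻¹ * c.out ∈ h.top ⊓ N :=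
        mem_inf.2 ⟨hm, N.mul_mem (N.inv_mem c'.out.2) c.out.2⟩
      rw [h.top_inf] at h5
      exact h5
    · obtain ⟨g, hgN, hgT⟩ := g
      obtain ⟨x, hx, hxK⟩ : ∃ x : L, cj K x g = g ∧ x ∉ K := by
        by_contra hno
        push Not at hno
        exact hgT ⟨hgN.1, fun x _ e => hno x e⟩
      obtain ⟨n, hn, a, ha, ha1, b, hb, rfl⟩ :=
        exists_conj_mul h.pair fun hN => hxK (hgN.2 x hN hx)
      set g' := cj K n⁻¹ g with hg'
      have hfix : cj K a g' = g' := by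
        have e : cj K (a * b) g' = g' := by
          rw [hg', ← cj_mul, show a * b * n⁻¹ = n⁻¹ * (n * (a * b) * n⁻¹) by group, cj_mul, hx]
        rwa [cj_mul, cj_of_mem (h.le₂ hb)] at e
      have hinv := h.inv_of_fixed ha ha1 hfix
      have hg'1 : g' ≠ 1 := fun e => hgN.1 (by rwa [hg', cj_eq_iff, cj_hom_one] at e)
      let f : Inv' := ⟨g'.comp (Subgroup.inclusion h.le₂), fun e => hg'1
        (h.eq_one_of_fixed ha ha1 hfix fun b => DFunLike.congr_fun e b)⟩
      have hfe : ext' f = g' := h.inv_unique (hext1 f) hinv fun b => hext2 f b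
      refine ⟨(f, ((⟨n, hn⟩ : ↥N) : ↥N ⧸ K.subgroupOf N)), Subtype.ext ?_⟩
      show cj K (((⟨n, hn⟩ : ↥N) : ↥N ⧸ K.subgroupOf N).out : L) (ext' f) = g
      obtain ⟨k, hk⟩ := QuotientGroup.mk_out_eq_mul (K.subgroupOf N) ⟨n, hn⟩
      rw [hk, hfe, Subgroup.coe_mul, cj_mul, cj_of_mem (mem_subgroupOf.1 k.2), hg', ← cj_mul,
        mul_inv_cancel, cj_one]
  rw [← hW₂, ← hN, ← Nat.card_prod, Nat.card_eq_of_bijective T hT]
  let e : {g : ↥K →* ℂˣ // RegIn ⊤ K g} ⊕ {g : ↥K →* ℂˣ // RegIn N K g ∧ ¬ RegIn ⊤ K g} ≃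
      {g : ↥K →* ℂˣ // RegIn N K g} :=
    { toFun := Sum.elim (fun g => ⟨g.1, hsub _ g.2⟩) fun g => ⟨g.1, g.2.1⟩
      invFun := fun g => if hg : RegIn ⊤ K g.1 then .inl ⟨g.1, hg⟩ else .inr ⟨g.1, g.2, hg⟩
      left_inv := by rintro (g | g) <;> simp [g.2]
      right_inv := fun g => by by_cases hg : RegIn ⊤ K g.1 <;> simp [hg] }
  rw [← Nat.card_congr e, Nat.card_sum]

end Frame

end Cfsg.Agent.OddFinal.Fixed
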