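import Cfsg.Agent.OddFinal.FixedRegular
import Cfsg.Agent.OddFinal.FixedImage
import Cfsg.Agent.OddFinal.Bridge

/-!
# A frame inside a maximal subgroup gives one side of the pair and its bridge
-/

set_option autoImplicit false
set_option linter.unusedSectionVars false

namespace Cfsg.Agent.OddFinal

open Subgroup Cfsg Cfsg.Agent.Char CyclicTI
open scoped ComplexConjugate
open scoped _root_.Classical

universe u

variable {G : Type u} [Group G] [Fintype G]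

/-- Transport of a linear character of `W` to the copy of `W` inside `M`. -/
noncomputable def subHom {M W₁ W₂ : Subgroup G} (h1 : W₁ ≤ M) (h2 : W₂ ≤ M)
    (ω : ↥(W₁ ⊔ W₂) →* ℂˣ) :
    ↥(W₁.subgroupOf M ⊔ W₂.subgroupOf M) →* ℂˣ :=
  ω.comp
    { toFun := fun w => ⟨((w : M) : G), mem_subgroupOf.1 ((subgroupOf_sup h1 h2).symm.le w.2)⟩
      map_one' := rfl
      map_mul' := fun _ _ => rfl }

variable {M W₁ W₂ K : Subgroup G}

theorem subHom_apply (h1 : W₁ ≤ M) (h2 : W₂ ≤ M) (ω : ↥(W₁ ⊔ W₂) →* ℂˣ)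
    (w : ↥(W₁.subgroupOf M ⊔ W₂.subgroupOf M)) (hw : ((w : M) : G) ∈ W₁ ⊔ W₂) :
    subHom h1 h2 ω w = ω ⟨((w : M) : G), hw⟩ := rfl

theorem mem_sub_sup (h1 : W₁ ≤ M) (h2 : W₂ ≤ M) {x : M} (h : (x : G) ∈ W₁ ⊔ W₂) :
    x ∈ W₁.subgroupOf M ⊔ W₂.subgroupOf M := by
  rw [← subgroupOf_sup h1 h2]; exact mem_subgroupOf.2 h

theorem subHom_injective (h1 : W₁ ≤ M) (h2 : W₂ ≤ M) :
    Function.Injective (subHom (W₁ := W₁) (W₂ := W₂) h1 h2) := fun ω ω' e =>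
  MonoidHom.ext fun w => by
    have hwM : (w : G) ∈ M := sup_le h1 h2 w.2
    exact DFunLike.congr_fun e ⟨⟨w, hwM⟩, mem_sub_sup h1 h2 w.2⟩

theorem subHom_mul_apply_right (h1 : W₁ ≤ M) (h2 : W₂ ≤ M) (φ : Left W₁ W₂) (ψ : Right W₁ W₂)
    {w : ↥(W₁.subgroupOf M ⊔ W₂.subgroupOf M)} (hw : (w : M) ∈ W₂.subgroupOf M) :
    subHom h1 h2 (φ.1 * ψ.1) w = subHom h1 h2 ψ.1 w := by
  simp only [subHom, MonoidHom.comp_apply, MonoidHom.mul_apply]
  rw [φ.2 _ (mem_subgroupOf.1 hw), one_mul]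

theorem subHom_ne (h1 : W₁ ≤ M) (h2 : W₂ ≤ M) (φ : Left W₁ W₂) {ψ : Right W₁ W₂}
    (hψ : ψ.1 ≠ 1) : ¬ ∀ w : ↥(W₁.subgroupOf M ⊔ W₂.subgroupOf M), (w : M) ∈ W₂.subgroupOf M →
      subHom h1 h2 (φ.1 * ψ.1) w = 1 := fun hh => hψ (MonoidHom.ext fun v => by
  have key : ∀ b ∈ W₂, ∀ p : b ∈ W₁ ⊔ W₂, ψ.1 ⟨b, p⟩ = 1 := fun b hb p => by
    have h3 := hh ⟨⟨b, h2 hb⟩, mem_sub_sup h1 h2 p⟩ (mem_subgroupOf.2 hb)
    rw [subHom_mul_apply_right h1 h2 φ ψ (mem_subgroupOf.2 hb)] at h3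
    exact h3
  have hle : W₁ ⊔ W₂ ≤ ψ.1.ker.map (W₁ ⊔ W₂).subtype :=
    sup_le (fun a ha => ⟨⟨a, mem_sup_left ha⟩, ψ.2 _ ha, rfl⟩)
      fun b hb => ⟨⟨b, mem_sup_right hb⟩, key b hb _, rfl⟩
  obtain ⟨v', hv', e'⟩ := hle v.2
  rw [← Subtype.ext e']
  exact hv')

theorem subHom_inv (h1 : W₁ ≤ M) (h2 : W₂ ≤ M) (ω : ↥(W₁ ⊔ W₂) →* ℂˣ) :
    subHom h1 h2 ω⁻¹ = (subHom h1 h2 ω)⁻¹ := rfl

theorem conj_cancel {H : Type*} [Group H] (a b : H) : a⁻¹ * (a * b * a⁻¹) * a⁻¹⁻¹ = b := by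
  group

/-- A frame inside `M` gives a side, its bridge, and the number of generic characters. -/
theorem exists_side_of_frame [Fintype ↥M] (hW : IsSelfNormalizingCyclic W₁ W₂)
    {η : (↥(W₁ ⊔ W₂) →* ℂˣ) → G → ℂ} (hη : IsCyclicTIFamily W₁ W₂ η)
    (hq : 3 ≤ Nat.card W₁) (hWM : W₁ ⊔ W₂ ≤ M) (hKM : K ≤ M)
    {N : Subgroup G} (hNM : N ≤ M) [(N.subgroupOf M).Normal] [(K.subgroupOf M).Normal]
    (h : Fixed.Frame (N.subgroupOf M) (K.subgroupOf M) (W₁.subgroupOf M) (W₂.subgroupOf M))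
    (hD : DadeHypothesis (sharp K ∪ conjIn M (vSet W₁ W₂)) M (fun _ => (⊥ : Subgroup G))) :
    ∃ (X : Finset (↥M → ℂ)) (μ : (↥(W₁ ⊔ W₂) →* ℂˣ) → ↥M → ℂ) (π : ↥M → ℂ),
      IsSide M W₁ W₂ K (K.relIndex N) X μ η ∧ IsBridge M W₁ W₂ K (K.relIndex N) X μ π ∧
      X.card * (Nat.card W₁ * K.relIndex N) + (Nat.card W₂ - 1) * K.relIndex N =
        Nat.card {g : ↥(K.subgroupOf M) →* ℂˣ //
          Fixed.RegIn (N.subgroupOf M) (K.subgroupOf M) g} := by
  have h1 : W₁ ≤ M := le_sup_left.trans hWM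
  have h2 : W₂ ≤ M := le_sup_right.trans hWM
  have hcard : ∀ {H : Subgroup G}, H ≤ M → Nat.card (H.subgroupOf M) = Nat.card H :=
    fun hH => Nat.card_congr (subgroupOfEquivOfLe hH).toEquiv
  have hc1 : Nat.card (W₁.subgroupOf M) = Nat.card W₁ := hcard h1
  have hc2 : Nat.card (W₂.subgroupOf M) = Nat.card W₂ := hcard h2
  have hd : (K.subgroupOf M).relIndex (N.subgroupOf M) = K.relIndex N :=
    Subgroup.relIndex_subgroupOf hNM
  have hW₂K : W₂ ≤ K := fun x hx => mem_subgroupOf.1 (h.le₂ (show (⟨x, h2 hx⟩ : M) ∈ _ from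
    mem_subgroupOf.2 hx))
  set e := subHom (W₁ := W₁) (W₂ := W₂) h1 h2 with he
  set μ : (↥(W₁ ⊔ W₂) →* ℂˣ) → ↥M → ℂ := fun ω => h.mu (e ω) with hμ
  have hirr : ∀ ω, IsIrrCharacter ↥M (μ ω) := fun ω => h.isIrr_mu _
  have hout : ∀ {x : M}, x ∉ N.subgroupOf M → ∃ (n : M)
      (w : ↥(W₁.subgroupOf M ⊔ W₂.subgroupOf M)), (w : M) ∉ W₂.subgroupOf M ∧
      x = n * w * n⁻¹ ∧ ((w : M) : G) ∈ W₁ ⊔ W₂ := fun {x} hx => by
    obtain ⟨n, w, hw, ex⟩ := h.exists_W hx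
    exact ⟨n, w, hw, ex, mem_subgroupOf.1 ((subgroupOf_sup h1 h2).symm.le w.2)⟩
  have hW₁ : ∀ {x : M} {n : M} {w : ↥(W₁.subgroupOf M ⊔ W₂.subgroupOf M)},
      (w : M) ∉ W₂.subgroupOf M → x = n * w * n⁻¹ → ((w : M) : G) ∈ W₁ ⊔ W₂ →
      (x : G) ∉ conjIn M (vSet W₁ W₂) → ((w : M) : G) ∈ W₁ := fun {x n w} hw ex hwW hx => by
    by_contra hw1
    exact hx ⟨n, n.2, _, ⟨hwW, hw1, fun hh => hw (mem_subgroupOf.2 hh)⟩, by rw [ex]; rfl⟩
  have hNin : ∀ {x : M}, (x : G) ∉ sharp K → x ∈ N.subgroupOf M → x ≠ 1 →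
      x ∉ K.subgroupOf M := fun {x} hx _ hx1 hK =>
    hx ⟨mem_subgroupOf.1 hK, fun e => hx1 (Subtype.ext e)⟩
  have suppdiff : ∀ (φ : Left W₁ W₂) (ψ ψ' : Right W₁ W₂), ψ.1 ≠ 1 → ψ'.1 ≠ 1 →
      ∀ x : M, (x : G) ∉ sharp K ∪ conjIn M (vSet W₁ W₂) →
        μ (φ.1 * ψ.1) x = μ (φ.1 * ψ'.1) x := fun φ ψ ψ' hψ hψ' x hx => by
    simp only [Set.mem_union, not_or] at hx
    by_cases hN : x ∈ N.subgroupOf M
    · by_cases hx1 : x = 1
      · subst hx1
        simp only [hμ, he]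
        rw [h.mu_one (subHom_ne h1 h2 φ hψ), h.mu_one (subHom_ne h1 h2 φ hψ')]
      · have hK := hNin hx.1 hN hx1
        simp only [hμ, he]
        rw [h.mu_apply_N (subHom_ne h1 h2 φ hψ) hN hK, h.mu_apply_N (subHom_ne h1 h2 φ hψ') hN hK]
    · obtain ⟨n, w, hw, ex, hwW⟩ := hout hN
      have hw1 := hW₁ hw ex hwW hx.2
      simp only [hμ, he]
      rw [h.mu_apply_out _ hw ex, h.mu_apply_out _ hw ex, subHom_apply h1 h2 _ w hwW,
        subHom_apply h1 h2 _ w hwW, MonoidHom.mul_apply, MonoidHom.mul_apply,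
        ψ.2 ⟨_, hwW⟩ hw1, ψ'.2 ⟨_, hwW⟩ hw1]
  have muval : ∀ (φ : Left W₁ W₂) (ψ : Right W₁ W₂) (x : M) (hx : (x : G) ∈ W₁ ⊔ W₂),
      (x : G) ∉ W₂ → μ (φ.1 * ψ.1) x = ((φ.1 * ψ.1) ⟨x.1, hx⟩ : ℂ) := fun φ ψ x hx hx2 => by
    have := h.mu_apply_W (e (φ.1 * ψ.1)) (w := ⟨x, mem_sub_sup h1 h2 hx⟩)
      (fun hh => hx2 (mem_subgroupOf.1 hh))
    exact this
  have hinn : ∀ ω ω', classInner (μ ω) (μ ω') = if ω = ω' then 1 else 0 := fun ω ω' => by
    simp only [hμ, h.mu_inner]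
    exact if_congr (subHom_injective h1 h2).eq_iff rfl rfl
  have hsumK : ∀ (F : M → ℂ) [Fintype ↥K], ∑ k : ↥K, F ⟨k.1, hKM k.2⟩ =
      ∑ k : ↥(K.subgroupOf M), F k := fun F _ =>
    (Fintype.sum_equiv (subgroupOfEquivOfLe hKM).toEquiv _ _ fun k => rfl).symm
  refine ⟨Fixed.regChars (K.subgroupOf M), μ, h.perm, ?_, ?_, ?_⟩
  · refine
      { W_le := hWM
        W₂_le := hW₂K
        K_le := hKM
        K_inf := ?_
        normal := ?_
        card_eq := ?_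
        d_mod := ?_
        dade := hD
        disjoint := ?_
        irr_X := Fixed.regChars_irr
        irr_mu := hirr
        mu_inj := h.mu_injective.comp (subHom_injective h1 h2)
        mu_not_mem := fun ω => h.mu_not_mem_regChars _
        conj_X := Fixed.regChars_conj
        deg_X := ?_
        deg_mu := ?_
        supp_X := fun χ hχ x hx => Fixed.regChars_out χ hχ x fun hK => hx (mem_subgroupOf.1 hK)
        supp_sum := ?_
        supp_diff := suppdiff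
        orth_X := ?_
        orth_mu := ?_
        mu_left := ?_
        mu_left_ker := ?_
        mu_val := fun φ ψ x hx hx2 _ => muval φ ψ x hx hx2
        tau_mu := ?_ }
    · refine eq_bot_iff.2 fun x hx => ?_
      have h3 : (⟨x, h1 hx.1⟩ : M) ∈ W₁.subgroupOf M ⊓ K.subgroupOf M :=
        ⟨mem_subgroupOf.2 hx.1, mem_subgroupOf.2 hx.2⟩
      rw [h.W₁_inf_K, mem_bot] at h3
      exact mem_bot.2 (congrArg Subtype.val h3)
    · exact (Subgroup.normal_subgroupOf_iff_le_normalizer hKM).1 inferInstance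
    · rw [h.pair.card_eq, hc1, hcard hNM, ← Coprime.card_mul_relIndex_of_le (show K ≤ N from
        fun x hx => mem_subgroupOf.1 (h.le (show (⟨x, hKM hx⟩ : M) ∈ _ from mem_subgroupOf.2 hx)))]
      ring
    · rw [← hd, ← hc1]; exact h.relIndex_mod
    · rw [Set.disjoint_left]
      rintro g ⟨hgK, -⟩ ⟨m, hm, w, ⟨hw, -, hw2⟩, rfl⟩
      have h3 : (⟨m, hm⟩ : M) * ⟨w, hWM hw⟩ * ⟨m, hm⟩⁻¹ ∈ K.subgroupOf M := mem_subgroupOf.2 hgK
      have h4 := Subgroup.Normal.conj_mem ‹(K.subgroupOf M).Normal› _ h3 (⟨m, hm⟩ : M)⁻¹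
      rw [conj_cancel] at h4
      exact h.not_mem_K (w := ⟨⟨w, hWM hw⟩, mem_sub_sup h1 h2 hw⟩)
        (fun hh => hw2 (mem_subgroupOf.1 hh)) h4
    · intro χ hχ
      rw [Fixed.regChars_one χ hχ, h.index_K, hc1, hd]
    · intro φ ψ hψ
      simp only [hμ, he]
      rw [h.mu_one (subHom_ne h1 h2 φ hψ), hd]
    · intro ψ hψ x hx
      by_cases hN : x ∈ N.subgroupOf M
      · refine Finset.sum_eq_zero fun φ _ => ?_
        simp only [hμ, he]
        exact h.mu_apply_N (subHom_ne h1 h2 φ hψ) hN fun hK => hx (mem_subgroupOf.1 hK)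
      · obtain ⟨n, w, hw, ex, hwW⟩ := hout hN
        have hval : ∀ φ : Left W₁ W₂, μ (φ.1 * ψ.1) x =
            (φ.1 ⟨_, hwW⟩ : ℂ) * (ψ.1 ⟨_, hwW⟩ : ℂ) := fun φ => by
          simp only [hμ, he]
          rw [h.mu_apply_out _ hw ex, subHom_apply h1 h2 _ w hwW]
          simp
        rw [Finset.sum_congr rfl fun φ _ => hval φ, ← Finset.sum_mul,
          CyclicTI.sum_hom hW.2.2.2.2.1 W₂ ⟨_, hwW⟩, if_neg (fun hh => hw (mem_subgroupOf.2 hh)),
          zero_mul]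
    · intro χ hχ _
      rw [hsumK]
      exact Fixed.regChars_sum χ hχ
    · intro φ ψ hψ _
      rw [hsumK]
      exact h.sum_K_mu (subHom_ne h1 h2 φ hψ)
    · intro φ x hx
      simp only [hμ, he]
      have htriv : ∀ w : ↥(W₁.subgroupOf M ⊔ W₂.subgroupOf M), (w : M) ∈ W₂.subgroupOf M →
          subHom h1 h2 φ.1 w = 1 := fun w hw => φ.2 _ (mem_subgroupOf.1 hw)
      rw [h.mu_of_trivial htriv]
      exact congrArg Units.val (h.pair.lift_coe _ htriv ⟨x, mem_sub_sup h1 h2 hx⟩)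
    · intro φ x hx
      simp only [hμ, he]
      rw [h.mu_of_trivial fun w hw => φ.2 _ (mem_subgroupOf.1 hw)]
      exact congrArg Units.val (h.pair.lift_mem _ (h.le (mem_subgroupOf.2 hx)))
    · intro φ ψ ψ' hψ hψ'
      by_cases hne : ψ = ψ'
      · subst hne
        rw [sub_self, sub_self, indFun_zero]
      refine ind_eq_eta_sub hW hη hq hD
        (fun w hw => Or.inr ⟨1, M.one_mem, w, hw, by group⟩)
        (isGeneralized_sub (isGeneralized_of_isCharacter (IsIrr.isCharacter (hirr _)))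
          (isGeneralized_of_isCharacter (IsIrr.isCharacter (hirr _))))
        (fun x hx => sub_eq_zero.2 (suppdiff φ ψ ψ' hψ hψ' x hx)) ?_ φ hne
        (fun x hx hxV => by rw [Pi.sub_apply, muval φ ψ x hx hxV.2.2, muval φ ψ' x hx hxV.2.2])
      have hne' : φ.1 * ψ.1 ≠ φ.1 * ψ'.1 := fun e' => hne (Subtype.ext (mul_left_cancel e'))
      rw [classInner_sub_left, classInner_sub_right, classInner_sub_right, hinn, hinn, hinn, hinn,
        if_pos rfl, if_pos rfl, if_neg hne', if_neg (Ne.symm hne')]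
      norm_num
  · have hψne : ∀ ψ : Right W₁ W₂, ψ.1 ≠ 1 → ¬ ∀ w : ↥(W₁.subgroupOf M ⊔ W₂.subgroupOf M),
        (w : M) ∈ W₂.subgroupOf M → subHom h1 h2 ψ.1 w = 1 := fun ψ hψ => by
      have := subHom_ne h1 h2 leftOne hψ
      rwa [show (leftOne : Left W₁ W₂).1 * ψ.1 = ψ.1 from MonoidHom.ext fun w => one_mul _] at this
    refine
      { char := h.isCharacter_ind 1
        real := ?_
        val_K := fun x hx => by rw [h.perm_apply_K (mem_subgroupOf.2 hx), hd]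
        val_V := fun x hx => h.perm_apply_out (w := ⟨x, mem_sub_sup h1 h2 hx.1⟩) (n := 1)
          (fun hh => hx.2.2 (mem_subgroupOf.1 hh)) (by simp)
        supp := ?_
        res := ?_
        inner_one := h.perm_inner_one
        inner_self := by rw [← hc1, ← hd]; exact h.perm_inner_self
        orth_mu := fun ψ hψ => h.perm_inner_mu (hψne ψ hψ)
        mu_conj := ?_ }
    · intro x
      by_cases hN : x ∈ N.subgroupOf M
      · by_cases hK : x ∈ K.subgroupOf M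
        · rw [h.perm_apply_K hK, map_natCast]
        · rw [h.perm_apply_N hN hK, map_zero]
      · obtain ⟨n, w, hw, ex, -⟩ := hout hN
        rw [h.perm_apply_out hw ex, map_one]
    · intro ψ hψ x hx
      simp only [Set.mem_union, not_or] at hx
      simp only [hμ, he]
      by_cases hN : x ∈ N.subgroupOf M
      · by_cases hx1 : x = 1
        · subst hx1
          rw [h.perm_apply_K (Subgroup.one_mem _), h.mu_one (hψne ψ hψ)]
        · have hK := hNin hx.1 hN hx1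
          rw [h.perm_apply_N hN hK, h.mu_apply_N (hψne ψ hψ) hN hK]
      · obtain ⟨n, w, hw, ex, hwW⟩ := hout hN
        have hw1 := hW₁ hw ex hwW hx.2
        rw [h.perm_apply_out hw ex, h.mu_apply_out _ hw ex, subHom_apply h1 h2 _ w hwW,
          ψ.2 ⟨_, hwW⟩ hw1]
        simp
    · intro φ ψ hψ x hx
      exact h.mu_res (subHom_ne h1 h2 φ hψ) (fun w hw => subHom_mul_apply_right h1 h2 φ ψ hw)
        (mem_subgroupOf.2 hx)
    · intro ψ ψ' _ e'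
      simp only [hμ, he]
      rw [h.mu_conj, e', subHom_inv]
  · rw [← hd, ← hc1, ← hc2]
    exact h.card_regIn

end Cfsg.Agent.OddFinal
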