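import Cfsg.Agent.OddFinal.FixedChar
import Cfsg.Agent.Coprime.Hall

/-!
# Values and inner products of the fixed characters, and the permutation character
-/

set_option autoImplicit false
set_option linter.unusedSectionVars false

namespace Cfsg.Agent.OddFinal.Fixed

open Subgroup Cfsg Cfsg.Agent.Char CyclicTI
open scoped ComplexConjugate
open scoped _root_.Classical

universe u

variable {L : Type u} [Group L] [Fintype L] {N K W₁ W₂ : Subgroup L} [N.Normal] [K.Normal]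

namespace Frame

variable (h : Frame N K W₁ W₂)
include h

theorem mu_of_trivial {ω : ↥(W₁ ⊔ W₂) →* ℂˣ}
    (hω : ∀ w : ↥(W₁ ⊔ W₂), (w : L) ∈ W₂ → ω w = 1) :
    h.mu ω = fun g => (h.pair.lift ω g : ℂ) := if_pos hω

theorem mu_of_ne {ω : ↥(W₁ ⊔ W₂) →* ℂˣ}
    (hω : ¬ ∀ w : ↥(W₁ ⊔ W₂), (w : L) ∈ W₂ → ω w = 1) :
    h.mu ω = indFun h.top (h.extC ω) := if_neg hω

theorem isClassFunction_extC (ω : ↥(W₁ ⊔ W₂) →* ℂˣ) : IsClassFunction ↥h.top (h.extC ω) :=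
  fun x y => by simp [extC, map_mul, mul_comm (h.extH ω y) (h.extH ω x)]

theorem W₁_inf_K : W₁ ⊓ K = ⊥ :=
  le_bot_iff.1 ((inf_le_inf_left _ h.le).trans (inf_comm N W₁ ▸ h.pair.disj).le)

theorem not_mem_K {w : ↥(W₁ ⊔ W₂)} (hw : (w : L) ∉ W₂) : (w : L) ∉ K := by
  obtain ⟨a, ha, b, hb, e⟩ := (mem_sup_iff h.pair.comm).1 w.2
  intro hK
  rw [← e] at hK
  have h1 : a ∈ W₁ ⊓ K := ⟨ha, by
    simpa using K.mul_mem hK (K.inv_mem (h.le₂ hb))⟩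
  rw [h.W₁_inf_K, mem_bot] at h1
  rw [← e, h1, one_mul] at hw
  exact hw hb

theorem not_mem_N {a b : L} (ha : a ∈ W₁) (ha1 : a ≠ 1) (hb : b ∈ W₂) : a * b ∉ N := fun hN => by
  have h1 : a ∈ N ⊓ W₁ := ⟨by simpa using N.mul_mem hN (N.inv_mem (h.pair.le₂ hb)), ha⟩
  rw [h.pair.disj, mem_bot] at h1
  exact ha1 h1

/-- On `W \ W₂` the fixed character is `ω`. -/
theorem mu_apply_W (ω : ↥(W₁ ⊔ W₂) →* ℂˣ) {w : ↥(W₁ ⊔ W₂)} (hw : (w : L) ∉ W₂) :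
    h.mu ω w = (ω w : ℂ) := by
  by_cases hω : ∀ v : ↥(W₁ ⊔ W₂), (v : L) ∈ W₂ → ω v = 1
  · rw [h.mu_of_trivial hω]
    exact congrArg Units.val (h.pair.lift_coe ω hω w)
  · rw [h.mu_of_ne hω, h.ind_apply_out (h.isClassFunction_extC ω) (h.W_le_top w.2) (h.not_mem_K hw)]
    show (h.extH ω ⟨w, _⟩ : ℂ) = _
    rw [h.extH_apply_W]

theorem mu_apply_N {ω : ↥(W₁ ⊔ W₂) →* ℂˣ}
    (hω : ¬ ∀ w : ↥(W₁ ⊔ W₂), (w : L) ∈ W₂ → ω w = 1) {x : L} (hxN : x ∈ N) (hxK : x ∉ K) :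
    h.mu ω x = 0 := by
  rw [h.mu_of_ne hω, h.ind_apply_N hxN hxK]

theorem mu_apply_K {ω : ↥(W₁ ⊔ W₂) →* ℂˣ}
    (hω : ¬ ∀ w : ↥(W₁ ⊔ W₂), (w : L) ∈ W₂ → ω w = 1) {x : L} (hx : x ∈ K) :
    h.mu ω x = (Nat.card h.top : ℂ)⁻¹ * ∑ g : L, (cj K g (h.lam ω) ⟨x, hx⟩ : ℂ) := by
  rw [h.mu_of_ne hω]
  exact h.ind_apply_K (f := h.lam ω) (fun y hy => by simp only [extC]; rw [h.extH_apply_K ω y hy]) hx

theorem lam_congr {ω ω' : ↥(W₁ ⊔ W₂) →* ℂˣ}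
    (he : ∀ w : ↥(W₁ ⊔ W₂), (w : L) ∈ W₂ → ω w = ω' w) : h.lam ω = h.lam ω' :=
  h.inv_unique (h.lam_inv ω) (h.lam_inv ω') fun b => by
    rw [h.lam_apply ω b.2, h.lam_apply ω' b.2]
    exact he _ b.2

/-- On `K` the fixed character only depends on `ω` on `W₂`. -/
theorem mu_res {ω ω' : ↥(W₁ ⊔ W₂) →* ℂˣ}
    (hω : ¬ ∀ w : ↥(W₁ ⊔ W₂), (w : L) ∈ W₂ → ω w = 1)
    (he : ∀ w : ↥(W₁ ⊔ W₂), (w : L) ∈ W₂ → ω w = ω' w) {x : L} (hx : x ∈ K) :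
    h.mu ω x = h.mu ω' x := by
  rw [h.mu_apply_K hω hx,
    h.mu_apply_K (fun hω' => hω fun w hw => (he w hw).trans (hω' w hw)) hx, h.lam_congr he]

theorem top_index : (Nat.card h.top : ℂ) * (K.relIndex N : ℂ) = (Nat.card L : ℂ) := by
  have e : Nat.card h.top * K.relIndex N = Nat.card L := by
    rw [h.card_top, h.pair.card_eq, ← Coprime.card_mul_relIndex_of_le h.le]
    ring
  exact_mod_cast e

theorem mu_one {ω : ↥(W₁ ⊔ W₂) →* ℂˣ}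
    (hω : ¬ ∀ w : ↥(W₁ ⊔ W₂), (w : L) ∈ W₂ → ω w = 1) : h.mu ω 1 = (K.relIndex N : ℂ) := by
  rw [h.mu_apply_K hω K.one_mem,
    Finset.sum_congr rfl fun g _ => show (cj K g (h.lam ω) ⟨1, K.one_mem⟩ : ℂ) = 1 by
      rw [show (⟨1, K.one_mem⟩ : ↥K) = 1 from rfl, map_one, Units.val_one],
    Finset.sum_const, Finset.card_univ, nsmul_eq_mul, mul_one, ← Nat.card_eq_fintype_card,
    ← h.top_index, ← mul_assoc, inv_mul_cancel₀ (Nat.cast_ne_zero.2 Nat.card_pos.ne'), one_mul]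

theorem sum_K_mu {ω : ↥(W₁ ⊔ W₂) →* ℂˣ}
    (hω : ¬ ∀ w : ↥(W₁ ⊔ W₂), (w : L) ∈ W₂ → ω w = 1) : ∑ k : ↥K, h.mu ω k = 0 := by
  rw [Finset.sum_congr rfl fun (k : ↥K) _ => h.mu_apply_K hω k.2, ← Finset.mul_sum,
    Finset.sum_comm, Finset.sum_eq_zero, mul_zero]
  intro g _
  have := sum_hom_conj (cj K g (h.lam ω)) 1
  simp only [MonoidHom.one_apply, Units.val_one, map_one, mul_one] at this
  rw [this, if_neg]
  intro e
  rw [cj_eq_iff, cj_hom_one] at e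
  exact h.lam_ne hω e

/-- Every element outside `N` is conjugate to `a b` with `a ≠ 1`. -/
theorem exists_W {x : L} (hx : x ∉ N) :
    ∃ (n : L) (w : ↥(W₁ ⊔ W₂)), (w : L) ∉ W₂ ∧ x = n * w * n⁻¹ := by
  obtain ⟨n, -, a, ha, ha1, b, hb, e⟩ := exists_conj_mul h.pair hx
  exact ⟨n, ⟨a * b, mul_mem_sup ha hb⟩, fun h2 => h.not_mem_N ha ha1 hb (h.pair.le₂ h2), e⟩

theorem mu_apply_out (ω : ↥(W₁ ⊔ W₂) →* ℂˣ) {x n : L} {w : ↥(W₁ ⊔ W₂)} (hw : (w : L) ∉ W₂)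
    (e : x = n * w * n⁻¹) : h.mu ω x = (ω w : ℂ) := by
  rw [e, Char.isClassFunction_of_isIrr (h.isIrr_mu ω) (w : L) n, h.mu_apply_W ω hw]

theorem eq_of_eqOn {ω ω' : ↥(W₁ ⊔ W₂) →* ℂˣ}
    (he : ∀ w : ↥(W₁ ⊔ W₂), (w : L) ∉ W₂ → ω w = ω' w) : ω = ω' := by
  obtain ⟨a, ha, ha1⟩ := SetLike.not_le_iff_exists.1 (fun hle => h.pair.ne₁ (le_bot_iff.1 hle))
  have haW₂ : a ∉ W₂ := fun hh => ha1 (by
    have : a ∈ N ⊓ W₁ := ⟨h.pair.le₂ hh, ha⟩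
    rwa [h.pair.disj] at this)
  refine MonoidHom.ext fun w => ?_
  by_cases hw : (w : L) ∈ W₂
  · have h1 := he (⟨a, mem_sup_left ha⟩ * w) fun hh => haW₂ (by
      simpa using W₂.mul_mem hh (W₂.inv_mem hw))
    rwa [map_mul, map_mul, he ⟨a, mem_sup_left ha⟩ haW₂, mul_right_inj] at h1
  · exact he w hw

theorem mu_injective : Function.Injective h.mu := fun ω ω' e => h.eq_of_eqOn fun w hw =>
  Units.ext (by rw [← h.mu_apply_W ω hw, ← h.mu_apply_W ω' hw, e])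

theorem mu_inner (ω ω' : ↥(W₁ ⊔ W₂) →* ℂˣ) :
    classInner (h.mu ω) (h.mu ω') = if ω = ω' then 1 else 0 := by
  rw [classInner_irr (h.isIrr_mu ω) (h.isIrr_mu ω')]
  simp only [h.mu_injective.eq_iff]

theorem lam_inv_hom (ω : ↥(W₁ ⊔ W₂) →* ℂˣ) : h.lam ω⁻¹ = (h.lam ω)⁻¹ :=
  h.inv_unique (h.lam_inv _) (fun a ha => by rw [cj_hom_inv, h.lam_inv ω a ha]) fun b => by
    rw [MonoidHom.inv_apply, h.lam_apply ω b.2, h.lam_apply ω⁻¹ b.2, MonoidHom.inv_apply]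

theorem mu_conj (ω : ↥(W₁ ⊔ W₂) →* ℂˣ) : Cfsg.conjFun (h.mu ω) = h.mu ω⁻¹ := by
  by_cases hω : ∀ w : ↥(W₁ ⊔ W₂), (w : L) ∈ W₂ → ω w = 1
  · funext g
    rw [h.mu_of_trivial hω,
      h.mu_of_trivial fun w hw => by rw [MonoidHom.inv_apply, hω w hw, inv_one]]
    show conj ((h.pair.lift ω g : ℂ)) = _
    rw [conj_unit]
    rfl
  · have hω' : ¬ ∀ w : ↥(W₁ ⊔ W₂), (w : L) ∈ W₂ → ω⁻¹ w = 1 := fun hh => hω fun w hw => by
      simpa using hh w hw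
    funext g
    show conj (h.mu ω g) = _
    by_cases hN : g ∈ N
    · by_cases hK : g ∈ K
      · rw [h.mu_apply_K hω hK, h.mu_apply_K hω' hK, map_mul, map_inv₀, map_natCast, map_sum,
          h.lam_inv_hom]
        congr 1
        refine Finset.sum_congr rfl fun x _ => ?_
        rw [cj_hom_inv, conj_unit]
      · rw [h.mu_apply_N hω hN hK, h.mu_apply_N hω' hN hK, map_zero]
    · obtain ⟨n, w, hw, e⟩ := h.exists_W hN
      rw [h.mu_apply_out ω hw e, h.mu_apply_out ω⁻¹ hw e, conj_unit]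

/-! ### The permutation character on the cosets of `H` -/

/-- The character on the cosets of `K W₁`. -/
noncomputable def perm : L → ℂ := indFun h.top (h.extC 1)

theorem extC_one : h.extC 1 = fun _ => 1 := funext fun x => by
  show (h.extH 1 x : ℂ) = 1
  rw [h.extH_one]; rfl

theorem lam_one : h.lam 1 = 1 :=
  h.inv_unique (h.lam_inv 1) (fun a _ => cj_hom_one a) fun b => by rw [h.lam_apply 1 b.2]; rfl

theorem perm_apply_K {x : L} (hx : x ∈ K) : h.perm x = (K.relIndex N : ℂ) := by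
  rw [perm, h.ind_apply_K (f := (1 : ↥K →* ℂˣ))
    (fun y _ => by rw [h.extC_one]; rfl) hx,
    Finset.sum_congr rfl fun g _ => show (cj K g (1 : ↥K →* ℂˣ) ⟨x, hx⟩ : ℂ) = 1 from rfl,
    Finset.sum_const, Finset.card_univ, nsmul_eq_mul, mul_one, ← Nat.card_eq_fintype_card,
    ← h.top_index, ← mul_assoc, inv_mul_cancel₀ (Nat.cast_ne_zero.2 Nat.card_pos.ne'), one_mul]

theorem perm_apply_N {x : L} (hxN : x ∈ N) (hxK : x ∉ K) : h.perm x = 0 :=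
  h.ind_apply_N hxN hxK

theorem perm_apply_out {x n : L} {w : ↥(W₁ ⊔ W₂)} (hw : (w : L) ∉ W₂)
    (e : x = n * w * n⁻¹) : h.perm x = 1 := by
  rw [e, perm, isClassFunction_indFun _ _ (w : L) n,
    h.ind_apply_out (h.isClassFunction_extC 1) (h.W_le_top w.2) (h.not_mem_K hw), h.extC_one]

theorem perm_inner_one : classInner h.perm (fun _ => 1) = 1 := by
  rw [perm, classInner_indFun_left _ _ (isClassFunction_of_isIrr isIrrCharacter_one), h.extC_one]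
  exact classInner_irr_self isIrrCharacter_one

theorem perm_inner_self :
    (Nat.card W₁ : ℂ) * classInner h.perm h.perm =
      (Nat.card W₁ : ℂ) + (K.relIndex N : ℂ) - 1 := by
  rw [perm, h.inner_ind_ind, if_pos rfl, if_pos rfl, h.lam_one,
    Nat.card_congr (Equiv.subtypeUnivEquiv fun g : L => cj_hom_one g), ← h.top_index, h.card_top]
  have h1 : (Nat.card K : ℂ) ≠ 0 := Nat.cast_ne_zero.2 Nat.card_pos.ne'
  have h2 : (Nat.card W₁ : ℂ) ≠ 0 := Nat.cast_ne_zero.2 Nat.card_pos.ne'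
  push_cast
  field_simp
  ring

theorem perm_inner_mu {ω : ↥(W₁ ⊔ W₂) →* ℂˣ}
    (hω : ¬ ∀ w : ↥(W₁ ⊔ W₂), (w : L) ∈ W₂ → ω w = 1) : classInner h.perm (h.mu ω) = 0 := by
  rw [perm, h.mu_of_ne hω, h.inner_ind_of_ne 1 (h.lam_ne hω), if_neg]
  rintro rfl
  exact hω fun _ _ => rfl

theorem relIndex_mod : K.relIndex N % Nat.card W₁ = 1 := by
  obtain ⟨n, hn⟩ : ∃ n : ℕ, classInner h.perm h.perm = n :=
    classInner_isCharacter_eq_natCast (h.isCharacter_ind 1) (h.isCharacter_ind 1)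
  have e := h.perm_inner_self
  rw [hn] at e
  have e' : Nat.card W₁ * n + 1 = Nat.card W₁ + K.relIndex N := by
    have : ((Nat.card W₁ * n + 1 : ℕ) : ℂ) = ((Nat.card W₁ + K.relIndex N : ℕ) : ℂ) := by
      push_cast
      linear_combination e
    exact_mod_cast this
  have h2 := congrArg (· % Nat.card W₁) e'
  simp only [Nat.mul_add_mod, Nat.add_mod_left] at h2
  rw [← h2, Nat.one_mod_eq_one]
  exact ((one_lt_card_iff_ne_bot W₁).2 h.pair.ne₁).ne'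

end Frame

end Cfsg.Agent.OddFinal.Fixed
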