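import Mathlib

/-!
# The enumeration of coefficient patterns of a generic difference
-/

set_option autoImplicit false

namespace Cfsg.Agent.OddFinal

/-- The squared norm of the coefficient pattern `(a, b)` is at most `q + 1` only for `(0, 0)` and,
when `p = 3`, for `(0, -1)`. -/
theorem pattern_cases {p q a b : ℤ} (hp : 3 ≤ p) (hq : 3 ≤ q)
    (h : p * (q - 1) * a ^ 2 + 2 * (q - 1) * a * ((p - 1) * b + 1) +
      q * ((p - 1) * b ^ 2 + 2 * b + 1) ≤ q + 1) :
    a = 0 ∧ (b = 0 ∨ (p = 3 ∧ b = -1)) := by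
  have h' : (q - 1) * a ^ 2 + ((1 + b) ^ 2 + (p - 2) * b ^ 2) +
      (q - 1) * ((1 + (a + b)) ^ 2 + (p - 2) * (a + b) ^ 2) ≤ q + 1 := by
    linarith
  clear h
  have sqle : ∀ x : ℤ, x ≠ 0 → 1 ≤ x ^ 2 := fun x hx => by
    have := sq_pos_of_ne_zero hx
    omega
  by_cases hs : a + b = 0
  · by_cases hb : b = 0
    · exact ⟨by omega, Or.inl hb⟩
    · exfalso
      have ha := sqle a (by omega)
      rw [hs] at h'
      nlinarith [sqle b hb, sq_nonneg (1 + b), mul_le_mul_of_nonneg_left ha (by omega : 0 ≤ q - 1),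
        mul_le_mul_of_nonneg_left (sqle b hb) (by omega : 0 ≤ p - 2)]
  · have h2 := sqle _ hs
    by_cases hb : b = 0
    · exfalso
      subst hb
      have ha := sqle a (by omega)
      nlinarith [sq_nonneg (1 + (a + 0)), mul_le_mul_of_nonneg_left ha (by omega : 0 ≤ q - 1),
        mul_le_mul (by omega : (1 : ℤ) ≤ p - 2) h2 (by omega) (by omega),
        mul_le_mul_of_nonneg_left h2 (by omega : 0 ≤ q - 1)]
    · have h1 := sqle b hb
      have key : ∀ x : ℤ, x ≠ 0 → p - 2 ≤ (1 + x) ^ 2 + (p - 2) * x ^ 2 := fun x hx => by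
        nlinarith [sq_nonneg (1 + x), sqle x hx]
      rcases eq_or_lt_of_le hp with hp3 | hp3
      · subst hp3
        have k5 : ∀ x : ℤ, x ≠ 0 → x ≠ -1 → 5 ≤ (1 + x) ^ 2 + x ^ 2 := fun x h0 h1 => by
          rcases lt_or_gt_of_ne h0 with h | h
          · have : x ≤ -2 := by omega
            nlinarith
          · nlinarith
        norm_num at h' key
        by_cases hb1 : b = -1
        · subst hb1
          by_cases hs1 : a + -1 = -1
          · exact ⟨by omega, Or.inr ⟨rfl, rfl⟩⟩
          · exfalso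
            have := k5 _ hs hs1
            nlinarith [sq_nonneg a, mul_le_mul_of_nonneg_left this (by omega : 0 ≤ q - 1)]
        · exfalso
          have := k5 _ hb hb1
          nlinarith [sq_nonneg a, mul_le_mul_of_nonneg_left (key _ hs) (by omega : 0 ≤ q - 1)]
      · exfalso
        nlinarith [sq_nonneg a, key b hb,
          mul_le_mul_of_nonneg_left (key _ hs) (by omega : 0 ≤ q - 1)]

end Cfsg.Agent.OddFinal
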