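import Cfsg.Agent.OddFinal.Tau
import Cfsg.Agent.OddFinal.GenericArith

/-!
# The image of the difference of a fixed and a generic character

For `ψ ≠ 1` and a generic `χ`, the induced function of `Σ_φ μ(φψ) - χ` is
`Σ_φ η(φψ) + b Σ_{φ, ψ' ≠ 1} η(φψ') - R χ` with `R` orthonormal and orthogonal to the family;
`b = 0` unless `p = 3`.
-/

set_option autoImplicit false
set_option linter.unusedSectionVars false

namespace Cfsg.Agent.OddFinal

open Cfsg Char CyclicTI
open scoped ComplexConjugate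
open scoped _root_.Classical

universe u

/-- The inner products with `η (φψ)` of a class function vanishing on `B` and on the conjugates
of `vSet` do not depend on `φ ≠ 1`. -/
def RowUniform {G : Type u} [Group G] [Fintype G] {W₁ W₂ : Subgroup G} (B : Set G)
    (η : (↥(W₁ ⊔ W₂) →* ℂˣ) → G → ℂ) : Prop :=
  ∀ Y : G → ℂ, IsClassFunction G Y → (∀ g ∈ B, Y g = 0) →
    (∀ g ∈ conjAll (vSet W₁ W₂), Y g = 0) →
    ∀ (φ φ' : Left W₁ W₂) (ψ : Right W₁ W₂), φ.1 ≠ 1 → φ'.1 ≠ 1 →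
      classInner Y (η (φ.1 * ψ.1)) = classInner Y (η (φ'.1 * ψ.1))

variable {G : Type u} [Group G] [Fintype G]

/-- One member of the pair with its family and the uniformity supplied by the other member. -/
structure Ctx (M W₁ W₂ K : Subgroup G) [Fintype ↥M] (d : ℕ)
    (X : Finset (↥M → ℂ)) (μ : (↥(W₁ ⊔ W₂) →* ℂˣ) → ↥M → ℂ)
    (η : (↥(W₁ ⊔ W₂) →* ℂˣ) → G → ℂ) (B : Set G) : Prop where
  side : IsSide M W₁ W₂ K d X μ η
  selfN : IsSelfNormalizingCyclic W₁ W₂
  fam : IsCyclicTIFamily W₁ W₂ η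
  odd : Odd (Nat.card G)
  row : RowUniform B η
  disj : Disjoint (conjAll (sharp K)) B

variable {M W₁ W₂ K : Subgroup G} [Fintype ↥M] {d : ℕ} {X : Finset (↥M → ℂ)}
  {μ : (↥(W₁ ⊔ W₂) →* ℂˣ) → ↥M → ℂ} {η : (↥(W₁ ⊔ W₂) →* ℂˣ) → G → ℂ} {B : Set G}
  (h : Ctx M W₁ W₂ K d X μ η B)

include h

theorem Ctx.three_le : 3 ≤ Nat.card W₁ ∧ 3 ≤ Nat.card W₂ := by
  have key : ∀ H : Subgroup G, H ≠ ⊥ → 3 ≤ Nat.card H := fun H hH => by
    have h1 := (Subgroup.one_lt_card_iff_ne_bot H).2 hH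
    have h2 : Odd (Nat.card H) := h.odd.of_dvd_nat (Subgroup.card_subgroup_dvd_card H)
    obtain ⟨k, hk⟩ := h2
    omega
  exact ⟨key _ h.selfN.1, key _ h.selfN.2.1⟩

theorem Ctx.eta_gen (ω : ↥(W₁ ⊔ W₂) →* ℂˣ) : IsGeneralizedCharacter G (η ω) := by
  rcases h.fam.irr_or_neg ω with hi | hi
  · exact isGeneralized_of_isCharacter (IsIrr.isCharacter hi)
  · simpa using isGeneralized_neg (isGeneralized_of_isCharacter (IsIrr.isCharacter hi))

theorem Ctx.sharp_disjoint : Disjoint (conjAll (sharp K)) (conjAll (vSet W₁ W₂)) := by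
  rw [Set.disjoint_left]
  rintro g ⟨x, a, ha, rfl⟩ ⟨y, w, hw, he⟩
  have hwM : w ∈ conjIn M (vSet W₁ W₂) := ⟨1, M.one_mem, w, hw, by group⟩
  have he' : w = (y⁻¹ * x) * a * (y⁻¹ * x)⁻¹ := by
    rw [show w = y⁻¹ * (y * w * y⁻¹) * y by group, ← he]; group
  have hm := mem_of_conj h.side.dade (Or.inl ha) (x := y⁻¹ * x) (he' ▸ Or.inr hwM)
  have hwK : w ∈ sharp K := by
    refine ⟨?_, fun h1 => ha.2 ?_⟩
    · rw [he']
      exact (Subgroup.mem_normalizer_iff.1 (h.side.normal hm) a).1 ha.1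
    · rw [Set.mem_singleton_iff] at h1 ⊢
      rw [h1, eq_comm, conj_eq_one_iff] at he'
      exact he'
  exact Set.disjoint_left.1 h.side.disjoint hwK hwM

/-- A function on `M` vanishing off `sharp K` vanishes off the large set as well. -/
theorem Ctx.supp_big {f : ↥M → ℂ} (hf : ∀ x : M, (x : G) ∉ sharp K → f x = 0) :
    ∀ x : M, (x : G) ∉ sharp K ∪ conjIn M (vSet W₁ W₂) → f x = 0 :=
  fun x hx => hf x fun h' => hx (Or.inl h')

/-- Induced functions from `sharp K` vanish off its conjugates. -/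
theorem Ctx.ind_eq_zero {f : ↥M → ℂ} (hf : ∀ x : M, (x : G) ∉ sharp K → f x = 0) {g : G}
    (hg : g ∉ conjAll (sharp K)) : indFun M f g = 0 := by
  rw [indFun_apply, Finset.sum_eq_zero, mul_zero]
  intro x _
  by_cases hx : x⁻¹ * g * x ∈ M
  · rw [extendByZero_of_mem M f hx]
    exact hf ⟨_, hx⟩ fun h' => hg ⟨x, _, h', by group⟩
  · rw [extendByZero_of_not_mem M f hx]

theorem Ctx.ind_eq_zero_vSet {f : ↥M → ℂ} (hf : ∀ x : M, (x : G) ∉ sharp K → f x = 0) {g : G}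
    (hg : g ∈ conjAll (vSet W₁ W₂)) : indFun M f g = 0 :=
  h.ind_eq_zero hf (Set.disjoint_right.1 h.sharp_disjoint hg)

theorem Ctx.mu_irr (φ φ' : Left W₁ W₂) (ψ ψ' : Right W₁ W₂) :
    classInner (μ (φ.1 * ψ.1)) (μ (φ'.1 * ψ'.1)) = if φ = φ' ∧ ψ = ψ' then 1 else 0 := by
  rw [classInner_irr (h.side.irr_mu _) (h.side.irr_mu _)]
  refine if_congr ⟨fun e => ?_, fun e => by rw [e.1, e.2]⟩ rfl rfl
  have := (mulBij h.selfN).1 (a₁ := (φ, ψ)) (a₂ := (φ', ψ')) (h.side.mu_inj e)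
  exact ⟨congrArg Prod.fst this, congrArg Prod.snd this⟩

theorem Ctx.mu_X (ω : ↥(W₁ ⊔ W₂) →* ℂˣ) {χ : ↥M → ℂ} (hχ : χ ∈ X) :
    classInner (μ ω) χ = 0 ∧ classInner χ (μ ω) = 0 := by
  have hne : μ ω ≠ χ := fun e => h.side.mu_not_mem ω (e ▸ hχ)
  exact ⟨classInner_irr_ne (h.side.irr_mu _) (h.side.irr_X χ hχ) hne,
    classInner_irr_ne (h.side.irr_X χ hχ) (h.side.irr_mu _) hne.symm⟩

/-- The residual of a class function along the family has the expected norm. -/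
theorem Ctx.residual {ι : Type*} [Fintype ι] (e : ι → ↥(W₁ ⊔ W₂) →* ℂˣ) (he : Function.Injective e)
    (Y : G → ℂ) (c : ι → ℤ) (hc : ∀ i, classInner Y (η (e i)) = c i) :
    (∀ i, classInner ((∑ k, (c k : ℂ) • η (e k)) - Y) (η (e i)) = 0) ∧
      classInner Y Y = classInner ((∑ k, (c k : ℂ) • η (e k)) - Y)
        ((∑ k, (c k : ℂ) • η (e k)) - Y) + ((∑ k, c k ^ 2 : ℤ) : ℂ) := by
  set P := ∑ k, (c k : ℂ) • η (e k) with hP
  have hPi : ∀ i, classInner P (η (e i)) = c i := fun i => by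
    rw [hP, classInner_sum_left, Finset.sum_eq_single i]
    · rw [classInner_smul_left, h.fam.orthonormal, if_pos rfl, mul_one]
    · intro k _ hk
      rw [classInner_smul_left, h.fam.orthonormal, if_neg fun e' => hk (he e'), mul_zero]
    · simp
  have hsum : ∀ Z : G → ℂ, classInner Z P = ∑ k, (c k : ℂ) * classInner Z (η (e k)) := fun Z => by
    rw [hP, classInner_sum_right]
    refine Finset.sum_congr rfl fun k _ => ?_
    rw [classInner_smul_right, map_intCast]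
  refine ⟨fun i => by rw [classInner_sub_left, hPi, hc, sub_self], ?_⟩
  have hPP : classInner P P = ((∑ k, c k ^ 2 : ℤ) : ℂ) := by
    rw [hsum]; push_cast; exact Finset.sum_congr rfl fun k _ => by rw [hPi]; ring
  have hYP : classInner Y P = ((∑ k, c k ^ 2 : ℤ) : ℂ) := by
    rw [hsum]; push_cast; exact Finset.sum_congr rfl fun k _ => by rw [hc]; ring
  have hPY : classInner P Y = ((∑ k, c k ^ 2 : ℤ) : ℂ) := by
    rw [← classInner_conj_symm, hYP, map_intCast]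
  simp only [classInner_sub_left, classInner_sub_right, hPP, hYP, hPY]
  ring



/-- The difference of a fixed character and a generic one. -/
noncomputable def diffChar (μ : (↥(W₁ ⊔ W₂) →* ℂˣ) → ↥M → ℂ) (ψ : Right W₁ W₂) (χ : ↥M → ℂ) :
    ↥M → ℂ :=
  (∑ φ : Left W₁ W₂, μ (φ.1 * ψ.1)) - χ

theorem Ctx.card_left : Fintype.card (Left W₁ W₂) = Nat.card W₁ := by
  exact OddFinal.card_left h.selfN

theorem Ctx.card_right : Fintype.card (Right W₁ W₂) = Nat.card W₂ := by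
  exact OddFinal.card_right h.selfN

theorem Ctx.diffChar_spec {ψ : Right W₁ W₂} (hψ : ψ.1 ≠ 1) {χ : ↥M → ℂ} (hχ : χ ∈ X) :
    IsClassFunction ↥M (diffChar μ ψ χ) ∧ IsGeneralizedCharacter ↥M (diffChar μ ψ χ) ∧
      (∀ x : M, (x : G) ∉ sharp K → diffChar μ ψ χ x = 0) ∧
      classInner (diffChar μ ψ χ) (fun _ => 1) = 0 := by
  have hg : IsGeneralizedCharacter ↥M (diffChar μ ψ χ) :=
    isGeneralized_sub (isGeneralized_sum _ _ fun φ _ =>
      isGeneralized_of_isCharacter (IsIrr.isCharacter (h.side.irr_mu _)))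
      (isGeneralized_of_isCharacter (IsIrr.isCharacter (h.side.irr_X χ hχ)))
  have hs : ∀ x : M, (x : G) ∉ sharp K → diffChar μ ψ χ x = 0 := by
    intro x hx
    simp only [diffChar, Pi.sub_apply, Finset.sum_apply]
    by_cases hK : (x : G) ∈ K
    · have hx1 : x = 1 := by
        by_contra hne
        exact hx ⟨hK, fun e => hne (Subtype.ext e)⟩
      subst hx1
      rw [Finset.sum_congr rfl fun φ _ => h.side.deg_mu φ ψ hψ, h.side.deg_X χ hχ,
        Finset.sum_const, Finset.card_univ, h.card_left, nsmul_eq_mul, Nat.cast_mul, sub_self]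
    · rw [h.side.supp_sum ψ hψ x hK, h.side.supp_X χ hχ x hK, sub_zero]
  refine ⟨IsGen.isClassFunction hg, hg, hs, ?_⟩
  have : ∀ x : M, (x : G) ∉ K → diffChar μ ψ χ x = 0 := fun x hx => hs x fun h' => hx h'.1
  simp only [classInner, map_one, mul_one]
  rw [mul_eq_zero]; right
  rw [← Finset.sum_subset (Finset.subset_univ (Finset.univ.filter fun x : M => (x : G) ∈ K))
    fun x _ hx => this x (by simpa using hx)]
  rw [Finset.sum_bij' (fun (x : ↥M) hx => (⟨(x : G), (Finset.mem_filter.1 hx).2⟩ : ↥K))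
    (fun k _ => (⟨k.1, h.side.K_le k.2⟩ : ↥M)) (t := Finset.univ)
    (g := fun k : ↥K => diffChar μ ψ χ ⟨k.1, h.side.K_le k.2⟩)
    (by simp) (by simp) (by simp) (by simp) (by simp)]
  simp only [diffChar, Pi.sub_apply, Finset.sum_apply, Finset.sum_sub_distrib]
  rw [Finset.sum_comm, Finset.sum_eq_zero fun φ _ => h.side.orth_mu φ ψ hψ, h.side.orth_X χ hχ,
    sub_zero]

theorem Ctx.diffChar_inner {ψ : Right W₁ W₂} {χ : ↥M → ℂ} (hχ : χ ∈ X) :
    classInner (diffChar μ ψ χ) (diffChar μ ψ χ) = (Nat.card W₁ : ℂ) + 1 := by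
  simp only [diffChar, classInner_sub_left, classInner_sub_right, classInner_sum_left,
    classInner_sum_right, (h.mu_X _ hχ).1, (h.mu_X _ hχ).2, h.mu_irr,
    classInner_irr_self (h.side.irr_X χ hχ)]
  simp [h.card_left]

/-- The coefficient of `η (φψ')` in the image of `diffChar μ ψ χ`. -/
noncomputable def coef (b : ℤ) (ψ ψ' : Right W₁ W₂) : ℤ :=
  if ψ'.1 = 1 then 0 else b + if ψ' = ψ then 1 else 0

theorem Ctx.sum_coef {ψ : Right W₁ W₂} (hψ : ψ.1 ≠ 1) (b : ℤ) :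
    ∑ ψ' : Right W₁ W₂, coef b ψ ψ' = ((Nat.card W₂ : ℤ) - 1) * b + 1 ∧
      ∑ ψ' : Right W₁ W₂, coef b ψ ψ' ^ 2 = ((Nat.card W₂ : ℤ) - 1) * b ^ 2 + 2 * b + 1 := by
  let o : Right W₁ W₂ := ⟨1, fun _ _ => rfl⟩
  have ho : ∀ ψ' : Right W₁ W₂, ψ'.1 = 1 ↔ ψ' = o := fun ψ' =>
    ⟨fun e => Subtype.ext e, fun e => e ▸ rfl⟩
  have hψo : ψ ≠ o := fun e => hψ ((ho ψ).2 e)
  have e1 : ∀ ψ', coef b ψ ψ' = b + (if ψ' = o then -b else 0) + (if ψ' = ψ then 1 else 0) := by
    intro ψ'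
    simp only [coef, ho]
    by_cases e : ψ' = o
    · subst e; simp [hψo.symm]
    · simp [e]
  have e2 : ∀ ψ', coef b ψ ψ' ^ 2 =
      b ^ 2 + (if ψ' = o then -b ^ 2 else 0) + (if ψ' = ψ then 2 * b + 1 else 0) := by
    intro ψ'
    simp only [coef, ho]
    by_cases e : ψ' = o
    · subst e; simp [hψo.symm]
    · by_cases e' : ψ' = ψ <;> simp [e, e', hψo] <;> ring
  constructor
  · simp only [e1, Finset.sum_add_distrib, Finset.sum_ite_eq', Finset.mem_univ, if_true,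
      Finset.sum_const, Finset.card_univ, h.card_right, nsmul_eq_mul]
    ring
  · simp only [e2, Finset.sum_add_distrib, Finset.sum_ite_eq', Finset.mem_univ, if_true,
      Finset.sum_const, Finset.card_univ, h.card_right, nsmul_eq_mul]
    ring

/-- The shape of the image of one difference. -/
theorem Ctx.image {ψ : Right W₁ W₂} (hψ : ψ.1 ≠ 1) {χ : ↥M → ℂ} (hχ : χ ∈ X) :
    ∃ (b : ℤ) (R : G → ℂ), (b = 0 ∨ (Nat.card W₂ = 3 ∧ b = -1)) ∧ IsGeneralizedCharacter G R ∧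
      (∀ ω, classInner R (η ω) = 0) ∧ classInner R R = 1 ∧
      indFun M (diffChar μ ψ χ) =
        (∑ φ : Left W₁ W₂, ∑ ψ' : Right W₁ W₂, (coef b ψ ψ' : ℂ) • η (φ.1 * ψ'.1)) - R := by
  obtain ⟨hcf, hgen, hsupp, h1⟩ := h.diffChar_spec hψ hχ
  set Y := indFun M (diffChar μ ψ χ) with hY
  have hYg : IsGeneralizedCharacter G Y := isGeneralized_indFun M hgen
  have hYc : IsClassFunction G Y := isClassFunction_indFun M _
  have hV : ∀ g ∈ conjAll (vSet W₁ W₂), Y g = 0 := fun g hg => h.ind_eq_zero_vSet hsupp hg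
  have hB : ∀ g ∈ B, Y g = 0 := fun g hg => h.ind_eq_zero hsupp (Set.disjoint_right.1 h.disj hg)
  have hW : ∀ w : ↥(W₁ ⊔ W₂), (w : G) ∉ W₁ → (w : G) ∉ W₂ → Y w = 0 := fun w a1 a2 =>
    hV _ ⟨1, _, ⟨w.2, a1, a2⟩, by group⟩
  let o₁ : Left W₁ W₂ := ⟨1, fun _ _ => rfl⟩
  let o₂ : Right W₁ W₂ := ⟨1, fun _ _ => rfl⟩
  have c11 : classInner Y (η 1) = 0 := by
    rw [h.fam.map_one, hY, classInner_indFun_left M _ (fun _ _ => rfl)]
    exact h1
  have cadd : ∀ (φ : Left W₁ W₂) (ψ' : Right W₁ W₂), classInner Y (η (φ.1 * ψ'.1)) =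
      classInner Y (η φ.1) + classInner Y (η ψ'.1) := fun φ ψ' => by
    have := coeff_add (χ := η) h.fam hYc hW φ.2 ψ'.2
    rw [c11] at this
    linear_combination this
  obtain ⟨φ₀, hφ₀⟩ : ∃ φ : Left W₁ W₂, φ.1 ≠ 1 := by
    by_contra hh
    push_neg at hh
    have : Subsingleton (Left W₁ W₂) := ⟨fun x y => Subtype.ext ((hh x).trans (hh y).symm)⟩
    have h3 := h.three_le.1
    rw [← h.card_left] at h3
    have := Fintype.card_le_one_iff_subsingleton.2 this
    omega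
  obtain ⟨a, ha⟩ := classInner_generalized_int hYg (h.eta_gen φ₀.1)
  obtain ⟨e, he⟩ := classInner_generalized_int hYg (h.eta_gen ψ.1)
  have hleft : ∀ φ : Left W₁ W₂, classInner Y (η φ.1) = if φ = o₁ then 0 else (a : ℂ) := by
    intro φ
    split_ifs with hφ
    · rw [hφ]; exact c11
    · have := h.row Y hYc hB hV φ φ₀ o₂ (fun e' => hφ (Subtype.ext e')) hφ₀
      rw [show φ.1 * o₂.1 = φ.1 by ext w; simp [o₂], show φ₀.1 * o₂.1 = φ₀.1 by ext w; simp [o₂]] at this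
      rw [this, ha]
  have hright : ∀ ψ' : Right W₁ W₂,
      classInner Y (η ψ'.1) = (coef (e - 1) ψ ψ' : ℂ) := by
    intro ψ'
    by_cases h' : ψ'.1 = 1
    · simp [coef, h', c11]
    · have ht := h.side.tau_mu o₁ ψ' ψ h' hψ
      have hone : ∀ ψ'' : Right W₁ W₂, o₁.1 * ψ''.1 = ψ''.1 := fun _ => by ext w; simp [o₁]
      rw [hone, hone] at ht
      have hd : ∀ x : M, (x : G) ∉ sharp K ∪ conjIn M (vSet W₁ W₂) →
          (μ ψ'.1 - μ ψ.1) x = 0 := fun x hx => by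
        have := h.side.supp_diff o₁ ψ' ψ h' hψ x hx
        rw [hone, hone] at this
        rw [Pi.sub_apply, this, sub_self]
      have hdc : IsClassFunction ↥M (μ ψ'.1 - μ ψ.1) := fun g k => by
        simp only [Pi.sub_apply, isClassFunction_of_isIrr (h.side.irr_mu _) g k]
      have key : classInner Y (η ψ'.1 - η ψ.1) =
          classInner (diffChar μ ψ χ) (μ ψ'.1 - μ ψ.1) := by
        rw [← ht, hY]
        exact inner_ind h.side.dade hdc hd (h.supp_big hsupp)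
      have m1 : ∀ ψ'' : Right W₁ W₂, classInner (diffChar μ ψ χ) (μ ψ''.1) =
          if ψ'' = ψ then 1 else 0 := fun ψ'' => by
        rw [diffChar, classInner_sub_left, (h.mu_X _ hχ).2, sub_zero, classInner_sum_left,
          Finset.sum_congr rfl fun φ _ => by
            rw [← hone ψ'', h.mu_irr]]
        rw [Finset.sum_eq_single o₁ (fun φ _ hne => if_neg fun x => hne x.1) (by simp)]
        exact if_congr ⟨fun x => x.2.symm, fun x => ⟨rfl, x.symm⟩⟩ rfl rfl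
      rw [classInner_sub_right, classInner_sub_right, he, m1, m1, if_pos rfl] at key
      simp only [coef, h', if_false]
      push_cast
      linear_combination key
  let c : Left W₁ W₂ × Right W₁ W₂ → ℤ :=
    fun x => (if x.1 = o₁ then 0 else a) + coef (e - 1) ψ x.2
  obtain ⟨hres, hnorm⟩ := h.residual (fun x : Left W₁ W₂ × Right W₁ W₂ => x.1.1 * x.2.1)
    (mulBij h.selfN).1 Y c (fun x => by
      rw [cadd, hleft, hright]
      simp only [c]
      split_ifs <;> push_cast <;> ring)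
  set R := (∑ x, (c x : ℂ) • η (x.1.1 * x.2.1)) - Y with hR
  have hRg : IsGeneralizedCharacter G R :=
    isGeneralized_sub (isGeneralized_sum _ _ fun x _ => isGeneralized_intCast_smul _ (h.eta_gen _))
      hYg
  have hYY : classInner Y Y = (Nat.card W₁ : ℂ) + 1 := by
    rw [hY, inner_ind h.side.dade hcf (h.supp_big hsupp) (h.supp_big hsupp), h.diffChar_inner hχ]
  obtain ⟨hs1, hs2⟩ := h.sum_coef hψ (e - 1)
  have hE : ∑ x, c x ^ 2 = (Nat.card W₂ : ℤ) * ((Nat.card W₁ : ℤ) - 1) * a ^ 2 +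
      2 * ((Nat.card W₁ : ℤ) - 1) * a * (((Nat.card W₂ : ℤ) - 1) * (e - 1) + 1) +
      (Nat.card W₁ : ℤ) * (((Nat.card W₂ : ℤ) - 1) * (e - 1) ^ 2 + 2 * (e - 1) + 1) := by
    have hu : ∀ x : ℤ, ∑ φ : Left W₁ W₂, (if φ = o₁ then 0 else x) =
        ((Nat.card W₁ : ℤ) - 1) * x := fun x => by
      have e1 : ∀ φ : Left W₁ W₂, (if φ = o₁ then 0 else x) =
          x + (if φ = o₁ then -x else 0) := fun φ => by split_ifs <;> simp
      simp only [e1, Finset.sum_add_distrib, Finset.sum_ite_eq', Finset.mem_univ, if_true,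
        Finset.sum_const, Finset.card_univ, h.card_left, nsmul_eq_mul]
      ring
    have hu2 : ∀ φ : Left W₁ W₂, (if φ = o₁ then 0 else a) ^ 2 = if φ = o₁ then 0 else a ^ 2 :=
      fun φ => by split_ifs <;> simp
    have hin : ∀ φ : Left W₁ W₂, ∑ y : Right W₁ W₂, c (φ, y) ^ 2 =
        (Nat.card W₂ : ℤ) * (if φ = o₁ then 0 else a ^ 2) +
          (if φ = o₁ then 0 else a) * (2 * (((Nat.card W₂ : ℤ) - 1) * (e - 1) + 1)) +
          (((Nat.card W₂ : ℤ) - 1) * (e - 1) ^ 2 + 2 * (e - 1) + 1) := fun φ => by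
      rw [← hu2 φ, ← hs1, ← hs2, Finset.mul_sum, Finset.mul_sum, ← h.card_right,
        ← nsmul_eq_mul, ← Finset.card_univ, ← Finset.sum_const,
        ← Finset.sum_add_distrib, ← Finset.sum_add_distrib]
      exact Finset.sum_congr rfl fun y _ => by simp only [c]; ring
    rw [Fintype.sum_prod_type]
    simp only [hin, Finset.sum_add_distrib, ← Finset.mul_sum, ← Finset.sum_mul, hu,
      Finset.sum_const, Finset.card_univ, h.card_left, nsmul_eq_mul]
    ring
  obtain ⟨n, -, -, hn⟩ := IsGen.exists_mult hRg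
  have hRR0 : (0 : ℤ) ≤ ∑ ψ, n ψ ^ 2 := Finset.sum_nonneg fun _ _ => sq_nonneg _
  rw [hYY, hn] at hnorm
  have hineq : (∑ ψ, n ψ ^ 2) + ∑ x, c x ^ 2 = (Nat.card W₁ : ℤ) + 1 := by
    exact_mod_cast hnorm.symm
  obtain ⟨ha0, hb⟩ := pattern_cases (p := Nat.card W₂) (q := Nat.card W₁)
    (by exact_mod_cast h.three_le.2) (by exact_mod_cast h.three_le.1) (a := a) (b := e - 1)
    (by rw [← hE]; omega)
  refine ⟨e - 1, R, hb.imp id (fun x => ⟨by exact_mod_cast x.1, x.2⟩), hRg, fun ω => ?_, ?_, ?_⟩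
  · obtain ⟨x, hx⟩ := (mulBij h.selfN).2 ω
    rw [← hx]; exact hres x
  · rw [hn]
    have : ∑ ψ, n ψ ^ 2 = 1 := by
      rw [hE, ha0] at hineq
      rcases hb with hb | ⟨hp, hb⟩
      · rw [hb] at hineq; linarith
      · rw [hb, hp] at hineq; push_cast at hineq; linarith
    exact_mod_cast this
  · have hP : (∑ φ : Left W₁ W₂, ∑ ψ' : Right W₁ W₂,
        (coef (e - 1) ψ ψ' : ℂ) • η (φ.1 * ψ'.1)) = ∑ x, (c x : ℂ) • η (x.1.1 * x.2.1) := by
      rw [Fintype.sum_prod_type]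
      simp [c, ha0]
    rw [hP, hR, sub_sub_cancel]

end Cfsg.Agent.OddFinal
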