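import Cfsg.Agent.OddFinal.Generic

/-!
# The residual characters of the generic characters
-/

set_option autoImplicit false
set_option linter.unusedSectionVars false

namespace Cfsg.Agent.OddFinal

open Cfsg Char CyclicTI
open scoped ComplexConjugate
open scoped _root_.Classical

universe u

variable {G : Type u} [Group G] [Fintype G] {M W₁ W₂ K : Subgroup G} [Fintype ↥M] {d : ℕ}
  {X : Finset (↥M → ℂ)} {μ : (↥(W₁ ⊔ W₂) →* ℂˣ) → ↥M → ℂ}
  {η : (↥(W₁ ⊔ W₂) →* ℂˣ) → G → ℂ} {B : Set G}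

/-- The images of the generic differences. -/
structure GenericData (M : Subgroup G) [Fintype ↥M] (X : Finset (↥M → ℂ))
    (μ : (↥(W₁ ⊔ W₂) →* ℂˣ) → ↥M → ℂ) (η : (↥(W₁ ⊔ W₂) →* ℂˣ) → G → ℂ) (b : ℤ)
    (R : (↥M → ℂ) → G → ℂ) : Prop where
  b_cases : b = 0 ∨ (Nat.card W₂ = 3 ∧ b = -1)
  gen : ∀ χ ∈ X, IsGeneralizedCharacter G (R χ)
  orth_eta : ∀ χ ∈ X, ∀ ω, classInner (R χ) (η ω) = 0
  orthonormal : ∀ χ ∈ X, ∀ χ' ∈ X, classInner (R χ) (R χ') = if χ = χ' then 1 else 0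
  image : ∀ ψ : Right W₁ W₂, ψ.1 ≠ 1 → ∀ χ ∈ X, indFun M (diffChar μ ψ χ) =
    (∑ φ : Left W₁ W₂, ∑ ψ' : Right W₁ W₂, (coef b ψ ψ' : ℂ) • η (φ.1 * ψ'.1)) - R χ

variable (h : Ctx M W₁ W₂ K d X μ η B)

include h

theorem Ctx.exists_right : ∃ ψ : Right W₁ W₂, ψ.1 ≠ 1 := by
  by_contra hh
  push_neg at hh
  have hs : Subsingleton (Right W₁ W₂) := ⟨fun x y => Subtype.ext ((hh x).trans (hh y).symm)⟩
  have h3 := h.three_le.2
  rw [← h.card_right] at h3
  have := Fintype.card_le_one_iff_subsingleton.2 hs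
  omega

theorem Ctx.exists_data : ∃ b R, GenericData M X μ η b R := by
  obtain ⟨ψ₀, hψ₀⟩ := h.exists_right
  choose! bf Rf hb hg ho hn hi using
    fun χ (hχ : χ ∈ X) => h.image hψ₀ hχ
  have hinner : ∀ χ ∈ X, ∀ χ' ∈ X,
      bf χ = bf χ' ∧ (χ ≠ χ' → classInner (Rf χ) (Rf χ') = 0) := by
    intro χ hχ χ' hχ'
    by_cases e : χ = χ'
    · exact ⟨by rw [e], fun x => absurd e x⟩
    set Z : G → ℂ := indFun M (diffChar μ ψ₀ χ) - indFun M (diffChar μ ψ₀ χ') with hZ
    have hZZ : classInner Z Z = 2 := by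
      rw [hZ, ← Char.indFun_sub]
      obtain ⟨c1, -, s1, -⟩ := h.diffChar_spec hψ₀ hχ
      obtain ⟨c2, -, s2, -⟩ := h.diffChar_spec hψ₀ hχ'
      rw [inner_ind h.side.dade (fun g k => by simp only [Pi.sub_apply, c1 g k, c2 g k])
        (h.supp_big fun x hx => by rw [Pi.sub_apply, s1 x hx, s2 x hx, sub_zero])
        (h.supp_big fun x hx => by rw [Pi.sub_apply, s1 x hx, s2 x hx, sub_zero]),
        show diffChar μ ψ₀ χ - diffChar μ ψ₀ χ' = χ' - χ by simp [diffChar]]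
      rw [classInner_sub_left, classInner_sub_right, classInner_sub_right,
        classInner_irr_self (h.side.irr_X χ hχ), classInner_irr_self (h.side.irr_X χ' hχ'),
        classInner_irr_ne (h.side.irr_X χ hχ) (h.side.irr_X χ' hχ') e,
        classInner_irr_ne (h.side.irr_X χ' hχ') (h.side.irr_X χ hχ) (Ne.symm e)]
      norm_num
    set c : Left W₁ W₂ × Right W₁ W₂ → ℤ :=
      fun x => if x.2.1 = 1 then 0 else bf χ - bf χ' with hc
    have hZe : Z = (∑ x, (c x : ℂ) • η (x.1.1 * x.2.1)) - (Rf χ - Rf χ') := by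
      rw [hZ, hi χ hχ, hi χ' hχ', Fintype.sum_prod_type]
      have : ∀ (φ : Left W₁ W₂) (y : Right W₁ W₂), (c (φ, y) : ℂ) • η (φ.1 * y.1) =
          (coef (bf χ) ψ₀ y : ℂ) • η (φ.1 * y.1) - (coef (bf χ') ψ₀ y : ℂ) • η (φ.1 * y.1) :=
        fun φ y => by
          rw [← sub_smul]; congr 1
          simp only [hc, coef]; split_ifs <;> push_cast <;> ring
      simp only [this, Finset.sum_sub_distrib]
      abel
    have hRorth : ∀ ω, classInner (Rf χ - Rf χ') (η ω) = 0 := fun ω => by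
      rw [classInner_sub_left, ho χ hχ, ho χ' hχ', sub_zero]
    have hcoef : ∀ x : Left W₁ W₂ × Right W₁ W₂,
        classInner Z (η (x.1.1 * x.2.1)) = c x := fun x => by
      rw [hZe, classInner_sub_left, hRorth, sub_zero, classInner_sum_left, Finset.sum_eq_single x]
      · rw [classInner_smul_left, h.fam.orthonormal, if_pos rfl, mul_one]
      · intro y _ hy
        rw [classInner_smul_left, h.fam.orthonormal,
          if_neg fun e' => hy ((mulBij h.selfN).1 e'), mul_zero]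
      · simp
    obtain ⟨-, hnorm⟩ := h.residual (fun x : Left W₁ W₂ × Right W₁ W₂ => x.1.1 * x.2.1)
      (mulBij h.selfN).1 Z c hcoef
    rw [show (∑ x, (c x : ℂ) • η (x.1.1 * x.2.1)) - Z = Rf χ - Rf χ' by rw [hZe]; abel,
      hZZ] at hnorm
    obtain ⟨k, hk⟩ := classInner_generalized_int (hg χ hχ) (hg χ' hχ')
    have hk' : classInner (Rf χ') (Rf χ) = k := by rw [← classInner_conj_symm, hk, map_intCast]
    simp only [classInner_sub_left, classInner_sub_right, hn χ hχ, hn χ' hχ', hk, hk'] at hnorm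
    have hsum : ∑ x, c x ^ 2 = (Nat.card W₁ : ℤ) * ((Nat.card W₂ : ℤ) - 1) *
        (bf χ - bf χ') ^ 2 := by
      let o : Right W₁ W₂ := ⟨1, fun _ _ => rfl⟩
      have e1 : ∀ (φ : Left W₁ W₂) (y : Right W₁ W₂), c (φ, y) ^ 2 =
          (bf χ - bf χ') ^ 2 + if y = o then -(bf χ - bf χ') ^ 2 else 0 := fun φ y => by
        have : y.1 = 1 ↔ y = o := ⟨fun x => Subtype.ext x, fun x => x ▸ rfl⟩
        simp only [hc, this]; split_ifs <;> ring
      simp only [Fintype.sum_prod_type, Fintype.card_prod, e1, Finset.sum_add_distrib, Finset.sum_ite_eq',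
        Finset.mem_univ, if_true, Finset.sum_const, Finset.card_univ, h.card_left, h.card_right,
        nsmul_eq_mul]
      push_cast
      ring
    have hint : (2 : ℤ) = 1 - k - (k - 1) + ∑ x, c x ^ 2 := by exact_mod_cast hnorm
    have hk2 : ∑ x, c x ^ 2 = 2 * k := by omega
    obtain ⟨n, -, -, hn2⟩ := IsGen.exists_mult (isGeneralized_sub (hg χ hχ) (hg χ' hχ'))
    have hpos : (0 : ℤ) ≤ ∑ ψ, n ψ ^ 2 := Finset.sum_nonneg fun _ _ => sq_nonneg _
    simp only [classInner_sub_left, classInner_sub_right, hn χ hχ, hn χ' hχ', hk, hk'] at hn2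
    have hint2 : (1 : ℤ) - k - (k - 1) = ∑ ψ, n ψ ^ 2 := by exact_mod_cast hn2
    have hq := h.three_le.1
    have hp := h.three_le.2
    have hb' : bf χ = bf χ' := by
      by_contra hne
      have h1 : (1 : ℤ) ≤ (bf χ - bf χ') ^ 2 := by
        have := sq_pos_of_ne_zero (sub_ne_zero.2 hne); omega
      have h6 : (6 : ℤ) ≤ (Nat.card W₁ : ℤ) * ((Nat.card W₂ : ℤ) - 1) :=
        le_trans (by norm_num) (mul_le_mul (by exact_mod_cast hq : (3 : ℤ) ≤ Nat.card W₁)
          (by omega : (2 : ℤ) ≤ (Nat.card W₂ : ℤ) - 1) (by norm_num) (by positivity))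
      nlinarith [hsum]
    refine ⟨hb', fun _ => ?_⟩
    rw [hb'] at hsum
    have hk0 : k = 0 := by rw [sub_self] at hsum; norm_num at hsum; omega
    rw [hk, hk0, Int.cast_zero]
  rcases X.eq_empty_or_nonempty with hX | ⟨χ₀, hχ₀⟩
  · subst hX
    exact ⟨0, fun _ => 0, Or.inl rfl, by simp, by simp, by simp, by simp⟩
  refine ⟨bf χ₀, Rf, hb χ₀ hχ₀, hg, ho, fun χ hχ χ' hχ' => ?_, fun ψ hψ χ hχ => ?_⟩
  · split_ifs with e
    · subst e; exact hn χ hχ
    · exact (hinner χ hχ χ' hχ').2 e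
  · let o₁ : Left W₁ W₂ := ⟨1, fun _ _ => rfl⟩
    have e1 : diffChar μ ψ χ = diffChar μ ψ₀ χ +
        ∑ φ : Left W₁ W₂, (μ (φ.1 * ψ.1) - μ (φ.1 * ψ₀.1)) := by
      simp only [diffChar, Finset.sum_sub_distrib]; abel
    rw [e1, Char.indFun_add, Char.indFun_sum, hi χ hχ,
      Finset.sum_congr rfl fun φ _ => h.side.tau_mu φ ψ ψ₀ hψ hψ₀, (hinner χ hχ χ₀ hχ₀).1,
      sub_add_eq_add_sub, ← Finset.sum_add_distrib]
    congr 1
    refine Finset.sum_congr rfl fun φ _ => ?_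
    have e2 : ∀ y : Right W₁ W₂, (coef (bf χ₀) ψ y : ℂ) • η (φ.1 * y.1) =
        (coef (bf χ₀) ψ₀ y : ℂ) • η (φ.1 * y.1) +
          ((if y = ψ then η (φ.1 * y.1) else 0) - (if y = ψ₀ then η (φ.1 * y.1) else 0)) := by
      intro y
      by_cases hy : y.1 = 1
      · have n1 : y ≠ ψ := fun e => hψ (e ▸ hy)
        have n2 : y ≠ ψ₀ := fun e => hψ₀ (e ▸ hy)
        simp [coef, hy, n1, n2]
      · simp only [coef, hy, if_false]
        split_ifs <;> push_cast <;> module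
    simp only [e2, Finset.sum_add_distrib, Finset.sum_sub_distrib, Finset.sum_ite_eq',
      Finset.mem_univ, if_true]

end Cfsg.Agent.OddFinal
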