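import Mathlib

/-!
# The arithmetic of the covering inequalities

With `d = ū` of `S`, `d'` of `T`, orbit counts `D`, `D'` and `c`, `c'` the orders of the
abelianised kernels, the two covering inequalities make `T` maximal and leave for `S` only the
maximal case and three residual configurations.
-/

set_option autoImplicit false

namespace Cfsg.Agent.OddFinal.MaxArith

theorem pred_mul_geom (p q : ℕ) : (p - 1) * ((p ^ q - 1) / (p - 1)) = p ^ q - 1 :=
  Nat.mul_div_cancel' (by simpa using Nat.sub_dvd_pow_sub_pow p 1 q)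

theorem geom_odd {p q : ℕ} (hp : 2 ≤ p) (hpo : Odd p) (hqo : Odd q) :
    Odd ((p ^ q - 1) / (p - 1)) := by
  have hpo' : (p : ZMod 2) = 1 := by
    obtain ⟨k, rfl⟩ := hpo
    push_cast
    rw [show (2 : ZMod 2) = 0 by decide, zero_mul, zero_add]
  have hqo' : (q : ZMod 2) = 1 := by
    obtain ⟨k, rfl⟩ := hqo
    push_cast
    rw [show (2 : ZMod 2) = 0 by decide, zero_mul, zero_add]
  rw [← Nat.geomSum_eq hp q, ← ZMod.natCast_eq_one_iff_odd]
  push_cast
  simp [hpo', hqo']

theorem geom_mod {p q : ℕ} (hp : 2 ≤ p) (hq : q.Prime) :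
    (¬ q ∣ p - 1 → (p ^ q - 1) / (p - 1) % q = 1) ∧
      (q ∣ p - 1 → q ∣ (p ^ q - 1) / (p - 1)) := by
  haveI := Fact.mk hq
  constructor
  · intro h
    have hne : ((p - 1 : ℕ) : ZMod q) ≠ 0 := fun e => h ((ZMod.natCast_eq_zero_iff _ _).1 e)
    have hfermat : (((p ^ q - 1 : ℕ)) : ZMod q) = ((p - 1 : ℕ) : ZMod q) := by
      rw [Nat.cast_sub (Nat.one_le_pow _ _ (by omega)), Nat.cast_pow, ZMod.pow_card,
        Nat.cast_sub (by omega : 1 ≤ p)]
    have h2 := (congrArg (Nat.cast : ℕ → ZMod q) (pred_mul_geom p q)).trans hfermat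
    rw [Nat.cast_mul] at h2
    have h3 : (((p ^ q - 1) / (p - 1) : ℕ) : ZMod q) = ((1 : ℕ) : ZMod q) := by
      rw [Nat.cast_one]
      exact mul_left_cancel₀ hne (h2.trans (mul_one _).symm)
    rw [(ZMod.natCast_eq_natCast_iff' _ _ _).1 h3, Nat.one_mod_eq_one.2 hq.one_lt.ne']
  · intro h
    have h1 : (p : ZMod q) = 1 := by
      have := (ZMod.natCast_eq_zero_iff _ _).2 h
      rwa [Nat.cast_sub (by omega : 1 ≤ p), Nat.cast_one, sub_eq_zero] at this
    rw [← Nat.geomSum_eq hp q, ← ZMod.natCast_eq_zero_iff]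
    push_cast
    simp [h1]

/-- An odd number that is `1` modulo the odd prime `q` is `1` or exceeds `2 q`. -/
theorem eq_one_or_le {n q : ℕ} (hq : 3 ≤ q) (hn : Odd n) (hqo : Odd q) (h : n % q = 1) :
    n = 1 ∨ 2 * q + 1 ≤ n := by
  have h1 := Nat.div_add_mod n q
  rw [h] at h1
  generalize n / q = t at h1
  rcases (by omega : t = 0 ∨ t = 1 ∨ 2 ≤ t) with e | e | e
  · rw [e] at h1; left; omega
  · rw [e] at h1
    obtain ⟨a, ha⟩ := hn
    obtain ⟨b, hb⟩ := hqo
    omega
  · right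
    nlinarith

/-- The monomial bound. -/
theorem monomial_bound {p q d D c : ℕ} (hd : 0 < d)
    (hm : d ∣ ((p - 1) / 2 ^ (p - 1).factorization 2) ^ (q - 1)) (hq : 0 < q)
    (hb : (p - 1) ^ q * c ≤ D * d) :
    ∃ e, d * e = ((p - 1) / 2 ^ (p - 1).factorization 2) ^ (q - 1) ∧
      (p - 1) * (2 ^ ((p - 1).factorization 2 * (q - 1)) * (e * c)) ≤ D := by
  set a := (p - 1).factorization 2
  set m := (p - 1) / 2 ^ a with hm'
  obtain ⟨e, he⟩ := hm
  refine ⟨e, he.symm, Nat.le_of_mul_le_mul_right ?_ hd⟩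
  refine le_trans (le_of_eq ?_) hb
  have h1 : p - 1 = 2 ^ a * m := (Nat.ordProj_mul_ordCompl_eq_self (p - 1) 2).symm
  conv_rhs => rw [show q = (q - 1) + 1 by omega, pow_succ]
  conv_rhs => enter [1, 1, 1]; rw [h1]
  rw [mul_pow, he, pow_mul]
  ring

theorem inv_gap {x y : ℝ} (hx : 0 < x) (hy : 0 ≤ y) : 1 / x - y / x ^ 2 ≤ 1 / (x + y) := by
  rw [le_div_iff₀ (by linarith), show (1 / x - y / x ^ 2) * (x + y) = 1 - (y / x) ^ 2 by
    field_simp; ring]
  nlinarith [sq_nonneg (y / x)]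

/-- The inequality hypotheses in linear form. -/
theorem linear_form {p q d d' D D' : ℝ} (hp : 0 < p) (hq : 0 < q)
    (hd' : 0 < d') (hD' : 0 < D')
    (h : (1 / q) * (1 - 1 / D) + 1 / (p * (d' + 1 / D')) ≤ 1 / (p * d') + 1 / (q * d) + p / D') :
    D' * (1 - 1 / D - 1 / d) ≤ q * (p + 1 / (p * d' ^ 2)) := by
  have h1 := inv_gap hd' (by positivity : (0 : ℝ) ≤ 1 / D')
  have h2 : 1 / (p * (d' + 1 / D')) ≥ 1 / (p * d') - 1 / (p * d' ^ 2) / D' := by
    rw [← div_div, show 1 / p / (d' + 1 / D') = (1 / p) * (1 / (d' + 1 / D')) by ring,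
      show 1 / (p * d') - 1 / (p * d' ^ 2) / D' = (1 / p) * (1 / d' - 1 / D' / d' ^ 2) by
        field_simp]
    exact mul_le_mul_of_nonneg_left h1 (by positivity)
  have h3 : (1 / q) * (1 - 1 / D - 1 / d) ≤ (p + 1 / (p * d' ^ 2)) / D' := by
    rw [show (1 / q) * (1 - 1 / D - 1 / d) = (1 / q) * (1 - 1 / D) - 1 / (q * d) by field_simp,
      add_div]
    linarith
  have h4 := mul_le_mul_of_nonneg_left h3 (by positivity : (0 : ℝ) ≤ q * D')
  calc D' * (1 - 1 / D - 1 / d) = q * D' * (1 / q * (1 - 1 / D - 1 / d)) := by field_simp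
    _ ≤ _ := h4
    _ = q * (p + 1 / (p * d' ^ 2)) := by field_simp

variable {p q d d' D D' c c' : ℕ} {I J I' J' : Prop}

theorem five_le (hp : p.Prime) (hqp : q < p) (hq3 : 3 ≤ q) : 5 ≤ p := by
  by_contra h
  interval_cases p
  · omega
  all_goals first | omega | (norm_num at hp)

section bounds

variable (hp : p.Prime) (hq : q.Prime) (hqo : Odd q) (hqp : q < p)
  (hd1 : 1 < d) (hdo : Odd d) (hdm : d % q = 1) (hd'm : d' % p = 1) (hd'o : Odd d') (hd'1 : 1 < d')
  (hD : p - 1 ≤ D) (hD' : q - 1 ≤ D')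

include hp hq hqo hqp

theorem three_le : 3 ≤ q := by
  obtain ⟨k, hk⟩ := hqo
  have := hq.two_le
  omega

theorem p_odd : Odd p := hp.odd_of_ne_two (by have := hq.two_le; omega)

include hd1 hdo hdm in
theorem two_q_lt_d : 2 * q + 1 ≤ d :=
  (eq_one_or_le (three_le hp hq hqo hqp) hdo hqo hdm).resolve_left (by omega)

include hd'1 hd'o hd'm in
theorem two_p_lt_d' : 2 * p + 1 ≤ d' :=
  (eq_one_or_le (le_trans (three_le hp hq hqo hqp) hqp.le) hd'o (p_odd hp hq hqo hqp)
    hd'm).resolve_left (by omega)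

include hd1 hdo hdm hd'1 hd'o hd'm hD hD' in
/-- The bound on `D'`. -/
theorem orbit'_lt (hdD : (p - 1) ^ q ≤ D * d)
    (hB : q - 1 < D' → (1 / (q : ℝ)) * (1 - 1 / D) + 1 / ((p : ℝ) * ((d' : ℝ) + 1 / D')) ≤
      1 / ((p : ℝ) * d') + 1 / ((q : ℝ) * d) + (p : ℝ) / D') :
    D' < (q - 1) * (2 * p + 1) := by
  have hq3 := three_le hp hq hqo hqp
  have hp5 := five_le hp hqp hq3
  have hd := two_q_lt_d hp hq hqo hqp hd1 hdo hdm
  have hd' := two_p_lt_d' hp hq hqo hqp hd'm hd'o hd'1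
  rcases lt_or_ge (q - 1) D' with hlt | hge
  swap
  · exact lt_of_le_of_lt hge (lt_mul_right (by omega) (by omega))
  have hD'pos : 0 < D' := by omega
  have h := linear_form (by positivity : (0 : ℝ) < p) (by positivity : (0 : ℝ) < q)
    (by positivity : (0 : ℝ) < d') (by positivity : (0 : ℝ) < D') (hB hlt)
  have hsmall : 1 / ((p : ℝ) * (d' : ℝ) ^ 2) ≤ 1 / 600 := by
    apply one_div_le_one_div_of_le (by norm_num)
    have a : (5 : ℝ) ≤ p := by exact_mod_cast hp5
    have b : (11 : ℝ) ≤ d' := by exact_mod_cast (by omega : 11 ≤ d')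
    calc (600 : ℝ) ≤ 5 * 11 ^ 2 := by norm_num
      _ ≤ _ := by gcongr
  have hD0 : (0 : ℝ) < D := by exact_mod_cast (by omega : 0 < D)
  have hd0 : (0 : ℝ) < d := by exact_mod_cast (by omega : 0 < d)
  have key : ∀ k : ℝ, (1 / (D : ℝ) + 1 / d ≤ k) → (D' : ℝ) * (1 - k) ≤ q * (p + 1 / 600) := by
    intro k hk
    have h1 : (D' : ℝ) * (1 - k) ≤ D' * (1 - 1 / D - 1 / d) :=
      mul_le_mul_of_nonneg_left (by linarith) (by positivity)
    have h2 : (q : ℝ) * (p + 1 / ((p : ℝ) * (d' : ℝ) ^ 2)) ≤ q * (p + 1 / 600) := by gcongr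
    linarith
  by_contra hc
  push Not at hc
  have hc' : ((q : ℝ) - 1) * (2 * p + 1) ≤ D' := by
    have : (((q - 1) * (2 * p + 1) : ℕ) : ℝ) ≤ D' := by exact_mod_cast hc
    push_cast [Nat.cast_sub (by omega : 1 ≤ q)] at this
    exact this
  have hpR : (5 : ℝ) ≤ p := by exact_mod_cast hp5
  rcases (by omega : q = 3 ∨ 5 ≤ q ∨ q = 4) with e | hq5 | e
  · subst e
    rcases (by omega : p = 5 ∨ p = 6 ∨ 7 ≤ p) with e5 | e6 | hp7
    · subst e5
      have hk : 1 / (D : ℝ) + 1 / d ≤ 5 / 16 := by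
        have hn : 16 * (D + d) ≤ 5 * (D * d) := by
          norm_num at hdD hd
          rcases lt_or_ge d 16 with hd16 | hd16
          · have hD5 : 5 ≤ D := by
              by_contra hh; push Not at hh; nlinarith
            rcases lt_or_ge d 13 with h13 | h13
            · have hD6 : 6 ≤ D := by
                by_contra hh; push Not at hh; nlinarith
              nlinarith [Nat.mul_le_mul hD6 hd]
            · nlinarith [Nat.mul_le_mul hD5 h13]
          · have hD4 : 4 ≤ D := by omega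
            nlinarith [Nat.mul_le_mul hD4 hd16]
        rw [div_add_div _ _ hD0.ne' hd0.ne', div_le_div_iff₀ (by positivity) (by norm_num)]
        have : (((16 * (D + d) : ℕ)) : ℝ) ≤ ((5 * (D * d) : ℕ) : ℝ) := by exact_mod_cast hn
        push_cast at this
        linarith
      have := key _ hk
      push_cast at this hc'
      linarith
    · subst e6; norm_num at hp
    · have hk : 1 / (D : ℝ) + 1 / d ≤ 1 / 4 := by
        have hn : 4 * (D + d) ≤ D * d := by
          have h216 : 216 ≤ D * d := le_trans (by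
            calc 216 = 6 ^ 3 := by norm_num
              _ ≤ (p - 1) ^ 3 := Nat.pow_le_pow_left (by omega) 3) hdD
          have hd7 : 7 ≤ d := by omega
          rcases lt_or_ge d 12 with h12 | h12
          · have hD18 : 18 ≤ D := by
              by_contra hh; push Not at hh; nlinarith
            nlinarith [Nat.mul_le_mul hD18 hd7]
          · have hD6 : 6 ≤ D := by omega
            nlinarith [Nat.mul_le_mul hD6 h12]
        rw [div_add_div _ _ hD0.ne' hd0.ne', div_le_div_iff₀ (by positivity) (by norm_num)]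
        have : (((4 * (D + d) : ℕ)) : ℝ) ≤ ((D * d : ℕ) : ℝ) := by exact_mod_cast hn
        push_cast at this
        linarith
      have := key _ hk
      have hp7' : (7 : ℝ) ≤ p := by exact_mod_cast hp7
      push_cast at this hc'
      linarith
  · have hp7 : 7 ≤ p := by
      rcases (by omega : p = 6 ∨ 7 ≤ p) with e | e
      · subst e; norm_num at hp
      · exact e
    have hk : 1 / (D : ℝ) + 1 / d ≤ 26 / 100 := by
      have a : 1 / (D : ℝ) ≤ 1 / 6 :=
        one_div_le_one_div_of_le (by norm_num) (by exact_mod_cast (by omega : 6 ≤ D))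
      have b : 1 / (d : ℝ) ≤ 1 / 11 :=
        one_div_le_one_div_of_le (by norm_num) (by exact_mod_cast (by omega : 11 ≤ d))
      linarith
    have := key _ hk
    have hq5' : (5 : ℝ) ≤ q := by exact_mod_cast hq5
    have hp7' : (7 : ℝ) ≤ p := by exact_mod_cast hp7
    nlinarith [mul_le_mul hq5' hp7' (by norm_num) (by positivity)]
  · subst e; norm_num at hq

include hd1 hdo hdm hD in
/-- The bound on `D` when `d' = (q ^ p - 1) / (q - 1)`. -/
theorem orbit_le (hD'2 : q - 1 ≤ D')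
    (hA : p - 1 < D → (1 / (p : ℝ)) * (1 - 1 / D') +
        1 / ((q : ℝ) * ((d : ℝ) + 1 / D)) ≤
      1 / ((q : ℝ) * d) + 1 / ((p : ℝ) * ((q ^ p - 1) / (q - 1) : ℕ)) + (q : ℝ) / D) :
    (p = 5 ∧ q = 3 ∧ D ≤ 30) ∨
      (¬ (p = 5 ∧ q = 3) ∧ D ≤ (p - 1) * (2 * q + 1) ∧
        (¬ q ∣ p - 1 → D < (p - 1) * (2 * q + 1))) := by
  have hq3 := three_le hp hq hqo hqp
  have hp5 := five_le hp hqp hq3
  have hd := two_q_lt_d hp hq hqo hqp hd1 hdo hdm
  set N := (q ^ p - 1) / (q - 1) with hN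
  rcases lt_or_ge (p - 1) D with hlt | hge
  swap
  · by_cases h : p = 5 ∧ q = 3
    · exact Or.inl ⟨h.1, h.2, by omega⟩
    · refine Or.inr ⟨h, hge.trans (Nat.le_mul_of_pos_right _ (by omega)),
        fun _ => lt_of_le_of_lt hge (lt_mul_right (by omega) (by omega))⟩
  have hDpos : 0 < D := by omega
  have hdpos : 0 < d := by omega
  have hD'pos : 0 < D' := by omega
  have hmul : (q - 1) * N = q ^ p - 1 := pred_mul_geom q p
  have hNpos : 0 < N := by
    refine Nat.pos_of_ne_zero fun e => ?_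
    rw [e, mul_zero] at hmul
    have := Nat.one_lt_pow hp.ne_zero (by omega : 1 < q)
    omega
  have h := linear_form (by positivity : (0 : ℝ) < q) (by positivity : (0 : ℝ) < p)
    (by positivity : (0 : ℝ) < d) (by positivity : (0 : ℝ) < D) (hA hlt)
  have hsmall : 1 / ((q : ℝ) * (d : ℝ) ^ 2) ≤ 1 / 147 := by
    apply one_div_le_one_div_of_le (by norm_num)
    have a : (3 : ℝ) ≤ q := by exact_mod_cast hq3
    have b : (7 : ℝ) ≤ d := by exact_mod_cast (by omega : 7 ≤ d)
    calc (147 : ℝ) = 3 * 7 ^ 2 := by norm_num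
      _ ≤ _ := by gcongr
  have hqR : (3 : ℝ) ≤ q := by exact_mod_cast hq3
  have hpR : (5 : ℝ) ≤ p := by exact_mod_cast hp5
  have hD'k : 1 / (D' : ℝ) ≤ 1 / ((q : ℝ) - 1) := by
    refine one_div_le_one_div_of_le (by linarith) ?_
    have : ((q - 1 : ℕ) : ℝ) ≤ (D' : ℝ) := by exact_mod_cast hD'2
    rwa [Nat.cast_sub (by omega : 1 ≤ q), Nat.cast_one] at this
  have key : ∀ k : ℝ, 1 / (N : ℝ) ≤ k →
      (D : ℝ) * (1 - 1 / ((q : ℝ) - 1) - k) ≤ p * (q + 1 / 147) := by
    intro k hk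
    have h1 : (D : ℝ) * (1 - 1 / ((q : ℝ) - 1) - k) ≤ D * (1 - 1 / D' - 1 / N) :=
      mul_le_mul_of_nonneg_left (by linarith) (by positivity)
    have h2 : (p : ℝ) * (q + 1 / ((q : ℝ) * (d : ℝ) ^ 2)) ≤ p * (q + 1 / 147) := by gcongr
    linarith
  rcases (by omega : q = 3 ∨ 5 ≤ q ∨ q = 4) with e | hq5 | e
  · subst e
    rcases (by omega : p = 5 ∨ p = 6 ∨ p = 7 ∨ p = 8 ∨ p = 9 ∨ p = 10 ∨ 11 ≤ p) with
      e5 | e6 | e7 | e8 | e9 | e10 | hp11
    · subst e5
      left
      refine ⟨rfl, rfl, ?_⟩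
      have hN' : N = 121 := by rw [hN]; norm_num
      have := key (1 / 121) (by rw [hN']; norm_num)
      by_contra hc
      push Not at hc
      have h31 : (31 : ℝ) ≤ D := by exact_mod_cast hc
      push_cast at this
      linarith
    · subst e6; norm_num at hp
    · subst e7
      refine Or.inr ⟨by omega, ?_, fun h3 => absurd (by norm_num) h3⟩
      have hN' : N = 1093 := by rw [hN]; norm_num
      have := key (1 / 1093) (by rw [hN']; norm_num)
      by_contra hc
      push Not at hc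
      norm_num at hc
      have h43 : (43 : ℝ) ≤ D := by exact_mod_cast hc
      push_cast at this
      linarith
    · subst e8; norm_num at hp
    · subst e9; norm_num at hp
    · subst e10; norm_num at hp
    · have hN1 : 1000 ≤ N := by
        have h1 : 3 ^ 11 ≤ 3 ^ p := Nat.pow_le_pow_right (by norm_num) hp11
        norm_num at h1 hmul
        omega
      have := key (1 / 1000) (one_div_le_one_div_of_le (by norm_num) (by exact_mod_cast hN1))
      have hlt' : D < (p - 1) * 7 := by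
        by_contra hc
        push Not at hc
        have hc' : ((p : ℝ) - 1) * 7 ≤ D := by
          have : (((p - 1) * 7 : ℕ) : ℝ) ≤ D := by exact_mod_cast hc
          push_cast [Nat.cast_sub (by omega : 1 ≤ p)] at this
          exact this
        have h11 : (11 : ℝ) ≤ p := by exact_mod_cast hp11
        push_cast at this
        linarith
      exact Or.inr ⟨by omega, hlt'.le, fun _ => hlt'⟩
  · have hp7 : 7 ≤ p := by
      rcases (by omega : p = 6 ∨ 7 ≤ p) with e | e
      · subst e; norm_num at hp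
      · exact e
    have hN1 : 1000 ≤ N := by
      by_contra hc
      push Not at hc
      have h1 : q ^ 7 ≤ q ^ p := Nat.pow_le_pow_right (by omega) hp7
      have h2 : (q - 1) * N ≤ q * 1000 := Nat.mul_le_mul (Nat.sub_le _ _) hc.le
      have h3 : 5 ^ 6 ≤ q ^ 6 := Nat.pow_le_pow_left hq5 6
      have h4 : q ^ 7 = q * q ^ 6 := by ring
      have h5 : q * 1000 + 1 < q * q ^ 6 := by nlinarith
      omega
    have hk := key (1 / 1000) (one_div_le_one_div_of_le (by norm_num) (by exact_mod_cast hN1))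
    have hq5' : (5 : ℝ) ≤ q := by exact_mod_cast hq5
    have hp7' : (7 : ℝ) ≤ p := by exact_mod_cast hp7
    have h14 : 1 / ((q : ℝ) - 1) ≤ 1 / 4 :=
      one_div_le_one_div_of_le (by norm_num) (by linarith)
    have hlt' : D < (p - 1) * (2 * q + 1) := by
      by_contra hc
      push Not at hc
      have hc' : ((p : ℝ) - 1) * (2 * q + 1) ≤ D := by
        have : (((p - 1) * (2 * q + 1) : ℕ) : ℝ) ≤ D := by exact_mod_cast hc
        push_cast [Nat.cast_sub (by omega : 1 ≤ p)] at this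
        exact this
      have hD749 : (D : ℝ) * (749 / 1000) ≤ p * (q + 1 / 147) :=
        le_trans (mul_le_mul_of_nonneg_left (by linarith) (by positivity)) hk
      nlinarith [mul_le_mul hp7' hq5' (by norm_num) (by positivity)]
    exact Or.inr ⟨by omega, hlt'.le, fun _ => hlt'⟩
  · subst e; norm_num at hq

end bounds

/-- `T` is maximal: `d' = (q ^ p - 1) / (q - 1)` and `c' = 1`. -/
theorem maxT (hp : p.Prime) (hq : q.Prime) (hqo : Odd q) (hqp : q < p)
    (hd1 : 1 < d) (hdo : Odd d) (hdm : d % q = 1)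
    (hd'1 : 1 < d') (hd'o : Odd d') (hd'm : d' % p = 1)
    (hD : p - 1 ≤ D) (hD' : q - 1 ≤ D') (hc : 1 ≤ c) (hc'o : Odd c') (hc'm : c' % p = 1)
    (hS : (I ∧ (p ^ q - 1) * c ≤ D * d) ∨ (J ∧ (p - 1) ^ q * c ≤ D * d))
    (hT : (I' ∧ d' ∣ (q ^ p - 1) / (q - 1) ∧ (q ^ p - 1) * c' ≤ D' * d') ∨
      (J' ∧ d' ∣ ((q - 1) / 2 ^ (q - 1).factorization 2) ^ (p - 1) ∧
        (q - 1) ^ p * c' ≤ D' * d'))
    (hB : q - 1 < D' → (1 / (q : ℝ)) * (1 - 1 / D) + 1 / ((p : ℝ) * ((d' : ℝ) + 1 / D')) ≤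
      1 / ((p : ℝ) * d') + 1 / ((q : ℝ) * d) + (p : ℝ) / D') :
    I' ∧ d' = (q ^ p - 1) / (q - 1) ∧ c' = 1 := by
  have hq3 := three_le hp hq hqo hqp
  have hp5 := five_le hp hqp hq3
  have hpo := p_odd hp hq hqo hqp
  have hdD : (p - 1) ^ q ≤ D * d := by
    rcases hS with ⟨-, h⟩ | ⟨-, h⟩
    · refine le_trans ?_ (le_trans (Nat.le_mul_of_pos_right _ hc) h)
      have := Nat.pow_lt_pow_left (by omega : p - 1 < p) hq.ne_zero
      omega
    · exact le_trans (Nat.le_mul_of_pos_right _ hc) h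
  have hlt := orbit'_lt hp hq hqo hqp hd1 hdo hdm hd'm hd'o hd'1 hD hD' hdD hB
  rcases hT with ⟨hI, hdvd, hb⟩ | ⟨-, hdvd, hb⟩
  · obtain ⟨k, hk⟩ := hdvd
    set N := (q ^ p - 1) / (q - 1) with hN
    have hmul : (q - 1) * N = q ^ p - 1 := pred_mul_geom q p
    have hn : (q - 1) * (c' * k) ≤ D' := by
      refine Nat.le_of_mul_le_mul_right (le_trans (le_of_eq ?_) hb) (by omega : 0 < d')
      rw [← hmul, hk]; ring
    have hlt' : c' * k < 2 * p + 1 := by
      by_contra hh
      push Not at hh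
      exact absurd (lt_of_le_of_lt hn hlt) (not_lt.2 (Nat.mul_le_mul_left _ hh))
    have hNm : N % p = 1 := (geom_mod (by omega : 2 ≤ q) hp).1 fun h => by
      have := Nat.le_of_dvd (by omega) h; omega
    have hkm : k % p = 1 := by
      have := hNm
      rwa [hk, Nat.mul_mod, hd'm, one_mul, Nat.mod_mod] at this
    have hko : Odd k := by
      have := geom_odd (by omega : 2 ≤ q) hqo hpo
      rw [← hN, hk] at this
      exact (Nat.odd_mul.1 this).2
    have hnm : c' * k % p = 1 := by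
      rw [Nat.mul_mod, hc'm, hkm, one_mul, Nat.one_mod_eq_one.2 hp.one_lt.ne']
    have hn1 := (eq_one_or_le (by omega) (hc'o.mul hko) hpo hnm).resolve_right (by omega)
    obtain ⟨hc1, hk1⟩ := mul_eq_one.1 hn1
    exact ⟨hI, by rw [hk, hk1, mul_one], hc1⟩
  · exfalso
    obtain ⟨e, he, hle⟩ := monomial_bound (by omega) hdvd hp.pos hb
    have ha : 1 ≤ (q - 1).factorization 2 := by
      refine (Nat.prime_two.factorization_pos_of_dvd (by omega) ?_)
      obtain ⟨k, hk⟩ := hqo
      omega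
    have he0 : 0 < e := by
      refine Nat.pos_of_ne_zero fun e0 => ?_
      rw [e0, mul_zero] at he
      refine absurd he.symm (pow_ne_zero _ ?_)
      exact (Nat.ordCompl_pos 2 (by omega)).ne'
    have h1 : 2 ^ (p - 1) ≤ 2 ^ ((q - 1).factorization 2 * (p - 1)) * (e * c') := by
      refine le_trans (Nat.pow_le_pow_right (by norm_num) (Nat.le_mul_of_pos_left _ ha))
        (Nat.le_mul_of_pos_right _ (Nat.mul_pos he0 hc'o.pos))
    have h2 : 2 * p + 1 ≤ 2 ^ (p - 1) := by
      have : ∀ m : ℕ, 2 * (m + 5) + 1 ≤ 2 ^ (m + 4) := by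
        intro m
        induction m with
        | zero => norm_num
        | succ m ih => rw [show m + 1 + 4 = (m + 4) + 1 by omega, pow_succ]; omega
      have := this (p - 5)
      rwa [show p - 5 + 5 = p by omega, show p - 5 + 4 = p - 1 by omega] at this
    exact absurd (lt_of_le_of_lt hle hlt) (not_lt.2 (Nat.mul_le_mul_left _ (h2.trans h1)))

/-- With `T` maximal, `S` is maximal or one of three residual configurations. -/
theorem max_or_residual (hp : p.Prime) (hq : q.Prime) (hqo : Odd q) (hqp : q < p)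
    (hd1 : 1 < d) (hdo : Odd d) (hdm : d % q = 1) (hco : Odd c) (hcm : c % q = 1)
    (hD : p - 1 ≤ D) (hD' : q - 1 ≤ D')
    (hS : (I ∧ d ∣ (p ^ q - 1) / (p - 1) ∧ d.Coprime (p - 1) ∧
        (p ^ q - 1) * c ≤ D * d) ∨
      (J ∧ d ∣ ((p - 1) / 2 ^ (p - 1).factorization 2) ^ (q - 1) ∧
        (p - 1) ^ q * c ≤ D * d))
    (hA : p - 1 < D → (1 / (p : ℝ)) * (1 - 1 / D') + 1 / ((q : ℝ) * ((d : ℝ) + 1 / D)) ≤
      1 / ((q : ℝ) * d) + 1 / ((p : ℝ) * ((q ^ p - 1) / (q - 1) : ℕ)) + (q : ℝ) / D) :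
    (I ∧ c = 1 ∧ d = (p ^ q - 1) / (p - 1)) ∨
      (I ∧ q ∣ p - 1 ∧ c = 1 ∧ q * d = (p ^ q - 1) / (p - 1)) ∨
      (J ∧ q = 3 ∧ c = 1 ∧ 4 * d = (p - 1) ^ 2) ∨
      (I ∧ p = 5 ∧ q = 3 ∧ d = 31 ∧ c = 7) := by
  have hq3 := three_le hp hq hqo hqp
  have hp5 := five_le hp hqp hq3
  have hpo := p_odd hp hq hqo hqp
  have hbd := orbit_le hp hq hqo hqp hd1 hdo hdm hD hD' hA
  rcases hS with ⟨hI, hdvd, hcop, hb⟩ | ⟨hJ, hdvd, hb⟩
  · obtain ⟨k, hk⟩ := hdvd
    set N := (p ^ q - 1) / (p - 1) with hN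
    have hmul : (p - 1) * N = p ^ q - 1 := pred_mul_geom p q
    have hn : (p - 1) * (c * k) ≤ D := by
      refine Nat.le_of_mul_le_mul_right (le_trans (le_of_eq ?_) hb) (by omega : 0 < d)
      rw [← hmul, hk]; ring
    have hko : Odd k := by
      have := geom_odd (by omega : 2 ≤ p) hpo hqo
      rw [← hN, hk] at this
      exact (Nat.odd_mul.1 this).2
    by_cases hqd : q ∣ p - 1
    · right; left
      have hqN : q ∣ d * k := hk ▸ (geom_mod (by omega : 2 ≤ p) hq).2 hqd
      obtain ⟨k', rfl⟩ := (Nat.Coprime.dvd_of_dvd_mul_left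
        (Nat.Coprime.coprime_dvd_left hqd hcop.symm) hqN)
      have hne : ¬ (p = 5 ∧ q = 3) := by rintro ⟨rfl, rfl⟩; norm_num at hqd
      obtain ⟨-, hD2, -⟩ := hbd.resolve_left fun h => hne ⟨h.1, h.2.1⟩
      have h2 : c * (q * k') ≤ 2 * q + 1 :=
        Nat.le_of_mul_le_mul_left (hn.trans hD2) (by omega : 0 < p - 1)
      have hck : c * k' = 1 := by
        have ho : Odd (c * k') := hco.mul (Nat.odd_mul.1 hko).2
        have : c * k' < 3 := by
          by_contra hh
          push Not at hh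
          nlinarith
        obtain ⟨a, ha⟩ := ho
        omega
      obtain ⟨hc1, hk1⟩ := mul_eq_one.1 hck
      exact ⟨hI, hqd, hc1, by rw [hk, hk1, mul_one, mul_comm]⟩
    · have hNm : N % q = 1 := (geom_mod (by omega : 2 ≤ p) hq).1 hqd
      have hkm : k % q = 1 := by
        have := hNm
        rwa [hk, Nat.mul_mod, hdm, one_mul, Nat.mod_mod] at this
      rcases hbd with ⟨hp5', hq3', hD30⟩ | ⟨-, -, hD2⟩
      · subst hp5' hq3'
        have hN31 : N = 31 := by rw [hN]; norm_num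
        rw [hN31] at hk
        have hd31 : d = 31 :=
          ((Nat.dvd_prime (by norm_num : Nat.Prime 31)).1 (Dvd.intro k hk.symm)).resolve_left
            (by omega)
        have hk1 : k = 1 := by rw [hd31] at hk; omega
        have hc7 : c ≤ 7 := by rw [hk1] at hn; omega
        obtain ⟨a, ha⟩ := hco
        rcases (by omega : c = 1 ∨ c = 7) with e | e
        · exact Or.inl ⟨hI, e, by rw [hd31, hN31]⟩
        · exact Or.inr (Or.inr (Or.inr ⟨hI, rfl, rfl, hd31, e⟩))
      · left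
        have hlt : c * k < 2 * q + 1 := by
          by_contra hh
          push Not at hh
          exact absurd (lt_of_le_of_lt hn (hD2 hqd)) (not_lt.2 (Nat.mul_le_mul_left _ hh))
        have hnm : c * k % q = 1 := by
          rw [Nat.mul_mod, hcm, hkm, one_mul, Nat.one_mod_eq_one.2 hq.one_lt.ne']
        obtain ⟨hc1, hk1⟩ := mul_eq_one.1
          ((eq_one_or_le hq3 (hco.mul hko) hqo hnm).resolve_right (by omega))
        exact ⟨hI, hc1, by rw [hk, hk1, mul_one]⟩
  · right; right; left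
    obtain ⟨e, he, hle⟩ := monomial_bound (by omega) hdvd hq.pos hb
    set a := (p - 1).factorization 2 with ha'
    set m := (p - 1) / 2 ^ a with hm
    have ha : 1 ≤ a := by
      refine (Nat.prime_two.factorization_pos_of_dvd (by omega) ?_)
      obtain ⟨k, hk⟩ := hpo
      omega
    have hdec : p - 1 = 2 ^ a * m := (Nat.ordProj_mul_ordCompl_eq_self (p - 1) 2).symm
    have he0 : 0 < e := by
      refine Nat.pos_of_ne_zero fun e0 => ?_
      rw [e0, mul_zero] at he
      exact absurd he.symm (pow_ne_zero _ (Nat.ordCompl_pos 2 (by omega : p - 1 ≠ 0)).ne')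
    have hne : ¬ (p = 5 ∧ q = 3) := by
      rintro ⟨rfl, rfl⟩
      have h4 : a = 2 := by
        rw [ha']
        rw [show (5 - 1 : ℕ) = 2 ^ 2 by norm_num, Nat.Prime.factorization_pow Nat.prime_two]
        simp
      have hm1 : m = 1 := by rw [hm, h4]; norm_num
      rw [hm1, one_pow] at he
      have := (mul_eq_one.1 he).1
      omega
    obtain ⟨-, hD2, -⟩ := hbd.resolve_left fun h => hne ⟨h.1, h.2.1⟩
    have h2 : 2 ^ (a * (q - 1)) * (e * c) ≤ 2 * q + 1 :=
      Nat.le_of_mul_le_mul_left (hle.trans hD2) (by omega : 0 < p - 1)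
    have hpow : 2 ^ (q - 1) ≤ 2 * q + 1 := by
      refine le_trans (Nat.pow_le_pow_right (by norm_num) (Nat.le_mul_of_pos_left _ ha))
        (le_trans (Nat.le_mul_of_pos_right _ (Nat.mul_pos he0 hco.pos)) h2)
    have hq3' : q = 3 := by
      by_contra hh
      have h5 : ∀ n : ℕ, 2 * (n + 5) + 1 < 2 ^ (n + 4) := by
        intro n
        induction n with
        | zero => norm_num
        | succ n ih => rw [show n + 1 + 4 = (n + 4) + 1 by omega, pow_succ]; omega
      have hq5 : 5 ≤ q := by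
        rcases (by omega : q = 4 ∨ 5 ≤ q) with e4 | e4
        · subst e4; norm_num at hq
        · exact e4
      have := h5 (q - 5)
      rw [show q - 5 + 5 = q by omega, show q - 5 + 4 = q - 1 by omega] at this
      omega
    subst hq3'
    have ha1 : a = 1 := by
      by_contra hh
      have : 2 ^ 4 ≤ 2 ^ (a * (3 - 1)) := Nat.pow_le_pow_right (by norm_num) (by omega)
      have := le_trans (this.trans (Nat.le_mul_of_pos_right _ (Nat.mul_pos he0 hco.pos))) h2
      norm_num at this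
    rw [ha1] at h2 hdec
    norm_num at h2 hdec he
    have hec : e * c ≤ 1 := by omega
    obtain ⟨he1, hc1⟩ := mul_eq_one.1
      (le_antisymm hec (Nat.mul_pos he0 hco.pos))
    refine ⟨hJ, rfl, hc1, ?_⟩
    rw [he1, mul_one] at he
    rw [hdec, he]
    ring

end Cfsg.Agent.OddFinal.MaxArith
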