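import Cfsg.Agent.OddFinal.PairChar
import Cfsg.Agent.OddFinal.MaxArith

/-!
# Two sides: the long one is maximal, the short one is maximal or residual
-/

set_option autoImplicit false
set_option linter.unusedSectionVars false

namespace Cfsg.Agent.OddFinal

open Cfsg Char CyclicTI

universe u

variable {G : Type u} [Group G] [Fintype G] {M W₁ W₂ K : Subgroup G} [Fintype ↥M] {d : ℕ}
  {X : Finset (↥M → ℂ)} {μ : (↥(W₁ ⊔ W₂) →* ℂˣ) → ↥M → ℂ}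
  {η : (↥(W₁ ⊔ W₂) →* ℂˣ) → G → ℂ} {π : ↥M → ℂ}
  {T K' : Subgroup G} [Fintype ↥T] {d' : ℕ} {X' : Finset (↥T → ℂ)}
  {μ' : (↥(W₂ ⊔ W₁) →* ℂˣ) → ↥T → ℂ} {π' : ↥T → ℂ}

/-- `D ≥ p - 1`. -/
theorem le_orbitNat (X : Finset (↥M → ℂ)) : Nat.card W₂ - 1 ≤ orbitNat W₁ W₂ X :=
  Nat.le_add_right _ _

/-- What one member supplies to the arithmetic. -/
structure CountData (p q d D c : ℕ) : Prop where
  one_lt : 1 < d
  odd : Odd d
  mod : d % q = 1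
  odd_c : Odd c
  mod_c : c % q = 1

/-- The arithmetic consequence of the two covering inequalities. -/
theorem pair_max (hs : IsSide M W₁ W₂ K d X μ η) (hb : IsBridge M W₁ W₂ K d X μ π)
    (hs' : IsSide T W₂ W₁ K' d' X' μ' (fun f => η (swapHom f)))
    (hb' : IsBridge T W₂ W₁ K' d' X' μ' π')
    (hW : IsSelfNormalizingCyclic W₁ W₂) (hη : IsCyclicTIFamily W₁ W₂ η)
    (hodd : Odd (Nat.card G))
    (hKK : Disjoint (conjAll (sharp K)) (conjAll (sharp K')))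
    (hKV : Disjoint (conjAll (sharp K)) (conjAll (vSet W₁ W₂)))
    (hKV' : Disjoint (conjAll (sharp K')) (conjAll (vSet W₁ W₂)))
    {p q : ℕ} (hpc : Nat.card W₂ = p) (hqc : Nat.card W₁ = q)
    (hp : p.Prime) (hq : q.Prime) (hqp : q < p)
    {c c' : ℕ} (hC : CountData p q d (orbitNat W₁ W₂ X) c)
    (hC' : CountData q p d' (orbitNat W₂ W₁ X') c') {I J I' J' : Prop}
    (hS : (I ∧ d ∣ (p ^ q - 1) / (p - 1) ∧ d.Coprime (p - 1) ∧
        (p ^ q - 1) * c ≤ orbitNat W₁ W₂ X * d) ∨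
      (J ∧ d ∣ ((p - 1) / 2 ^ (p - 1).factorization 2) ^ (q - 1) ∧
        (p - 1) ^ q * c ≤ orbitNat W₁ W₂ X * d))
    (hT : (I' ∧ d' ∣ (q ^ p - 1) / (q - 1) ∧ (q ^ p - 1) * c' ≤ orbitNat W₂ W₁ X' * d') ∨
      (J' ∧ d' ∣ ((q - 1) / 2 ^ (q - 1).factorization 2) ^ (p - 1) ∧
        (q - 1) ^ p * c' ≤ orbitNat W₂ W₁ X' * d')) :
    (I' ∧ d' = (q ^ p - 1) / (q - 1) ∧ c' = 1) ∧
      ((I ∧ c = 1 ∧ d = (p ^ q - 1) / (p - 1)) ∨
        (I ∧ q ∣ p - 1 ∧ c = 1 ∧ q * d = (p ^ q - 1) / (p - 1)) ∨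
        (J ∧ q = 3 ∧ c = 1 ∧ 4 * d = (p - 1) ^ 2) ∨
        (I ∧ p = 5 ∧ q = 3 ∧ d = 31 ∧ c = 7)) := by
  have hqo : Odd q := hqc ▸ hodd.of_dvd_nat (Subgroup.card_subgroup_dvd_card _)
  have hD := le_orbitNat (W₁ := W₁) (W₂ := W₂) X
  have hD' := le_orbitNat (W₁ := W₂) (W₂ := W₁) X'
  rw [hpc] at hD
  rw [hqc] at hD'
  have hT' := MaxArith.maxT hp hq hqo hqp hC.one_lt hC.odd hC.mod hC'.one_lt hC'.odd hC'.mod hD hD'
    hC.odd_c.pos hC'.odd_c hC'.mod_c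
    (hS.imp (fun x => ⟨x.1, x.2.2.2⟩) fun x => ⟨x.1, x.2.2⟩) hT (fun hlt => by
      have := pair_ineq (M := T) (T := M) hs' (μ' := μ)
        (η := fun f => η (swapHom f)) (by simpa only [swapHom_swapHom] using hs) hb'
        (isSelfNormalizingCyclic_swap hW) (eta_swap hη) hodd hKK.symm
        (by rwa [vSet_comm]) (by rw [hqc]; exact hlt)
      rwa [hpc, hqc] at this)
  refine ⟨hT', MaxArith.max_or_residual hp hq hqo hqp hC.one_lt hC.odd hC.mod hC.odd_c hC.mod_c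
    hD hD' hS fun hlt => ?_⟩
  have := pair_ineq hs hs' hb hW hη hodd hKK hKV' (by rw [hpc]; exact hlt)
  rw [hpc, hqc, hT'.2.1] at this
  exact this

end Cfsg.Agent.OddFinal
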