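import Cfsg.Agent.OddFinal.ShapeTwo
import Cfsg.Agent.OddFinal.ChiefSplit
import Cfsg.Agent.OddFinal.NotTwo
import Cfsg.Agent.OddFinal.PairMax
import Cfsg.Agent.OddFinal.Derived
import Cfsg.Agent.OddFinal.NoSupport
import Cfsg.Agent.OddFinal.Disjoint

/-!
# What the final argument uses about one member
-/

set_option autoImplicit false
set_option linter.unusedSectionVars false

namespace Cfsg.Agent.OddFinal

open Subgroup Cfsg Cfsg.Agent.Char CyclicTI
open scoped _root_.Classical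

universe u

variable {G : Type u} [Group G]

/-- The kernel of the action of `U` on `H / H₀`. -/
abbrev cKer (M U H₀ : Subgroup G) : Subgroup G := U ⊓ modCent (fittingHallOf M) H₀

/-- `K = H C`. -/
abbrev kerK (M U H₀ : Subgroup G) : Subgroup G := fittingHallOf M ⊔ cKer M U H₀

/-- The lower bound on the orbit count with the divisibility of `ū`. -/
def CountForm (M W₁ U W₂ H₀ : Subgroup G) (D : ℕ) : Prop :=
  (IsIrredMod M U H₀ ∧
      (cKer M U H₀).relIndex U ∣ (Nat.card W₂ ^ Nat.card W₁ - 1) / (Nat.card W₂ - 1) ∧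
      ((cKer M U H₀).relIndex U).Coprime (Nat.card W₂ - 1) ∧
      (Nat.card W₂ ^ Nat.card W₁ - 1) * ⁅cKer M U H₀, cKer M U H₀⁆.relIndex (cKer M U H₀) ≤
        D * (cKer M U H₀).relIndex U) ∨
    (¬ IsIrredMod M U H₀ ∧
      (cKer M U H₀).relIndex U ∣
        ((Nat.card W₂ - 1) / 2 ^ (Nat.card W₂ - 1).factorization 2) ^ (Nat.card W₁ - 1) ∧
      (Nat.card W₂ - 1) ^ Nat.card W₁ * ⁅cKer M U H₀, cKer M U H₀⁆.relIndex (cKer M U H₀) ≤
        D * (cKer M U H₀).relIndex U)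

variable [Fintype G]

/-- A member with its kernel, its characters and, outside Type II, the data of `M'`. -/
structure Kit (M W₁ U W₂ H₀ : Subgroup G) [Fintype ↥M]
    (η : (↥(W₁ ⊔ W₂) →* ℂˣ) → G → ℂ) : Prop where
  chief : Chief M W₁ U W₂ H₀
  sub : sharp (kerK M U H₀) ⊆ typeA M
  chars : ∃ (X : Finset (↥M → ℂ)) (μ : (↥(W₁ ⊔ W₂) →* ℂˣ) → ↥M → ℂ) (π : ↥M → ℂ),
    IsSide M W₁ W₂ (kerK M U H₀) ((cKer M U H₀).relIndex U) X μ η ∧
      IsBridge M W₁ W₂ (kerK M U H₀) ((cKer M U H₀).relIndex U) X μ π ∧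
      CountForm M W₁ U W₂ H₀ (orbitNat W₁ W₂ X) ∧
      (¬ IsOfTypeII M → ∃ Z : Finset (↥M → ℂ),
        IsDerived M W₁ W₂ (kerK M U H₀) ⁅M, M⁆ ((cKer M U H₀).relIndex U) μ π Z)

variable {M W₁ U W₂ : Subgroup G}

/-- For Type II the kernel of the action on `H` is the centralizer. -/
theorem cKer_bot (hd : IsTypePWith M W₁ U W₂) :
    cKer M U ⊥ = U ⊓ centralizer (fittingHallOf M : Set G) := by
  ext g
  simp only [cKer, mem_inf, mem_modCent, mem_bot, mem_centralizer_iff, SetLike.mem_coe]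
  constructor
  · rintro ⟨hg, -, -, h⟩
    refine ⟨hg, fun y hy => ?_⟩
    have := h y hy
    rw [mul_inv_eq_one, mul_inv_eq_iff_eq_mul] at this
    exact this.symm
  · rintro ⟨hg, h⟩
    refine ⟨hg, ((le_sup_left : U ≤ U ⊔ W₁).trans (TypeTwo.sup_le_normalizer hd)) hg,
      mem_normalizer_iff.2 fun y => by simp, fun y hy => ?_⟩
    rw [← h y hy]; group

/-- For Type II irreducibility modulo `⊥` is irreducibility. -/
theorem isIrredMod_bot : IsIrredMod M U ⊥ ↔ TypeTwo.IsIrred M U :=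
  ⟨fun h N hN hU => h N bot_le hN hU, fun h N _ hN hU => h N hN hU⟩

end Cfsg.Agent.OddFinal
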