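import Cfsg.Agent.OddFinal.ChiefTools
import Cfsg.Agent.OddFinal.FixedRegular

/-!
# Lower bounds for the number of regular linear characters of `K = H C`

A homomorphism on the chief factor `H / H₀` whose stabiliser in `U` is `C` gives, multiplied by any
linear character of `C`, a linear character of `K` that is regular in `M' = H U`. With an abelian
group of commuting automorphisms there are at least `(p - 1) ^ q` of them, and `p ^ q - 1` if
`U` acts irreducibly.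
-/

set_option autoImplicit false
set_option linter.unusedSectionVars false

namespace Cfsg.Agent.OddFinal

open Subgroup Cfsg
open scoped commutatorElement
open scoped _root_.Classical

universe u

namespace SideCount

variable {Q : Type u} [CommGroup Q]

/-- `Y` is carried into itself by the automorphisms in `A`. -/
def Stable (A : Set (MulAut Q)) (Y : Subgroup Q) : Prop := ∀ u ∈ A, ∀ y ∈ Y, u y ∈ Y

/-- The homomorphisms on `Y` fixed only by automorphisms that are trivial on `Y`. -/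
def Regular (A : Set (MulAut Q)) (Y : Subgroup Q) (l : ↥Y →* ℂˣ) : Prop :=
  ∀ u ∈ A, (∀ y y' : ↥Y, (y' : Q) = u (y : Q) → l y' = l y) → ∀ y ∈ Y, u y = y

variable {A : Set (MulAut Q)} (hA : ∀ u ∈ A, ∀ v ∈ A, ∀ y, u (v y) = v (u y))

include hA

/-- A homomorphism that is nontrivial on a minimal stable subgroup is regular on it. -/
theorem fix_of_minimal {X : Subgroup Q} (hX : Stable A X)
    (hmin : ∀ N ≤ X, Stable A N → N = ⊥ ∨ N = X) {l : ↥X →* ℂˣ} (hl : l ≠ 1) {u : MulAut Q}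
    (hu : u ∈ A) (hfix : ∀ y y' : ↥X, (y' : Q) = u (y : Q) → l y' = l y) :
    ∀ y ∈ X, u y = y := by
  let D : ↥X →* Q :=
    { toFun := fun y => u (y : Q) * (y : Q)⁻¹
      map_one' := by simp
      map_mul' := fun a b => by
        simp only [Subgroup.coe_mul, map_mul, mul_inv_rev]
        rw [mul_comm (b : Q)⁻¹]
        exact (mul_mul_mul_comm _ _ _ _) }
  have hDX : D.range ≤ X := by
    rintro _ ⟨y, rfl⟩
    exact X.mul_mem (hX u hu _ y.2) (X.inv_mem y.2)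
  have hDs : Stable A D.range := by
    rintro v hv _ ⟨y, rfl⟩
    refine ⟨⟨v (y : Q), hX v hv _ y.2⟩, ?_⟩
    show u (v (y : Q)) * (v (y : Q))⁻¹ = v (u (y : Q) * (y : Q)⁻¹)
    rw [map_mul, map_inv, hA u hu v hv]
  rcases hmin _ hDX hDs with e | e
  · intro y hy
    have h1 : D ⟨y, hy⟩ ∈ (⊥ : Subgroup Q) := e ▸ ⟨⟨y, hy⟩, rfl⟩
    exact mul_inv_eq_one.1 (Subgroup.mem_bot.1 h1)
  · refine absurd (MonoidHom.ext fun x => ?_) hl
    obtain ⟨y, hy⟩ := e.ge x.2
    have hxy : x = ⟨u (y : Q), hX u hu _ y.2⟩ * y⁻¹ := Subtype.ext hy.symm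
    rw [MonoidHom.one_apply, hxy, map_mul, map_inv, hfix y ⟨u (y : Q), hX u hu _ y.2⟩ rfl,
      mul_inv_cancel]

omit hA

/-- The number of nontrivial homomorphisms. -/
theorem card_ne_one [Finite Q] (X : Subgroup Q) :
    Nat.card {l : ↥X →* ℂˣ // l ≠ 1} = Nat.card X - 1 := by
  have hc : Nat.card (↥X →* ℂˣ) = Nat.card X :=
    CommGroup.card_monoidHom_of_hasEnoughRootsOfUnity X ℂ
  have : Finite (↥X →* ℂˣ) := Nat.finite_of_card_ne_zero (hc ▸ Nat.card_pos.ne')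
  have e : Nat.card {l : ↥X →* ℂˣ // l ≠ 1} + 1 = Nat.card X := by
    rw [← hc, ← Nat.card_congr (Equiv.optionSubtypeNe (1 : ↥X →* ℂˣ)), Finite.card_option]
  omega

include hA

/-- In the irreducible case every nontrivial homomorphism is regular. -/
theorem card_regular_irred [Finite Q] (hirr : ∀ N : Subgroup Q, Stable A N → N = ⊥ ∨ N = ⊤) :
    Nat.card Q - 1 ≤ Nat.card {l : ↥(⊤ : Subgroup Q) →* ℂˣ // l ≠ 1 ∧ Regular A ⊤ l} := by
  rw [← Subgroup.card_top, ← card_ne_one]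
  refine le_of_eq (Nat.card_congr (Equiv.subtypeEquivRight fun l => ⟨fun hl => ⟨hl, ?_⟩, And.left⟩))
  exact fun u hu hf => fix_of_minimal hA (fun _ _ _ _ => Subgroup.mem_top _)
    (fun N _ hN => hirr N hN) hl hu hf

/-- The regular homomorphisms on a stable subgroup generated by minimal ones. -/
theorem card_regular [Finite Q] {p : ℕ} (hp : p.Prime) (hpQ : IsPGroup p Q)
    (hgen : ∀ Y : Subgroup Q, Stable A Y → Y ≠ ⊤ → ∃ X : Subgroup Q, Stable A X ∧ X ≠ ⊥ ∧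
      (∀ N ≤ X, Stable A N → N = ⊥ ∨ N = X) ∧ ¬ X ≤ Y) :
    ∀ k, Nat.card Q = p ^ k →
      (p - 1) ^ k ≤ Nat.card {l : ↥(⊤ : Subgroup Q) →* ℂˣ // Regular A ⊤ l} := by
  have := Fact.mk hp
  let P : Subgroup Q → Prop := fun Y => Stable A Y ∧ ∀ k, Nat.card Y = p ^ k →
    (p - 1) ^ k ≤ Nat.card {l : ↥Y →* ℂˣ // Regular A Y l}
  have hfin : ∀ Y : Subgroup Q, Finite (↥Y →* ℂˣ) := fun Y => Nat.finite_of_card_ne_zero (by
    rw [CommGroup.card_monoidHom_of_hasEnoughRootsOfUnity]; exact Nat.card_pos.ne')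
  have hbot : P ⊥ := by
    refine ⟨fun u _ y hy => ?_, fun k hk => ?_⟩
    · rw [Subgroup.mem_bot] at hy ⊢; rw [hy, map_one]
    · have hk0 : k = 0 := by
        rw [Subgroup.card_bot] at hk
        exact (Nat.pow_eq_one.1 hk.symm).resolve_left hp.ne_one
      have := hfin ⊥
      rw [hk0, pow_zero, Nat.one_le_iff_ne_zero, ← Nat.pos_iff_ne_zero, Nat.card_pos_iff]
      exact ⟨⟨⟨1, fun u _ _ y hy => by rw [Subgroup.mem_bot.1 hy, map_one]⟩⟩, inferInstance⟩
  obtain ⟨Y, hY, hmax⟩ := wellFounded_gt.has_min {Y | P Y} ⟨⊥, hbot⟩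
  suffices hYtop : Y = ⊤ by
    subst hYtop
    intro k hk
    exact hY.2 k (by rw [Subgroup.card_top]; exact hk)
  by_contra hne
  obtain ⟨X, hX, hX1, hXmin, hXY⟩ := hgen Y hY.1 hne
  have hinf : X ⊓ Y = ⊥ := (hXmin _ inf_le_left fun u hu y hy =>
    ⟨hX u hu y hy.1, hY.1 u hu y hy.2⟩).resolve_right fun e => hXY (e ▸ inf_le_right)
  -- the direct product
  let f : ↥Y × ↥X →* ↥(Y ⊔ X) :=
    { toFun := fun a => ⟨(a.1 : Q) * a.2, mul_mem_sup a.1.2 a.2.2⟩
      map_one' := Subtype.ext (by simp)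
      map_mul' := fun a b => Subtype.ext (mul_mul_mul_comm _ _ _ _) }
  have hf : Function.Bijective f := by
    refine ⟨(injective_iff_map_eq_one f).2 fun a ha => ?_, fun b => ?_⟩
    · have e : (a.1 : Q) * a.2 = 1 := congrArg Subtype.val ha
      have h2 : (a.2 : Q) ∈ X ⊓ Y :=
        ⟨a.2.2, by rw [eq_inv_of_mul_eq_one_right e]; exact Y.inv_mem a.1.2⟩
      rw [hinf, Subgroup.mem_bot] at h2
      rw [h2, mul_one] at e
      exact Prod.ext (Subtype.ext e) (Subtype.ext h2)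
    · obtain ⟨a, ha, c, hc, e⟩ := Subgroup.mem_sup.1 b.2
      exact ⟨(⟨a, ha⟩, ⟨c, hc⟩), Subtype.ext e⟩
  let e := MulEquiv.ofBijective f hf
  have hstab : Stable A (Y ⊔ X) := fun u hu b hb => by
    obtain ⟨a, ha, c, hc, rfl⟩ := Subgroup.mem_sup.1 hb
    rw [map_mul]
    exact mul_mem_sup (hY.1 u hu a ha) (hX u hu c hc)
  let Φ : {l : ↥Y →* ℂˣ // Regular A Y l} × {l : ↥X →* ℂˣ // l ≠ 1} →
      {l : ↥(Y ⊔ X) →* ℂˣ // Regular A (Y ⊔ X) l} := fun a =>
    ⟨(a.1.1.coprod a.2.1).comp e.symm.toMonoidHom, fun u hu hfix => by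
      have hval : ∀ (y : ↥Y) (x : ↥X),
          (a.1.1.coprod a.2.1).comp e.symm.toMonoidHom (f (y, x)) = a.1.1 y * a.2.1 x :=
        fun y x => by
          show (a.1.1.coprod a.2.1) (e.symm (e (y, x))) = _
          rw [e.symm_apply_apply]; rfl
      have h1 : ∀ y ∈ Y, u y = y := a.1.2 u hu fun y y' hy => by
        have := hfix (f (y, 1)) (f (y', 1)) (by simp [f, hy])
        rwa [hval, hval, map_one, mul_one, mul_one] at this
      have h2 : ∀ x ∈ X, u x = x := fix_of_minimal hA hX hXmin a.2.2 hu fun x x' hx => by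
        have := hfix (f (1, x)) (f (1, x')) (by simp [f, hx])
        rwa [hval, hval, map_one, one_mul, one_mul] at this
      intro b hb
      obtain ⟨y, hy, x, hx, rfl⟩ := Subgroup.mem_sup.1 hb
      rw [map_mul, h1 y hy, h2 x hx]⟩
  have hΦ : Function.Injective Φ := by
    rintro ⟨⟨l, hl⟩, ⟨m, hm⟩⟩ ⟨⟨l', hl'⟩, ⟨m', hm'⟩⟩ he
    have he' : (l.coprod m).comp e.symm.toMonoidHom = (l'.coprod m').comp e.symm.toMonoidHom :=
      congrArg Subtype.val he
    have he2 : l.coprod m = l'.coprod m' := MonoidHom.ext fun c => by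
      simpa using DFunLike.congr_fun he' (e c)
    refine Prod.ext (Subtype.ext (MonoidHom.ext fun y => ?_)) (Subtype.ext (MonoidHom.ext fun x => ?_))
    · simpa [MonoidHom.coprod_apply] using DFunLike.congr_fun he2 (y, (1 : ↥X))
    · simpa [MonoidHom.coprod_apply] using DFunLike.congr_fun he2 ((1 : ↥Y), x)
  refine hmax (Y ⊔ X) ⟨hstab, fun k hk => ?_⟩
    (lt_of_le_of_ne le_sup_left fun e' => hXY (by rw [e']; exact le_sup_right))
  obtain ⟨j, hj⟩ := IsPGroup.iff_card.1 (hpQ.to_subgroup Y)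
  obtain ⟨m, hm⟩ := IsPGroup.iff_card.1 (hpQ.to_subgroup X)
  have hk' : k = j + m := by
    refine Nat.pow_right_injective hp.two_le ?_
    show p ^ k = p ^ (j + m)
    rw [← hk, ← Nat.card_congr e.toEquiv, Nat.card_prod, hj, hm, pow_add]
  have hm1 : m ≠ 0 := fun h0 => hX1 (Subgroup.card_eq_one.1 (by rw [hm, h0, pow_zero]))
  have := hfin (Y ⊔ X)
  refine le_trans ?_ (Nat.card_le_card_of_injective Φ hΦ)
  rw [Nat.card_prod, card_ne_one, hm, hk', pow_add]
  exact Nat.mul_le_mul (hY.2 j hj)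
    (Nat.le_sub_one_of_lt (Nat.pow_lt_pow_left (Nat.sub_lt hp.pos Nat.one_pos) hm1))

end SideCount

variable {G : Type u} [Group G] [Fintype G] {M W₁ U W₂ H₀ : Subgroup G}

/-- The automorphisms of `H / H₀` induced by `U`, the counting model of a chief factor. -/
theorem Chief.count (hG : IsMinSimpleOddOrder G) (hM : IsCoatom M)
    (hd : IsTypePWith M W₁ U W₂) (hc : Chief M W₁ U W₂ H₀)
    [((fittingHallOf M ⊔ U ⊓ modCent (fittingHallOf M) H₀).subgroupOf M).Normal] :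
    ((∀ N : Subgroup G, H₀ ≤ N → N ≤ fittingHallOf M → U ≤ normalizer (N : Set G) →
        N = H₀ ∨ N = fittingHallOf M) →
      (Nat.card W₂ ^ Nat.card W₁ - 1) *
          ⁅U ⊓ modCent (fittingHallOf M) H₀, U ⊓ modCent (fittingHallOf M) H₀⁆.relIndex
            (U ⊓ modCent (fittingHallOf M) H₀) ≤
        Nat.card {g : ↥((fittingHallOf M ⊔ U ⊓ modCent (fittingHallOf M) H₀).subgroupOf M) →* ℂˣ //
          Fixed.RegIn (⁅M, M⁆.subgroupOf M)
            ((fittingHallOf M ⊔ U ⊓ modCent (fittingHallOf M) H₀).subgroupOf M) g}) ∧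
      (Nat.card W₂ - 1) ^ Nat.card W₁ *
          ⁅U ⊓ modCent (fittingHallOf M) H₀, U ⊓ modCent (fittingHallOf M) H₀⁆.relIndex
            (U ⊓ modCent (fittingHallOf M) H₀) ≤
        Nat.card {g : ↥((fittingHallOf M ⊔ U ⊓ modCent (fittingHallOf M) H₀).subgroupOf M) →* ℂˣ //
          Fixed.RegIn (⁅M, M⁆.subgroupOf M)
            ((fittingHallOf M ⊔ U ⊓ modCent (fittingHallOf M) H₀).subgroupOf M) g} := by
  set H := fittingHallOf M with hH
  set C := U ⊓ modCent H H₀ with hC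
  set K := H ⊔ C with hK
  have hHM : H ≤ M := OddLocal.fittingHallOf_le M
  have hCM : C ≤ M := inf_le_left.trans (TypeTwo.U_le hd)
  have hKM : K ≤ M := sup_le hHM hCM
  have hUH : U ≤ normalizer (H : Set G) := le_sup_left.trans (TypeTwo.sup_le_normalizer hd)
  have hUH₀ : U ≤ normalizer (H₀ : Set G) := le_sup_left.trans (hc.sup_le_normalizer₀ hd)
  -- the factor group
  set S := H₀.subgroupOf H with hS
  have hSn : S.Normal := (Subgroup.normal_subgroupOf_iff_le_normalizer hc.le).2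
    (hHM.trans hc.normal)
  let Q := ↥H ⧸ S
  have hQc : ∀ a b : Q, a * b = b * a := fun a b => by
    obtain ⟨x, rfl⟩ := QuotientGroup.mk_surjective a
    obtain ⟨y, rfl⟩ := QuotientGroup.mk_surjective b
    rw [← QuotientGroup.mk_mul, ← QuotientGroup.mk_mul, QuotientGroup.eq]
    have h1 := hc.comm_mem _ (H.inv_mem y.2) _ (H.inv_mem x.2)
    simpa [hS, mem_subgroupOf, mul_assoc] using h1
  letI : CommGroup Q := { (inferInstance : Group Q) with mul_comm := hQc }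
  let π : ↥H →* Q := QuotientGroup.mk' S
  have hπ : Function.Surjective π := QuotientGroup.mk'_surjective S
  have hker : ∀ y : ↥H, π y = 1 ↔ (y : G) ∈ H₀ := fun y => (QuotientGroup.eq_one_iff y).trans Iff.rfl
  have hmem : ∀ u ∈ U, ∀ y : ↥H, u * (y : G) * u⁻¹ ∈ H := fun u hu y =>
    (mem_normalizer_iff.1 (hUH hu) _).1 y.2
  let cu : ∀ u ∈ U, ↥H →* ↥H := fun u hu =>
    { toFun := fun y => ⟨u * (y : G) * u⁻¹, hmem u hu y⟩
      map_one' := Subtype.ext (by simp)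
      map_mul' := fun a b => Subtype.ext (by simp [mul_assoc]) }
  let act : ∀ u ∈ U, Q →* Q := fun u hu => QuotientGroup.lift S (π.comp (cu u hu)) fun y hy => by
    rw [MonoidHom.mem_ker]
    exact (hker _).2 ((mem_normalizer_iff.1 (hUH₀ hu) _).1 hy)
  have hact : ∀ u (hu : u ∈ U) (y : ↥H), act u hu (π y) = π (cu u hu y) := fun u hu y => rfl
  let aut : ∀ u ∈ U, MulAut Q := fun u hu =>
    { act u hu with
      invFun := act u⁻¹ (U.inv_mem hu)
      left_inv := fun a => by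
        obtain ⟨y, rfl⟩ := hπ a
        show π (cu u⁻¹ (U.inv_mem hu) (cu u hu y)) = π y
        exact congrArg π (Subtype.ext (by simp [cu, mul_assoc]))
      right_inv := fun a => by
        obtain ⟨y, rfl⟩ := hπ a
        show π (cu u hu (cu u⁻¹ (U.inv_mem hu) y)) = π y
        exact congrArg π (Subtype.ext (by simp [cu, mul_assoc])) }
  let A : Set (MulAut Q) := {a | ∃ u, ∃ hu : u ∈ U, a = aut u hu}
  have hcommA : ∀ a ∈ A, ∀ b ∈ A, ∀ y, a (b y) = b (a y) := by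
    rintro _ ⟨u, hu, rfl⟩ _ ⟨v, hv, rfl⟩ a
    obtain ⟨y, rfl⟩ := hπ a
    show π (cu u hu (cu v hv y)) = π (cu v hv (cu u hu y))
    rw [← mul_inv_eq_one, ← map_inv, ← map_mul, hker]
    have hm : ⁅u, v⁆ ∈ modCent H H₀ := hc.derived_le (commutator_mem_commutator hu hv)
    have h1 := (mem_modCent.1 hm).2.2 _ (hmem v hv ⟨_, hmem u hu y⟩)
    simpa [cu, commutatorElement_def, mul_assoc] using h1
  -- stable subgroups
  let up : Subgroup Q → Subgroup G := fun N => (N.comap π).map H.subtype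
  have hup₀ : ∀ N, H₀ ≤ up N := fun N x hx =>
    ⟨⟨x, hc.le hx⟩, by rw [SetLike.mem_coe, mem_comap, (hker ⟨x, hc.le hx⟩).2 hx]; exact N.one_mem,
      rfl⟩
  have hupH : ∀ N, up N ≤ H := fun N => Subgroup.map_subtype_le _
  have hupU : ∀ N, SideCount.Stable A N → U ≤ normalizer (up N : Set G) := fun N hN u hu =>
    TypeTwo.mem_normalizer_of_conj_mem fun x hx => by
      obtain ⟨y, hy, rfl⟩ := hx
      exact ⟨cu u hu y, hN _ ⟨u, hu, rfl⟩ _ hy, rfl⟩
  have hup_bot : ∀ N, up N = H₀ → N = ⊥ := fun N e => le_bot_iff.1 fun a ha => by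
    obtain ⟨y, rfl⟩ := hπ a
    rw [Subgroup.mem_bot, hker]
    exact e.le ⟨y, ha, rfl⟩
  have hup_top : ∀ N, up N = H → N = ⊤ := fun N e => eq_top_iff.2 fun a _ => by
    obtain ⟨y, rfl⟩ := hπ a
    obtain ⟨z, hz, he⟩ := e.ge y.2
    rwa [← show z = y from Subtype.ext he]
  -- every stable subgroup misses a minimal one
  have hgen : ∀ Y : Subgroup Q, SideCount.Stable A Y → Y ≠ ⊤ → ∃ X : Subgroup Q,
      SideCount.Stable A X ∧ X ≠ ⊥ ∧
      (∀ N ≤ X, SideCount.Stable A N → N = ⊥ ∨ N = X) ∧ ¬ X ≤ Y := by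
    intro Y _ hYne
    by_contra hno
    push Not at hno
    let Min : Subgroup Q → Prop := fun X => SideCount.Stable A X ∧ X ≠ ⊥ ∧
      ∀ N ≤ X, SideCount.Stable A N → N = ⊥ ∨ N = X
    let sigmaMin : Subgroup Q := sSup {X | Min X}
    have hsmY : sigmaMin ≤ Y := sSup_le fun X hX => hno X hX.1 hX.2.1 hX.2.2
    have hQ1 : (⊤ : Subgroup Q) ≠ ⊥ := fun e => hYne (eq_top_iff.2 (e ▸ bot_le))
    obtain ⟨X₀, hX₀, hX₀m⟩ := wellFounded_lt.has_min
      {X : Subgroup Q | SideCount.Stable A X ∧ X ≠ ⊥}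
      ⟨⊤, fun _ _ _ _ => Subgroup.mem_top _, hQ1⟩
    have hX₀min : Min X₀ := ⟨hX₀.1, hX₀.2, fun N hN hNs => or_iff_not_imp_left.2 fun hN1 =>
      hN.eq_of_not_lt (hX₀m N ⟨hNs, hN1⟩)⟩
    -- conjugation by `W₁`
    have hWH : ∀ w ∈ W₁, w ∈ normalizer (H : Set G) := fun w hw =>
      TypeTwo.sup_le_normalizer hd (mem_sup_right hw)
    have hWH₀ : ∀ w ∈ W₁, w ∈ normalizer (H₀ : Set G) := fun w hw =>
      hc.sup_le_normalizer₀ hd (mem_sup_right hw)
    let cw : ∀ w ∈ W₁, ↥H →* ↥H := fun w hw =>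
      { toFun := fun y => ⟨w * (y : G) * w⁻¹, (mem_normalizer_iff.1 (hWH w hw) _).1 y.2⟩
        map_one' := Subtype.ext (by simp)
        map_mul' := fun a b => Subtype.ext (by simp [mul_assoc]) }
    let awf : ∀ w ∈ W₁, Q →* Q := fun w hw => QuotientGroup.lift S (π.comp (cw w hw))
      fun y hy => by
        rw [MonoidHom.mem_ker]
        exact (hker _).2 ((mem_normalizer_iff.1 (hWH₀ w hw) _).1 hy)
    have haw : ∀ w (hw : w ∈ W₁) (y : ↥H), awf w hw (π y) = π (cw w hw y) := fun w hw y => rfl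
    let aw : ∀ w ∈ W₁, MulAut Q := fun w hw =>
      { awf w hw with
        invFun := awf w⁻¹ (W₁.inv_mem hw)
        left_inv := fun a => by
          obtain ⟨y, rfl⟩ := hπ a
          show π (cw w⁻¹ (W₁.inv_mem hw) (cw w hw y)) = π y
          exact congrArg π (Subtype.ext (by simp [cw, mul_assoc]))
        right_inv := fun a => by
          obtain ⟨y, rfl⟩ := hπ a
          show π (cw w hw (cw w⁻¹ (W₁.inv_mem hw) y)) = π y
          exact congrArg π (Subtype.ext (by simp [cw, mul_assoc])) }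
    have hnorm : ∀ w (hw : w ∈ W₁), ∀ a ∈ A, ∃ b ∈ A, ∀ y, a (aw w hw y) = aw w hw (b y) := by
      rintro w hw _ ⟨u, hu, rfl⟩
      refine ⟨_, ⟨w⁻¹ * u * w, (mem_normalizer_iff''.1 (hd.U_normal hw) u).1 hu, rfl⟩, fun a => ?_⟩
      obtain ⟨y, rfl⟩ := hπ a
      show π (cu u hu (cw w hw y)) = π (cw w hw (cu (w⁻¹ * u * w) ((mem_normalizer_iff''.1 (hd.U_normal hw) u).1 hu) y))
      exact congrArg π (Subtype.ext (by simp [cu, cw, mul_assoc]))
    have hstab_map : ∀ w (hw : w ∈ W₁) (N : Subgroup Q), SideCount.Stable A N →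
        SideCount.Stable A (N.map (aw w hw).toMonoidHom) := by
      rintro w hw N hN a ha _ ⟨y, hy, rfl⟩
      obtain ⟨b, hb, e⟩ := hnorm w hw a ha
      exact ⟨b y, hN b hb y hy, (e y).symm⟩
    have hmin_map : ∀ w (hw : w ∈ W₁) (X : Subgroup Q), Min X →
        Min (X.map (aw w hw).toMonoidHom) := by
      intro w hw X hX
      refine ⟨hstab_map w hw X hX.1, fun e => hX.2.1 ?_, fun N hN hNs => ?_⟩
      · exact (Subgroup.map_eq_bot_iff_of_injective _ (f := (aw w hw).toMonoidHom)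
          (aw w hw).injective).1 e
      set N' := N.map (aw w⁻¹ (W₁.inv_mem hw)).toMonoidHom
      have hback : ∀ a : Q, aw w⁻¹ (W₁.inv_mem hw) (aw w hw a) = a := fun a => by
        obtain ⟨y, rfl⟩ := hπ a
        show π (cw w⁻¹ (W₁.inv_mem hw) (cw w hw y)) = π y
        exact congrArg π (Subtype.ext (by simp [cw, mul_assoc]))
      have hforth : ∀ a : Q, aw w hw (aw w⁻¹ (W₁.inv_mem hw) a) = a := fun a => by
        obtain ⟨y, rfl⟩ := hπ a
        show π (cw w hw (cw w⁻¹ (W₁.inv_mem hw) y)) = π y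
        exact congrArg π (Subtype.ext (by simp [cw, mul_assoc]))
      have hN'X : N' ≤ X := by
        rintro _ ⟨a, ha, rfl⟩
        obtain ⟨x, hx, rfl⟩ := hN ha
        show aw w⁻¹ (W₁.inv_mem hw) (aw w hw x) ∈ X
        rwa [hback]
      have hNN : N'.map (aw w hw).toMonoidHom = N := by
        ext a
        constructor
        · rintro ⟨_, ⟨c, hc', rfl⟩, rfl⟩
          show aw w hw (aw w⁻¹ (W₁.inv_mem hw) c) ∈ N
          rwa [hforth]
        · exact fun ha => ⟨_, ⟨a, ha, rfl⟩, hforth a⟩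
      rcases hX.2.2 N' hN'X (hstab_map w⁻¹ (W₁.inv_mem hw) N hNs) with e | e
      · left; rw [← hNN, e, Subgroup.map_bot]
      · right; rw [← hNN, e]
    have hsms : SideCount.Stable A sigmaMin := fun a ha y hy => by
      have hle : sigmaMin ≤ sigmaMin.comap a.toMonoidHom :=
        sSup_le fun X hX x hx => (le_sSup hX : X ≤ sigmaMin) (hX.1 a ha x hx)
      exact hle hy
    have hsmW : ∀ w (hw : w ∈ W₁), ∀ y ∈ sigmaMin, aw w hw y ∈ sigmaMin := fun w hw y hy => by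
      have hle : sigmaMin ≤ sigmaMin.comap (aw w hw).toMonoidHom := sSup_le fun X hX x hx =>
        (le_sSup (hmin_map w hw X hX) : X.map (aw w hw).toMonoidHom ≤ sigmaMin) ⟨x, hx, rfl⟩
      exact hle hy
    rcases hc.irred (up sigmaMin) (hup₀ _) (hupH _) (sup_le (hupU _ hsms) fun w hw =>
      TypeTwo.mem_normalizer_of_conj_mem fun x hx => by
        obtain ⟨y, hy, rfl⟩ := hx
        exact ⟨cw w hw y, hsmW w hw _ hy, rfl⟩) with e | e
    · exact hX₀.2 (le_bot_iff.1 ((hup_bot _ e) ▸ le_sSup hX₀min))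
    · exact hYne (eq_top_iff.2 ((hup_top _ e) ▸ hsmY))
  have hcardQ : Nat.card Q = Nat.card W₂ ^ Nat.card W₁ := by
    rw [← hc.relIndex_eq hd]
    exact (Subgroup.index_eq_card _).symm
  -- from a regular homomorphism and a linear character of `C` to a linear character of `K`
  have hHC : H ⊓ C = ⊥ :=
    le_bot_iff.1 ((inf_le_inf_left H inf_le_left).trans hd.U_compl.2.2.1.le)
  have hCn : C ≤ normalizer (H : Set G) := inf_le_left.trans hUH
  have hdec : ∀ k : ↥(K.subgroupOf M), ∃ h ∈ H, ∃ c ∈ C, ((k : M) : G) = h * c := fun k => by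
    obtain ⟨a, ha, b, hb, e⟩ := (Coprime.mem_sup_of_le_normalizer hCn).1 (mem_subgroupOf.1 k.2)
    exact ⟨a, ha, b, hb, e.symm⟩
  choose hp hphH cp hcpC hpart using hdec
  have huniq : ∀ {a b a' b' : G}, a ∈ H → b ∈ C → a' ∈ H → b' ∈ C → a * b = a' * b' →
      a = a' ∧ b = b' := by
    intro a b a' b' ha hb ha' hb' e
    have h1 : a'⁻¹ * a ∈ H ⊓ C := ⟨H.mul_mem (H.inv_mem ha') ha, by
      rw [show a'⁻¹ * a = b' * b⁻¹ by
        rw [eq_mul_inv_iff_mul_eq, mul_assoc, e, inv_mul_cancel_left]]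
      exact C.mul_mem hb' (C.inv_mem hb)⟩
    rw [hHC, mem_bot, inv_mul_eq_one] at h1
    subst h1
    exact ⟨rfl, mul_left_cancel e⟩
  let Cd := ↥C ⧸ ⁅C, C⁆.subgroupOf C
  have hCdn : (⁅C, C⁆.subgroupOf C).Normal :=
    (Subgroup.normal_subgroupOf_iff_le_normalizer (Subgroup.commutator_le_self C)).2 fun x hx =>
      (Coprime.le_normalizer_commutator (A := C) (K := C)) (mem_sup_left hx)
  have hCdc : ∀ a b : Cd, a * b = b * a := fun a b => by
    obtain ⟨x, rfl⟩ := QuotientGroup.mk_surjective a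
    obtain ⟨y, rfl⟩ := QuotientGroup.mk_surjective b
    rw [← QuotientGroup.mk_mul, ← QuotientGroup.mk_mul, QuotientGroup.eq, mem_subgroupOf]
    have h1 := commutator_mem_commutator (C.inv_mem y.2) (C.inv_mem x.2)
    simpa [commutatorElement_def, mul_assoc] using h1
  letI : CommGroup Cd := { (inferInstance : Group Cd) with mul_comm := hCdc }
  let ρ : ↥C →* Cd := QuotientGroup.mk' _
  have hgmul : ∀ (l : ↥(⊤ : Subgroup Q) →* ℂˣ) (ν : Cd →* ℂˣ) (k k' : ↥(K.subgroupOf M)),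
      l ⟨π ⟨hp (k * k'), hphH _⟩, mem_top _⟩ * ν (ρ ⟨cp (k * k'), hcpC _⟩) =
        (l ⟨π ⟨hp k, hphH _⟩, mem_top _⟩ * ν (ρ ⟨cp k, hcpC _⟩)) *
          (l ⟨π ⟨hp k', hphH _⟩, mem_top _⟩ * ν (ρ ⟨cp k', hcpC _⟩)) := by
    intro l ν k k'
    have hmid : cp k * hp k' * (cp k)⁻¹ ∈ H := (mem_normalizer_iff.1 (hCn (hcpC k)) _).1 (hphH k')
    obtain ⟨e1, e2⟩ := huniq (hphH (k * k')) (hcpC (k * k')) (H.mul_mem (hphH k) hmid)
      (C.mul_mem (hcpC k) (hcpC k')) (by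
        rw [← hpart, Subgroup.coe_mul, Subgroup.coe_mul, hpart, hpart]; group)
    have e3 : (⟨hp (k * k'), hphH _⟩ : ↥H) = ⟨hp k, hphH _⟩ * ⟨cp k * hp k' * (cp k)⁻¹, hmid⟩ :=
      Subtype.ext e1
    have e4 : π ⟨cp k * hp k' * (cp k)⁻¹, hmid⟩ = π ⟨hp k', hphH _⟩ := by
      rw [← mul_inv_eq_one, ← map_inv, ← map_mul, hker]
      exact (mem_modCent.1 (hcpC k).2).2.2 _ (hphH k')
    have e5 : (⟨cp (k * k'), hcpC _⟩ : ↥C) = ⟨cp k, hcpC _⟩ * ⟨cp k', hcpC _⟩ := Subtype.ext e2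
    simp only [e3, e5, map_mul, e4]
    rw [show (⟨π ⟨hp k, hphH _⟩ * π ⟨hp k', hphH _⟩, mem_top _⟩ : ↥(⊤ : Subgroup Q)) =
      ⟨π ⟨hp k, hphH _⟩, mem_top _⟩ * ⟨π ⟨hp k', hphH _⟩, mem_top _⟩ from rfl, map_mul]
    exact mul_mul_mul_comm _ _ _ _
  let mk : (↥(⊤ : Subgroup Q) →* ℂˣ) → (Cd →* ℂˣ) → (↥(K.subgroupOf M) →* ℂˣ) := fun l ν =>
    MonoidHom.mk' (fun k => l ⟨π ⟨hp k, hphH k⟩, mem_top _⟩ * ν (ρ ⟨cp k, hcpC k⟩)) (hgmul l ν)
  have hmk : ∀ l ν (k : ↥(K.subgroupOf M)) (a b : G) (ha : a ∈ H) (hb : b ∈ C),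
      ((k : M) : G) = a * b → mk l ν k = l ⟨π ⟨a, ha⟩, mem_top _⟩ * ν (ρ ⟨b, hb⟩) := by
    intro l ν k a b ha hb e
    obtain ⟨e1, e2⟩ := huniq (hphH k) (hcpC k) ha hb ((hpart k).symm.trans e)
    subst e1 e2
    rfl
  have hU₀ : ∃ u, ∃ hu : u ∈ U, ∃ y : ↥H, π (cu u hu y) ≠ π y := by
    obtain ⟨u, hu, hnot⟩ := SetLike.exists_of_lt (hc.C_lt_U hd)
    by_contra hno
    push Not at hno
    refine hnot ⟨hu, mem_modCent.2 ⟨hUH hu, hUH₀ hu, fun y hy => ?_⟩⟩
    have h1 := hno u hu ⟨y, hy⟩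
    rw [← mul_inv_eq_one, ← map_inv, ← map_mul, hker] at h1
    exact h1
  have hregmk : ∀ (l : ↥(⊤ : Subgroup Q) →* ℂˣ), SideCount.Regular A ⊤ l → ∀ ν,
      Fixed.RegIn (⁅M, M⁆.subgroupOf M) (K.subgroupOf M) (mk l ν) := by
    intro l hl ν
    have hHK : ∀ (y : G) (hy : y ∈ H),
        mk l ν ⟨⟨y, hHM hy⟩, mem_subgroupOf.2 (mem_sup_left hy)⟩ =
          l ⟨π ⟨y, hy⟩, mem_top _⟩ := fun y hy => by
      rw [hmk l ν _ y 1 hy C.one_mem (mul_one y).symm,
        show (⟨1, C.one_mem⟩ : ↥C) = 1 from rfl, map_one, map_one, mul_one]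
    have hfixC : ∀ u (hu : u ∈ U), (∀ y : ↥H, l ⟨π (cu u hu y), mem_top _⟩ = l ⟨π y, mem_top _⟩) →
        u ∈ C := by
      intro u hu hf
      have h1 := hl (aut u hu) ⟨u, hu, rfl⟩ fun a a' ha => by
        obtain ⟨y, hy⟩ := hπ (a : Q)
        rw [show a' = (⟨π (cu u hu y), mem_top _⟩ : ↥(⊤ : Subgroup Q)) from Subtype.ext (by
            rw [ha, ← hy]; rfl),
          show a = (⟨π y, mem_top _⟩ : ↥(⊤ : Subgroup Q)) from Subtype.ext hy.symm]
        exact hf y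
      refine ⟨hu, mem_modCent.2 ⟨hUH hu, hUH₀ hu, fun y hy => ?_⟩⟩
      have h2 : π (cu u hu ⟨y, hy⟩) = π ⟨y, hy⟩ := h1 (π ⟨y, hy⟩) (mem_top _)
      rw [← mul_inv_eq_one, ← map_inv, ← map_mul, hker] at h2
      exact h2
    refine ⟨fun e => ?_, fun x hx hcj => ?_⟩
    · obtain ⟨u, hu, y, hy⟩ := hU₀
      have hl1 : ∀ y : ↥H, l ⟨π y, mem_top _⟩ = 1 := fun y => by
        rw [← hHK y y.2, e]; rfl
      have huC := hfixC u hu fun y => by rw [hl1, hl1]
      refine hy ?_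
      rw [← mul_inv_eq_one, ← map_inv, ← map_mul, hker]
      exact (mem_modCent.1 huC.2).2.2 _ y.2
    · obtain ⟨a, ha, u, hu, e⟩ := hd.U_compl.2.2.2 (x : G) (mem_subgroupOf.1 hx)
      have hxinv : (x : G)⁻¹ = u⁻¹ * a⁻¹ := by rw [e, mul_inv_rev]
      have huC : u⁻¹ ∈ C := by
        refine hfixC u⁻¹ (U.inv_mem hu) fun y => ?_
        have hy' : a * (y : G) * a⁻¹ ∈ H := H.mul_mem (H.mul_mem ha y.2) (H.inv_mem ha)
        have e1 := DFunLike.congr_fun hcj
          ⟨⟨a * y * a⁻¹, hHM hy'⟩, mem_subgroupOf.2 (mem_sup_left hy')⟩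
        rw [hHK _ hy', Fixed.cj_apply] at e1
        have e2 : π ⟨a * y * a⁻¹, hy'⟩ = π y := by
          rw [show (⟨a * y * a⁻¹, hy'⟩ : ↥H) = ⟨a, ha⟩ * y * ⟨a, ha⟩⁻¹ from rfl, map_mul, map_mul,
            map_inv, mul_inv_cancel_comm]
        have h2 : u⁻¹ * (y : G) * u⁻¹⁻¹ ∈ H := hmem _ (U.inv_mem hu) y
        rw [hmk l ν _ _ 1 h2 C.one_mem (by simp [e, mul_assoc]),
          show (⟨1, C.one_mem⟩ : ↥C) = 1 from rfl, map_one, map_one, mul_one] at e1
        simp only [e2] at e1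
        exact e1
      refine mem_subgroupOf.2 ?_
      rw [e]
      exact mul_mem_sup ha (by simpa using C.inv_mem huC)
  let Φ : {l : ↥(⊤ : Subgroup Q) →* ℂˣ // SideCount.Regular A ⊤ l} × (Cd →* ℂˣ) →
      {g : ↥(K.subgroupOf M) →* ℂˣ // Fixed.RegIn (⁅M, M⁆.subgroupOf M) (K.subgroupOf M) g} :=
    fun a => ⟨mk a.1.1 a.2, hregmk a.1.1 a.1.2 a.2⟩
  have hΦ : Function.Injective Φ := by
    rintro ⟨⟨l, hl⟩, ν⟩ ⟨⟨l', hl'⟩, ν'⟩ he
    have he' : mk l ν = mk l' ν' := congrArg Subtype.val he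
    refine Prod.ext (Subtype.ext (MonoidHom.ext fun a => ?_)) (MonoidHom.ext fun c => ?_)
    · obtain ⟨y, hy⟩ := hπ (a : Q)
      have e := DFunLike.congr_fun he' ⟨⟨y, hHM y.2⟩, mem_subgroupOf.2 (mem_sup_left y.2)⟩
      rw [hmk l ν _ y 1 y.2 C.one_mem (mul_one _).symm,
        hmk l' ν' _ y 1 y.2 C.one_mem (mul_one _).symm,
        show (⟨1, C.one_mem⟩ : ↥C) = 1 from rfl, map_one, map_one, map_one, mul_one, mul_one] at e
      rwa [show a = (⟨π y, mem_top _⟩ : ↥(⊤ : Subgroup Q)) from Subtype.ext hy.symm]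
    · obtain ⟨b, rfl⟩ := QuotientGroup.mk'_surjective _ c
      have e := DFunLike.congr_fun he' ⟨⟨b, hCM b.2⟩, mem_subgroupOf.2 (mem_sup_right b.2)⟩
      rw [hmk l ν _ 1 b H.one_mem b.2 (one_mul _).symm,
        hmk l' ν' _ 1 b H.one_mem b.2 (one_mul _).symm,
        show (⟨1, H.one_mem⟩ : ↥H) = 1 from rfl, map_one,
        show (⟨1, mem_top 1⟩ : ↥(⊤ : Subgroup Q)) = 1 from rfl, map_one, map_one, one_mul,
        one_mul] at e
      exact e
  have hfinK : Finite (↥(K.subgroupOf M) →* ℂˣ) := CyclicTI.finite_hom (K.subgroupOf M)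
  have hle := Nat.card_le_card_of_injective Φ hΦ
  rw [Nat.card_prod, CommGroup.card_monoidHom_of_hasEnoughRootsOfUnity] at hle
  refine ⟨fun hirr => ?_, ?_⟩
  · refine le_trans (Nat.mul_le_mul ?_ le_rfl) hle
    rw [← hcardQ]
    refine (SideCount.card_regular_irred hcommA fun N hN =>
      (hirr (up N) (hup₀ N) (hupH N) (hupU N hN)).imp (hup_bot N) (hup_top N)).trans ?_
    have : Finite (↥(⊤ : Subgroup Q) →* ℂˣ) := Nat.finite_of_card_ne_zero (by
      rw [CommGroup.card_monoidHom_of_hasEnoughRootsOfUnity]; exact Nat.card_pos.ne')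
    exact Nat.card_le_card_of_injective (fun l => ⟨l.1, l.2.2⟩)
      fun a b e => Subtype.ext (congrArg (fun z => z.1) e)
  · refine le_trans (Nat.mul_le_mul ?_ le_rfl) hle
    exact SideCount.card_regular hcommA hc.prime_W₂ (IsPGroup.of_card hcardQ) hgen _ hcardQ

end Cfsg.Agent.OddFinal
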