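import Cfsg.Agent.OddFinal.FixedRegular
import Cfsg.Agent.OddFinal.Bridge
import Cfsg.Agent.OddFinal.Derived
import Cfsg.Agent.OddChars.InducedFamily

/-!
# The characters of degree `q` of `M / K` for a side with abelian `N / K`

From `IsSide` and `IsBridge` alone the bridge character vanishes on `N ∖ K` and the `μ (φψ)` are
independent of `φ` on `N`; with the linear characters of `N / K` this gives `IsDerived`.
-/

set_option autoImplicit false
set_option linter.unusedSectionVars false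

namespace Cfsg.Agent.OddFinal

open Subgroup Cfsg Cfsg.Agent.Char CyclicTI
open scoped ComplexConjugate
open scoped _root_.Classical

universe u

variable {G : Type u} [Group G] [Fintype G] {M W₁ W₂ K N : Subgroup G} [Fintype ↥M] {d : ℕ}
  {X : Finset (↥M → ℂ)} {μ : (↥(W₁ ⊔ W₂) →* ℂˣ) → ↥M → ℂ}
  {η : (↥(W₁ ⊔ W₂) →* ℂˣ) → G → ℂ} {π : ↥M → ℂ}

/-- The trivial left factor. -/
theorem sideLeftOne_mul (ψ : Right W₁ W₂) : (leftOne : Left W₁ W₂).1 * ψ.1 = ψ.1 :=
  MonoidHom.ext fun w => by simp [leftOne]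

/-- A root of unity times its conjugate. -/
theorem hom_mul_conj {A : Type*} [Group A] [Finite A] (ω : A →* ℂˣ) (w : A) :
    (ω w : ℂ) * conj (ω w : ℂ) = 1 := by
  have h1 : (ω w : ℂ) ^ Nat.card A = 1 := by
    rw [← Units.val_pow_eq_pow_val, ← map_pow, pow_card_eq_one', map_one, Units.val_one]
  rw [Complex.mul_conj, Complex.normSq_eq_norm_sq,
    Complex.norm_eq_one_of_pow_eq_one h1 Nat.card_pos.ne']
  simp

/-- The number of elements of `M` in a subgroup. -/
theorem card_filter_mem {H : Subgroup G} (hH : H ≤ M) :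
    (Finset.univ.filter fun x : M => (x : G) ∈ H).card = Nat.card H := by
  rw [← Fintype.card_subtype, ← Nat.card_eq_fintype_card]
  exact Nat.card_congr ⟨fun x => ⟨x.1, x.2⟩, fun k => ⟨⟨k.1, hH k.2⟩, k.2⟩,
    fun _ => rfl, fun _ => rfl⟩

/-- The mass on `N` of a function of known norm that is unimodular off `N`. -/
theorem sum_mul_conj_on (hNM : N ≤ M) {f : ↥M → ℂ} {c : ℂ} (hc : classInner f f = c)
    (hout : ∀ x : M, (x : G) ∉ N → f x * conj (f x) = 1) :
    ∑ x ∈ Finset.univ.filter (fun x : M => (x : G) ∈ N), f x * conj (f x) =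
      c * (Nat.card M : ℂ) - ((Nat.card M : ℂ) - (Nat.card N : ℂ)) := by
  have h1 : ∑ x : M, f x * conj (f x) = c * (Nat.card M : ℂ) := by
    rw [← hc, classInner, mul_comm, ← mul_assoc,
      mul_inv_cancel₀ (Nat.cast_ne_zero.2 Nat.card_pos.ne'), one_mul]
  rw [← Finset.sum_filter_add_sum_filter_not Finset.univ (fun x : M => (x : G) ∈ N)] at h1
  rw [Finset.sum_congr (s₁ := Finset.univ.filter fun x : M => ¬ (x : G) ∈ N) rfl
    (g := fun _ => (1 : ℂ)) fun x hx => hout x (Finset.mem_filter.1 hx).2, Finset.sum_const,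
    nsmul_eq_mul, mul_one] at h1
  have h3 := Finset.card_filter_add_card_filter_not (s := (Finset.univ : Finset ↥M))
    (fun x : M => (x : G) ∈ N)
  rw [card_filter_mem hNM, Finset.card_univ, ← Nat.card_eq_fintype_card] at h3
  have h4 : ((Nat.card N : ℂ)) +
      ((Finset.univ.filter fun x : M => ¬ (x : G) ∈ N).card : ℂ) = (Nat.card M : ℂ) := by
    exact_mod_cast h3
  linear_combination h1 - h4

/-- If the mass of `f` on `N` is already attained on `K`, then `f` vanishes on `N ∖ K`. -/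
theorem eq_zero_of_mass (hKN : K ≤ N) {f : ↥M → ℂ}
    (h : ∑ x ∈ Finset.univ.filter (fun x : M => (x : G) ∈ N), f x * conj (f x) =
      ∑ x ∈ Finset.univ.filter (fun x : M => (x : G) ∈ K), f x * conj (f x))
    {x : M} (hxN : (x : G) ∈ N) (hxK : (x : G) ∉ K) : f x = 0 := by
  have hsub : Finset.univ.filter (fun x : M => (x : G) ∈ K) ⊆
      Finset.univ.filter (fun x : M => (x : G) ∈ N) := fun y hy => by
    simp only [Finset.mem_filter, Finset.mem_univ, true_and] at hy ⊢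
    exact hKN hy
  rw [← Finset.sum_sdiff hsub, add_eq_right] at h
  have h0 : ∑ y ∈ Finset.univ.filter (fun x : M => (x : G) ∈ N) \
      Finset.univ.filter (fun x : M => (x : G) ∈ K), Complex.normSq (f y) = 0 := by
    have e := congrArg Complex.re h
    simp only [Complex.mul_conj, Complex.re_sum, Complex.ofReal_re, Complex.zero_re] at e
    exact e
  have := (Finset.sum_eq_zero_iff_of_nonneg fun y _ => Complex.normSq_nonneg _).1 h0 x
    (by simp [hxN, hxK])
  exact Complex.normSq_eq_zero.1 this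

/-- The common hypotheses: `N / K` sits between `K` and `M` with every outside element conjugate
into `W`. -/
structure Outside (M W₁ W₂ K N : Subgroup G) : Prop where
  selfN : IsSelfNormalizingCyclic W₁ W₂
  K_le : K ≤ N
  N_le : N ≤ M
  normal : M ≤ normalizer (N : Set G)
  card_eq : Nat.card M = Nat.card W₁ * Nat.card N
  W_inf : (W₁ ⊔ W₂) ⊓ N ≤ W₂
  conj_out : ∀ x : M, (x : G) ∉ N → ∃ m w : M, (w : G) ∈ W₁ ⊔ W₂ ∧ (w : G) ∉ W₂ ∧
    x = m * w * m⁻¹

variable (ho : Outside M W₁ W₂ K N) (h : IsSide M W₁ W₂ K d X μ η)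
  (hb : IsBridge M W₁ W₂ K d X μ π)

include ho

theorem Outside.exists_right : ∃ ψ : Right W₁ W₂, ψ.1 ≠ 1 := by
  by_contra hh
  push Not at hh
  have : Subsingleton (Right W₁ W₂) := ⟨fun x y => Subtype.ext ((hh x).trans (hh y).symm)⟩
  have h1 := Fintype.card_le_one_iff_subsingleton.2 this
  rw [card_right ho.selfN] at h1
  have := (Subgroup.one_lt_card_iff_ne_bot W₂).2 ho.selfN.2.1
  omega

theorem Outside.not_conjV {x : M} (hxN : (x : G) ∈ N) :
    (x : G) ∉ conjIn M (vSet W₁ W₂) := by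
  rintro ⟨n, hn, v, hv, e⟩
  refine hv.2.2 (ho.W_inf ⟨hv.1, ?_⟩)
  exact (mem_normalizer_iff.1 (ho.normal hn) v).2 (e ▸ hxN)

include h

theorem Outside.card_N : (Nat.card N : ℂ) = (d : ℂ) * (Nat.card K : ℂ) := by
  have h1 := h.card_eq
  rw [ho.card_eq, mul_assoc] at h1
  exact_mod_cast Nat.eq_of_mul_eq_mul_left Nat.card_pos h1

theorem Outside.mu_out (φ : Left W₁ W₂) {ψ : Right W₁ W₂} (hψ : ψ.1 ≠ 1) {x : M}
    (hx : (x : G) ∉ N) : μ (φ.1 * ψ.1) x * conj (μ (φ.1 * ψ.1) x) = 1 := by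
  obtain ⟨m, w, hw, hw2, rfl⟩ := ho.conj_out x hx
  rw [isClassFunction_of_isIrr (h.irr_mu _) w m, h.mu_val φ ψ w hw hw2 hψ]
  exact hom_mul_conj _ _

include hb

theorem Outside.pi_out {x : M} (hx : (x : G) ∉ N) : π x = 1 := by
  obtain ⟨m, w, hw, hw2, rfl⟩ := ho.conj_out x hx
  rw [(IsGen.isClassFunction (isGeneralized_of_isCharacter hb.char)) w m]
  by_cases hw1 : (w : G) ∈ W₁
  · obtain ⟨ψ, hψ⟩ := ho.exists_right
    have hμw : μ ψ.1 w = 1 := by
      have e := h.mu_val leftOne ψ w hw hw2 hψ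
      rwa [sideLeftOne_mul ψ, ψ.2 ⟨(w : G), hw⟩ hw1,
        Units.val_one] at e
    rw [← hμw]
    refine hb.supp ψ hψ w ?_
    rintro (⟨hk, hne⟩ | ⟨n, hn, v, hv, e⟩)
    · have hm : (w : G) ∈ W₁ ⊓ K := ⟨hw1, hk⟩
      rw [h.K_inf, Subgroup.mem_bot] at hm
      exact hne hm
    · have hwn : (⟨v, h.W_le hv.1⟩ : M) = (⟨n, hn⟩ : M)⁻¹ * w * (⟨n, hn⟩ : M)⁻¹⁻¹ :=
        Subtype.ext (by simp [e, mul_assoc])
      have hval : ∀ (φ : Left W₁ W₂) (ψ : Right W₁ W₂), ψ.1 ≠ 1 →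
          ((φ.1 * ψ.1) ⟨v, hv.1⟩ : ℂˣ) = (φ.1 * ψ.1) ⟨(w : G), hw⟩ := fun φ ψ hψ => by
        apply Units.ext
        rw [← h.mu_val φ ψ ⟨v, h.W_le hv.1⟩ hv.1 hv.2.2 hψ, ← h.mu_val φ ψ w hw hw2 hψ, hwn,
          isClassFunction_of_isIrr (h.irr_mu _) w (⟨n, hn⟩ : M)⁻¹]
      have hall : ∀ ω : ↥(W₁ ⊔ W₂) →* ℂˣ, ω ⟨v, hv.1⟩ = ω ⟨(w : G), hw⟩ := by
        intro ω
        obtain ⟨⟨φ, ψ'⟩, rfl⟩ := (mulBij ho.selfN).2 ω
        by_cases hψ' : ψ'.1 = 1
        · have e1 := hval φ ψ hψ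
          have e2 := hval leftOne ψ hψ
          rw [sideLeftOne_mul ψ] at e2
          simp only [MonoidHom.mul_apply] at e1
          rw [e2, mul_left_inj] at e1
          simp only [MonoidHom.mul_apply, hψ', MonoidHom.one_apply, mul_one]
          exact e1
        · exact hval φ ψ' hψ'
      have hcyc := ho.selfN.2.2.2.2.1
      letI : CommGroup ↥(W₁ ⊔ W₂) :=
        { (inferInstance : Group ↥(W₁ ⊔ W₂)) with
          mul_comm := hcyc.isMulCommutative.is_comm.comm }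
      have e3 := (CommGroup.forall_apply_eq_apply_iff (↥(W₁ ⊔ W₂)) (M := ℂ)).1 hall
      have e4 : v = (w : G) := congrArg Subtype.val e3
      exact hv.2.1 (e4.symm ▸ hw1)
  · exact hb.val_V w ⟨hw, hw1, hw2⟩

/-- The bridge character vanishes on `N ∖ K`. -/
theorem Outside.pi_N {x : M} (hxN : (x : G) ∈ N) (hxK : (x : G) ∉ K) : π x = 0 := by
  have hq : (Nat.card W₁ : ℂ) ≠ 0 := Nat.cast_ne_zero.2 Nat.card_pos.ne'
  refine eq_zero_of_mass ho.K_le ?_ hxN hxK
  rw [sum_mul_conj_on ho.N_le rfl fun y hy => by rw [ho.pi_out h hb hy, map_one, mul_one],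
    Finset.sum_congr (s₁ := Finset.univ.filter fun x : M => (x : G) ∈ K) rfl
      (g := fun _ => (d : ℂ) * d) fun y hy => by
        rw [hb.val_K y (Finset.mem_filter.1 hy).2, map_natCast],
    Finset.sum_const, card_filter_mem h.K_le, nsmul_eq_mul,
    show (Nat.card M : ℂ) = (Nat.card W₁ : ℂ) * Nat.card N by rw [ho.card_eq]; push_cast; rfl,
    ho.card_N h]
  linear_combination (d : ℂ) * (Nat.card K : ℂ) * hb.inner_self

/-- The `μ (φψ)` vanish on `N ∖ K`. -/
theorem Outside.mu_N (φ : Left W₁ W₂) {ψ : Right W₁ W₂} (hψ : ψ.1 ≠ 1) {x : M}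
    (hxN : (x : G) ∈ N) (hxK : (x : G) ∉ K) : μ (φ.1 * ψ.1) x = 0 := by
  have h0 : ∀ y : M, (y : G) ∈ N → (y : G) ∉ K → μ ψ.1 y = 0 := fun y hy hyK => by
    rw [← hb.supp ψ hψ y, ho.pi_N h hb hy hyK]
    rintro (hs | hv)
    · exact hyK hs.1
    · exact ho.not_conjV hy hv
  have hmass : ∀ φ : Left W₁ W₂,
      ∑ y ∈ Finset.univ.filter (fun y : M => (y : G) ∈ N),
          μ (φ.1 * ψ.1) y * conj (μ (φ.1 * ψ.1) y) =
        1 * (Nat.card M : ℂ) - ((Nat.card M : ℂ) - (Nat.card N : ℂ)) := fun φ =>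
    sum_mul_conj_on ho.N_le (classInner_irr_self (h.irr_mu _)) fun y hy => ho.mu_out h φ hψ hy
  refine eq_zero_of_mass ho.K_le ?_ hxN hxK
  rw [hmass φ, Finset.sum_congr (s₁ := Finset.univ.filter fun y : M => (y : G) ∈ K) rfl
    (g := fun y => μ ψ.1 y * conj (μ ψ.1 y)) fun y hy => by
      rw [hb.res φ ψ hψ y (Finset.mem_filter.1 hy).2]]
  have e := hmass leftOne
  rw [sideLeftOne_mul ψ] at e
  rw [← e]
  refine (Finset.sum_subset (fun y hy => ?_) fun y hy hy' => ?_).symm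
  · simp only [Finset.mem_filter, Finset.mem_univ, true_and] at hy ⊢
    exact ho.K_le hy
  · simp only [Finset.mem_filter, Finset.mem_univ, true_and] at hy hy'
    rw [h0 y hy hy', zero_mul]

/-- **The characters of `M / K` of degree `q`.** -/
theorem Outside.exists_derived
    (hab : ∀ x ∈ N, ∀ y ∈ N, x * y * x⁻¹ * y⁻¹ ∈ K)
    (hfpf : ∀ a ∈ W₁, a ≠ 1 → ∀ u ∈ N, a * u * a⁻¹ * u⁻¹ ∈ K → u ∈ K)
    (hD : DadeHypothesis (sharp N ∪ conjIn M (vSet W₁ W₂)) M (fun _ => (⊥ : Subgroup G))) :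
    ∃ Z, IsDerived M W₁ W₂ K N d μ π Z := by
  have hK₀n : (K.subgroupOf M).Normal :=
    (Subgroup.normal_subgroupOf_iff_le_normalizer h.K_le).2 h.normal
  have hN₀n : (N.subgroupOf M).Normal :=
    (Subgroup.normal_subgroupOf_iff_le_normalizer ho.N_le).2 ho.normal
  set K₁ := (K.subgroupOf M).subgroupOf (N.subgroupOf M) with hK₁
  have hK₁n : K₁.Normal := hK₀n.subgroupOf _
  let Q := ↥(N.subgroupOf M) ⧸ K₁
  have hQc : ∀ a b : Q, a * b = b * a := fun a b => by
    obtain ⟨u, rfl⟩ := QuotientGroup.mk_surjective a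
    obtain ⟨v, rfl⟩ := QuotientGroup.mk_surjective b
    rw [← QuotientGroup.mk_mul, ← QuotientGroup.mk_mul, QuotientGroup.eq]
    have h1 := hab _ (N.inv_mem (mem_subgroupOf.1 v.2)) _ (N.inv_mem (mem_subgroupOf.1 u.2))
    simpa [hK₁, mem_subgroupOf, mul_assoc] using h1
  letI : CommGroup Q := { (inferInstance : Group Q) with mul_comm := hQc }
  let π₁ : ↥(N.subgroupOf M) →* Q := QuotientGroup.mk' K₁
  have hπ₁ : Function.Surjective π₁ := QuotientGroup.mk'_surjective K₁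
  have hmemK₁ : ∀ u : ↥(N.subgroupOf M), π₁ u = 1 ↔ ((u : M) : G) ∈ K := fun u =>
    (QuotientGroup.eq_one_iff u).trans Iff.rfl
  have hcardQ : Nat.card Q = d := by
    have e1 := K₁.card_mul_index
    rw [Subgroup.index_eq_card,
      Nat.card_congr (Subgroup.subgroupOfEquivOfLe (show K.subgroupOf M ≤ N.subgroupOf M from
        fun x hx => ho.K_le hx)).toEquiv,
      Nat.card_congr (Subgroup.subgroupOfEquivOfLe h.K_le).toEquiv,
      Nat.card_congr (Subgroup.subgroupOfEquivOfLe ho.N_le).toEquiv] at e1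
    have e2 : (Nat.card K * Nat.card Q : ℕ) = d * Nat.card K := by
      rw [e1]; exact_mod_cast ho.card_N h
    exact Nat.eq_of_mul_eq_mul_left Nat.card_pos (e2.trans (mul_comm _ _))
  have : Finite (Q →* ℂˣ) := Nat.finite_of_card_ne_zero (by
    rw [CommGroup.card_monoidHom_of_hasEnoughRootsOfUnity]; exact Nat.card_pos.ne')
  let := Fintype.ofFinite (Q →* ℂˣ)
  let T := {l : Q →* ℂˣ // l ≠ 1}
  let g : T → (↥(N.subgroupOf M) →* ℂˣ) := fun l => l.1.comp π₁
  -- the inertia groups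
  have hreg : ∀ l : T, Fixed.RegIn ⊤ (N.subgroupOf M) (g l) := by
    intro l
    have hg1 : ∀ l : Q →* ℂˣ, l.comp π₁ = 1 → l = 1 := fun l e => MonoidHom.ext fun a => by
      obtain ⟨u, rfl⟩ := hπ₁ a
      exact DFunLike.congr_fun e u
    refine ⟨fun e => l.2 (hg1 _ e), fun x _ hx => ?_⟩
    by_contra hxN
    obtain ⟨m, w, hw, hw2, rfl⟩ := ho.conj_out x fun hh => hxN (mem_subgroupOf.2 hh)
    obtain ⟨a, ha, b, hb', e⟩ :=
      (CyclicTI.mem_sup_iff ho.selfN.2.2.2.1).1 hw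
    have haM : a ∈ M := h.W_le (mem_sup_left ha)
    have ha1 : a ≠ 1 := fun e1 => hw2 (by rw [← e, e1, one_mul]; exact hb')
    have hbN : (⟨b, h.K_le (h.W₂_le hb')⟩ : M) ∈ N.subgroupOf M :=
      mem_subgroupOf.2 (ho.K_le (h.W₂_le hb'))
    have hwab : w = (⟨a, haM⟩ : M) * ⟨b, h.K_le (h.W₂_le hb')⟩ := Subtype.ext e.symm
    set g' := Fixed.cj (N.subgroupOf M) m⁻¹ (g l) with hg'
    have hfix : Fixed.cj (N.subgroupOf M) (⟨a, haM⟩ : M) g' = g' := by
      have e1 : Fixed.cj (N.subgroupOf M) w g' = g' := by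
        rw [hg', ← Fixed.cj_mul, show w * m⁻¹ = m⁻¹ * (m * w * m⁻¹) by group, Fixed.cj_mul, hx]
      rwa [hwab, Fixed.cj_mul, Fixed.cj_of_mem hbN] at e1
    -- `g'` factors through `Q`
    have hg'K : ∀ u : ↥(N.subgroupOf M), π₁ u = 1 → g' u = 1 := fun u hu => by
      rw [hg', Fixed.cj_apply]
      show l.1 (π₁ _) = 1
      rw [(hmemK₁ _).2, map_one]
      simpa [mem_subgroupOf] using hK₀n.conj_mem (u : M)
        (mem_subgroupOf.2 ((hmemK₁ u).1 hu)) m
    let c : ↥(N.subgroupOf M) → ↥(N.subgroupOf M) := fun u =>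
      ⟨(⟨a, haM⟩ : M)⁻¹ * u * ⟨a, haM⟩, by simpa using hN₀n.conj_mem (u : M) u.2 (⟨a, haM⟩ : M)⁻¹⟩
    have hcmul : ∀ u v, c (u * v) = c u * c v := fun u v => Subtype.ext (by simp [c, mul_assoc])
    let D : ↥(N.subgroupOf M) →* Q :=
      { toFun := fun u => (π₁ u)⁻¹ * π₁ (c u)
        map_one' := by
          have : c 1 = 1 := Subtype.ext (by simp [c])
          rw [this, map_one, inv_one, one_mul]
        map_mul' := fun u v => by
          rw [hcmul, map_mul, map_mul, mul_inv]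
          exact mul_mul_mul_comm _ _ _ _ }
    have hker : D.ker ≤ π₁.ker := fun u hu => by
      have e1 : π₁ (u⁻¹ * c u) = 1 := by
        rw [map_mul, map_inv]; exact MonoidHom.mem_ker.1 hu
      have e2 : (((u⁻¹ * c u : ↥(N.subgroupOf M)) : M) : G) ∈ K := (hmemK₁ _).1 e1
      simp only [c, Subgroup.coe_mul, Subgroup.coe_inv] at e2
      refine MonoidHom.mem_ker.2 ((hmemK₁ u).2 (hfpf a⁻¹ (W₁.inv_mem ha) (inv_ne_one.2 ha1) _
        (mem_subgroupOf.1 u.2) ?_))
      have e3 := (mem_normalizer_iff.1 (h.normal (SetLike.coe_mem (u : M))) _).1 e2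
      simpa [mul_assoc] using e3
    have hsurj : Function.Surjective D := by
      rw [← MonoidHom.range_eq_top]
      refine Subgroup.eq_top_of_le_card _ ?_
      have e1 := D.ker.card_mul_index
      have e2 := π₁.ker.card_mul_index
      rw [Subgroup.index_ker] at e1 e2
      rw [MonoidHom.range_eq_top.2 hπ₁, Subgroup.card_top] at e2
      have e3 := Subgroup.card_le_of_le hker
      refine Nat.le_of_mul_le_mul_left ?_ (Nat.card_pos (α := D.ker))
      rw [e1, ← e2]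
      exact Nat.mul_le_mul_right _ e3
    have hg'1 : g' = 1 := by
      refine MonoidHom.ext fun u => ?_
      obtain ⟨v, hv⟩ := hsurj (π₁ u)
      have e1 : π₁ (u⁻¹ * (v⁻¹ * c v)) = 1 := by
        rw [map_mul, map_inv, map_mul, map_inv, inv_mul_eq_one]
        exact hv.symm
      have e2 := hg'K _ e1
      rw [map_mul, map_inv, inv_mul_eq_one, map_mul, map_inv] at e2
      rw [e2, MonoidHom.one_apply, inv_mul_eq_one]
      exact (DFunLike.congr_fun hfix v).symm
    rw [hg', Fixed.cj_eq_iff, Fixed.cj_hom_one] at hg'1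
    exact l.2 (hg1 _ hg'1)
  -- the family
  let F : T → (↥M → ℂ) := fun l => indFun (N.subgroupOf M) (Fixed.homC (g l))
  set Z := Finset.univ.image F with hZ
  have hmemZ : ∀ {ζ}, ζ ∈ Z ↔ ∃ l, F l = ζ := fun {ζ} => by simp [hZ]
  have hZreg : ∀ {ζ}, ζ ∈ Z → ζ ∈ Fixed.regChars (N.subgroupOf M) := fun {ζ} hζ => by
    obtain ⟨l, rfl⟩ := hmemZ.1 hζ
    exact Fixed.mem_regChars.2 ⟨g l, hreg l, rfl⟩
  have hidx : (N.subgroupOf M).index = Nat.card W₁ := by
    have e1 := (N.subgroupOf M).card_mul_index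
    rw [Nat.card_congr (Subgroup.subgroupOfEquivOfLe ho.N_le).toEquiv, ho.card_eq, mul_comm] at e1
    exact Nat.eq_of_mul_eq_mul_right Nat.card_pos e1
  -- each member comes from `q` linear characters
  have hfib : ∀ l₀ : T, (Finset.univ.filter fun l => F l = F l₀).card = Nat.card W₁ := by
    intro l₀
    rw [← hidx, ← Fintype.card_subtype, ← Nat.card_eq_fintype_card, Subgroup.index_eq_card]
    have hlift : ∀ x : M, ∃ l : T, g l = Fixed.cj (N.subgroupOf M) x (g l₀) := by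
      intro x
      set g₁ := Fixed.cj (N.subgroupOf M) x (g l₀) with hg₁
      have hk : K₁ ≤ g₁.ker := fun u hu => by
        rw [MonoidHom.mem_ker, hg₁, Fixed.cj_apply]
        show l₀.1 (π₁ _) = 1
        rw [(hmemK₁ _).2, map_one]
        simpa [mem_subgroupOf] using hK₀n.conj_mem (u : M) hu x⁻¹
      refine ⟨⟨QuotientGroup.lift K₁ g₁ hk, fun e => (Fixed.regIn_top_cj (hreg l₀) x).1 ?_⟩, rfl⟩
      exact MonoidHom.ext fun u => DFunLike.congr_fun e (u : Q)
    choose lf hlf using hlift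
    let R : ↥M ⧸ N.subgroupOf M → {l : T // F l = F l₀} := fun c =>
      ⟨lf c.out, (Fixed.indK_eq_iff (hreg l₀)).2 ⟨c.out, (hlf c.out).symm⟩⟩
    refine (Nat.card_congr (Equiv.ofBijective R ⟨fun c c' e => ?_, fun l => ?_⟩)).symm
    · have e1 : Fixed.cj (N.subgroupOf M) c.out (g l₀) = Fixed.cj (N.subgroupOf M) c'.out (g l₀) := by
        rw [← hlf, ← hlf, show lf c.out = lf c'.out from congrArg Subtype.val e]
      have e2 : Fixed.cj (N.subgroupOf M) (c'.out⁻¹ * c.out) (g l₀) = g l₀ := by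
        rw [Fixed.cj_mul, e1, ← Fixed.cj_mul, inv_mul_cancel, Fixed.cj_one]
      rw [← c.out_eq, ← c'.out_eq]
      exact ((QuotientGroup.eq).2 ((hreg l₀).2 _ (Subgroup.mem_top _) e2)).symm
    · obtain ⟨x, hx⟩ := (Fixed.indK_eq_iff (hreg l₀)).1 l.2
      refine ⟨(x : ↥M ⧸ N.subgroupOf M), Subtype.ext (Subtype.ext (MonoidHom.ext fun a => ?_))⟩
      obtain ⟨u, rfl⟩ := hπ₁ a
      show g (lf (x : ↥M ⧸ N.subgroupOf M).out) u = g l.1 u
      obtain ⟨k, hk⟩ := QuotientGroup.mk_out_eq_mul (N.subgroupOf M) x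
      rw [hlf, hk, Fixed.cj_mul, Fixed.cj_of_mem k.2, hx]
  have hsumZ : ∀ x : M, ∑ l : T, F l x = (Nat.card W₁ : ℂ) * ∑ ζ ∈ Z, ζ x := by
    intro x
    rw [Finset.mul_sum, hZ, ← Finset.sum_fiberwise_of_maps_to (t := Finset.univ.image F) (g := F)
      fun l _ => Finset.mem_image_of_mem _ (Finset.mem_univ l)]
    refine Finset.sum_congr rfl fun ζ hζ => ?_
    obtain ⟨l₀, -, rfl⟩ := Finset.mem_image.1 hζ
    rw [Finset.sum_congr rfl fun l hl => congrFun (Finset.mem_filter.1 hl).2 x, Finset.sum_const,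
      hfib l₀, nsmul_eq_mul]
  -- the sum of the linear characters
  have hlin : ∀ a : Q, ∑ l : T, (l.1 a : ℂ) = (if a = 1 then (d : ℂ) else 0) - 1 := by
    intro a
    have hall : ∑ l : Q →* ℂˣ, (l a : ℂ) = if a = 1 then (d : ℂ) else 0 := by
      by_cases ha : a = 1
      · simp [ha, ← hcardQ, ← Nat.card_eq_fintype_card,
          CommGroup.card_monoidHom_of_hasEnoughRootsOfUnity Q ℂ]
      · rw [if_neg ha]
        obtain ⟨l₀, hl₀⟩ := CommGroup.exists_apply_ne_one_of_hasEnoughRootsOfUnity Q ℂ ha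
        have e : (l₀ a : ℂ) * ∑ l : Q →* ℂˣ, (l a : ℂ) = ∑ l : Q →* ℂˣ, (l a : ℂ) := by
          rw [Finset.mul_sum]
          exact Fintype.sum_equiv (Equiv.mulLeft l₀) _ _ fun l => by simp
        rcases mul_eq_zero.1 (show ((l₀ a : ℂ) - 1) * ∑ l : Q →* ℂˣ, (l a : ℂ) = 0 by
          rw [sub_mul, e, one_mul, sub_self]) with e1 | e1
        · exact absurd (Units.val_eq_one.1 (sub_eq_zero.1 e1)) hl₀
        · exact e1
    rw [← hall, ← Finset.add_sum_erase _ _ (Finset.mem_univ (1 : Q →* ℂˣ))]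
    rw [MonoidHom.one_apply, Units.val_one, add_sub_cancel_left]
    exact (Finset.sum_subtype (Finset.univ.erase (1 : Q →* ℂˣ)) (fun l => by simp)
      fun l => (l a : ℂ)).symm
  have hF : ∀ x : M, ∑ l : T, F l x = if (x : G) ∈ N then
      (Nat.card W₁ : ℂ) * ((if (x : G) ∈ K then (d : ℂ) else 0) - 1) else 0 := by
    intro x
    by_cases hxN : (x : G) ∈ N
    · rw [if_pos hxN, show x = (((⟨x, mem_subgroupOf.2 hxN⟩ : ↥(N.subgroupOf M))) : M) from rfl]
      have hval : ∀ l : T, F l (((⟨x, mem_subgroupOf.2 hxN⟩ : ↥(N.subgroupOf M))) : M) =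
          (Nat.card ↥(N.subgroupOf M) : ℂ)⁻¹ * ∑ y : M, Fixed.homC (g l)
            ⟨y⁻¹ * x * y, by simpa using hN₀n.conj_mem x (mem_subgroupOf.2 hxN) y⁻¹⟩ :=
        fun l => indFun_apply_coe_of_normal _ _ _
      rw [Finset.sum_congr rfl fun l _ => hval l]
      simp only [← Finset.mul_sum]
      rw [Finset.sum_comm]
      simp only [Fixed.homC, g, MonoidHom.comp_apply, hlin]
      rw [Finset.sum_congr rfl (g := fun _ => (if (x : G) ∈ K then (d : ℂ) else 0) - 1)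
        fun y _ => ?_, Finset.sum_const, Finset.card_univ, nsmul_eq_mul, ← mul_assoc]
      · congr 1
        rw [← Nat.card_eq_fintype_card, ho.card_eq,
          Nat.card_congr (Subgroup.subgroupOfEquivOfLe ho.N_le).toEquiv]
        push_cast
        field_simp
      · congr 1
        refine if_congr ((hmemK₁ _).trans ?_) rfl rfl
        show ((y⁻¹ * x * y : ↥M) : G) ∈ K ↔ (x : G) ∈ K
        simp only [Subgroup.coe_mul, Subgroup.coe_inv]
        exact (mem_normalizer_iff''.1 (h.normal y.2) (x : G)).symm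
    · rw [if_neg hxN]
      exact Finset.sum_eq_zero fun l _ =>
        indFun_apply_of_normal _ _ fun hh => hxN (mem_subgroupOf.1 hh)
  have hq : (Nat.card W₁ : ℂ) ≠ 0 := Nat.cast_ne_zero.2 Nat.card_pos.ne'
  have hπ : π = (fun _ => 1) + ∑ ζ ∈ Z, ζ := by
    funext x
    rw [Pi.add_apply, Finset.sum_apply]
    refine mul_left_cancel₀ hq ?_
    rw [mul_add, ← hsumZ, hF]
    by_cases hxN : (x : G) ∈ N
    · by_cases hxK : (x : G) ∈ K
      · rw [if_pos hxN, if_pos hxK, hb.val_K x hxK]; ring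
      · rw [if_pos hxN, if_neg hxK, ho.pi_N h hb hxN hxK]; ring
    · rw [if_neg hxN, ho.pi_out h hb hxN, add_zero]
  have hdegZ : ∀ ζ ∈ Z, ζ 1 = (Nat.card W₁ : ℂ) := fun ζ hζ => by
    rw [Fixed.regChars_one ζ (hZreg hζ), hidx]
  refine ⟨Z,
    { K_le := ho.K_le
      N_le := ho.N_le
      normal := ho.normal
      card_eq := ho.card_eq
      dade := hD
      disjoint := ?_
      irr := fun ζ hζ => Fixed.regChars_irr ζ (hZreg hζ)
      deg := hdegZ
      supp := fun ζ hζ x hx => Fixed.regChars_out ζ (hZreg hζ) x fun hh =>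
        hx (mem_subgroupOf.1 hh)
      orth := ?_
      not_mu := ?_
      conj_mem := ?_
      res_mu := fun φ ψ hψ x hx => ?_
      pi_eq := hπ
      card_Z := ?_ }⟩
  · rw [Set.disjoint_left]
    rintro y ⟨hy, -⟩ hv
    exact ho.not_conjV (x := ⟨y, ho.N_le hy⟩) hy hv
  · intro ζ hζ _
    rw [Fintype.sum_equiv (Subgroup.subgroupOfEquivOfLe ho.N_le).symm.toEquiv
      (fun k : ↥N => ζ ⟨k.1, ho.N_le k.2⟩) (fun k : ↥(N.subgroupOf M) => ζ k) fun k => rfl]
    exact Fixed.regChars_sum ζ (hZreg hζ)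
  · intro ζ hζ ω e
    obtain ⟨⟨φ, ψ⟩, rfl⟩ := (mulBij ho.selfN).2 ω
    have e1 := congrFun e 1
    beta_reduce at e1
    rw [hdegZ ζ hζ] at e1
    have hq1 : 1 < Nat.card W₁ := (Subgroup.one_lt_card_iff_ne_bot W₁).2 ho.selfN.1
    by_cases hψ : ψ.1 = 1
    · rw [show φ.1 * ψ.1 = φ.1 by rw [hψ]; exact MonoidHom.ext fun w => mul_one _] at e1
      rw [h.mu_left_ker φ 1 K.one_mem, eq_comm, Nat.cast_eq_one] at e1
      omega
    · simp only [] at e1
      rw [h.deg_mu φ ψ hψ, Nat.cast_inj] at e1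
      have := h.d_mod
      rw [e1, Nat.mod_self] at this
      omega
  · intro ζ hζ
    obtain ⟨l, rfl⟩ := hmemZ.1 hζ
    refine hmemZ.2 ⟨⟨l.1⁻¹, fun e => l.2 (MonoidHom.ext fun a => inv_eq_one.1 (DFunLike.congr_fun e a))⟩, ?_⟩
    rw [show Cfsg.conjFun (F l) = Cfsg.conjFun (indFun (N.subgroupOf M) (Fixed.homC (g l))) from rfl,
      OddChars.conjFun_indFun]
    show indFun (N.subgroupOf M) _ = indFun (N.subgroupOf M) _
    congr 1
    funext u
    show (((l.1⁻¹).comp π₁ u : ℂˣ) : ℂ) = conj ((g l u : ℂˣ) : ℂ)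
    rw [MonoidHom.comp_apply, MonoidHom.inv_apply, Units.val_inv_eq_inv_val]
    exact inv_eq_of_mul_eq_one_right (hom_mul_conj (g l) u)
  · by_cases hxK : (x : G) ∈ K
    · exact hb.res φ ψ hψ x hxK
    · rw [ho.mu_N h hb φ hψ hx hxK]
      have e := ho.mu_N h hb leftOne hψ hx hxK
      rwa [sideLeftOne_mul ψ, eq_comm] at e
  · have e := congrFun hπ 1
    rw [Pi.add_apply, Finset.sum_apply, hb.val_K 1 K.one_mem, Finset.sum_congr rfl hdegZ,
      Finset.sum_const, nsmul_eq_mul] at e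
    have e' : ((Nat.card W₁ * Z.card + 1 : ℕ) : ℂ) = (d : ℂ) := by
      rw [e]; push_cast; ring
    exact_mod_cast e'

end Cfsg.Agent.OddFinal
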