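import Cfsg.Agent.OddFinal.Kit
import Cfsg.Agent.OddFinal.SideCount
import Cfsg.Agent.OddFinal.SideDerived
import Cfsg.Agent.OddFinal.FixedSide

/-!
# A frame at a chief factor gives the kit of the member

With the frame on `K = H C` inside `M`, the side and bridge characters, the count and, outside
Type II, the characters of `M' / K` are those of `FixedSide`, `SideCount` and `SideDerived`.
-/

set_option autoImplicit false
set_option linter.unusedSectionVars false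

namespace Cfsg.Agent.OddFinal

open Subgroup Cfsg Cfsg.Agent.Char CyclicTI
open scoped commutatorElement
open scoped _root_.Classical

universe u

variable {G : Type u} [Group G] [Fintype G] {M W₁ U W₂ H₀ : Subgroup G}

variable (hG : IsMinSimpleOddOrder G) (hM : IsCoatom M) (hd : IsTypePWith M W₁ U W₂)
  (hn : IsTypeNotI M) (hc : Chief M W₁ U W₂ H₀)

include hG hM hd hn hc

/-- `K = H C` lies in `A(M)`. -/
theorem sharp_kerK_subset : sharp (kerK M U H₀) ⊆ typeA M ∨ (IsOfTypeII M ∧ H₀ ≠ ⊥) := by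
  by_cases hII : IsOfTypeII M
  · by_cases h0 : H₀ = ⊥
    · left
      subst h0
      have := TypeTwo.fitting_comm hG hM hd hII hc.prime_W₂
      rintro g ⟨hg, hg1⟩
      rw [typeA, if_neg (not_typeI hG hM hn)]
      refine ⟨(hc.kernel_facts hd).2.2.2.1 hg, fun e => hg1 e, ?_⟩
      obtain ⟨h, hh, c, hc', e⟩ := (Coprime.mem_sup_of_le_normalizer (inf_le_left.trans
        (le_sup_left.trans (TypeTwo.sup_le_normalizer hd)))).1 hg
      obtain ⟨x, hx, hx1⟩ := OddLocal.exists_mem_ne_one _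
        (Cfsg.Agent.S1355.result hG M hM).1
      refine ⟨x, ?_, hx1, ?_⟩
      · rw [OddLocal.typeCore_eq hG hM]; exact (Cfsg.Agent.S1355.result hG M hM).2.1 hx
      have h1 : c * x = x * c := by
        have h2 := (mem_modCent.1 (mem_inf.1 hc').2).2.2 x hx
        rw [mem_bot, mul_inv_eq_one, mul_inv_eq_iff_eq_mul] at h2
        exact h2
      have h3 : h * x = x * h := congrArg Subtype.val
        (IsMulCommutative.is_comm.comm (⟨h, hh⟩ : fittingHallOf M) ⟨x, hx⟩)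
      rw [← e, mul_assoc, h1, ← mul_assoc, h3, mul_assoc]
    · exact Or.inr ⟨hII, h0⟩
  · exact Or.inl fun g hg =>
      sharp_derived_subset hG hM hn hII ⟨(hc.kernel_facts hd).2.2.2.1 hg.1, hg.2⟩

omit hn in
/-- `|M' : K| = |U : C|`. -/
theorem relIndex_kerK : (kerK M U H₀).relIndex ⁅M, M⁆ = (cKer M U H₀).relIndex U := by
  have hf := hc.kernel_facts hd
  have h1 := OddLocal.IsComplIn.card_mul hd.W₁_compl
  rw [hf.2.2.1, ← Coprime.card_mul_relIndex_of_le hf.2.2.2.1] at h1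
  refine Nat.eq_of_mul_eq_mul_left (Nat.card_pos (α := W₁)) ?_
  refine Nat.eq_of_mul_eq_mul_left (Nat.card_pos (α := kerK M U H₀)) ?_
  linarith [h1]

/-- The sets of the derived level. -/
theorem outside_of_chief [Fintype ↥M]
    (hP : PrimePair (⁅M, M⁆.subgroupOf M) (W₁.subgroupOf M) (W₂.subgroupOf M)) :
    Outside M W₁ W₂ (kerK M U H₀) ⁅M, M⁆ where
  selfN := hd.selfNormalizing
  K_le := (hc.kernel_facts hd).2.2.2.1
  N_le := Subgroup.commutator_le_self M
  normal := le_normalizer_commutator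
  card_eq := by rw [← OddLocal.IsComplIn.card_mul hd.W₁_compl]; ring
  W_inf := sup_inf_derived_le hd
  conj_out := by
    intro x hx
    have hN : (⁅M, M⁆.subgroupOf M).Normal :=
      (Subgroup.normal_subgroupOf_iff_le_normalizer (Subgroup.commutator_le_self M)).2
        le_normalizer_commutator
    obtain ⟨n, hnN, a, ha, ha1, b, hb, e⟩ := Fixed.exists_conj_mul
      (N := ⁅M, M⁆.subgroupOf M) (W₁ := W₁.subgroupOf M) (W₂ := W₂.subgroupOf M)
      hP (x := x) (fun h => hx (mem_subgroupOf.1 h))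
    refine ⟨n, a * b, mul_mem_sup (mem_subgroupOf.1 ha) (mem_subgroupOf.1 hb), fun h => ha1 ?_, e⟩
    have h1 : (a : G) ∈ W₁ ⊓ W₂ := ⟨mem_subgroupOf.1 ha, by
      simpa using W₂.mul_mem h (W₂.inv_mem (mem_subgroupOf.1 hb))⟩
    rw [hd.selfNormalizing.2.2.1, mem_bot] at h1
    exact Subtype.ext h1

/-- **The kit from a frame.** -/
theorem kit_of_frame [Fintype ↥M] (hsub : sharp (kerK M U H₀) ⊆ typeA M)
    {η : (↥(W₁ ⊔ W₂) →* ℂˣ) → G → ℂ} (hη : IsCyclicTIFamily W₁ W₂ η)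
    [(⁅M, M⁆.subgroupOf M).Normal] [((kerK M U H₀).subgroupOf M).Normal]
    (hF : Fixed.Frame (⁅M, M⁆.subgroupOf M) ((kerK M U H₀).subgroupOf M) (W₁.subgroupOf M)
      (W₂.subgroupOf M)) :
    Kit M W₁ U W₂ H₀ η := by
  have hf := hc.kernel_facts hd
  have hKM : kerK M U H₀ ≤ M := hf.2.2.2.1.trans (Subgroup.commutator_le_self M)
  have hq3 : 3 ≤ Nat.card W₁ := by
    have h2 := hc.prime_W₁.two_le
    have h3 : Odd (Nat.card W₁) := hG.1.of_dvd_nat (Subgroup.card_subgroup_dvd_card W₁)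
    rcases h3 with ⟨k, hk⟩
    omega
  have hW₂M : W₂ ≤ M := (W₂_le_derived hd).trans (Subgroup.commutator_le_self M)
  obtain ⟨hD, hdisj⟩ := dade_side hG hM hn hd hsub hf.1
  obtain ⟨X, μ, π, hs, hb, hcount⟩ := exists_side_of_frame hd.selfNormalizing hη hq3
    (sup_le (TypeTwo.W₁_le hd) hW₂M) hKM (Subgroup.commutator_le_self M) hF hD
  rw [relIndex_kerK hG hM hd hc] at hs hb hcount
  refine ⟨hc, hsub, X, μ, π, hs, hb, ?_, fun hII => ?_⟩
  · obtain ⟨hI, hJ⟩ := Chief.count hG hM hd hc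
    rw [← hcount] at hI hJ
    have e : ∀ d : ℕ, X.card * (Nat.card W₁ * d) + (Nat.card W₂ - 1) * d =
        orbitNat W₁ W₂ X * d := fun d => by rw [orbitNat]; ring
    rw [e] at hI hJ
    rcases hc.split hG hM hd with ⟨h1, h2, h3⟩ | ⟨h1, h2⟩
    · exact Or.inl ⟨h1, h3, h2, hI h1⟩
    · exact Or.inr ⟨h1, h2, hJ⟩
  · have ho := outside_of_chief hG hM hd hn hc hF.pair
    refine ho.exists_derived hs hb ?_ ?_ ?_
    · -- `M' / K` is abelian
      intro x hx y hy
      have hKn : ⁅M, M⁆ ≤ normalizer (kerK M U H₀ : Set G) :=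
        (Subgroup.commutator_le_self M).trans hf.1
      have hcomm : ∀ u ∈ U, ∀ v ∈ U, u * v * u⁻¹ * v⁻¹ ∈ kerK M U H₀ := fun u hu v hv =>
        mem_sup_right (hc.commutator_le_C hd (by
          rw [← commutatorElement_def]; exact commutator_mem_commutator hu hv))
      obtain ⟨a, ha, u, hu, rfl⟩ := hd.U_compl.2.2.2 x hx
      obtain ⟨b, hb', v, hv, rfl⟩ := hd.U_compl.2.2.2 y hy
      have hUD : U ≤ ⁅M, M⁆ := hd.U_compl.2.1
      have hKs := Subgroup.normal_subgroupOf_iff_le_normalizer hf.2.2.2.1 |>.2 hKn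
      let q := QuotientGroup.mk' ((kerK M U H₀).subgroupOf ⁅M, M⁆)
      have hq : ∀ z : ↥⁅M, M⁆, q z = 1 ↔ (z : G) ∈ kerK M U H₀ := fun z =>
        (QuotientGroup.eq_one_iff z).trans Iff.rfl
      have hHD : ∀ {h : G}, h ∈ fittingHallOf M → h ∈ ⁅M, M⁆ := fun h => hd.U_compl.1 h
      have e1 : q ⟨a, hHD ha⟩ = 1 := (hq _).2 (mem_sup_left ha)
      have e2 : q ⟨b, hHD hb'⟩ = 1 := (hq _).2 (mem_sup_left hb')
      have e3 : q (⟨u, hUD hu⟩ * ⟨v, hUD hv⟩ * ⟨u, hUD hu⟩⁻¹ * ⟨v, hUD hv⟩⁻¹) = 1 :=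
        (hq _).2 (hcomm u hu v hv)
      refine (hq (⟨a, hHD ha⟩ * ⟨u, hUD hu⟩ * (⟨b, hHD hb'⟩ * ⟨v, hUD hv⟩) *
        (⟨a, hHD ha⟩ * ⟨u, hUD hu⟩)⁻¹ * (⟨b, hHD hb'⟩ * ⟨v, hUD hv⟩)⁻¹)).1 ?_
      simp only [map_mul, map_inv, e1, e2, one_mul] at e3 ⊢
      exact e3
    · -- `W₁` acts on `M' / K` without fixed points
      intro a ha ha1 x hx h
      obtain ⟨b, hb', u, hu, rfl⟩ := hd.U_compl.2.2.2 x hx
      have hau : a * u * a⁻¹ ∈ U := (mem_normalizer_iff.1 (hd.U_normal ha) u).1 hu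
      have hab : a * b * a⁻¹ ∈ fittingHallOf M :=
        (mem_normalizer_iff.1 (TypeTwo.sup_le_normalizer hd (mem_sup_right ha)) b).1 hb'
      have h1 : a * u * a⁻¹ * u⁻¹ ∈ kerK M U H₀ := by
        have h2 : (a * b * a⁻¹)⁻¹ * (a * (b * u) * a⁻¹ * (b * u)⁻¹) * b ∈ kerK M U H₀ :=
          mul_mem (mul_mem (inv_mem (mem_sup_left hab)) h) (mem_sup_left hb')
        rw [show (a * b * a⁻¹)⁻¹ * (a * (b * u) * a⁻¹ * (b * u)⁻¹) * b =
          a * u * a⁻¹ * u⁻¹ by group] at h2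
        exact h2
      have h3 : a * u * a⁻¹ * u⁻¹ ∈ cKer M U H₀ := by
        obtain ⟨y, hy, z, hz, e⟩ := (Coprime.mem_sup_of_le_normalizer (inf_le_left.trans
          (le_sup_left.trans (TypeTwo.sup_le_normalizer hd)))).1 h1
        have h4 : y ∈ fittingHallOf M ⊓ U := ⟨hy, by
          rw [eq_mul_inv_of_mul_eq e]
          exact U.mul_mem (U.mul_mem hau (U.inv_mem hu)) (U.inv_mem (mem_inf.1 hz).1)⟩
        rw [hd.U_compl.2.2.1, mem_bot] at h4
        rw [← e, h4, one_mul]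
        exact hz
      exact mul_mem (mem_sup_left hb') (mem_sup_right (hc.mem_C_of_commutator hG hM hd hu ha ha1 h3))
    · exact (dade_side hG hM hn hd (sharp_derived_subset hG hM hn hII) le_normalizer_commutator).1

end Cfsg.Agent.OddFinal
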