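import Cfsg.Agent.OddFinal.BridgeImage

/-!
# Lower bounds for the masses on the conjugates of the kernel

The test functions are `F - avgChar` for `F = q d 1_K`, a column character, or a generic one.
-/

set_option autoImplicit false
set_option linter.unusedSectionVars false

namespace Cfsg.Agent.OddFinal

open Cfsg Char CyclicTI
open scoped ComplexConjugate
open scoped _root_.Classical

universe u

variable {G : Type u} [Group G] [Fintype G] {M W₁ W₂ K : Subgroup G} [Fintype ↥M] {d : ℕ}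
  {X : Finset (↥M → ℂ)} {μ : (↥(W₁ ⊔ W₂) →* ℂˣ) → ↥M → ℂ}
  {η : (↥(W₁ ⊔ W₂) →* ℂˣ) → G → ℂ} {B : Set G} {π : ↥M → ℂ} {b : ℤ}
  {R : (↥M → ℂ) → G → ℂ}

theorem mem_rightSet {ψ : Right W₁ W₂} : ψ ∈ rightSet W₁ W₂ ↔ ψ.1 ≠ 1 := by simp [rightSet]

theorem diffChar_eq (ψ : Right W₁ W₂) (χ : ↥M → ℂ) : diffChar μ ψ χ = colChar μ ψ - χ := rfl

variable (h : Ctx M W₁ W₂ K d X μ η B)

include h

theorem Ctx.isClassFunction_colChar (ψ : Right W₁ W₂) : IsClassFunction ↥M (colChar μ ψ) :=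
  fun g k => by
    simp only [colChar, Finset.sum_apply,
      fun φ : Left W₁ W₂ => isClassFunction_of_isIrr (h.side.irr_mu (φ.1 * ψ.1)) g k]

theorem Ctx.isClassFunction_sub_avg {F : ↥M → ℂ} (hF : IsClassFunction ↥M F) :
    IsClassFunction ↥M (F - avgChar X μ) := fun g k => by
  simp only [Pi.sub_apply, avgChar, Pi.smul_apply, Pi.add_apply, Finset.sum_apply, hF g k,
    fun ψ => h.isClassFunction_colChar ψ g k]
  rw [Finset.sum_congr rfl fun χ hχ => isClassFunction_of_isIrr (h.side.irr_X χ hχ) g k]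

/-- A function supported on `sharp K` bounds the mass on its conjugates from below. -/
theorem Ctx.mass_lower {f : ↥M → ℂ} (hc : IsClassFunction ↥M f)
    (hs : ∀ x : M, (x : G) ∉ sharp K → f x = 0) {n : ℝ} (hn : classInner f f = (n : ℂ))
    (Y : G → ℂ) :
    ‖classInner (indFun M f) Y‖ ^ 2 ≤ n * mass (conjAll (sharp K)) Y := by
  refine (norm_classInner_sq_le (fun g hg => h.ind_eq_zero hs hg) Y).trans_eq ?_
  rw [inner_ind h.side.dade hc (h.supp_big hs) (h.supp_big hs), hn, Complex.ofReal_re]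

theorem Ctx.inner_eta (φ φ' : Left W₁ W₂) (ψ ψ' : Right W₁ W₂) :
    classInner (η (φ.1 * ψ.1)) (η (φ'.1 * ψ'.1)) = if φ = φ' ∧ ψ = ψ' then 1 else 0 := by
  rw [h.fam.orthonormal]
  by_cases e : φ = φ' ∧ ψ = ψ'
  · rw [if_pos e, if_pos (by rw [e.1, e.2])]
  · rw [if_neg e, if_neg fun e' => e ?_]
    have := (mulBij h.selfN).1 (a₁ := (φ, ψ)) (a₂ := (φ', ψ')) e'
    exact ⟨congrArg Prod.fst this, congrArg Prod.snd this⟩

theorem Ctx.ind_colChar_sub {ψ ψ' : Right W₁ W₂} (hψ : ψ.1 ≠ 1) (hψ' : ψ'.1 ≠ 1) :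
    indFun M (colChar μ ψ - colChar μ ψ') =
      ∑ φ : Left W₁ W₂, (η (φ.1 * ψ.1) - η (φ.1 * ψ'.1)) := by
  rw [colChar, colChar, ← Finset.sum_sub_distrib, Char.indFun_sum]
  exact Finset.sum_congr rfl fun φ _ => h.side.tau_mu φ ψ ψ' hψ hψ'

theorem Ctx.inner_colChar_sub {ψ ψ' : Right W₁ W₂} (hψ : ψ.1 ≠ 1) (hψ' : ψ'.1 ≠ 1)
    (φ₀ : Left W₁ W₂) (ψ₀ : Right W₁ W₂) :
    classInner (indFun M (colChar μ ψ - colChar μ ψ')) (η (φ₀.1 * ψ₀.1)) =
      (if ψ = ψ₀ then 1 else 0) - (if ψ' = ψ₀ then 1 else 0) := by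
  rw [h.ind_colChar_sub hψ hψ', classInner_sum_left]
  simp only [classInner_sub_left, h.inner_eta, Finset.sum_sub_distrib, ite_and,
    Finset.sum_ite_eq', Finset.mem_univ, if_true]

variable (hR : GenericData M X μ η b R)

include hR

theorem Ctx.inner_image {ψ : Right W₁ W₂} (hψ : ψ.1 ≠ 1) {χ : ↥M → ℂ} (hχ : χ ∈ X)
    (φ₀ : Left W₁ W₂) (ψ₀ : Right W₁ W₂) :
    classInner (indFun M (colChar μ ψ - χ)) (η (φ₀.1 * ψ₀.1)) = (coef b ψ ψ₀ : ℂ) := by
  rw [← diffChar_eq, hR.image ψ hψ χ hχ, classInner_sub_left, hR.orth_eta χ hχ, sub_zero,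
    classInner_sum_left]
  simp only [classInner_sum_left, classInner_smul_left, h.inner_eta, ite_and, mul_ite, mul_one,
    mul_zero]
  rw [Finset.sum_eq_single φ₀ (fun φ _ hne => Finset.sum_eq_zero fun y _ => if_neg hne) (by simp)]
  simp

theorem Ctx.inner_image_R {ψ : Right W₁ W₂} (hψ : ψ.1 ≠ 1) {χ χ₀ : ↥M → ℂ} (hχ : χ ∈ X)
    (hχ₀ : χ₀ ∈ X) :
    classInner (indFun M (colChar μ ψ - χ)) (R χ₀) = if χ = χ₀ then -1 else 0 := by
  have ho : ∀ ω, classInner (η ω) (R χ₀) = 0 := fun ω => by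
    rw [← classInner_conj_symm, hR.orth_eta χ₀ hχ₀, map_zero]
  rw [← diffChar_eq, hR.image ψ hψ χ hχ, classInner_sub_left, hR.orthonormal χ hχ χ₀ hχ₀]
  simp only [classInner_sum_left, classInner_smul_left, ho, mul_zero, Finset.sum_const_zero]
  split_ifs <;> simp

/-- Mass of `η φ`, `φ ≠ 1` on the left, on the conjugates of the kernel. -/
theorem Ctx.mass_left_ge (hb : IsBridge M W₁ W₂ K d X μ π) {φ : Left W₁ W₂} (hφ : φ.1 ≠ 1) :
    1 / ((Nat.card W₁ : ℝ) * ((d : ℝ) + 1 / orbitCount W₁ W₂ X)) ≤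
      mass (conjAll (sharp K)) (η φ.1) := by
  obtain ⟨ψ₁, hψ₁⟩ := h.exists_right
  obtain ⟨c, hc⟩ := h.ker_coeff hb hφ hψ₁
  have hone : φ.1 * (rightOne : Right W₁ W₂).1 = φ.1 := by ext w; simp [rightOne]
  have hcol : ∀ ψ : Right W₁ W₂, ψ.1 ≠ 1 →
      classInner (indFun M (kerChar M W₁ K d - colChar μ ψ)) (η φ.1) =
        (Nat.card W₁ : ℂ) * c + 1 := by
    intro ψ hψ
    rw [show kerChar M W₁ K d - colChar μ ψ =
      (kerChar M W₁ K d - colChar μ ψ₁) + (colChar μ ψ₁ - colChar μ ψ) by abel,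
      Char.indFun_add, classInner_add_left, hc, ← hone, h.inner_colChar_sub hψ₁ hψ]
    rw [if_neg (fun e => hψ₁ (by rw [e]; rfl)), if_neg (fun e => hψ (by rw [e]; rfl))]
    ring
  have hgen : ∀ χ ∈ X, classInner (indFun M (kerChar M W₁ K d - χ)) (η φ.1) =
      (Nat.card W₁ : ℂ) * c + 1 := by
    intro χ hχ
    rw [show kerChar M W₁ K d - χ =
      (kerChar M W₁ K d - colChar μ ψ₁) + (colChar μ ψ₁ - χ) by abel,
      Char.indFun_add, classInner_add_left, hc, ← hone, h.inner_image hR hψ₁ hχ]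
    simp [coef, rightOne]
  have hY : classInner (indFun M (kerChar M W₁ K d - avgChar X μ)) (η φ.1) =
      (Nat.card W₁ : ℂ) * c + 1 := by
    rw [h.inner_ind_avg, Finset.sum_congr rfl fun ψ hψ => hcol ψ (mem_rightSet.1 hψ),
      Finset.sum_congr rfl hgen, Finset.sum_const, Finset.sum_const, nsmul_eq_mul, nsmul_eq_mul,
      ← mul_assoc, ← add_mul, ← h.orbitCount_cast, ← mul_assoc,
      inv_mul_cancel₀ h.orbitCount_ne, one_mul]
  have hker : classInner (kerChar M W₁ K d) (kerChar M W₁ K d) =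
      ((Nat.card W₁ * d : ℕ) : ℂ) := by
    rw [h.inner_kerChar, Finset.sum_congr rfl fun (k : ↥K) _ =>
      show kerChar M W₁ K d ⟨k.1, h.side.K_le k.2⟩ = ((Nat.card W₁ * d : ℕ) : ℂ) from
        if_pos k.2, Finset.sum_const, Finset.card_univ, nsmul_eq_mul, Nat.card_eq_fintype_card,
      ← mul_assoc, inv_mul_cancel₀ (Nat.cast_ne_zero.2 Fintype.card_ne_zero), one_mul]
  have havg : classInner (avgChar X μ) (kerChar M W₁ K d) = ((0 : ℝ) : ℂ) := by
    rw [h.inner_kerChar]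
    simp only [avgChar, colChar, Pi.smul_apply, Pi.add_apply, Finset.sum_apply, smul_eq_mul]
    rw [← Finset.mul_sum, Finset.sum_add_distrib, ← Finset.mul_sum]
    have z1 : ∑ k : ↥K, ∑ ψ ∈ rightSet W₁ W₂, ∑ φ : Left W₁ W₂,
        μ (φ.1 * ψ.1) ⟨k.1, h.side.K_le k.2⟩ = 0 := by
      rw [Finset.sum_comm, Finset.sum_eq_zero]
      intro ψ hψ
      rw [Finset.sum_comm]
      exact Finset.sum_eq_zero fun φ' _ => h.side.orth_mu φ' ψ (mem_rightSet.1 hψ)
    have z2 : ∑ k : ↥K, ∑ χ ∈ X, χ ⟨k.1, h.side.K_le k.2⟩ = 0 := by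
      rw [Finset.sum_comm]
      exact Finset.sum_eq_zero fun χ hχ => h.side.orth_X χ hχ
    simp [z1, z2]
  have hn : classInner (kerChar M W₁ K d - avgChar X μ) (kerChar M W₁ K d - avgChar X μ) =
      (((Nat.card W₁ : ℝ) * ((d : ℝ) + 1 / orbitCount W₁ W₂ X) : ℝ) : ℂ) := by
    rw [h.inner_sub_avg _ havg, hker]
    push_cast
    ring
  have hs := h.supp_sub_avg (F := kerChar M W₁ K d) (fun x hx => if_neg hx)
    (if_pos (by simp))
  have key := h.mass_lower (h.isClassFunction_sub_avg h.isClassFunction_kerChar) hs hn (η φ.1)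
  have hint : (1 : ℝ) ≤ ‖classInner (indFun M (kerChar M W₁ K d - avgChar X μ)) (η φ.1)‖ ^ 2 := by
    rw [hY, show (Nat.card W₁ : ℂ) * c + 1 = (((Nat.card W₁ : ℤ) * c + 1 : ℤ) : ℂ) by push_cast; rfl]
    refine one_le_pow₀ (one_le_norm_intCast fun e => ?_)
    have h3 : (3 : ℤ) ≤ Nat.card W₁ := by exact_mod_cast h.three_le.1
    rcases Int.eq_one_or_neg_one_of_mul_eq_neg_one' (show (Nat.card W₁ : ℤ) * c = -1 by omega) with
      ⟨e1, -⟩ | ⟨e1, -⟩ <;> omega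
  have hpos : (0 : ℝ) < (Nat.card W₁ : ℝ) * ((d : ℝ) + 1 / orbitCount W₁ W₂ X) := by
    have h2 := h.orbitCount_pos
    have h3 : (0 : ℝ) < Nat.card W₁ := by exact_mod_cast Nat.card_pos
    positivity
  rw [div_le_iff₀ hpos]
  calc (1 : ℝ) ≤ _ := hint
    _ ≤ _ := key
    _ = _ := by ring

/-- Mass of `η ψ`, `ψ ≠ 1` on the right, on the conjugates of the kernel. -/
theorem Ctx.mass_right_ge {ψ : Right W₁ W₂} (hψ : ψ.1 ≠ 1) :
    (1 - 1 / orbitCount W₁ W₂ X) / (Nat.card W₁ : ℝ) ≤ mass (conjAll (sharp K)) (η ψ.1) := by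
  set D := orbitCount W₁ W₂ X with hD
  have hD2 : (2 : ℝ) ≤ D := h.orbitCount_pos
  have hone : (leftOne : Left W₁ W₂).1 * ψ.1 = ψ.1 := by ext w; simp [leftOne]
  obtain ⟨ψ₀, hψ₀, s, hs1, hsum⟩ : ∃ (ψ₀ : Right W₁ W₂) (_ : ψ₀.1 ≠ 1) (s : ℝ), |s| = 1 ∧
      ((if ψ₀ = ψ then (1 : ℝ) else 0) * D - 1 + (Nat.card W₁ : ℝ) * X.card * b) =
        s * (D - 1) := by
    rcases hR.b_cases with hb | ⟨hp, hb⟩
    · exact ⟨ψ, hψ, 1, abs_one, by rw [if_pos rfl, hb]; push_cast; ring⟩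
    · obtain ⟨ψ', hψ', hne⟩ : ∃ ψ' : Right W₁ W₂, ψ'.1 ≠ 1 ∧ ψ' ≠ ψ := by
        by_contra hh
        push_neg at hh
        have : rightSet W₁ W₂ ⊆ {ψ} := fun y hy =>
          Finset.mem_singleton.2 (hh y (mem_rightSet.1 hy))
        have h1 := Finset.card_le_card this
        rw [Finset.card_singleton] at h1
        have h2 := h.card_rightSet
        rw [hp] at h2
        norm_num at h2
        have h3 : (rightSet W₁ W₂).card = 2 := by exact_mod_cast h2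
        omega
      refine ⟨ψ', hψ', -1, by simp, ?_⟩
      have hp' : (Nat.card W₂ : ℝ) = 3 := by exact_mod_cast hp
      rw [if_neg hne, hb, hD, orbitCount, hp']
      push_cast
      ring
  have hY : classInner (indFun M (colChar μ ψ₀ - avgChar X μ)) (η ψ.1) =
      ((s * (1 - 1 / D) : ℝ) : ℂ) := by
    rw [← hone, h.inner_ind_avg,
      Finset.sum_congr rfl fun y hy => h.inner_colChar_sub hψ₀ (mem_rightSet.1 hy) _ ψ,
      Finset.sum_congr rfl fun χ hχ => h.inner_image hR hψ₀ hχ _ ψ, Finset.sum_sub_distrib,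
      Finset.sum_ite_eq', if_pos (mem_rightSet.2 hψ), Finset.sum_const,
      Finset.sum_const, nsmul_eq_mul, nsmul_eq_mul]
    have e : ((coef b ψ₀ ψ : ℤ) : ℂ) = (b : ℂ) + if ψ₀ = ψ then 1 else 0 := by
      rcases eq_or_ne ψ₀ ψ with a | a
      · simp [coef, hψ, a]
      · simp [coef, hψ, a, a.symm]
    rw [e]
    have hD' : (D : ℂ) = ((rightSet W₁ W₂).card : ℂ) + (Nat.card W₁ : ℂ) * X.card :=
      h.orbitCount_cast
    have key : (((if ψ₀ = ψ then (1 : ℝ) else 0) * D - 1 + (Nat.card W₁ : ℝ) * X.card * b : ℝ) : ℂ)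
        = ((s * (D - 1) : ℝ) : ℂ) := by rw [hsum]
    have e2 : ((if ψ₀ = ψ then (1 : ℝ) else 0 : ℝ) : ℂ) = if ψ₀ = ψ then 1 else 0 := by
      split_ifs <;> simp
    push_cast [e2] at key ⊢
    have hne : (D : ℂ) ≠ 0 := by exact_mod_cast (by linarith : D ≠ 0)
    rw [← hD]
    field_simp
    linear_combination key - (if ψ₀ = ψ then (1 : ℂ) else 0) * hD'
  have hn : classInner (colChar μ ψ₀ - avgChar X μ) (colChar μ ψ₀ - avgChar X μ) =
      (((Nat.card W₁ : ℝ) * (1 - 1 / D) : ℝ) : ℂ) := by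
    rw [h.inner_sub_avg _ (c := (Nat.card W₁ : ℝ) / D)
      (by rw [h.inner_avg_col hψ₀, hD]; push_cast; rfl), h.colChar_inner, if_pos rfl, hD]
    push_cast
    ring
  have hs := h.supp_sub_avg (F := colChar μ ψ₀)
    (fun x hx => by rw [colChar, Finset.sum_apply, h.side.supp_sum ψ₀ hψ₀ x hx])
    (by rw [colChar, Finset.sum_apply, Finset.sum_congr rfl fun φ _ => h.side.deg_mu φ ψ₀ hψ₀,
      Finset.sum_const, Finset.card_univ, h.card_left, nsmul_eq_mul, Nat.cast_mul])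
  have key := h.mass_lower (h.isClassFunction_sub_avg (h.isClassFunction_colChar ψ₀)) hs hn (η ψ.1)
  rw [hY, Complex.norm_real, Real.norm_eq_abs, abs_mul, hs1, one_mul, sq_abs] at key
  have h1 : (0 : ℝ) < 1 - 1 / D := by
    have : 1 / D ≤ 1 / 2 := one_div_le_one_div_of_le (by norm_num) hD2
    linarith
  have hq : (0 : ℝ) < Nat.card W₁ := by exact_mod_cast Nat.card_pos
  rw [div_le_iff₀ hq]
  refine le_of_mul_le_mul_left ?_ h1
  calc (1 - 1 / D) * (1 - 1 / D) = (1 - 1 / D) ^ 2 := by ring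
    _ ≤ _ := key
    _ = _ := by ring

/-- Mass of a residual character on the conjugates of the kernel. -/
theorem Ctx.mass_gen_ge {χ₀ : ↥M → ℂ} (hχ₀ : χ₀ ∈ X) :
    1 - (Nat.card W₁ : ℝ) / orbitCount W₁ W₂ X ≤ mass (conjAll (sharp K)) (R χ₀) := by
  obtain ⟨ψ₁, hψ₁⟩ := h.exists_right
  set D := orbitCount W₁ W₂ X with hD
  have hDq : (Nat.card W₁ : ℝ) < D := by
    have h1 : (1 : ℝ) ≤ X.card := by exact_mod_cast Finset.card_pos.2 ⟨χ₀, hχ₀⟩
    have h2 : (3 : ℝ) ≤ Nat.card W₂ := by exact_mod_cast h.three_le.2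
    have h3 : (0 : ℝ) ≤ Nat.card W₁ := Nat.cast_nonneg _
    rw [hD, orbitCount]; nlinarith
  have hY : classInner (indFun M (χ₀ - avgChar X μ)) (R χ₀) =
      ((1 - (Nat.card W₁ : ℝ) / D : ℝ) : ℂ) := by
    have e1 : ∀ ψ ∈ rightSet W₁ W₂, classInner (indFun M (χ₀ - colChar μ ψ)) (R χ₀) = 1 := by
      intro ψ hψ
      rw [show χ₀ - colChar μ ψ = (0 : ℂ) • χ₀ - (colChar μ ψ - χ₀) by rw [zero_smul]; abel,
        Char.indFun_sub, classInner_sub_left, Char.indFun_smul, classInner_smul_left,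
        h.inner_image_R hR (mem_rightSet.1 hψ) hχ₀ hχ₀, if_pos rfl]
      ring
    have e2 : ∀ χ ∈ X, classInner (indFun M (χ₀ - χ)) (R χ₀) = 1 - if χ = χ₀ then 1 else 0 := by
      intro χ hχ
      rw [show χ₀ - χ = (colChar μ ψ₁ - χ) - (colChar μ ψ₁ - χ₀) by abel, Char.indFun_sub,
        classInner_sub_left, h.inner_image_R hR hψ₁ hχ hχ₀, h.inner_image_R hR hψ₁ hχ₀ hχ₀,
        if_pos rfl]
      split_ifs <;> ring
    rw [h.inner_ind_avg, Finset.sum_congr rfl e1, Finset.sum_congr rfl e2, Finset.sum_sub_distrib,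
      Finset.sum_ite_eq', if_pos hχ₀, Finset.sum_const, Finset.sum_const, nsmul_eq_mul,
      nsmul_eq_mul]
    have hD' : (D : ℂ) = ((rightSet W₁ W₂).card : ℂ) + (Nat.card W₁ : ℂ) * X.card :=
      h.orbitCount_cast
    have hne : (D : ℂ) ≠ 0 := h.orbitCount_ne
    push_cast
    rw [← hD]
    field_simp
    linear_combination -hD'
  have hn : classInner (χ₀ - avgChar X μ) (χ₀ - avgChar X μ) =
      ((1 - (Nat.card W₁ : ℝ) / D : ℝ) : ℂ) := by
    rw [h.inner_sub_avg _ (c := (Nat.card W₁ : ℝ) / D)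
      (by rw [h.inner_avg_X hχ₀, hD]; push_cast; rfl),
      classInner_irr_self (h.side.irr_X χ₀ hχ₀), hD]
    push_cast
    ring
  have hs := h.supp_sub_avg (F := χ₀) (h.side.supp_X χ₀ hχ₀) (h.side.deg_X χ₀ hχ₀)
  have key := h.mass_lower
    (h.isClassFunction_sub_avg (isClassFunction_of_isIrr (h.side.irr_X χ₀ hχ₀))) hs hn (R χ₀)
  rw [hY, Complex.norm_real, Real.norm_eq_abs, sq_abs] at key
  have h1 : (0 : ℝ) < 1 - (Nat.card W₁ : ℝ) / D := by
    have hq : (0 : ℝ) < D := lt_of_le_of_lt (Nat.cast_nonneg _) hDq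
    rw [sub_pos, div_lt_one hq]; exact hDq
  refine le_of_mul_le_mul_left ?_ h1
  calc (1 - (Nat.card W₁ : ℝ) / D) * (1 - (Nat.card W₁ : ℝ) / D) =
      (1 - (Nat.card W₁ : ℝ) / D) ^ 2 := by ring
    _ ≤ _ := key

end Cfsg.Agent.OddFinal
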