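import Mathlib

/-!
# Arithmetic for the overgroup of the normalizer of `U`
-/

set_option autoImplicit false

namespace Cfsg.Agent.OddFinal

theorem geom_eq {p q : ℕ} (hp : 2 ≤ p) :
    (p ^ q - 1) / (p - 1) = ∑ i ∈ Finset.range q, p ^ i := (Nat.geomSum_eq hp q).symm

theorem geom_mod {p q : ℕ} (hp : 2 ≤ p) (hq : 1 ≤ q) : (p ^ q - 1) / (p - 1) % p = 1 := by
  obtain ⟨r, rfl⟩ := Nat.exists_eq_succ_of_ne_zero (Nat.one_le_iff_ne_zero.1 hq)
  rw [geom_eq hp, Finset.sum_range_succ', pow_zero]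
  simp only [pow_succ]
  rw [← Finset.sum_mul, Nat.add_mod, Nat.mul_mod_left, zero_add, Nat.mod_mod,
    Nat.mod_eq_of_lt (by omega)]

theorem geom_ge_sq {p q : ℕ} (hp : 2 ≤ p) (hq : 3 ≤ q) :
    1 + p + p ^ 2 ≤ (p ^ q - 1) / (p - 1) := by
  rw [geom_eq hp]
  refine le_trans (le_of_eq ?_)
    (Finset.sum_le_sum_of_subset (Finset.range_mono hq))
  simp [Finset.sum_range_succ]

theorem geom_ge_pow {p q : ℕ} (hp : 2 ≤ p) (hq : 1 ≤ q) :
    p ^ (q - 1) ≤ (p ^ q - 1) / (p - 1) := by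
  rw [geom_eq hp]
  exact Finset.single_le_sum (fun i _ => Nat.zero_le _) (Finset.mem_range.2 (by omega))

theorem mod_q_of_dvd_geom {p q : ℕ} (hp : p.Prime) (hq : q.Prime)
    (hd : q ∣ (p ^ q - 1) / (p - 1)) : p % q = 1 := by
  haveI : Fact q.Prime := ⟨hq⟩
  have h1 : q ∣ p ^ q - 1 :=
    hd.trans (Nat.div_dvd_of_dvd (Nat.sub_one_dvd_pow_sub_one p q))
  have h2 : ((p ^ q - 1 : ℕ) : ZMod q) = 0 := (ZMod.natCast_eq_zero_iff _ _).2 h1
  rw [Nat.cast_sub (Nat.one_le_pow _ _ hp.pos), Nat.cast_pow, ZMod.pow_card, Nat.cast_one,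
    sub_eq_zero] at h2
  have h3 := congrArg ZMod.val h2
  rwa [ZMod.val_natCast, ZMod.val_one] at h3

/-- If `K` is bigger than `U` it is a lot bigger. -/
theorem ker_large {p q k u : ℕ} (hp : p.Prime) (hq : q.Prime) (hqp : q < p) (hq2 : q ≠ 2)
    (hk : k % (p * q) = 1) (hko : Odd k) (huk : u ∣ k) (huq : u % q = 1)
    (hu : u = (p ^ q - 1) / (p - 1) ∨ q * u = (p ^ q - 1) / (p - 1)) (hne : k ≠ u) :
    p * u < k ∧ p * q * (p * q - 1) + 1 < k := by
  have hq3 : 3 ≤ q := by have := hq.two_le; omega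
  have hkp : k % p = 1 := by
    rw [← Nat.mod_mul_right_mod k p q, hk, Nat.mod_eq_of_lt hp.one_lt]
  have hkq : k % q = 1 := by
    rw [← Nat.mod_mul_left_mod k p q, hk, Nat.mod_eq_of_lt hq.one_lt]
  obtain ⟨r, rfl⟩ := huk
  have hrq : r % q = 1 := by
    rw [Nat.mul_mod, huq, one_mul, Nat.mod_mod] at hkq; exact hkq
  obtain ⟨huo, hro⟩ := Nat.odd_mul.1 hko
  have hr1 : r ≠ 1 := fun e => hne (by rw [e, mul_one])
  have hNmod := geom_mod (p := p) hp.two_le (by omega : 1 ≤ q)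
  have hNsq := geom_ge_sq (p := p) hp.two_le hq3
  have hup : 0 < u := huo.pos
  have hcop : Nat.Coprime p q := (Nat.coprime_primes hp hq).2 (by omega)
  rcases hu with e | e
  · rw [← e] at hNmod hNsq
    have hrp : r % p = 1 := by
      rw [Nat.mul_mod, hNmod, one_mul, Nat.mod_mod] at hkp; exact hkp
    have h1 : p * q ∣ r - 1 :=
      hcop.mul_dvd_of_dvd_of_dvd (Nat.dvd_of_mod_eq_zero (Nat.sub_mod_eq_zero_of_mod_eq (by
        rw [hrp, Nat.mod_eq_of_lt hp.one_lt]))) (Nat.dvd_of_mod_eq_zero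
        (Nat.sub_mod_eq_zero_of_mod_eq (by rw [hrq, Nat.mod_eq_of_lt hq.one_lt])))
    obtain ⟨m, hm⟩ := h1
    have hm2 : 2 ≤ m := by
      rcases m with - | - | m
      · exfalso; rw [mul_zero] at hm; obtain ⟨i, rfl⟩ := hro; omega
      · exfalso
        have hpq : Odd (p * q) := Nat.odd_mul.2
          ⟨hp.odd_of_ne_two (by omega), hq.odd_of_ne_two hq2⟩
        obtain ⟨i, hi⟩ := hpq
        obtain ⟨j, rfl⟩ := hro
        rw [zero_add, mul_one, hi] at hm
        omega
      · omega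
    have hr : 2 * (p * q) + 1 ≤ r := by
      have : p * q * 2 ≤ p * q * m := Nat.mul_le_mul_left _ hm2
      obtain ⟨i, rfl⟩ := hro
      omega
    have h3 : u * (2 * (p * q) + 1) ≤ u * r := Nat.mul_le_mul_left u hr
    have h4 : p * q ≤ u := by nlinarith
    have h5 : p * q - 1 ≤ p * q := Nat.sub_le _ _
    have h6 : p ≤ p * q := Nat.le_mul_of_pos_right p hq.pos
    have hp2 := hp.two_le
    constructor
    · rw [mul_comm p u]
      exact Nat.mul_lt_mul_of_pos_left (by omega) hup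
    · obtain ⟨c, hc⟩ : ∃ c, p * q = c + 1 := ⟨p * q - 1, by omega⟩
      rw [hc] at h3 h4 ⊢
      rw [Nat.add_sub_cancel]
      nlinarith [Nat.mul_le_mul h4 (le_refl (c + 1))]
  · rw [← e] at hNmod hNsq
    have hpq1 : p % q = 1 := mod_q_of_dvd_geom hp hq (e ▸ dvd_mul_right q u)
    have hrp : r % p = q := by
      have h1 : (q * u * r) % p = r % p := by
        rw [Nat.mul_mod, hNmod, one_mul, Nat.mod_mod]
      have h2 : (q * u * r) % p = q := by
        rw [mul_assoc, Nat.mul_mod, hkp, mul_one, Nat.mod_mod, Nat.mod_eq_of_lt hqp]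
      omega
    obtain ⟨m, hm⟩ : ∃ m, r = q + p * m := ⟨r / p, by rw [← hrp, Nat.mod_add_div]⟩
    have hmq : m % q = 1 := by
      rw [hm, Nat.add_mod, Nat.mod_self, zero_add, Nat.mod_mod, Nat.mul_mod, hpq1, one_mul,
        Nat.mod_mod] at hrq
      exact hrq
    have hme : Even m := by
      have hpo := hp.odd_of_ne_two (by omega)
      have hqo := hq.odd_of_ne_two hq2
      subst hm
      rcases Nat.even_or_odd m with h | h
      · exact h
      · exact absurd hro (Nat.not_odd_iff_even.2 (hqo.add_odd (hpo.mul h)))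
    have hmq2 : q + 1 ≤ m := by
      obtain ⟨i, rfl⟩ := hme
      have := Nat.mod_add_div (i + i) q
      rw [hmq] at this
      rcases Nat.eq_zero_or_pos ((i + i) / q) with h0 | h0
      · rw [h0] at this; omega
      · nlinarith
    subst hm
    have hu1 : p * u < u * (q + p * m) := by
      rw [mul_comm p u]
      refine Nat.mul_lt_mul_of_pos_left ?_ hup
      have : p * (q + 1) ≤ p * m := Nat.mul_le_mul_left _ hmq2
      rw [mul_add, mul_one] at this
      omega
    refine ⟨hu1, ?_⟩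
    have hN : (q * u) * (q + p * (q + 1)) ≤ q * (u * (q + p * m)) := by
      rw [mul_assoc]
      exact Nat.mul_le_mul_left _ (Nat.mul_le_mul_left _ (by nlinarith))
    have hlt : q * (p * q * (p * q - 1) + 1) < (q * u) * (q + p * (q + 1)) := by
      obtain ⟨c, hc⟩ : ∃ c, p * q = c + 1 := ⟨p * q - 1, by
        have : 1 ≤ p * q := Nat.one_le_iff_ne_zero.2 (Nat.mul_ne_zero hp.ne_zero hq.ne_zero)
        omega⟩
      rw [hc, Nat.add_sub_cancel]
      rcases eq_or_ne q 3 with rfl | hq5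
      · obtain ⟨p', rfl⟩ : ∃ p', p = p' + 5 := ⟨p - 5, by
          rcases hp.eq_two_or_odd with h | h <;> omega⟩
        obtain rfl : c = 3 * p' + 14 := by omega
        refine lt_of_lt_of_le ?_ (Nat.mul_le_mul_right _ hNsq)
        nlinarith
      · have hq5' : 5 ≤ q := by
          rcases hq.eq_two_or_odd with h | h <;> omega
        have h6 : p ^ 4 ≤ q * u := e ▸ le_trans (Nat.pow_le_pow_right hp.pos (by omega : 4 ≤ q - 1))
          (geom_ge_pow hp.two_le (by omega))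
        have h7 : q ^ 3 < p ^ 3 := Nat.pow_lt_pow_left hqp (by omega)
        have h8 : p * q ≤ q + p * (q + 1) := by rw [mul_add, mul_one]; omega
        calc q * ((c + 1) * c + 1) ≤ q * (p * q) ^ 2 := by
              rw [hc]
              exact Nat.mul_le_mul_left _ (by nlinarith)
          _ = p ^ 2 * q ^ 3 := by ring
          _ < p ^ 2 * p ^ 3 := Nat.mul_lt_mul_of_pos_left h7 (pow_pos hp.pos _)
          _ = p ^ 4 * p := by ring
          _ ≤ p ^ 4 * (p * q) := Nat.mul_le_mul_left _ (Nat.le_mul_of_pos_right _ hq.pos)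
          _ ≤ q * u * (q + p * (q + 1)) := Nat.mul_le_mul h6 h8
    exact Nat.lt_of_mul_lt_mul_left (hlt.trans_le hN)

theorem sq_le_three_pow {a : ℕ} (ha : 4 ≤ a) : (a + 3) ^ 2 ≤ 3 ^ a := by
  induction a, ha using Nat.le_induction with
  | base => norm_num
  | succ b hb ih => rw [pow_succ 3 b]; nlinarith

theorem partner_large {p q : ℕ} (hp : p.Prime) (hq3 : 3 ≤ q) (hqp : q < p) (hp5 : p ≠ 5) :
    (p * q) ^ 2 ≤ (q ^ p - 1) / (q - 1) := by
  have hp7 : 7 ≤ p := by
    have h2 := hp.eq_two_or_odd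
    omega
  obtain ⟨a, rfl⟩ : ∃ a, p = a + 3 := ⟨p - 3, by omega⟩
  refine le_trans ?_ (geom_ge_pow (by omega) (by omega))
  rw [show a + 3 - 1 = 2 + a by omega, pow_add, mul_pow, mul_comm]
  exact Nat.mul_le_mul_left _
    ((sq_le_three_pow (by omega)).trans (Nat.pow_le_pow_left hq3 a))

end Cfsg.Agent.OddFinal
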