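import Cfsg.Agent.OddFinal.OvergroupFrame
import Cfsg.Agent.OddFinal.OvergroupArith

/-!
# The kernel of the overgroup of the normalizer of `U` is `U`

`Y` is the image of `Ind_K^L 1 - φ` for the Frobenius overgroup `L` with complement of order `e`, and `F` the image
of its coherent family. The bridge characters of the two members of the pair and the overgroup on the other side
force `|K| = |U|`.
-/

set_option autoImplicit false
set_option linter.unusedSectionVars false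

namespace Cfsg.Agent.OddFinal

open Cfsg Char
open scoped ComplexConjugate

universe u

variable {G : Type u} [Group G] [Fintype G] {W₁ W₂ : Subgroup G}
  {η : (↥(W₁ ⊔ W₂) →* ℂˣ) → G → ℂ} {ι ι' : Type*} [Fintype ι] [Fintype ι']
  {Y Y' : G → ℂ} {F : ι → G → ℂ} {n : ι → ℤ} {i₀ i₁ : ι}
  {F' : ι' → G → ℂ} {n' : ι' → ℤ} {j₀ j₁ : ι'}

/-- A bridge character over `η ω`, orthogonal to `Y` and to the differences of the family, with `r (N - 2) ≤ D`. -/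
def HasFrame (η : (↥(W₁ ⊔ W₂) →* ℂˣ) → G → ℂ) (Y : G → ℂ) (F : ι → G → ℂ) (n : ι → ℤ) (i₀ : ι)
    (r : ℕ) (D : ℤ) (ω : ↥(W₁ ⊔ W₂) →* ℂˣ) : Prop :=
  ∃ (N : ℤ) (Z : G → ℂ), Frame N Z (η ω) (η ω⁻¹) ∧ (r : ℤ) * (N - 2) ≤ D ∧
    classInner Z Y = 0 ∧ ∀ i, classInner Z (F i - (n i : ℂ) • F i₀) = 0

/-- What is used about the overgroup: the image `Y` of norm `e + 1` and the coherent family. -/
structure IsOver (η : (↥(W₁ ⊔ W₂) →* ℂˣ) → G → ℂ) (e k : ℕ) (Y : G → ℂ) (F : ι → G → ℂ) (n : ι → ℤ)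
    (i₀ i₁ : ι) : Prop where
  frame : Frame ((e : ℤ) + 1) Y (F i₀) (F i₁)
  fam : Fam F n i₀
  perp : ∀ i ω, classInner (F i) (η ω) = 0
  vanish : ∀ w ∈ vSet W₁ W₂, Y w = 0
  size : (k : ℤ) - 1 ≤ (e : ℤ) * ∑ i, n i ^ 2

/-- The same on the other side, with what links the two. -/
structure IsPartner (η : (↥(W₁ ⊔ W₂) →* ℂˣ) → G → ℂ) (e' N' : ℕ) (Y : G → ℂ) (F : ι → G → ℂ)
    (n : ι → ℤ) (i₀ : ι) (Y' : G → ℂ) (F' : ι' → G → ℂ) (n' : ι' → ℤ) (j₀ j₁ : ι') : Prop where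
  frame : Frame ((e' : ℤ) + 1) Y' (F' j₀) (F' j₁)
  fam : Fam F' n' j₀
  perp : ∀ j ω, classInner (F' j) (η ω) = 0
  size : (N' : ℤ) - 1 ≤ (e' : ℤ) * ∑ j, n' j ^ 2
  cross : ∀ i j, classInner (F i) (F' j) = 0
  orth : classInner Y Y' = 0
  diff : ∀ j, classInner Y (F' j - (n' j : ℂ) • F' j₀) = 0
  diff' : ∀ i, classInner Y' (F i - (n i : ℂ) • F i₀) = 0

theorem odd_coeff_ne_zero {X Z : G → ℂ} (h : ∃ c : ℤ, Odd c ∧ classInner X Z = (c : ℂ)) :
    classInner X Z ≠ 0 := by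
  obtain ⟨c, hc, e⟩ := h
  rw [e, Int.cast_ne_zero]
  rintro rfl
  exact Int.not_odd_zero hc

section

variable {e k : ℕ}

/-- Either the bridge sees the family, or `Y` has an odd coefficient at its `η ω`. -/
theorem IsOver.or_odd (hL : IsOver η e k Y F n i₀ i₁) (hodd : Odd (Nat.card G)) {r : ℕ} {D : ℤ}
    {ω : ↥(W₁ ⊔ W₂) →* ℂˣ} (h : HasFrame η Y F n i₀ r D ω) :
    (r : ℤ) * ∑ i, n i ^ 2 ≤ D ∨ ∃ c : ℤ, Odd c ∧ classInner Y (η ω) = (c : ℂ) := by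
  obtain ⟨N, Z, hZ, hN, hZY, hZF⟩ := h
  obtain ⟨a, b, ha, hb, hab⟩ := hL.frame.parity hodd hZ (inner_zero_symm hZY) (hL.perp _ _)
  rcases hab with h | h
  · exact Or.inr ⟨a, h, ha⟩
  · left
    have hb0 : b ≠ 0 := fun e => Int.not_odd_zero (e ▸ h)
    have h2 := hZ.family_bound' hL.fam (fun i => hL.perp i _) (fun i => hL.perp i _) hZF hb hb0
    exact (mul_le_mul_of_nonneg_left (by linarith) (Int.natCast_nonneg r)).trans hN

/-- The members of the family at which `Y` does not vanish fit into its norm. -/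
theorem IsOver.count (hL : IsOver η e k Y F n i₀ i₁) (hχ : IsCyclicTIFamily W₁ W₂ η)
    (S : Finset (↥(W₁ ⊔ W₂) →* ℂˣ)) (hS : ∀ ω ∈ S, ω ≠ 1) (hSc : ∀ ω ∈ S, classInner Y (η ω) ≠ 0) :
    2 + (S.card : ℤ) ≤ (e : ℤ) + 1 := by
  choose c hc using fun ω : S => classInner_generalized_int hL.frame.gen (eta_isGeneralized hχ ω.1)
  have h := hL.frame.bound (fun ω : S => η ω.1) (fun ω => eta_isGeneralized hχ _)
    (fun ω => eta_norm hχ _)
    (fun ω ω' h => by rw [hχ.orthonormal, if_neg fun e => h (Subtype.ext e)])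
    (fun ω => eta_inner_one hχ (hS _ ω.2)) (fun ω => inner_zero_symm (hL.perp _ _))
    (fun ω => inner_zero_symm (hL.perp _ _)) c hc
  have h4 : ∀ ω ∈ (Finset.univ : Finset S), (1 : ℤ) ≤ c ω ^ 2 := fun ω _ => by
    have h5 : c ω ≠ 0 := fun e => hSc _ ω.2 (by rw [hc ω, e, Int.cast_zero])
    have := sq_pos_of_ne_zero h5
    omega
  have h6 := Finset.sum_le_sum h4
  rw [Finset.sum_const, Finset.card_univ, nsmul_eq_mul, mul_one, Fintype.card_coe] at h6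
  linarith

/-- The same with the family of the partner, if `Y` sees it. -/
theorem IsOver.count_partner (hL : IsOver η e k Y F n i₀ i₁) (hχ : IsCyclicTIFamily W₁ W₂ η)
    {e' N' : ℕ} (hT : IsPartner η e' N' Y F n i₀ Y' F' n' j₀ j₁) {a : ℤ}
    (ha : classInner Y (F' j₀) = (a : ℂ)) (ha0 : a ≠ 0) (S : Finset (↥(W₁ ⊔ W₂) →* ℂˣ))
    (hS : ∀ ω ∈ S, ω ≠ 1) (hSc : ∀ ω ∈ S, classInner Y (η ω) ≠ 0) :
    2 + ∑ j, n' j ^ 2 + (S.card : ℤ) ≤ (e : ℤ) + 1 := by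
  have h := hL.frame.family_bound hT.fam (fun j => inner_zero_symm (hT.cross _ j))
    (fun j => inner_zero_symm (hT.cross _ j)) hT.diff ha ha0 (fun ω : S => η ω.1)
    (fun ω => eta_isGeneralized hχ _) (fun ω => eta_norm hχ _)
    (fun ω ω' h => by rw [hχ.orthonormal, if_neg fun e => h (Subtype.ext e)])
    (fun ω => eta_inner_one hχ (hS _ ω.2)) (fun ω => inner_zero_symm (hL.perp _ _))
    (fun ω => inner_zero_symm (hL.perp _ _)) (fun j ω => hT.perp j _) (fun ω => hSc _ ω.2)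
  rwa [Fintype.card_coe] at h

end

theorem card_hom (hW : IsSelfNormalizingCyclic W₁ W₂) [Fintype (↥(W₁ ⊔ W₂) →* ℂˣ)] :
    Fintype.card (↥(W₁ ⊔ W₂) →* ℂˣ) = Nat.card W₁ * Nat.card W₂ := by
  rw [← Fintype.card_congr (coords hW), Fintype.card_prod, card_left hW, card_right hW]

/-- If `Y` has odd coefficients on both axes it has one everywhere. -/
theorem odd_everywhere (hW : IsSelfNormalizingCyclic W₁ W₂) (hχ : IsCyclicTIFamily W₁ W₂ η)
    (hY : IsGeneralizedCharacter G Y) (hYV : ∀ w ∈ vSet W₁ W₂, Y w = 0)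
    (hY1 : classInner Y (fun _ => 1) = 1)
    (hA : ∀ φ : Left W₁ W₂, φ.1 ≠ 1 → ∃ c : ℤ, Odd c ∧ classInner Y (η φ.1) = (c : ℂ))
    (hB : ∀ ψ : Right W₁ W₂, ψ.1 ≠ 1 → ∃ c : ℤ, Odd c ∧ classInner Y (η ψ.1) = (c : ℂ))
    (ω : ↥(W₁ ⊔ W₂) →* ℂˣ) : ∃ c : ℤ, Odd c ∧ classInner Y (η ω) = (c : ℂ) := by
  obtain ⟨⟨φ, ψ⟩, rfl⟩ := (coords hW).surjective ω
  rw [coords_apply]
  have h1 : ∃ c : ℤ, Odd c ∧ classInner Y (η φ.1) = (c : ℂ) := by
    by_cases h : φ.1 = 1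
    · exact ⟨1, odd_one, by rw [h, hχ.map_one, hY1, Int.cast_one]⟩
    · exact hA φ h
  have h2 : ∃ c : ℤ, Odd c ∧ classInner Y (η ψ.1) = (c : ℂ) := by
    by_cases h : ψ.1 = 1
    · exact ⟨1, odd_one, by rw [h, hχ.map_one, hY1, Int.cast_one]⟩
    · exact hB ψ h
  obtain ⟨a, ⟨x, rfl⟩, ha⟩ := h1
  obtain ⟨b, ⟨y, rfl⟩, hb⟩ := h2
  refine ⟨2 * x + 1 + (2 * y + 1) - 1, ⟨x + y, by ring⟩, ?_⟩
  rw [eta_coeff hχ (IsGen.isClassFunction hY) hYV φ ψ, ha, hb, hY1]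
  push_cast
  ring

variable {u d k p q : ℕ}

/-- `e = q`: then `|K| = |U|`. -/
theorem IsOver.card_eq_of_small (hL : IsOver η q k Y F n i₀ i₁) (hodd : Odd (Nat.card G))
    (hW : IsSelfNormalizingCyclic W₁ W₂) (hχ : IsCyclicTIFamily W₁ W₂ η)
    (hp : Nat.card W₂ = p) (hqp : q < p) (hk0 : 0 < k) (huk : u ∣ k) (hdu : d ≤ u)
    (hS : ∀ ψ : Right W₁ W₂, ψ.1 ≠ 1 → HasFrame η Y F n i₀ q ((d : ℤ) - 1) ψ.1) : k = u := by
  classical
  by_cases hg : (q : ℤ) * ∑ i, n i ^ 2 ≤ (d : ℤ) - 1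
  · have h1 : (k : ℤ) ≤ (d : ℤ) := by linarith [hL.size]
    have h2 : u ≤ k := Nat.le_of_dvd hk0 huk
    omega
  · exfalso
    let S : Finset (↥(W₁ ⊔ W₂) →* ℂˣ) :=
      (Finset.univ.filter fun ψ : Right W₁ W₂ => ψ ≠ rightOne).image Subtype.val
    have hmem : ∀ ω ∈ S, ∃ ψ : Right W₁ W₂, ψ.1 ≠ 1 ∧ ψ.1 = ω := by
      intro ω hω
      obtain ⟨ψ, hψ, rfl⟩ := Finset.mem_image.1 hω
      exact ⟨ψ, fun e => (Finset.mem_filter.1 hψ).2 (Subtype.ext e), rfl⟩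
    have h := hL.count hχ S (fun ω hω => by obtain ⟨ψ, h1, rfl⟩ := hmem ω hω; exact h1)
      (fun ω hω => by
        obtain ⟨ψ, h1, rfl⟩ := hmem ω hω
        exact odd_coeff_ne_zero ((hL.or_odd hodd (hS ψ h1)).resolve_left hg))
    have hcard : S.card = p - 1 := by
      rw [Finset.card_image_of_injective _ Subtype.val_injective, Finset.filter_ne',
        Finset.card_erase_of_mem (Finset.mem_univ _), Finset.card_univ, card_right hW, hp]
    rw [hcard] at h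
    omega

/-- `e = p q`: then `|K| = |U|`. -/
theorem IsOver.card_eq_of_large (hL : IsOver η (p * q) k Y F n i₀ i₁) (hodd : Odd (Nat.card G))
    (hW : IsSelfNormalizingCyclic W₁ W₂) (hχ : IsCyclicTIFamily W₁ W₂ η)
    (hp : p.Prime) (hq : q.Prime) (hq2 : q ≠ 2) (hqp : q < p)
    (hq₁ : Nat.card W₁ = q) (hp₂ : Nat.card W₂ = p)
    (hk : k % (p * q) = 1) (hko : Odd k) (huk : u ∣ k) (huq : u % q = 1) (hdu : d ≤ u)
    (hu : u = (p ^ q - 1) / (p - 1) ∨ q * u = (p ^ q - 1) / (p - 1))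
    (hS : ∀ ψ : Right W₁ W₂, ψ.1 ≠ 1 → HasFrame η Y F n i₀ q ((d : ℤ) - 1) ψ.1)
    {e' : ℕ} (hT : IsPartner η e' ((q ^ p - 1) / (q - 1)) Y F n i₀ Y' F' n' j₀ j₁)
    (he' : e' = p ∨ e' = p * q ∧ ∀ φ : Left W₁ W₂, φ.1 ≠ 1 →
      HasFrame η Y F n i₀ p ((((q ^ p - 1) / (q - 1) : ℕ) : ℤ) - 1) φ.1) :
    k = u := by
  classical
  by_contra hne
  obtain ⟨hbig, hbig'⟩ := ker_large hp hq hqp hq2 hk hko huk huq hu hne
  have hq3 : 3 ≤ q := by have := hq.two_le; omega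
  have hsz := hL.size
  push_cast at hsz
  -- every coefficient of `Y` on the axis of `W₂` is odd
  have hb : ∀ ψ : Right W₁ W₂, ψ.1 ≠ 1 → ∃ c : ℤ, Odd c ∧ classInner Y (η ψ.1) = (c : ℂ) := by
    intro ψ hψ
    refine (hL.or_odd hodd (hS ψ hψ)).resolve_left fun hg => ?_
    have h1 : (p : ℤ) * ((q : ℤ) * ∑ i, n i ^ 2) ≤ (p : ℤ) * ((d : ℤ) - 1) :=
      mul_le_mul_of_nonneg_left hg (Int.natCast_nonneg p)
    have h2 : (p : ℤ) * (d : ℤ) ≤ (p : ℤ) * (u : ℤ) :=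
      mul_le_mul_of_nonneg_left (by exact_mod_cast hdu) (Int.natCast_nonneg p)
    have h3 : ((p * u : ℕ) : ℤ) < (k : ℤ) := by exact_mod_cast hbig
    push_cast at h3
    have := hp.two_le
    nlinarith
  have hbk : (p : ℤ) * q * ((p : ℤ) * q - 1) + 1 < (k : ℤ) := by
    have h1 : 1 ≤ p * q := Nat.one_le_iff_ne_zero.2 (Nat.mul_ne_zero hp.ne_zero hq.ne_zero)
    have h2 := (Nat.cast_lt (α := ℤ)).2 hbig'
    push_cast [Nat.cast_sub h1] at h2
    linarith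
  obtain ⟨a, b, ha, hb', hab⟩ := hL.frame.parity hodd hT.frame hT.orth (hT.cross _ _)
  have he'le : e' ≤ p * q := by
    rcases he' with rfl | ⟨rfl, -⟩
    · exact Nat.le_mul_of_pos_right _ hq.pos
    · exact le_rfl
  have he'Z : (e' : ℤ) ≤ (p : ℤ) * q := by exact_mod_cast he'le
  have hpq0 : (0 : ℤ) ≤ (p : ℤ) * q := by positivity
  rcases hab with h | h
  swap
  · have hb0 : b ≠ 0 := fun e => Int.not_odd_zero (e ▸ h)
    have h2 := hT.frame.family_bound' hL.fam (fun i => hT.cross i _) (fun i => hT.cross i _)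
      hT.diff' hb' hb0
    have h3 : ∑ i, n i ^ 2 ≤ (p : ℤ) * q - 1 := by linarith
    nlinarith [mul_le_mul_of_nonneg_left h3 hpq0]
  have ha0 : a ≠ 0 := fun e => Int.not_odd_zero (e ▸ h)
  let S : Finset (↥(W₁ ⊔ W₂) →* ℂˣ) :=
    (Finset.univ.filter fun ψ : Right W₁ W₂ => ψ ≠ rightOne).image Subtype.val
  have hmem : ∀ ω ∈ S, ∃ ψ : Right W₁ W₂, ψ.1 ≠ 1 ∧ ψ.1 = ω := by
    intro ω hω
    obtain ⟨ψ, hψ, rfl⟩ := Finset.mem_image.1 hω
    exact ⟨ψ, fun e => (Finset.mem_filter.1 hψ).2 (Subtype.ext e), rfl⟩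
  have hSp : (S.card : ℤ) = (p : ℤ) - 1 := by
    rw [Finset.card_image_of_injective _ Subtype.val_injective, Finset.filter_ne',
      Finset.card_erase_of_mem (Finset.mem_univ _), Finset.card_univ, card_right hW, hp₂,
      Nat.cast_sub hp.one_lt.le, Nat.cast_one]
  have h1 := hL.count_partner hχ hT ha ha0 S
    (fun ω hω => by obtain ⟨ψ, h1, rfl⟩ := hmem ω hω; exact h1)
    (fun ω hω => by obtain ⟨ψ, h1, rfl⟩ := hmem ω hω; exact odd_coeff_ne_zero (hb ψ h1))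
  push_cast at h1
  rw [hSp] at h1
  have hn' : ∑ j, n' j ^ 2 ≤ (p : ℤ) * q - p := by linarith
  have hn0 : (0 : ℤ) ≤ ∑ j, n' j ^ 2 := Finset.sum_nonneg fun _ _ => sq_nonneg _
  have hsz' := hT.size
  by_cases hp5 : p = 5
  · subst hp5
    obtain rfl : q = 3 := by
      rcases hq.eq_two_or_odd with h | h <;> omega
    rcases he' with rfl | ⟨rfl, hTf⟩
    · norm_num at hsz'; push_cast at hn'; linarith
    have hk961 : 961 ≤ k := by
      rcases hu with e | e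
      · norm_num at e
        subst e
        obtain ⟨r, rfl⟩ := huk
        obtain ⟨i, hi⟩ := (Nat.odd_mul.1 hko).2
        omega
      · norm_num at e
        omega
    have hφ : ∀ φ : Left W₁ W₂, φ.1 ≠ 1 → ∃ c : ℤ, Odd c ∧ classInner Y (η φ.1) = (c : ℂ) := by
      intro φ hφ
      refine (hL.or_odd hodd (hTf φ hφ)).resolve_left fun hg => ?_
      norm_num at hg hsz
      have : (961 : ℤ) ≤ (k : ℤ) := by exact_mod_cast hk961
      linarith
    have hall := odd_everywhere hW hχ hL.frame.gen hL.vanish hL.frame.one hφ hb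
    have := CyclicTI.finite_hom (W₁ ⊔ W₂)
    let _ := Fintype.ofFinite (↥(W₁ ⊔ W₂) →* ℂˣ)
    have h2 := hL.count_partner hχ hT ha ha0 (Finset.univ.erase 1)
      (fun ω hω => (Finset.mem_erase.1 hω).1) (fun ω _ => odd_coeff_ne_zero (hall ω))
    rw [Finset.card_erase_of_mem (Finset.mem_univ _), Finset.card_univ, card_hom hW, hq₁, hp₂]
      at h2
    norm_num at h2 hsz'
    linarith
  · have hN' : ((p : ℤ) * q) ^ 2 ≤ (((q ^ p - 1) / (q - 1) : ℕ) : ℤ) := by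
      exact_mod_cast partner_large hp hq3 hqp hp5
    have h3 : (e' : ℤ) * ∑ j, n' j ^ 2 ≤ (p : ℤ) * q * ((p : ℤ) * q - p) :=
      mul_le_mul he'Z hn' hn0 hpq0
    have h4 : (1 : ℤ) < (p : ℤ) * q * p := by
      have := hp.two_le
      have := hq.two_le
      exact_mod_cast (by nlinarith : 1 < p * q * p)
    nlinarith

end Cfsg.Agent.OddFinal
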