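import Cfsg.Agent.OddFinal.OvergroupCore
import Cfsg.Agent.OddFinal.EtaUnique
import Cfsg.Agent.OddCharTypeI.Frobenius
import Cfsg.Agent.OddTypeOne.Uncond

/-!
# The coherent family of a maximal subgroup of type I and the image of `Ind_K^L 1 - φ`
-/

set_option autoImplicit false
set_option linter.unusedSectionVars false

namespace Cfsg.Agent.OddFinal

open Cfsg Char
open Cfsg.Agent.Coherence (SIrr)
open scoped ComplexConjugate

universe u

variable {G : Type u} [Group G] [Fintype G]

theorem conjFun_add' {X : Type*} (f g : X → ℂ) : conjFun (f + g) = conjFun f + conjFun g :=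
  funext fun x => by simp [conjFun]

theorem conjFun_sub' {X : Type*} (f g : X → ℂ) : conjFun (f - g) = conjFun f - conjFun g :=
  funext fun x => by simp [conjFun]

theorem dade_sub {A : Set G} {L : Subgroup G} {H : G → Subgroup G} (α β : ↥L → ℂ) :
    dadeIsometry A L H (α - β) = dadeIsometry A L H α - dadeIsometry A L H β := by
  funext g
  simp only [dadeIsometry, Pi.sub_apply]
  split_ifs <;> simp

theorem conjFun_dade {A : Set G} {L : Subgroup G} {H : G → Subgroup G} (α : ↥L → ℂ) :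
    conjFun (dadeIsometry A L H α) = dadeIsometry A L H (conjFun α) := by
  funext g
  simp only [conjFun, dadeIsometry]
  split_ifs <;> simp

/-- A signed irreducible character is not minus its conjugate, and is orthogonal to it unless real. -/
theorem SIrr.orth_conj {a : G → ℂ} (ha : SIrr G a) (hne : conjFun a ≠ a) :
    classInner (conjFun a) a = 0 := by
  have hb : SIrr G (conjFun a) := by
    rcases ha with h | h
    · exact Or.inl (Coherence.isIrr_conjFun h)
    · refine Or.inr ?_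
      rw [show -conjFun a = conjFun (-a) from funext fun x => by simp [conjFun]]
      exact Coherence.isIrr_conjFun h
  rcases hb.inner_cases ha with h | ⟨h, -⟩ | ⟨h, -⟩
  · exact h
  · exact absurd h hne
  · exfalso
    have h1 : conj (a 1) = -(a 1) := congrFun h 1
    have h2 : ∃ r : ℤ, a 1 = (r : ℂ) := by
      rcases ha with h' | h'
      · obtain ⟨m, -, hm⟩ := IsIrr.degree h'; exact ⟨m, by rw [hm]; simp⟩
      · obtain ⟨m, -, hm⟩ := IsIrr.degree h'
        refine ⟨-m, ?_⟩
        simp only [Pi.neg_apply] at hm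
        rw [Int.cast_neg, Int.cast_natCast, ← hm, neg_neg]
    obtain ⟨r, hr⟩ := h2
    rw [hr, map_intCast] at h1
    have : (r : ℤ) = 0 := by
      have h3 : r = -r := by exact_mod_cast h1
      omega
    exact ha.apply_one_ne_zero (by rw [hr, this, Int.cast_zero])

/-- If `a - b` is anti-real for orthogonal signed irreducibles orthogonal to `1`, then `b` is the conjugate of `a`. -/
theorem conj_eq_of_anti {a b : G → ℂ} (hodd : Odd (Nat.card G)) (ha : SIrr G a) (hb : SIrr G b)
    (hab : classInner a b = 0) (h : conjFun (a - b) = -(a - b)) :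
    conjFun a = b ∧ conjFun a ≠ a ∧ classInner a (fun _ => 1) = 0 := by
  have h1 : SIrr G (fun _ => (1 : ℂ)) := Or.inl isIrrCharacter_one
  have hc : ∀ c : G → ℂ, SIrr G c →
      classInner (conjFun c) (fun _ => 1) = classInner c (fun _ => 1) := by
    intro c hc
    obtain ⟨z, hz⟩ := classInner_generalized_int hc.isGeneralized h1.isGeneralized
    rw [show (fun _ : G => (1 : ℂ)) = conjFun (fun _ => 1) from funext fun _ => by simp [conjFun],
      Coherence.classInner_conjFun, ← classInner_conj_symm,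
      show conjFun (fun _ : G => (1 : ℂ)) = (fun _ => 1) from funext fun _ => by simp [conjFun],
      hz, map_intCast]
  rw [conjFun_sub'] at h
  have he : conjFun a + a = conjFun b + b := by linear_combination h
  have hone : classInner a (fun _ => 1) = classInner b (fun _ => 1) := by
    have := congrArg (fun f => classInner f (fun _ : G => (1 : ℂ))) he
    simp only [classInner_add_left, hc a ha, hc b hb] at this
    linear_combination this / 2
  have ha1 : classInner a (fun _ => 1) = 0 := by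
    rcases ha.inner_cases h1 with e | ⟨e, -⟩ | ⟨e, e'⟩
    · exact e
    · subst e
      rw [hone, ← classInner_conj_symm, hab, map_zero]
    · exfalso
      have e2 : classInner b (fun _ => 1) = 0 := by
        have e3 : classInner (-a) b = 0 := by rw [classInner_neg_left, hab, neg_zero]
        rw [e, neg_neg] at e3
        rw [← classInner_conj_symm, e3, map_zero]
      rw [e', e2] at hone
      norm_num at hone
  have hne : ∀ c : G → ℂ, SIrr G c → classInner c (fun _ => 1) = 0 → conjFun c ≠ c := by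
    intro c hc hc1 e
    rcases hc with hi | hi
    · have := eq_one_of_conjFun_eq hodd hi e
      rw [this, classInner_irr_self isIrrCharacter_one] at hc1
      exact one_ne_zero hc1
    · have := eq_one_of_conjFun_eq hodd hi (by
        funext x; have := congrFun e x; simp only [conjFun, Pi.neg_apply, map_neg] at this ⊢
        rw [this])
      have h2 : c = -(fun _ => (1 : ℂ)) := by rw [← this, neg_neg]
      rw [h2, classInner_neg_left, classInner_irr_self isIrrCharacter_one] at hc1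
      norm_num at hc1
  have hna := hne a ha ha1
  have hnb := hne b hb (hone ▸ ha1)
  refine ⟨?_, hna, ha1⟩
  have h2 := congrArg (fun f => classInner f b) he
  simp only [classInner_add_left, hab, SIrr.orth_conj hb hnb, hb.inner_self, add_zero, zero_add] at h2
  have hca : SIrr G (conjFun a) := by
    rcases ha with h | h
    · exact Or.inl (Coherence.isIrr_conjFun h)
    · refine Or.inr ?_
      rw [show -conjFun a = conjFun (-a) from funext fun x => by simp [conjFun]]
      exact Coherence.isIrr_conjFun h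
  rcases hca.inner_cases hb with e | ⟨e, -⟩ | ⟨-, e⟩
  · exact absurd (e.symm.trans h2) (by norm_num)
  · exact e
  · exact absurd (e.symm.trans h2) (by norm_num)

variable {W₁ W₂ : Subgroup G} {η : (↥(W₁ ⊔ W₂) →* ℂˣ) → G → ℂ}

/-- A non-real signed irreducible character that agrees with its conjugate on `V` is orthogonal to the family. -/
theorem perp_eta (hW : IsSelfNormalizingCyclic W₁ W₂) (hodd : Odd (Nat.card G))
    (hχ : IsCyclicTIFamily W₁ W₂ η) {a : G → ℂ} (ha : SIrr G a) (ha1 : classInner a (fun _ => 1) = 0)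
    (hV : ∀ w ∈ vSet W₁ W₂, conjFun a w = a w) (ω : ↥(W₁ ⊔ W₂) →* ℂˣ) :
    classInner a (η ω) = 0 := by
  have hWodd : Odd (Nat.card ↥(W₁ ⊔ W₂)) := hodd.of_dvd_nat (Subgroup.card_subgroup_dvd_card _)
  have key : ∀ c : ℂ, (c = 1 ∨ c = -1) → a = c • η ω → classInner a (η ω) = 0 := by
    intro c hc e
    exfalso
    have h2 : ∀ w : ↥(W₁ ⊔ W₂), (w : G) ∈ vSet W₁ W₂ →
        (((ω⁻¹ * ω⁻¹) : ↥(W₁ ⊔ W₂) →* ℂˣ) w : ℂ) = 1 := by
      intro w hw
      have h3 := hV w hw
      rw [e] at h3
      simp only [conjFun, Pi.smul_apply, smul_eq_mul, map_mul,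
        hχ.eq_on ω w hw.2.1 hw.2.2, conj_hom] at h3
      have h4 : ((ω⁻¹ : ↥(W₁ ⊔ W₂) →* ℂˣ) w : ℂ) = (ω w : ℂ) := by
        rcases hc with rfl | rfl <;> simpa using h3
      rw [MonoidHom.mul_apply, Units.val_mul]
      nth_rw 2 [h4]
      rw [MonoidHom.inv_apply, ← Units.val_mul, inv_mul_cancel, Units.val_one]
    obtain ⟨h5, -⟩ := hom_eq_one_of_const hW hWodd h2
    have hω : ω = 1 := by
      obtain ⟨m, hm⟩ := hWodd
      refine MonoidHom.ext fun w => ?_
      have h7 : (ω w)⁻¹ * (ω w)⁻¹ = 1 := by simpa using DFunLike.congr_fun h5 w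
      have h8 : (ω w) ^ Nat.card ↥(W₁ ⊔ W₂) = 1 := by
        rw [← map_pow, pow_card_eq_one', map_one]
      have h9 : ω w * ω w = 1 := by rw [← inv_inj, mul_inv, inv_one, h7]
      rw [hm, pow_succ, pow_mul, sq, h9, one_pow, one_mul] at h8
      exact h8
    rw [e, hω, hχ.map_one, classInner_smul_left, classInner_irr_self isIrrCharacter_one,
      mul_one] at ha1
    rcases hc with rfl | rfl <;> norm_num at ha1
  rcases ha.inner_cases (β := η ω) (hχ.irr_or_neg ω) with h | ⟨h, -⟩ | ⟨h, -⟩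
  · exact h
  · exact key 1 (Or.inl rfl) (by rw [one_smul, h])
  · exact key (-1) (Or.inr rfl) (by rw [neg_one_smul, h])

variable {ι ι' : Type*} [Fintype ι] [Fintype ι']

/-- A coherent family with what its construction gives: everything lives on the set `S`. -/
structure IsOverFamily (S : Set G) (η : (↥(W₁ ⊔ W₂) →* ℂˣ) → G → ℂ) (e k : ℕ) (Y : G → ℂ)
    (F : ι → G → ℂ) (n : ι → ℤ) (i₀ i₁ : ι) : Prop extends IsOver η e k Y F n i₀ i₁ where
  size_eq : (e : ℤ) * ∑ i, n i ^ 2 = (k : ℤ) - 1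
  sirr : ∀ i, SIrr G (F i)
  conj_ne : ∀ i, conjFun (F i) ≠ F i
  conj_eq : ∀ i, ∀ g ∉ S, conjFun (F i) g = F i g
  off : ∀ g ∉ S, Y g = 0
  diff_off : ∀ i, ∀ g ∉ S, (F i - (n i : ℂ) • F i₀) g = 0

variable {S S' : Set G} {e e' k k' : ℕ} {Y Y' : G → ℂ} {F : ι → G → ℂ} {n : ι → ℤ} {i₀ i₁ : ι}
  {F' : ι' → G → ℂ} {n' : ι' → ℤ} {j₀ j₁ : ι'}

/-- What a function vanishing on `S` sees of the family. -/
theorem IsOverFamily.inner_eq_zero (h : IsOverFamily S η e k Y F n i₀ i₁) {Z : G → ℂ}
    (hZ : ∀ g ∈ S, Z g = 0) :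
    classInner Z Y = 0 ∧ ∀ i, classInner Z (F i - (n i : ℂ) • F i₀) = 0 :=
  ⟨classInner_eq_zero_of_disjoint fun g =>
      (em (g ∈ S)).imp (hZ g) (h.off g),
    fun i => classInner_eq_zero_of_disjoint fun g =>
      (em (g ∈ S)).imp (hZ g) (h.diff_off i g)⟩

/-- Two families on disjoint sets form partners. -/
theorem IsOverFamily.isPartner (h : IsOverFamily S η e k Y F n i₀ i₁)
    (h' : IsOverFamily S' η e' k' Y' F' n' j₀ j₁) (hS : Disjoint S S') {N' : ℕ} (hN : N' ≤ k') :
    IsPartner η e' N' Y F n i₀ Y' F' n' j₀ j₁ := by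
  refine ⟨h'.frame, h'.fam, h'.perp, ?_, fun i j => ?_,
    (h'.inner_eq_zero fun g hg => h.off g (Set.disjoint_right.1 hS hg)).1,
    (h'.inner_eq_zero fun g hg => h.off g (Set.disjoint_right.1 hS hg)).2,
    (h.inner_eq_zero fun g hg => h'.off g (Set.disjoint_left.1 hS hg)).2⟩
  · rw [h'.size_eq]
    have : (N' : ℤ) ≤ (k' : ℤ) := by exact_mod_cast hN
    linarith
  · refine (orth_of_diff_orth (h.sirr i) (h'.sirr j) (h.conj_ne i) (h'.conj_ne j)
      (classInner_eq_zero_of_disjoint fun g => ?_)).1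
    by_cases hg : g ∈ S
    · right
      rw [Pi.sub_apply, h'.conj_eq j g (Set.disjoint_left.1 hS hg), sub_self]
    · left
      rw [Pi.sub_apply, h.conj_eq i g hg, sub_self]

/-- The kernel index of a type I subgroup and the family of Ind from its kernel. -/
theorem exists_overFamily (hG : IsMinSimpleOddOrder G) (hodd : Odd (Nat.card G)) {L : Subgroup G}
    (hL : IsCoatom L) (hI : IsOfTypeI L) (hW : IsSelfNormalizingCyclic W₁ W₂)
    (hχ : IsCyclicTIFamily W₁ W₂ η)
    (hdis : Disjoint (Coherence.Dade.support (typeA L) (supportR L)) (vSet W₁ W₂)) :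
    ∃ (ι : Type u) (_ : Fintype ι) (Y : G → ℂ) (F : ι → G → ℂ) (n : ι → ℤ) (i₀ i₁ : ι),
      IsOverFamily (Coherence.Dade.support (typeA L) (supportR L)) η (fittingHall L).index
        (Nat.card (fittingHallOf L)) Y F n i₀ i₁ := by
  classical
  let _ := Fintype.ofFinite ↥L
  have hfrob : ∀ x ∈ fittingHallOf L, x ≠ 1 →
      L ⊓ Subgroup.centralizer ({x} : Set G) ≤ fittingHallOf L :=
    fun x hx hx1 => OddTypeOne.frobenius_of_typeI (OddTypeOne.tau2Empty hG) hG hL hI hx hx1
  obtain ⟨hirr, -, τ₁, hτ₁, hag⟩ := OddCharTypeI.main hfrob hG hL hI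
  obtain ⟨hK1, hK2, hLodd⟩ := OddCharTypeI.kernel_facts hG hI
  have hC := OddCharTypeI.cent_le hfrob
  have hnil := Coherence.FrobKernel.isNilpotent hC hK2
  obtain ⟨a, b, c⟩ := OddLocal.attached_cases hG hL (A := typeA L) (Or.inr (Or.inl rfl))
  have hD := (OddLocal.dade_of_subset hG hL a b c).2
  set S := Coherence.Dade.support (typeA L) (supportR L) with hSdef
  set T := dadeIsometry (typeA L) L (supportR L) with hT
  set K := fittingHall L with hK
  set e := K.index with he
  have he0 : (e : ℂ) ≠ 0 := Nat.cast_ne_zero.2 K.index_ne_zero_of_finite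
  let Fs := inducedIrrAbove K ⊥
  have hfin : Fs.Finite := OddChars.inducedIrrAbove_finite
  let _ : Fintype ↥Fs := hfin.fintype
  have hdeg : ∀ χ : ↥Fs, ∃ m : ℕ, χ.1 1 = (e : ℂ) * (m : ℂ) := fun χ => by
    obtain ⟨θ, hθ, e1⟩ := OddChars.mem_inducedIrrAbove.1 χ.2
    obtain ⟨m, -, hm⟩ := IsIrr.degree hθ.1
    exact ⟨m, by rw [e1, indFun_apply_one, hm]⟩
  choose m hm using hdeg
  obtain ⟨θ, hθ, hθ1⟩ := OddChars.exists_linear_above (K := K) (A := ⊥) inferInstance
    (bot_lt_iff_ne_bot.2 hK1)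
  let i₀ : ↥Fs := ⟨indFun K θ, OddChars.mem_inducedIrrAbove.2 ⟨θ, hθ, rfl⟩⟩
  let cj : ↥Fs → ↥Fs := fun χ => ⟨conjFun χ.1, OddChars.inducedIrrAbove_conj_mem χ.2⟩
  have hφ1 : i₀.1 1 = (e : ℂ) := by
    show indFun K θ 1 = _
    rw [indFun_apply_one, hθ1, mul_one]
  have hm0 : m i₀ = 1 := by
    have := hm i₀
    rw [hφ1] at this
    have h2 : (e : ℂ) * 1 = (e : ℂ) * (m i₀ : ℂ) := by rwa [mul_one]
    exact_mod_cast (mul_left_cancel₀ he0 h2).symm
  let F : ↥Fs → G → ℂ := fun χ => τ₁ χ.1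
  have hmem : ∀ χ : ↥Fs, χ.1 ∈ zspan Fs := fun χ => Coherence.mem_zspan_of_mem χ.2
  have hFgen : ∀ χ, IsGeneralizedCharacter G (F χ) := fun χ => hτ₁.2.2.2 _ (hmem χ)
  have hFin : ∀ χ ψ : ↥Fs, classInner (F χ) (F ψ) = classInner χ.1 ψ.1 :=
    fun χ ψ => hτ₁.2.2.1 _ (hmem χ) _ (hmem ψ)
  have hFs : ∀ χ, SIrr G (F χ) := fun χ => by
    obtain ⟨ψ, e1 | e1⟩ := IsGen.eq_pm_irr (hFgen χ)
      (by rw [hFin, classInner_irr_self (hirr _ χ.2)])
    · exact Or.inl (e1 ▸ ψ.2)
    · exact Or.inr (by rw [e1, neg_neg]; exact ψ.2)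
  have hFo : ∀ χ ψ, χ ≠ ψ → classInner (F χ) (F ψ) = 0 := fun χ ψ h => by
    rw [hFin, classInner_irr_ne (hirr _ χ.2) (hirr _ ψ.2) fun e => h (Subtype.ext e)]
  -- a combination vanishing at `1` goes to the Dade image
  have hsub : ∀ (χ ψ : ↥Fs) (z : ℤ), χ.1 1 = (z : ℂ) * ψ.1 1 →
      F χ - (z : ℂ) • F ψ = T (χ.1 - (z : ℂ) • ψ.1) := by
    intro χ ψ z hz
    have h1 : χ.1 - (z : ℂ) • ψ.1 ∈ zspanOn Fs {1}ᶜ :=
      Coherence.mem_zspanOn_compl_one.2
        ⟨Coherence.zspan_sub (hmem χ) (Coherence.zspan_intCast_smul z (hmem ψ)), by simp [hz]⟩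
    rw [← hag _ h1, Coherence.iso_zspan_sub hτ₁ (hmem χ)
      (Coherence.zspan_intCast_smul z (hmem ψ))]
    rw [Int.cast_smul_eq_zsmul ℂ, Int.cast_smul_eq_zsmul ℂ, hτ₁.2.1 _ (hmem ψ)]
  have hTzero : ∀ α : ↥L → ℂ, ∀ g ∉ S, T α g = 0 :=
    fun α g hg => Coherence.Dade.dade_eq_zero hD hg
  have hD1 : ∀ χ : ↥Fs, F χ - F (cj χ) = T (χ.1 - (cj χ).1) := fun χ => by
    have h := hsub χ (cj χ) 1 (by
      rw [Int.cast_one, one_mul]
      exact (Coherence.isChar_conjFun_one (IsIrr.isCharacter (hirr _ χ.2))).symm)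
    simpa using h
  have hcj : ∀ χ : ↥Fs, cj χ ≠ χ := fun χ h => by
    have h1 : conjFun χ.1 = χ.1 := congrArg Subtype.val h
    have h2 := real_irr_eq_one hLodd (hirr _ χ.2) fun g => Complex.conj_eq_iff_im.1 (congrFun h1 g)
    obtain ⟨-, x, -, hx⟩ := (Set.ext_iff.1 (OddChars.frob_set_eq hC) χ.1).1 χ.2
    exact hx (by rw [h2])
  have hconj : ∀ χ : ↥Fs, conjFun (F χ) = F (cj χ) ∧ conjFun (F χ) ≠ F χ ∧
      classInner (F χ) (fun _ => 1) = 0 := fun χ => by
    refine conj_eq_of_anti hodd (hFs χ) (hFs _) (hFo _ _ (hcj χ).symm) ?_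
    rw [hD1, hT, conjFun_dade,
      show conjFun (χ.1 - (cj χ).1) = (cj χ).1 - χ.1 by simp [cj, conjFun_sub'],
      dade_sub, dade_sub, neg_sub]
  let n : ↥Fs → ℤ := fun χ => (m χ : ℤ)
  have hdiff : ∀ χ : ↥Fs, F χ - (n χ : ℂ) • F i₀ = T (χ.1 - (n χ : ℂ) • i₀.1) :=
    fun χ => hsub χ i₀ _ (by rw [hm χ, hφ1, Int.cast_natCast, mul_comm])
  -- the image of the permutation character minus `φ`
  let π : ↥L → ℂ := indFun K fun _ => 1
  have hπH : ∀ x : ↥K, π x = (e : ℂ) := fun x => by
    show indFun K (fun _ => (1 : ℂ)) (x : ↥L) = _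
    have h1 : ∀ y : ↥L, extendByZero K (fun _ : ↥K => (1 : ℂ)) (y⁻¹ * (x : ↥L) * y) = 1 := fun y => by
      rw [extendByZero_of_mem]
      simpa using (inferInstance : K.Normal).conj_mem x.1 x.2 y⁻¹
    simp only [indFun_apply, h1, Finset.sum_const, Finset.card_univ, nsmul_eq_mul, mul_one]
    rw [← Nat.card_eq_fintype_card, ← K.card_mul_index, Nat.cast_mul, ← mul_assoc,
      inv_mul_cancel₀ (Nat.cast_ne_zero.2 Nat.card_pos.ne'), one_mul]
  have hπres : (fun x : ↥K => π x) = (e : ℂ) • fun _ => (1 : ℂ) :=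
    funext fun x => by rw [hπH]; simp
  have hπr : conjFun π = π := by
    show conjFun (indFun K fun _ => (1 : ℂ)) = _
    rw [OddChars.conjFun_indFun]
    congr 1
    funext x; simp [conjFun]
  set α := π - i₀.1 with hα
  have hαgen : IsGeneralizedCharacter ↥L α :=
    isGeneralized_sub (isGeneralized_of_isCharacter (isCharacter_indFun _ isCharacter_one))
      (isGeneralized_of_isCharacter (IsIrr.isCharacter (hirr _ i₀.2)))
  have hαoff : ∀ x : ↥L, (x : G) ∉ typeA L → α x = 0 := by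
    intro x hx
    by_cases hxK : x ∈ K
    · have hx1 : x = 1 := by
        by_contra h
        exact hx ((OddCharTypeI.mem_typeA hfrob hI x).2 ⟨hxK, h⟩)
      subst hx1
      rw [hα, Pi.sub_apply, hφ1, show π 1 = (e : ℂ) from hπH ⟨1, hxK⟩, sub_self]
    · simp only [hα, Pi.sub_apply, π, i₀, indFun_apply_of_normal K _ hxK, sub_self]
  have hαc : IsClassFunction ↥L α := IsGen.isClassFunction hαgen
  have hθone : classInner θ (fun _ => 1) = 0 := classInner_irr_ne hθ.1 isIrrCharacter_one hθ.2.1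
  have hπc : IsClassFunction ↥L π := isClassFunction_indFun K _
  have hππ : classInner π π = (e : ℂ) := by
    show classInner (indFun K fun _ => 1) π = _
    rw [classInner_indFun_left K _ hπc, hπres, classInner_smul_right, map_natCast,
      classInner_irr_self isIrrCharacter_one, mul_one]
  have hφπ : classInner i₀.1 π = 0 := by
    show classInner (indFun K θ) π = _
    rw [classInner_indFun_left K _ hπc, hπres, classInner_smul_right, hθone, mul_zero]
  have hαα : classInner α α = (((e : ℤ) + 1 : ℤ) : ℂ) := by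
    rw [hα, classInner_sub_sub, hππ, hφπ, inner_zero_symm hφπ,
      classInner_irr_self (hirr _ i₀.2)]
    push_cast; ring
  have h1c : IsClassFunction ↥L (fun _ => (1 : ℂ)) := fun _ _ => rfl
  have hα1 : classInner α (fun _ => 1) = 1 := by
    rw [hα, classInner_sub_left]
    show classInner (indFun K fun _ => 1) (fun _ : ↥L => (1 : ℂ)) -
      classInner (indFun K θ) (fun _ : ↥L => (1 : ℂ)) = 1
    rw [classInner_indFun_left K _ h1c, classInner_indFun_left K _ h1c, hθone,
      classInner_irr_self isIrrCharacter_one, sub_zero]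
  have hY1 : classInner (T α) (fun _ => 1) = 1 := by
    rw [hT, Coherence.Dade.inner_dade hD α hαc hαoff _ (fun _ => 1) (fun _ _ => rfl) fun x _ => ?_,
      hα1]
    rw [finsum_mem_eq_finite_toFinset_sum _ (Set.toFinite _), Finset.sum_const, nsmul_eq_mul,
      mul_one, ← Set.ncard_eq_toFinset_card, ← Nat.card_coe_set_eq, SetLike.coe_sort_coe,
      inv_mul_cancel₀ (Nat.cast_ne_zero.2 Nat.card_pos.ne')]
  have hconjY : conjFun (T α + F i₀) = T α + F i₀ := by
    have h1 : conjFun (T α) = T α + (F i₀ - F (cj i₀)) := by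
      rw [hD1, hT, conjFun_dade]
      rw [show conjFun α = α - ((cj i₀).1 - i₀.1) by
        rw [hα, conjFun_sub', hπr]; simp [cj]]
      rw [dade_sub α, dade_sub (cj i₀).1 i₀.1, dade_sub i₀.1 (cj i₀).1]
      abel
    rw [conjFun_add', (hconj i₀).1, h1]
    abel
  have hconj_off : ∀ χ, ∀ g ∉ S, conjFun (F χ) g = F χ g := fun χ g hg => by
    have h := congrFun (hD1 χ) g
    rw [hTzero _ g hg, Pi.sub_apply, sub_eq_zero] at h
    rw [(hconj χ).1, h]
  have hperp : ∀ χ ω, classInner (F χ) (η ω) = 0 := fun χ ω =>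
    perp_eta hW hodd hχ (hFs χ) (hconj χ).2.2
      (fun w hw => hconj_off χ w (Set.disjoint_right.1 hdis hw)) ω
  have hsum : (e : ℤ) * ∑ χ : ↥Fs, n χ ^ 2 = (Nat.card (fittingHallOf L) : ℤ) - 1 := by
    let d : (↥L → ℂ) → ℕ := fun φ => if h : φ ∈ Fs then e * m ⟨φ, h⟩ else 0
    have h := OddChars.frob_sum_sq hC (A := ⊥) bot_le d fun φ hφ => by
      simp only [d, dif_pos (show φ ∈ Fs from hφ)]
      rw [Nat.cast_mul]
      exact hm ⟨φ, hφ⟩
    rw [Finset.sum_subtype (p := fun φ => φ ∈ Fs) _ (fun φ => Set.Finite.mem_toFinset _) fun φ => d φ ^ 2,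
      Subgroup.relIndex_bot_left] at h
    have hcard : Nat.card (fittingHallOf L) = Nat.card K :=
      Subgroup.card_map_of_injective L.subtype_injective
    rw [hcard]
    have h2 : (∑ χ : ↥Fs, (e * m χ) ^ 2) = e * (Nat.card K - 1) := by
      rw [← h]
      exact Finset.sum_congr rfl fun χ _ => by simp only [d, dif_pos χ.2]
    have h3 := congrArg (fun x : ℕ => (x : ℤ)) h2
    simp only [Nat.cast_sum, Nat.cast_pow, Nat.cast_mul] at h3
    rw [Nat.cast_sub Nat.card_pos, Nat.cast_one] at h3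
    have he' : (e : ℤ) ≠ 0 := Int.natCast_ne_zero.2 K.index_ne_zero_of_finite
    refine mul_left_cancel₀ he' ?_
    rw [← h3, ← mul_assoc, Finset.mul_sum]
    exact Finset.sum_congr rfl fun χ _ => by simp only [n]; ring
  refine ⟨↥Fs, inferInstance, T α, F, n, i₀, cj i₀, ⟨⟨?_, ?_, hperp, ?_, hsum.ge⟩, hsum, hFs,
    fun χ => (hconj χ).2.1, hconj_off, hTzero α, fun χ g hg => ?_⟩⟩
  · exact
      { gen := Coherence.Dade.isGeneralized_dade hD hαgen hαoff
        gen₀ := hFgen _
        gen₁ := hFgen _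
        norm := by rw [hT, Coherence.Dade.inner_dade_dade hD α α hαc hαoff hαc, hαα]
        one := hY1
        unit₀ := (hFs _).inner_self
        unit₁ := (hFs _).inner_self
        orth := hFo _ _ (hcj i₀).symm
        one₀ := (hconj _).2.2
        one₁ := (hconj _).2.2
        conj₀ := (hconj _).1
        real := hconjY }
  · exact ⟨hFgen, fun χ => (hFs χ).inner_self, hFo, fun χ => (hconj χ).2.2, by simp [n, hm0]⟩
  · exact fun w hw => hTzero α w (Set.disjoint_right.1 hdis hw)
  · rw [hdiff χ]; exact hTzero _ g hg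

end Cfsg.Agent.OddFinal
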