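import Cfsg.Agent.OddFinal.Generic
import Cfsg.Agent.OddFinal.EtaUnique

/-!
# Uniformity of the family off the two kernels, and integral values
-/

set_option autoImplicit false
set_option linter.unusedSectionVars false

namespace Cfsg.Agent.OddFinal

open Cfsg Char CyclicTI
open scoped ComplexConjugate
open scoped _root_.Classical

universe u

variable {G : Type u} [Group G] [Fintype G] {M W₁ W₂ K : Subgroup G} [Fintype ↥M] {d : ℕ}
  {X : Finset (↥M → ℂ)} {μ : (↥(W₁ ⊔ W₂) →* ℂˣ) → ↥M → ℂ}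
  {η : (↥(W₁ ⊔ W₂) →* ℂˣ) → G → ℂ}

/-- A member makes the coefficients independent of `ψ ≠ 1`. -/
theorem IsSide.col_uniform (hs : IsSide M W₁ W₂ K d X μ η) {Y : G → ℂ} (hY : IsClassFunction G Y)
    (hK : ∀ g ∈ conjAll (sharp K), Y g = 0) (hV : ∀ g ∈ conjAll (vSet W₁ W₂), Y g = 0)
    (φ : Left W₁ W₂) (ψ ψ' : Right W₁ W₂) (hψ : ψ.1 ≠ 1) (hψ' : ψ'.1 ≠ 1) :
    classInner Y (η (φ.1 * ψ.1)) = classInner Y (η (φ.1 * ψ'.1)) := by
  rw [← sub_eq_zero, ← classInner_sub_right, ← hs.tau_mu φ ψ ψ' hψ hψ',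
    classInner_indFun_right M _ hY]
  simp only [classInner]
  rw [Finset.sum_eq_zero, mul_zero]
  intro x _
  by_cases hx : (x : G) ∈ sharp K ∪ conjIn M (vSet W₁ W₂)
  · have hY0 : Y x = 0 := by
      rcases hx with hx | ⟨m, -, v, hv, e⟩
      · exact hK _ ⟨1, _, hx, by group⟩
      · exact hV _ ⟨m, v, hv, e⟩
    rw [hY0, zero_mul]
  · rw [Pi.sub_apply, hs.supp_diff φ ψ ψ' hψ hψ' x hx, sub_self, map_zero, mul_zero]

theorem conjAll_vSet_comm : conjAll (vSet W₂ W₁) = conjAll (vSet W₁ W₂) := by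
  rw [vSet_comm]

/-- The other member makes the coefficients independent of `φ ≠ 1`. -/
theorem rowUniform_of_swap {T K' : Subgroup G} [Fintype ↥T] {d' : ℕ} {X' : Finset (↥T → ℂ)}
    {μ' : (↥(W₂ ⊔ W₁) →* ℂˣ) → ↥T → ℂ}
    (hs : IsSide T W₂ W₁ K' d' X' μ' (fun f => η (swapHom f))) :
    RowUniform (conjAll (sharp K')) η := by
  intro Y hY hK hV φ φ' ψ hφ hφ'
  let ψ₀ : Left W₂ W₁ := swapLeft.symm ψ
  let l : Left W₁ W₂ → Right W₂ W₁ := fun φ => ⟨swapHom φ.1, fun _ hw => φ.2 _ hw⟩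
  have hl : ∀ φ : Left W₁ W₂, φ.1 ≠ 1 → (l φ).1 ≠ 1 := fun φ h e =>
    h (swapHom_injective (e.trans swapHom_one.symm))
  have h := hs.col_uniform hY hK (by rw [conjAll_vSet_comm]; exact hV) ψ₀ (l φ) (l φ')
    (hl φ hφ) (hl φ' hφ')
  have e : ∀ φ : Left W₁ W₂, swapHom (ψ₀.1 * (l φ).1) = φ.1 * ψ.1 := fun φ =>
    MonoidHom.ext fun w => mul_comm _ _
  simpa only [e] using h

/-- The indicator of a conjugacy class. -/
noncomputable def classInd (g : G) : G → ℂ := fun x => if IsConj g x then 1 else 0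

theorem isClassFunction_classInd (g : G) : IsClassFunction G (classInd g) := fun x k => by
  have : IsConj x (k * x * k⁻¹) := isConj_iff.2 ⟨k, rfl⟩
  have hiff : IsConj g (k * x * k⁻¹) ↔ IsConj g x :=
    ⟨fun h => IsConj.trans h (IsConj.symm this), fun h => IsConj.trans h this⟩
  simp only [classInd, hiff]

theorem classInner_classInd {Y : G → ℂ} (hY : IsClassFunction G Y) (g : G) :
    classInner (classInd g) Y =
      (Nat.card G : ℂ)⁻¹ * ((Finset.univ.filter (IsConj g)).card : ℂ) * conj (Y g) := by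
  simp only [classInner, classInd, ite_mul, one_mul, zero_mul]
  rw [← Finset.sum_filter, Finset.sum_congr rfl (g := fun _ => conj (Y g)) fun x hx => by
    rw [classFun_isConj hY (Finset.mem_filter.1 hx).2.symm], Finset.sum_const, nsmul_eq_mul,
    mul_assoc]

theorem classInd_eq_zero {A : Set G} {g : G} (hg : g ∉ conjAll A) :
    ∀ x ∈ conjAll A, classInd g x = 0 := by
  rintro x ⟨y, a, ha, rfl⟩
  refine if_neg fun h => hg ?_
  obtain ⟨c, hc⟩ := isConj_iff.1 h.symm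
  exact ⟨c * y, a, ha, by rw [← hc]; group⟩

/-- Equal inner products with all class indicators give equal values. -/
theorem eq_of_classInd {Y Y' : G → ℂ} (hY : IsClassFunction G Y) (hY' : IsClassFunction G Y')
    {g : G} (h : classInner (classInd g) Y = classInner (classInd g) Y') : Y g = Y' g := by
  rw [classInner_classInd hY, classInner_classInd hY'] at h
  have hne : (Nat.card G : ℂ)⁻¹ * ((Finset.univ.filter (IsConj g)).card : ℂ) ≠ 0 := by
    refine mul_ne_zero (inv_ne_zero (Nat.cast_ne_zero.2 Nat.card_pos.ne')) (Nat.cast_ne_zero.2 ?_)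
    exact (Finset.card_pos.2 ⟨g, Finset.mem_filter.2 ⟨Finset.mem_univ _, IsConj.refl g⟩⟩).ne'
  exact (starRingEnd ℂ).injective (mul_left_cancel₀ hne h)

/-- A value taken by all non-trivial members of one side is a rational integer. -/
theorem exists_int_of_const (hW : IsSelfNormalizingCyclic W₁ W₂)
    (hodd : Odd (Nat.card ↥(W₁ ⊔ W₂))) (hη : IsCyclicTIFamily W₁ W₂ η)
    {ω : ↥(W₁ ⊔ W₂) →* ℂˣ} {g : G}
    (h : ∀ k : ℕ, k.Coprime (Nat.card G) → η (ω ^ k) g = η ω g) :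
    ∃ n : ℤ, η ω g = n := by
  set n := Nat.card G with hn
  have hn0 : n ≠ 0 := Nat.card_pos.ne'
  have key : ∀ k : ℕ, k.Coprime n → η ω (g ^ k) = η ω g := by
    intro k hk
    obtain ⟨σ, hσ⟩ := Char.exists_galois n k hn0 hk
    have hσω : ∀ w, ((ω ^ k) w : ℂ) = σ (ω w) := fun w => by
      have h2 : (ω w : ℂ) ^ n = 1 := by
        rw [← Units.val_pow_eq_pow_val, ← map_pow,
          show w ^ n = 1 from Subtype.ext (by rw [SubmonoidClass.coe_pow, hn]; exact pow_card_eq_one'),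
          map_one, Units.val_one]
      rw [hσ _ h2]; simp
    have h3 := congrFun (CyclicTI.map_family hW hodd hη σ ω (ω ^ k) hσω) g
    rw [h k hk] at h3
    refine Eq.trans (Eq.symm ?_) h3
    rcases hη.irr_or_neg ω with hi | hi
    · exact Char.galois_apply_pow σ hσ (IsIrr.isCharacter hi) (orderOf_dvd_natCard g)
    · have := Char.galois_apply_pow σ hσ (IsIrr.isCharacter hi) (orderOf_dvd_natCard g)
      simpa using this
  have main : ∀ f : G → ℂ, IsIrrCharacter G f → (∀ k : ℕ, k.Coprime n → f (g ^ k) = f g) →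
      ∃ m : ℤ, f g = m := fun f hf hfk => by
    have hint := IsChar.isIntegral (IsIrr.isCharacter hf) g
    refine BlockChar.exists_int_of_galois_fixed hint fun ψ => ?_
    obtain ⟨k, hk, hpow⟩ := BlockChar.exists_pow_galois (G := G) ψ
    exact (hpow f (IsIrr.isCharacter hf) g _).trans (hfk k hk)
  rcases hη.irr_or_neg ω with hi | hi
  · exact main _ hi key
  · obtain ⟨m, hm⟩ := main _ hi fun k hk => by simp [key k hk]
    exact ⟨-m, by rw [Int.cast_neg, ← hm, Pi.neg_apply, neg_neg]⟩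

theorem pow_ne_one_of_coprime (hodd : Odd (Nat.card G)) {ω : ↥(W₁ ⊔ W₂) →* ℂˣ} (hω : ω ≠ 1)
    {k : ℕ} (hk : k.Coprime (Nat.card G)) : ω ^ k ≠ 1 := by
  intro e
  have h1 : orderOf ω ∣ k := orderOf_dvd_of_pow_eq_one e
  have h2 : orderOf ω ∣ Nat.card G := (orderOf_dvd_of_pow_eq_one (coe_hom_pow_card ω)).trans
    (Subgroup.card_subgroup_dvd_card _)
  exact hω (orderOf_eq_one_iff.1 (Nat.eq_one_of_dvd_coprimes hk h1 h2))

/-- Off the other kernel and the conjugates of `V` all `η φ`, `φ ≠ 1`, take one integral value. -/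
theorem RowUniform.left_value (hW : IsSelfNormalizingCyclic W₁ W₂) (hodd : Odd (Nat.card G))
    (hη : IsCyclicTIFamily W₁ W₂ η) {A : Set G} (hA : RowUniform (conjAll A) η) {g : G}
    (hg : g ∉ conjAll A) (hgV : g ∉ conjAll (vSet W₁ W₂)) :
    ∃ n : ℤ, ∀ φ : Left W₁ W₂, φ.1 ≠ 1 → η φ.1 g = n := by
  have hWodd : Odd (Nat.card ↥(W₁ ⊔ W₂)) := hodd.of_dvd_nat (Subgroup.card_subgroup_dvd_card _)
  have heq : ∀ φ φ' : Left W₁ W₂, φ.1 ≠ 1 → φ'.1 ≠ 1 → η φ.1 g = η φ'.1 g := fun φ φ' h h' => by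
    refine eq_of_classInd (eta_isClassFunction hη _) (eta_isClassFunction hη _) ?_
    have := hA _ (isClassFunction_classInd g) (classInd_eq_zero hg) (classInd_eq_zero hgV)
      φ φ' (rightOne) h h'
    rw [show φ.1 * (rightOne : Right W₁ W₂).1 = φ.1 by ext w; simp [rightOne],
      show φ'.1 * (rightOne : Right W₁ W₂).1 = φ'.1 by ext w; simp [rightOne]] at this
    exact this
  by_cases hex : ∃ φ : Left W₁ W₂, φ.1 ≠ 1
  · obtain ⟨φ₀, h₀⟩ := hex
    obtain ⟨n, hn⟩ := exists_int_of_const hW hWodd hη (ω := φ₀.1) fun k hk =>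
      heq ⟨φ₀.1 ^ k, fun w hw => by simp [φ₀.2 w hw]⟩ φ₀ (pow_ne_one_of_coprime hodd h₀ hk) h₀
    exact ⟨n, fun φ h => (heq φ φ₀ h h₀).trans hn⟩
  · exact ⟨0, fun φ h => absurd ⟨φ, h⟩ hex⟩

/-- Off the own kernel and the conjugates of `V` all `η ψ`, `ψ ≠ 1`, take one integral value. -/
theorem IsSide.right_value (hs : IsSide M W₁ W₂ K d X μ η) (hW : IsSelfNormalizingCyclic W₁ W₂)
    (hodd : Odd (Nat.card G)) (hη : IsCyclicTIFamily W₁ W₂ η) {g : G}
    (hg : g ∉ conjAll (sharp K)) (hgV : g ∉ conjAll (vSet W₁ W₂)) :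
    ∃ n : ℤ, ∀ ψ : Right W₁ W₂, ψ.1 ≠ 1 → η ψ.1 g = n := by
  have hWodd : Odd (Nat.card ↥(W₁ ⊔ W₂)) := hodd.of_dvd_nat (Subgroup.card_subgroup_dvd_card _)
  have heq : ∀ ψ ψ' : Right W₁ W₂, ψ.1 ≠ 1 → ψ'.1 ≠ 1 → η ψ.1 g = η ψ'.1 g := fun ψ ψ' h h' => by
    refine eq_of_classInd (eta_isClassFunction hη _) (eta_isClassFunction hη _) ?_
    have := hs.col_uniform (isClassFunction_classInd g) (classInd_eq_zero hg)
      (classInd_eq_zero hgV) leftOne ψ ψ' h h'
    rw [show (leftOne : Left W₁ W₂).1 * ψ.1 = ψ.1 by ext w; simp [leftOne],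
      show (leftOne : Left W₁ W₂).1 * ψ'.1 = ψ'.1 by ext w; simp [leftOne]] at this
    exact this
  by_cases hex : ∃ ψ : Right W₁ W₂, ψ.1 ≠ 1
  · obtain ⟨ψ₀, h₀⟩ := hex
    obtain ⟨n, hn⟩ := exists_int_of_const hW hWodd hη (ω := ψ₀.1) fun k hk =>
      heq ⟨ψ₀.1 ^ k, fun w hw => by simp [ψ₀.2 w hw]⟩ ψ₀ (pow_ne_one_of_coprime hodd h₀ hk) h₀
    exact ⟨n, fun ψ h => (heq ψ ψ₀ h h₀).trans hn⟩
  · exact ⟨0, fun ψ h => absurd ⟨ψ, h⟩ hex⟩

end Cfsg.Agent.OddFinal
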