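import Cfsg.Agent.OddFinal.OvergroupMain
import Cfsg.Agent.OddFinal.Uniform
import Cfsg.Agent.OddFinal.EtaMass

/-!
# No bridge of an overgroup sees the whole family

If `Y = τ(Ind_K^L 1 - φ)`, `e = p q`, had an odd coefficient at every member of the family, then `Y` would be
`Σ ± η ω ∓ φ^τ`, so `φ^τ` would be an odd integer almost everywhere off `Ã(L)`, where it has no mass.
-/

set_option autoImplicit false
set_option linter.unusedSectionVars false

namespace Cfsg.Agent.OddFinal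

open Cfsg Char
open scoped ComplexConjugate

universe u

variable {G : Type u} [Group G] [Fintype G]

theorem mass_union_le (A B : Set G) (Y : G → ℂ) : mass (A ∪ B) Y ≤ mass A Y + mass B Y := by
  rw [← Set.union_sdiff_self, mass_union Set.disjoint_sdiff_right]
  exact add_le_add le_rfl (mass_mono Set.sdiff_subset Y)

/-- Equality in Bessel's inequality. -/
theorem eq_of_bessel {ι : Type*} [Fintype ι] {Y : G → ℂ} (F : ι → G → ℂ)
    (ho : ∀ i, classInner (F i) (F i) = 1) (hp : ∀ i j, i ≠ j → classInner (F i) (F j) = 0)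
    (c : ι → ℤ) (hc : ∀ i, classInner Y (F i) = (c i : ℂ))
    (hN : classInner Y Y = ((∑ i, c i ^ 2 : ℤ) : ℂ)) : Y = ∑ i, (c i : ℂ) • F i := by
  classical
  set P := ∑ k, (c k : ℂ) • F k with hP
  have hPi : ∀ i, classInner P (F i) = c i := fun i => by
    rw [hP, classInner_sum_left, Finset.sum_eq_single i]
    · rw [classInner_smul_left, ho, mul_one]
    · intro k _ hk
      rw [classInner_smul_left, hp k i hk, mul_zero]
    · simp
  have hsum : ∀ Z : G → ℂ, classInner Z P = ∑ k, (c k : ℂ) * classInner Z (F k) := fun Z => by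
    rw [hP, classInner_sum_right]
    refine Finset.sum_congr rfl fun k _ => ?_
    rw [classInner_smul_right, map_intCast]
  have hPP : classInner P P = ((∑ k, c k ^ 2 : ℤ) : ℂ) := by
    rw [hsum]; push_cast; exact Finset.sum_congr rfl fun k _ => by rw [hPi]; ring
  have hYP : classInner Y P = ((∑ k, c k ^ 2 : ℤ) : ℂ) := by
    rw [hsum]; push_cast; exact Finset.sum_congr rfl fun k _ => by rw [hc]; ring
  refine sub_eq_zero.1 ((classInner_self_eq_zero _).1 ?_)
  simp only [classInner_sub_left, classInner_sub_right, hPP, hYP, inner_int_symm hYP, hN]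
  ring

variable {W₁ W₂ : Subgroup G} {η : (↥(W₁ ⊔ W₂) →* ℂˣ) → G → ℂ} {ι : Type*} [Fintype ι]
  {S : Set G} {e k : ℕ} {Y : G → ℂ} {F : ι → G → ℂ} {n : ι → ℤ} {i₀ i₁ : ι}

/-- The mass of a member of the family off the support is at most `1 / Σ n²`. -/
theorem IsOverFamily.mass_compl_le (h : IsOverFamily S η e k Y F n i₀ i₁) :
    mass Sᶜ (F i₀) ≤ 1 / ((∑ i, n i ^ 2 : ℤ) : ℝ) := by
  classical
  set s : ℤ := ∑ i, n i ^ 2 with hs
  have hs1 : 1 ≤ s := by
    have := Finset.single_le_sum (f := fun i => n i ^ 2) (fun i _ => sq_nonneg (n i))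
      (Finset.mem_univ i₀)
    simpa [h.fam.base] using this
  have hsR : (1 : ℝ) ≤ (s : ℝ) := by exact_mod_cast hs1
  set g := ∑ i, (n i : ℂ) • (F i - (n i : ℂ) • F i₀) with hg
  have hoff : ∀ x ∉ S, g x = 0 := fun x hx => by
    rw [hg, Finset.sum_apply, Finset.sum_eq_zero]
    intro i _
    rw [Pi.smul_apply, h.diff_off i x hx, smul_zero]
  have hgi : ∀ j, classInner g (F j) = (n j : ℂ) - if j = i₀ then (s : ℂ) else 0 := by
    intro j
    simp only [hg, classInner_sum_left, classInner_smul_left, classInner_sub_left]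
    have h1 : ∀ i, classInner (F i) (F j) = if i = j then 1 else 0 := fun i => by
      split_ifs with e
      · rw [e, h.fam.unit]
      · exact h.fam.orth i j e
    simp only [h1, mul_sub, Finset.sum_sub_distrib, mul_ite, mul_one, mul_zero, Finset.sum_ite_eq',
      Finset.mem_univ, if_true, ← pow_two]
    by_cases hj : j = i₀
    · subst hj; simp [hs]
    · simp [hj, Ne.symm hj]
  have hg0 : classInner g (F i₀) = 1 - (s : ℂ) := by rw [hgi, if_pos rfl, h.fam.base, Int.cast_one]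
  have hgg : classInner g g = (s : ℂ) * ((s : ℂ) - 1) := by
    conv_lhs => arg 2; rw [hg]
    simp only [classInner_sum_right, classInner_smul_right, classInner_sub_right, map_intCast, hgi,
      hg0]
    rw [Finset.sum_congr rfl (g := fun i =>
      (n i : ℂ) ^ 2 * (s : ℂ) - if i = i₀ then (s : ℂ) else 0) fun i _ => by
        split_ifs with e
        · subst e; rw [h.fam.base]; push_cast; ring
        · rw [h.fam.base]; push_cast; ring]
    rw [Finset.sum_sub_distrib, ← Finset.sum_mul, Finset.sum_ite_eq', if_pos (Finset.mem_univ _)]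
    rw [show ∑ i, (n i : ℂ) ^ 2 = (s : ℂ) by rw [hs]; push_cast; rfl]
    ring
  have key := norm_classInner_sq_le hoff (F i₀)
  rw [hgg, hg0] at key
  have e1 : ‖(1 : ℂ) - (s : ℂ)‖ ^ 2 = ((s : ℝ) - 1) ^ 2 := by
    rw [show (1 : ℂ) - (s : ℂ) = ((1 - (s : ℝ) : ℝ) : ℂ) by push_cast; ring, Complex.norm_real,
      Real.norm_eq_abs, sq_abs]
    ring
  have e2 : ((s : ℂ) * ((s : ℂ) - 1)).re = (s : ℝ) * ((s : ℝ) - 1) := by
    rw [show (s : ℂ) * ((s : ℂ) - 1) = (((s : ℝ) * ((s : ℝ) - 1) : ℝ) : ℂ) by push_cast; ring,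
      Complex.ofReal_re]
  rw [e1, e2] at key
  rw [mass_compl, h.fam.unit, Complex.one_re, le_div_iff₀ (by linarith)]
  rcases hsR.eq_or_lt with e | e
  · rw [← e]; linarith [mass_nonneg S (F i₀)]
  · have h2 : ((s : ℝ) - 1) ≤ (s : ℝ) * mass S (F i₀) :=
      le_of_mul_le_mul_left (by linarith) (by linarith : (0 : ℝ) < (s : ℝ) - 1)
    linarith

/-- `Y` cannot have odd coefficients everywhere. -/
theorem IsOverFamily.false_of_full {p q d d' : ℕ} {KS KT : Set G}
    (h : IsOverFamily S η (p * q) k Y F n i₀ i₁) (hodd : Odd (Nat.card G))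
    (hW : IsSelfNormalizingCyclic W₁ W₂) (hχ : IsCyclicTIFamily W₁ W₂ η)
    (hq₁ : Nat.card W₁ = q) (hp₂ : Nat.card W₂ = p) (hqp : q < p)
    (hA : ∀ φ : Left W₁ W₂, φ.1 ≠ 1 → ∃ c : ℤ, Odd c ∧ classInner Y (η φ.1) = (c : ℂ))
    (hB : ∀ ψ : Right W₁ W₂, ψ.1 ≠ 1 → ∃ c : ℤ, Odd c ∧ classInner Y (η ψ.1) = (c : ℂ))
    (hval : ∀ g, g ∉ KS → g ∉ KT → g ∉ vG W₁ W₂ →
      ∃ a b : ℤ, (∀ φ : Left W₁ W₂, φ.1 ≠ 1 → η φ.1 g = a) ∧
        ∀ ψ : Right W₁ W₂, ψ.1 ≠ 1 → η ψ.1 g = b)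
    (hmS : mass S (fun _ => 1) ≤ 1 / ((p : ℝ) * q))
    (hmKS : mass KS (fun _ => 1) ≤ 1 / ((q : ℝ) * d))
    (hmKT : mass KT (fun _ => 1) ≤ 1 / ((p : ℝ) * d'))
    (hd : 7 ≤ d) (hd' : q < d') (hbig : (p : ℤ) ≤ ∑ i, n i ^ 2) : False := by
  classical
  have hoW : ∀ H : Subgroup G, Odd (Nat.card H) := fun H =>
    hodd.of_dvd_nat (Subgroup.card_subgroup_dvd_card _)
  have hq3 : 3 ≤ q := by
    have h1 := hoW W₁
    have h2 := (Subgroup.one_lt_card_iff_ne_bot W₁).2 hW.1
    rw [hq₁] at h1 h2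
    obtain ⟨m, rfl⟩ := h1
    omega
  have hp5 : 5 ≤ p := by
    have h1 := hoW W₂
    have h2 := hoW W₁
    rw [hp₂] at h1
    rw [hq₁] at h2
    obtain ⟨m, rfl⟩ := h1
    obtain ⟨m', rfl⟩ := h2
    omega
  -- the coefficients
  have hall := odd_everywhere hW hχ h.frame.gen h.vanish h.frame.one hA hB
  choose c hco hc using hall
  have := CyclicTI.finite_hom (W₁ ⊔ W₂)
  let _ := Fintype.ofFinite (↥(W₁ ⊔ W₂) →* ℂˣ)
  obtain ⟨a, ha⟩ := classInner_generalized_int h.frame.gen h.frame.gen₀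
  have ha₁ : classInner Y (F i₁) = ((a + 1 : ℤ) : ℂ) := by
    have h2 : classInner (Y + F i₀) (F i₁) = ((a + 1 : ℤ) : ℂ) := by
      rw [← h.frame.real, ← h.frame.conj₀, Coherence.classInner_conjFun]
      refine inner_int_symm ?_
      rw [classInner_add_left, ha, h.frame.unit₀]
      push_cast
      ring
    rwa [classInner_add_left, h.frame.orth, add_zero] at h2
  have hsq : 1 ≤ a ^ 2 + (a + 1) ^ 2 := by
    rcases le_or_gt 0 a with h | h <;> nlinarith
  have hc1 : ∀ ω, 1 ≤ c ω ^ 2 := fun ω => by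
    have h5 : c ω ≠ 0 := fun e => Int.not_odd_zero (e ▸ hco ω)
    have := sq_pos_of_ne_zero h5
    omega
  let B : (↥(W₁ ⊔ W₂) →* ℂˣ) ⊕ Fin 2 → G → ℂ := Sum.elim η ![F i₀, F i₁]
  let cc : (↥(W₁ ⊔ W₂) →* ℂˣ) ⊕ Fin 2 → ℤ := Sum.elim c ![a, a + 1]
  have hBo : ∀ i, classInner (B i) (B i) = 1 := by
    rintro (ω | i)
    · exact eta_norm hχ ω
    · fin_cases i
      exacts [h.frame.unit₀, h.frame.unit₁]
  have hFη : ∀ (i : Fin 2) ω, classInner (![F i₀, F i₁] i) (η ω) = 0 := by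
    intro i ω
    fin_cases i
    exacts [h.perp _ _, h.perp _ _]
  have hBp : ∀ i j, i ≠ j → classInner (B i) (B j) = 0 := by
    rintro (ω | i) (ω' | j) hne
    · show classInner (η ω) (η ω') = 0
      rw [hχ.orthonormal, if_neg fun e => hne (congrArg Sum.inl e)]
    · exact inner_zero_symm (hFη j ω)
    · exact hFη i ω'
    · fin_cases i <;> fin_cases j
      exacts [absurd rfl hne, h.frame.orth, inner_zero_symm h.frame.orth, absurd rfl hne]
  have hBc : ∀ i, classInner Y (B i) = (cc i : ℂ) := by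
    rintro (ω | i)
    · exact hc ω
    · fin_cases i
      exacts [ha, ha₁]
  have hsum : ∑ i, cc i ^ 2 = ∑ ω, c ω ^ 2 + (a ^ 2 + (a + 1) ^ 2) := by
    simp [cc, Fintype.sum_sum_type, Fin.sum_univ_two]
  have hcard : ((p * q : ℕ) : ℤ) ≤ ∑ ω, c ω ^ 2 := by
    have h6 := Finset.sum_le_sum fun ω (_ : ω ∈ Finset.univ) => hc1 ω
    rw [Finset.sum_const, Finset.card_univ, card_hom hW, hq₁, hp₂, nsmul_eq_mul, mul_one,
      mul_comm q p] at h6
    exact h6
  have hle := bessel h.frame.gen h.frame.norm B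
    (by
      rintro (ω | i)
      · exact eta_isGeneralized hχ ω
      · fin_cases i
        exacts [h.frame.gen₀, h.frame.gen₁])
    hBo hBp cc hBc
  rw [hsum] at hle
  have heq : ∑ i, cc i ^ 2 = ((p * q : ℕ) : ℤ) + 1 := by rw [hsum]; omega
  have ha2 : a ^ 2 + (a + 1) ^ 2 = 1 := by omega
  have hY := eq_of_bessel B hBo hBp cc hBc (by rw [h.frame.norm, heq])
  -- the values off the exceptional sets
  have hlow : ∀ g ∈ (S ∪ KS ∪ KT ∪ vG W₁ W₂)ᶜ, 1 ≤ ‖F i₀ g‖ := by
    intro g hg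
    simp only [Set.mem_compl_iff, Set.mem_union, not_or] at hg
    obtain ⟨⟨⟨hgS, hgK⟩, hgT⟩, hgV⟩ := hg
    obtain ⟨x, y, hx, hy⟩ := hval g hgK hgT hgV
    let v : Left W₁ W₂ × Right W₁ W₂ → ℤ := fun w =>
      1 + (if w.1 = leftOne then 0 else x - 1) + (if w.2 = rightOne then 0 else y - 1)
    have hv : ∀ w : Left W₁ W₂ × Right W₁ W₂, η (w.1.1 * w.2.1) g = (v w : ℂ) := by
      rintro ⟨φ, ψ⟩
      have e1 : η φ.1 g = ((1 + if φ = leftOne then 0 else x - 1 : ℤ) : ℂ) := by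
        split_ifs with e
        · rw [e]; simp [leftOne, hχ.map_one]
        · rw [hx φ fun e' => e (Subtype.ext e')]; push_cast; ring
      have e2 : η ψ.1 g = ((1 + if ψ = rightOne then 0 else y - 1 : ℤ) : ℂ) := by
        split_ifs with e
        · rw [e]; simp [rightOne, hχ.map_one]
        · rw [hy ψ fun e' => e (Subtype.ext e')]; push_cast; ring
      rw [eta_mul hχ φ ψ hgV, e1, e2]
      simp only [v]
      push_cast
      ring
    set P : ℤ := ∑ w, c (coords hW w) * v w with hP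
    have hPg : (∑ ω, (c ω : ℂ) • η ω) g = (P : ℂ) := by
      rw [Finset.sum_apply, ← (coords hW).sum_comp, hP, Int.cast_sum]
      refine Finset.sum_congr rfl fun w _ => ?_
      rw [Pi.smul_apply, smul_eq_mul, coords_apply, hv, Int.cast_mul]
    have hP2 : ((P : ℤ) : ZMod 2) = 1 := by
      have hz : ∀ {z : ℤ}, Odd z → (z : ZMod 2) = 1 := fun hz => by
        obtain ⟨m, rfl⟩ := hz
        push_cast
        rw [show (2 : ZMod 2) = 0 from rfl, zero_mul, zero_add]
      have hqz : ((q : ℕ) : ZMod 2) = 1 := by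
        have := hz (z := (q : ℤ)) (Int.odd_coe_nat q |>.2 (hq₁ ▸ hoW W₁))
        exact_mod_cast this
      have hpz : ((p : ℕ) : ZMod 2) = 1 := by
        have := hz (z := (p : ℤ)) (Int.odd_coe_nat p |>.2 (hp₂ ▸ hoW W₂))
        exact_mod_cast this
      have hs0 : ∀ {α : Type u} [Fintype α] (o : α) (z : ZMod 2) (f : α → ZMod 2),
          ((Fintype.card α : ℕ) : ZMod 2) = 1 → f o = 0 → (∀ i, i ≠ o → f i = z) → ∑ i, f i = 0 := by
        intro α _ o z f hα ho hne
        rw [← Finset.add_sum_erase _ _ (Finset.mem_univ o), ho, zero_add,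
          Finset.sum_congr rfl fun i hi => hne i (Finset.mem_erase.1 hi).1, Finset.sum_const,
          Finset.card_erase_of_mem (Finset.mem_univ o), Finset.card_univ, nsmul_eq_mul,
          Nat.cast_sub (Fintype.card_pos_iff.2 ⟨o⟩), hα, Nat.cast_one, sub_self, zero_mul]
      have hl : ((Fintype.card (Left W₁ W₂) : ℕ) : ZMod 2) = 1 := by rw [card_left hW, hq₁, hqz]
      have hr : ((Fintype.card (Right W₁ W₂) : ℕ) : ZMod 2) = 1 := by rw [card_right hW, hp₂, hpz]
      rw [hP, Int.cast_sum]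
      simp only [Int.cast_mul, hz (hco _), one_mul, v, Int.cast_add, Int.cast_one,
        apply_ite (fun z : ℤ => (z : ZMod 2)), Int.cast_zero, Fintype.sum_prod_type,
        Finset.sum_add_distrib, Finset.sum_const, Finset.card_univ, Fintype.card_prod, Nat.cast_mul,
        nsmul_eq_mul, mul_one, hl, hr, one_mul]
      rw [Finset.sum_comm, Finset.sum_eq_zero, Finset.sum_eq_zero, add_zero, add_zero]
      · exact fun _ _ => hs0 rightOne ((y - 1 : ℤ) : ZMod 2) _ hr (if_pos rfl) fun i hi => if_neg hi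
      · exact fun _ _ => hs0 leftOne ((x - 1 : ℤ) : ZMod 2) _ hl (if_pos rfl) fun i hi => if_neg hi
    have hP0 : P ≠ 0 := fun e => by rw [e, Int.cast_zero] at hP2; exact zero_ne_one hP2
    have hYg : Y g = (P : ℂ) + ((2 * a + 1 : ℤ) : ℂ) * F i₀ g := by
      have hF1 : F i₁ g = F i₀ g := by rw [← h.frame.conj₀]; exact h.conj_eq i₀ g hgS
      rw [hY]
      simp only [Fintype.sum_sum_type, B, cc, Sum.elim_inl, Sum.elim_inr, Fin.sum_univ_two,
        Matrix.cons_val_zero, Matrix.cons_val_one, Pi.add_apply, Pi.smul_apply, smul_eq_mul, hPg,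
        hF1]
      push_cast
      ring
    rw [h.off g hgS] at hYg
    have hu : (2 * a + 1 : ℤ) * (2 * a + 1) = 1 := by nlinarith
    have hval' : F i₀ g = ((-(2 * a + 1) * P : ℤ) : ℂ) := by
      have h3 : ((2 * a + 1 : ℤ) : ℂ) * ((2 * a + 1 : ℤ) : ℂ) = 1 := by exact_mod_cast hu
      push_cast at h3 hYg ⊢
      linear_combination (-(2 * (a : ℂ) + 1)) * hYg - (F i₀ g) * h3
    rw [hval']
    exact one_le_norm_intCast (mul_ne_zero (by omega) hP0)
  -- the masses
  have h1 := mass_one_le hlow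
  have h2 : mass (S ∪ KS ∪ KT ∪ vG W₁ W₂)ᶜ (F i₀) ≤ mass Sᶜ (F i₀) :=
    mass_mono (Set.compl_subset_compl.2 fun x hx => Or.inl (Or.inl (Or.inl hx))) _
  have hone : (classInner (fun _ : G => (1 : ℂ)) (fun _ => 1)).re = 1 := by
    rw [classInner_irr_self isIrrCharacter_one, Complex.one_re]
  rw [mass_compl, hone] at h1
  have h3 := mass_union_le (S ∪ KS ∪ KT) (vG W₁ W₂) (fun _ => (1 : ℂ))
  have h4 := mass_union_le (S ∪ KS) KT (fun _ => (1 : ℂ))
  have h5 := mass_union_le S KS (fun _ => (1 : ℂ))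
  have h6 := mass_vG hW hχ 1
  rw [hχ.map_one, hq₁, hp₂] at h6
  have h7 := h.mass_compl_le
  have h8 : 1 / ((∑ i, n i ^ 2 : ℤ) : ℝ) ≤ 1 / (p : ℝ) := by
    refine one_div_le_one_div_of_le (by exact_mod_cast (by omega : 0 < p)) ?_
    exact_mod_cast hbig
  have hpR : (5 : ℝ) ≤ p := by exact_mod_cast hp5
  have hqR : (3 : ℝ) ≤ q := by exact_mod_cast hq3
  have hdR : (7 : ℝ) ≤ d := by exact_mod_cast hd
  have hd'R : (q : ℝ) + 1 ≤ d' := by exact_mod_cast hd'
  have h9 : 1 ≤ 1 / ((p : ℝ) * q) + 1 / ((q : ℝ) * d) + 1 / ((p : ℝ) * d') +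
      ((q : ℝ) - 1) * ((p : ℝ) - 1) / (q * p) + 1 / p := by linarith
  have h10 : 1 / ((q : ℝ) * d) ≤ 1 / ((q : ℝ) * 7) :=
    one_div_le_one_div_of_le (by positivity) (by nlinarith)
  have h11 : 1 / ((p : ℝ) * d') < 1 / ((p : ℝ) * q) :=
    one_div_lt_one_div_of_lt (by positivity) (by nlinarith)
  have h12 : 1 / ((p : ℝ) * q) + 1 / ((q : ℝ) * 7) + 1 / ((p : ℝ) * q) +
      ((q : ℝ) - 1) * ((p : ℝ) - 1) / (q * p) + 1 / p < 1 := by
    have e : 1 / ((p : ℝ) * q) + 1 / ((q : ℝ) * 7) + 1 / ((p : ℝ) * q) +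
        ((q : ℝ) - 1) * ((p : ℝ) - 1) / (q * p) + 1 / p =
        1 - (6 * (p : ℝ) - 21) / (7 * (q * p)) := by
      field_simp
      ring
    rw [e, sub_lt_self_iff]
    exact div_pos (by linarith) (by positivity)
  linarith

end Cfsg.Agent.OddFinal
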