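import Cfsg.Agent.OddFinal.OvergroupBridge

/-!
# The overgroup of the normalizer of `U` has kernel `U`

`L` is a maximal subgroup of type I containing `N(U)`; its complement has order `q = |W₁|` or `p q`.
In the first case `L = U W₁` lies in `S`, so only the second occurs; in it the kernel is `U`, so the conjugate of
`W₂` in the complement normalises `U`.
-/

set_option autoImplicit false
set_option linter.unusedSectionVars false

namespace Cfsg.Agent.OddFinal

open Cfsg Char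

universe u

variable {G : Type u} [Group G] [Fintype G] {W₁ W₂ : Subgroup G}
  {η : (↥(W₁ ⊔ W₂) →* ℂˣ) → G → ℂ} {ι' : Type u} [Fintype ι'] {p q d u : ℕ}

/-- The set on which everything attached to a subgroup of type I lives. -/
noncomputable abbrev overSet (L : Subgroup G) : Set G :=
  Coherence.Dade.support (typeA L) (supportR L)

theorem IsOverFamily.mod_eq {ι : Type*} [Fintype ι] {S : Set G} {e k : ℕ} {Y : G → ℂ} {F : ι → G → ℂ}
    {n : ι → ℤ} {i₀ i₁ : ι} (h : IsOverFamily S η e k Y F n i₀ i₁) (he : 1 < e) : k % e = 1 := by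
  have h1 : (k : ℤ) = (e : ℤ) * ∑ i, n i ^ 2 + 1 := by linarith [h.size_eq]
  have h2 : (k : ℤ) % (e : ℤ) = 1 := by
    rw [h1, Int.mul_add_emod_self_left, Int.emod_eq_of_lt one_pos.le (by exact_mod_cast he)]
  exact_mod_cast h2

/-- The kernel of `L` has the order of `U` if the complement has order `q`. -/
theorem card_kernel_of_small (hG : IsMinSimpleOddOrder G) (hodd : Odd (Nat.card G))
    (hW : IsSelfNormalizingCyclic W₁ W₂) (hχ : IsCyclicTIFamily W₁ W₂ η)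
    (hq₁ : Nat.card W₁ = q) (hp₂ : Nat.card W₂ = p) (hqp : q < p)
    {L : Subgroup G} (hL : IsCoatom L) (hI : IsOfTypeI L)
    (hV : Disjoint (overSet L) (vSet W₁ W₂)) (hidx : (fittingHall L).index = q)
    (huk : u ∣ Nat.card (fittingHallOf L)) (hdu : d ≤ u)
    (hS : ∀ ψ : Right W₁ W₂, ψ.1 ≠ 1 → HasFrameOff (overSet L) η q ((d : ℤ) - 1) ψ.1) :
    Nat.card (fittingHallOf L) = u := by
  obtain ⟨ι, _, Y, F, n, i₀, i₁, hF⟩ := exists_overFamily hG hodd hL hI hW hχ hV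
  rw [hidx] at hF
  exact hF.toIsOver.card_eq_of_small hodd hW hχ hp₂ hqp Nat.card_pos huk hdu
    fun ψ hψ => (hS ψ hψ).hasFrame hF

/-- The kernel of `L` has the order of `U` if the complement has order `p q`. -/
theorem card_kernel_of_large (hG : IsMinSimpleOddOrder G) (hodd : Odd (Nat.card G))
    (hW : IsSelfNormalizingCyclic W₁ W₂) (hχ : IsCyclicTIFamily W₁ W₂ η)
    (hp : p.Prime) (hq : q.Prime) (hqp : q < p) (hq₁ : Nat.card W₁ = q) (hp₂ : Nat.card W₂ = p)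
    {L : Subgroup G} (hL : IsCoatom L) (hI : IsOfTypeI L)
    (hV : Disjoint (overSet L) (vSet W₁ W₂)) (hidx : (fittingHall L).index = p * q)
    (huk : u ∣ Nat.card (fittingHallOf L)) (huq : u % q = 1) (hdu : d ≤ u)
    (hu : u = (p ^ q - 1) / (p - 1) ∨ q * u = (p ^ q - 1) / (p - 1))
    (hS : ∀ ψ : Right W₁ W₂, ψ.1 ≠ 1 → HasFrameOff (overSet L) η q ((d : ℤ) - 1) ψ.1)
    {S' : Set G} {e' k' : ℕ} {Y' : G → ℂ} {F' : ι' → G → ℂ} {n' : ι' → ℤ} {j₀ j₁ : ι'}
    (hF' : IsOverFamily S' η e' k' Y' F' n' j₀ j₁) (hdis : Disjoint (overSet L) S')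
    (hk' : (q ^ p - 1) / (q - 1) ≤ k')
    (he' : e' = p ∨ e' = p * q ∧ ∀ φ : Left W₁ W₂, φ.1 ≠ 1 →
      HasFrameOff (overSet L) η p ((((q ^ p - 1) / (q - 1) : ℕ) : ℤ) - 1) φ.1) :
    Nat.card (fittingHallOf L) = u := by
  obtain ⟨ι, _, Y, F, n, i₀, i₁, hF⟩ := exists_overFamily hG hodd hL hI hW hχ hV
  rw [hidx] at hF
  have hq2 : q ≠ 2 := by
    rintro rfl
    have h1 : Odd (Nat.card W₁) := hodd.of_dvd_nat (Subgroup.card_subgroup_dvd_card _)
    rw [hq₁] at h1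
    exact absurd h1 (by decide)
  have hpq : 1 < p * q := one_lt_mul'' hp.one_lt hq.one_lt
  exact hF.toIsOver.card_eq_of_large hodd hW hχ hp hq hq2 hqp hq₁ hp₂ (hF.mod_eq hpq)
    (hodd.of_dvd_nat (Subgroup.card_subgroup_dvd_card _)) huk huq hdu hu
    (fun ψ hψ => (hS ψ hψ).hasFrame hF) (hF.isPartner hF' hdis hk')
    (he'.imp_right fun h => ⟨h.1, fun φ hφ => (h.2 φ hφ).hasFrame hF⟩)

/-- The complement cannot have order `q`. -/
theorem false_of_small (hG : IsMinSimpleOddOrder G) (hodd : Odd (Nat.card G))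
    (hW : IsSelfNormalizingCyclic W₁ W₂) (hχ : IsCyclicTIFamily W₁ W₂ η)
    (hq₁ : Nat.card W₁ = q) (hp₂ : Nat.card W₂ = p) (hqp : q < p)
    {L M U : Subgroup G} (hL : IsCoatom L) (hI : IsOfTypeI L) (hM : IsCoatom M) (hne : L ≠ M)
    (hUM : U ≤ M) (hW₁M : W₁ ≤ M) (hW₁L : W₁ ≤ L) (hUK : U ≤ fittingHallOf L) (hinf : U ⊓ W₁ = ⊥)
    (hV : Disjoint (overSet L) (vSet W₁ W₂)) (hidx : (fittingHall L).index = q)
    (hdu : d ≤ Nat.card U)
    (hS : ∀ ψ : Right W₁ W₂, ψ.1 ≠ 1 → HasFrameOff (overSet L) η q ((d : ℤ) - 1) ψ.1) : False := by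
  have h := card_kernel_of_small hG hodd hW hχ hq₁ hp₂ hqp hL hI hV hidx
    (Subgroup.card_dvd_of_le hUK) hdu hS
  have h2 := eq_sup_of_kernel hUK h hW₁L hinf (hidx.trans hq₁.symm)
  exact hne (hL.le_iff.1 (h2 ▸ sup_le hUM hW₁M) |>.resolve_left hM.1).symm

/-- A conjugate of `W₂` inside the overgroup normalises `U` once the kernel is `U`. -/
theorem conj_mem_normalizer {L U : Subgroup G} (hUK : U ≤ fittingHallOf L)
    (hcard : Nat.card (fittingHallOf L) = Nat.card U) {y : G}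
    (hy : ∀ x ∈ W₂, y * x * y⁻¹ ∈ L) :
    ∀ x ∈ W₂, y * x * y⁻¹ ∈ Subgroup.normalizer (U : Set G) :=
  fun x hx => (le_normalizer_of_kernel hUK hcard).2 (hy x hx)

end Cfsg.Agent.OddFinal
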