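import Cfsg.Agent.OddFinal.OvergroupFull

/-!
# The overgroup on the side of the larger prime power

The kernel of the overgroup of `N(V)` is `V`, without any partner; the masses used for this; two overgroups with
different kernels are not conjugate.
-/

set_option autoImplicit false
set_option linter.unusedSectionVars false

namespace Cfsg.Agent.OddFinal

open Cfsg Char
open scoped ComplexConjugate

universe u

theorem pow_swap_le {q n : ℕ} (hq : 1 ≤ q) (hn : q ≤ n) : n ^ (q - 1) ≤ q ^ (n - 1) := by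
  have base : ∀ j, j ≤ q → (q + 1) ^ j ≤ q ^ j * (j + 1) := by
    intro j
    induction j with
    | zero => intro _; simp
    | succ i ih =>
      intro hi
      have h := Nat.mul_le_mul_right (q + 1) (ih (by omega))
      rw [← pow_succ] at h
      refine h.trans ?_
      rw [pow_succ, mul_assoc, mul_assoc]
      exact Nat.mul_le_mul_left _ (by nlinarith)
  induction n, hn using Nat.le_induction with
  | base => exact le_rfl
  | succ m hm ih =>
    have h1 : ((m + 1) * q) ^ (q - 1) ≤ (m * (q + 1)) ^ (q - 1) :=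
      Nat.pow_le_pow_left (by nlinarith) _
    have h2 := base (q - 1) (Nat.sub_le _ _)
    rw [Nat.sub_add_cancel hq] at h2
    rw [mul_pow, mul_pow] at h1
    have h3 : (m + 1) ^ (q - 1) * q ^ (q - 1) ≤ q ^ (m - 1) * (q ^ (q - 1) * q) :=
      h1.trans (Nat.mul_le_mul ih h2)
    rw [mul_comm (q ^ (q - 1)) q, ← mul_assoc] at h3
    have h4 := Nat.le_of_mul_le_mul_right h3 (pow_pos (by omega) _)
    rwa [← pow_succ, show m - 1 + 1 = m by omega] at h4

theorem geom_le_two_mul {p q : ℕ} (hq2 : 2 ≤ q) (hqp : q < p) :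
    (p ^ q - 1) / (p - 1) ≤ 2 * ((q ^ p - 1) / (q - 1)) := by
  have hq : 1 ≤ q := by omega
  have h1 : (p ^ q - 1) / (p - 1) ≤ 2 * p ^ (q - 1) := by
    refine Nat.div_le_of_le_mul ?_
    have h : p ^ q = p * p ^ (q - 1) := by rw [← pow_succ', Nat.sub_add_cancel hq]
    have h' : p * p ^ (q - 1) ≤ 2 * (p - 1) * p ^ (q - 1) := Nat.mul_le_mul_right _ (by omega)
    rw [show (p - 1) * (2 * p ^ (q - 1)) = 2 * (p - 1) * p ^ (q - 1) by ring]
    omega
  exact h1.trans (Nat.mul_le_mul_left 2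
    ((pow_swap_le hq hqp.le).trans (geom_ge_pow (by omega) (by omega))))

theorem geom_mod_other {p q : ℕ} (hp : p.Prime) (hq : q.Prime) (hqp : q < p) :
    (q ^ p - 1) / (q - 1) % p = 1 := by
  haveI : Fact p.Prime := ⟨hp⟩
  set v := (q ^ p - 1) / (q - 1) with hv
  have h1 : ((v * (q - 1) : ℕ) : ZMod p) = ((q ^ p - 1 : ℕ) : ZMod p) := by
    rw [hv, Nat.div_mul_cancel (Nat.sub_one_dvd_pow_sub_one q p)]
  rw [Nat.cast_mul, Nat.cast_sub hq.pos, Nat.cast_sub (Nat.one_le_pow _ _ hq.pos), Nat.cast_pow,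
    ZMod.pow_card, Nat.cast_one] at h1
  have hne : (q : ZMod p) - 1 ≠ 0 := by
    rw [← Nat.cast_one, ← Nat.cast_sub hq.pos, ne_eq, ZMod.natCast_eq_zero_iff]
    exact fun h => absurd (Nat.le_of_dvd (by have := hq.two_le; omega) h) (by omega)
  have h2 : (v : ZMod p) = 1 := (mul_eq_right₀ hne).1 h1
  have h3 := congrArg ZMod.val h2
  rwa [ZMod.val_natCast, ZMod.val_one] at h3

theorem second_large {p k v : ℕ} (hp : p.Prime) (hp2 : p ≠ 2) (hk : k % p = 1) (hv : v % p = 1)
    (hko : Odd k) (hvk : v ∣ k) (hne : k ≠ v) : (2 * p + 1) * v ≤ k := by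
  obtain ⟨r, rfl⟩ := hvk
  have hrp : r % p = 1 := by
    rw [Nat.mul_mod, hv, one_mul, Nat.mod_mod] at hk; exact hk
  obtain ⟨-, hro⟩ := Nat.odd_mul.1 hko
  have hr1 : r ≠ 1 := fun e => hne (by rw [e, mul_one])
  have h := Nat.mod_add_div r p
  rw [hrp] at h
  rw [mul_comm]
  refine Nat.mul_le_mul_left _ ?_
  rcases Nat.lt_or_ge (r / p) 2 with h2 | h2
  · obtain ⟨j, hj⟩ := hp.odd_of_ne_two hp2
    obtain ⟨i, hi⟩ := hro
    interval_cases hm : r / p <;> omega
  · nlinarith

variable {G : Type u} [Group G] [Fintype G] {W₁ W₂ : Subgroup G}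
  {η : (↥(W₁ ⊔ W₂) →* ℂˣ) → G → ℂ}

/-- The proportion of `G` in `Ã(L)` for `L` of type I is at most `1 / e`. -/
theorem mass_overSet_le (hG : IsMinSimpleOddOrder G) {L : Subgroup G} (hL : IsCoatom L)
    (hI : IsOfTypeI L) :
    mass (overSet L) (fun _ => 1) ≤ 1 / ((fittingHall L).index : ℝ) := by
  classical
  let _ := Fintype.ofFinite ↥L
  obtain ⟨a, b, c⟩ := OddLocal.attached_cases hG hL (A := typeA L) (Or.inr (Or.inl rfl))
  have hD := (OddLocal.dade_of_subset hG hL a b c).2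
  have hfrob : ∀ x ∈ fittingHallOf L, x ≠ 1 →
      L ⊓ Subgroup.centralizer ({x} : Set G) ≤ fittingHallOf L :=
    fun x hx hx1 => OddTypeOne.frobenius_of_typeI (OddTypeOne.tau2Empty hG) hG hL hI hx hx1
  rw [overSet, mass_support_one hD]
  have h1 : Nat.card {x : L // (x : G) ∈ typeA L} ≤ Nat.card (fittingHall L) :=
    Nat.card_le_card_of_injective
      (fun x => (⟨x.1, ((OddCharTypeI.mem_typeA hfrob hI x.1).1 x.2).1⟩ : fittingHall L))
      fun x y h => Subtype.ext (by simpa using congrArg (fun z : fittingHall L => (z : L)) h)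
  have hK : (0 : ℝ) < Nat.card (fittingHall L) := Nat.cast_pos.2 Nat.card_pos
  have hi : (0 : ℝ) < (fittingHall L).index :=
    Nat.cast_pos.2 (Nat.pos_of_ne_zero Subgroup.index_ne_zero_of_finite)
  rw [← Subgroup.card_mul_index (fittingHall L), Nat.cast_mul, div_le_div_iff₀ (by positivity) hi,
    one_mul]
  exact mul_le_mul_of_nonneg_right (by exact_mod_cast h1) hi.le

/-- The proportion of `G` in the conjugates of the kernel of a side is at most `1 / (q d)`. -/
theorem Ctx.mass_sharp_le {M K : Subgroup G} [Fintype ↥M] {d : ℕ} {X : Finset (↥M → ℂ)}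
    {μ : (↥(W₁ ⊔ W₂) →* ℂˣ) → ↥M → ℂ} {B : Set G} (h : Ctx M W₁ W₂ K d X μ η B) :
    mass (conjAll (sharp K)) (fun _ => 1) ≤ 1 / ((Nat.card W₁ : ℝ) * d) := by
  have hs := h.side.dade
  have hsub : sharp K ⊆ sharp K ∪ conjIn M (vSet W₁ W₂) := Set.subset_union_left
  have hinv : ∀ x ∈ M, ∀ a ∈ sharp K, x * a * x⁻¹ ∈ sharp K := fun x hx a ha =>
    ⟨(Subgroup.mem_normalizer_iff.1 (h.side.normal hx) a).1 ha.1, fun e => ha.2 (by
      rw [Set.mem_singleton_iff] at e ⊢
      exact conj_eq_one_iff.1 e)⟩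
  have hD : DadeHypothesis (sharp K) M (fun _ => ⊥) :=
    { one_not_mem := fun e => hs.one_not_mem (hsub e)
      subset := fun a ha => hs.subset (hsub ha)
      conj_mem := hinv
      fusion := fun a ha g hg => hs.fusion a (hsub ha) g (hsub hg)
      le_centralizer := fun a ha => hs.le_centralizer a (hsub ha)
      conj_mem_H := fun a ha => hs.conj_mem_H a (hsub ha)
      inf_eq_bot := fun a ha => hs.inf_eq_bot a (hsub ha)
      sup_eq := fun a ha => hs.sup_eq a (hsub ha)
      coprime := fun a ha b hb => hs.coprime a (hsub ha) b (hsub hb) }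
  rw [mass_conjAll_one hD]
  have h1 : (sharp K).ncard ≤ Nat.card K :=
    (Set.ncard_le_ncard Set.sdiff_subset (Set.toFinite _)).trans_eq (Nat.card_coe_set_eq _).symm
  have hc : 0 < Nat.card W₁ * d * Nat.card K := h.side.card_eq ▸ Nat.card_pos
  have hd0 : (0 : ℝ) < (Nat.card W₁ : ℝ) * d := by
    exact_mod_cast Nat.pos_of_ne_zero fun e => by rw [e, zero_mul] at hc; exact lt_irrefl 0 hc
  have hM : (Nat.card M : ℝ) = (Nat.card W₁ : ℝ) * d * Nat.card K := by
    rw [h.side.card_eq]; push_cast; ring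
  rw [hM, div_le_div_iff₀ (mul_pos hd0 (Nat.cast_pos.2 Nat.card_pos)) hd0, one_mul,
    mul_comm ((Nat.card W₁ : ℝ) * d) (Nat.card K : ℝ)]
  exact mul_le_mul_of_nonneg_right (by exact_mod_cast h1) hd0.le

/-- The kernel of the overgroup of `N(V)` has the order of `V`. -/
theorem card_kernel_second {p q d d' : ℕ} {KS KT : Set G} (hG : IsMinSimpleOddOrder G)
    (hodd : Odd (Nat.card G)) (hW : IsSelfNormalizingCyclic W₁ W₂)
    (hχ : IsCyclicTIFamily W₁ W₂ η) (hp : p.Prime) (hq : q.Prime) (hqp : q < p)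
    (hq₁ : Nat.card W₁ = q) (hp₂ : Nat.card W₂ = p)
    {L : Subgroup G} (hL : IsCoatom L) (hI : IsOfTypeI L)
    (hV : Disjoint (overSet L) (vSet W₁ W₂))
    (hidx : (fittingHall L).index = p ∨ (fittingHall L).index = p * q)
    (hvk : (q ^ p - 1) / (q - 1) ∣ Nat.card (fittingHallOf L))
    (hd : d ≤ (p ^ q - 1) / (p - 1)) (hd' : d' ≤ (q ^ p - 1) / (q - 1))
    (hd7 : 7 ≤ d) (hdq : q < d')
    (hS : ∀ ψ : Right W₁ W₂, ψ.1 ≠ 1 → HasFrameOff (overSet L) η q ((d : ℤ) - 1) ψ.1)
    (hT : ∀ φ : Left W₁ W₂, φ.1 ≠ 1 → HasFrameOff (overSet L) η p ((d' : ℤ) - 1) φ.1)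
    (hval : ∀ g, g ∉ KS → g ∉ KT → g ∉ vG W₁ W₂ →
      ∃ a b : ℤ, (∀ φ : Left W₁ W₂, φ.1 ≠ 1 → η φ.1 g = a) ∧
        ∀ ψ : Right W₁ W₂, ψ.1 ≠ 1 → η ψ.1 g = b)
    (hmKS : mass KS (fun _ => 1) ≤ 1 / ((q : ℝ) * d))
    (hmKT : mass KT (fun _ => 1) ≤ 1 / ((p : ℝ) * d')) :
    Nat.card (fittingHallOf L) = (q ^ p - 1) / (q - 1) := by
  classical
  by_contra hne
  have hq3 : 3 ≤ q := by
    have h1 : Odd (Nat.card W₁) := hodd.of_dvd_nat (Subgroup.card_subgroup_dvd_card _)
    rw [hq₁] at h1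
    obtain ⟨m, rfl⟩ := h1
    have := hq.two_le
    omega
  obtain ⟨ι, _, Y, F, n, i₀, i₁, hF⟩ := exists_overFamily hG hodd hL hI hW hχ hV
  set e := (fittingHall L).index with he
  set k := Nat.card (fittingHallOf L) with hk
  set v := (q ^ p - 1) / (q - 1) with hv
  have hp2 : p ≠ 2 := by omega
  have he1 : 1 < e := by
    rcases hidx with h | h <;> rw [h]
    · exact hp.one_lt
    · exact one_lt_mul'' hp.one_lt hq.one_lt
  have hkp : k % p = 1 := by
    have h1 := hF.mod_eq he1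
    rcases hidx with h | h <;> rw [h] at h1
    · exact h1
    · rw [← Nat.mod_mul_right_mod k p q, h1, Nat.mod_eq_of_lt hp.one_lt]
  have hbig := second_large hp hp2 hkp (geom_mod_other hp hq hqp)
    (hodd.of_dvd_nat (Subgroup.card_subgroup_dvd_card _)) hvk hne
  have hbigZ : (2 * (p : ℤ) + 1) * (v : ℤ) ≤ (k : ℤ) := by exact_mod_cast hbig
  have hN : (d : ℤ) ≤ 2 * (v : ℤ) := by
    exact_mod_cast hd.trans (geom_le_two_mul hq.two_le hqp)
  have hd'Z : (d' : ℤ) ≤ (v : ℤ) := by exact_mod_cast hd'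
  have heq := hF.size_eq
  set s : ℤ := ∑ i, n i ^ 2 with hs
  have hs0 : 0 ≤ s := Finset.sum_nonneg fun _ _ => sq_nonneg _
  have hepq : (e : ℤ) ≤ (p : ℤ) * q := by
    rcases hidx with h | h <;> rw [h]
    · exact_mod_cast Nat.le_mul_of_pos_right p hq.pos
    · push_cast; exact le_rfl
  have hp0 : (0 : ℤ) ≤ p := Int.natCast_nonneg p
  have hq0 : (0 : ℤ) ≤ q := Int.natCast_nonneg q
  have hqpZ : (q : ℤ) < p := by exact_mod_cast hqp
  have hv0 : (0 : ℤ) < v := by
    have := geom_ge_pow (p := q) (q := p) hq.two_le hp.pos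
    have h2 : 0 < q ^ (p - 1) := pow_pos hq.pos _
    exact_mod_cast (by omega : 0 < v)
  have hB : ∀ ψ : Right W₁ W₂, ψ.1 ≠ 1 → ∃ c : ℤ, Odd c ∧ classInner Y (η ψ.1) = (c : ℂ) := by
    intro ψ hψ
    refine (hF.toIsOver.or_odd hodd ((hS ψ hψ).hasFrame hF)).resolve_left fun hg => ?_
    have h1 : (e : ℤ) * s ≤ (p : ℤ) * ((q : ℤ) * s) := by
      rw [← mul_assoc]; exact mul_le_mul_of_nonneg_right hepq hs0
    have h2 := mul_le_mul_of_nonneg_left hg hp0
    have h3 := mul_le_mul_of_nonneg_left hN hp0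
    nlinarith
  have hA : ∀ φ : Left W₁ W₂, φ.1 ≠ 1 → ∃ c : ℤ, Odd c ∧ classInner Y (η φ.1) = (c : ℂ) := by
    intro φ hφ
    refine (hF.toIsOver.or_odd hodd ((hT φ hφ).hasFrame hF)).resolve_left fun hg => ?_
    have h1 : (e : ℤ) * s ≤ (q : ℤ) * ((p : ℤ) * s) := by
      rw [← mul_assoc, mul_comm (q : ℤ) p]; exact mul_le_mul_of_nonneg_right hepq hs0
    have h2 := mul_le_mul_of_nonneg_left hg hq0
    have h3 := mul_le_mul_of_nonneg_left hd'Z hq0
    nlinarith
  rcases hidx with h | h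
  · have hall := odd_everywhere hW hχ hF.frame.gen hF.vanish hF.frame.one hA hB
    have := CyclicTI.finite_hom (W₁ ⊔ W₂)
    let _ := Fintype.ofFinite (↥(W₁ ⊔ W₂) →* ℂˣ)
    have h2 := hF.toIsOver.count hχ (Finset.univ.erase 1) (fun ω hω => (Finset.mem_erase.1 hω).1)
      fun ω _ => odd_coeff_ne_zero (hall ω)
    rw [Finset.card_erase_of_mem (Finset.mem_univ _), Finset.card_univ, card_hom hW, hq₁, hp₂,
      h] at h2
    have h3 : 3 * p ≤ q * p := Nat.mul_le_mul_right p hq3
    have := hp.two_le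
    omega
  · rw [h] at hF
    refine hF.false_of_full hodd hW hχ hq₁ hp₂ hqp hA hB hval ?_ hmKS hmKT hd7 hdq ?_
    · have := mass_overSet_le hG hL hI
      rw [← he, h] at this
      push_cast at this
      exact this
    · show (p : ℤ) ≤ s
      have h1 := hF.size_eq
      push_cast at h1
      by_contra hlt
      push Not at hlt
      have h4 : (p : ℤ) * q * s ≤ (p : ℤ) * q * p :=
        mul_le_mul_of_nonneg_left hlt.le (by positivity)
      have h5 : (q : ℤ) * p ≤ (v : ℤ) := by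
        have h6 := geom_ge_sq (p := q) (q := p) hq.two_le (by omega)
        have h7 : p ^ (q - 1) ≤ v :=
          (pow_swap_le hq.one_lt.le hqp.le).trans (geom_ge_pow hq.two_le hp.pos)
        have h8 : p ^ 2 ≤ v := (Nat.pow_le_pow_right hp.pos (by omega)).trans h7
        have h9 : q * p ≤ p ^ 2 := by rw [sq]; exact Nat.mul_le_mul_right p hqp.le
        exact_mod_cast h9.trans h8
      nlinarith [mul_le_mul_of_nonneg_left h5 hp0]

theorem card_fittingHall_le {H M : Type*} [Group H] [Group M] [Finite M] (e : H ≃* M) :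
    Nat.card (fittingHall H) ≤ Nat.card (fittingHall M) := by
  have hle : (fittingHall H).map e.toMonoidHom ≤ fittingHall M := by
    rw [Subgroup.map_le_iff_le_comap]
    refine sSup_le fun N hN => Subgroup.map_le_iff_le_comap.1 (le_sSup ?_)
    obtain ⟨hn, hnil, hcop⟩ := hN
    refine ⟨Subgroup.Normal.map hn _ e.surjective, Group.nilpotent_of_mulEquiv
      (N.equivMapOfInjective e.toMonoidHom e.injective), ?_⟩
    rw [Subgroup.card_map_of_injective (f := e.toMonoidHom) e.injective,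
      Subgroup.index_map_of_bijective (f := e.toMonoidHom) e.bijective]
    exact hcop
  calc Nat.card (fittingHall H) = Nat.card ((fittingHall H).map e.toMonoidHom) :=
        (Subgroup.card_map_of_injective (f := e.toMonoidHom) e.injective).symm
    _ ≤ _ := Subgroup.card_le_of_le hle

theorem card_fittingHallOf_conj (L : Subgroup G) (g : G) :
    Nat.card (fittingHallOf (L.map (MulAut.conj g).toMonoidHom)) = Nat.card (fittingHallOf L) := by
  rw [fittingHallOf, fittingHallOf, Subgroup.card_map_of_injective (Subgroup.subtype_injective _),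
    Subgroup.card_map_of_injective (Subgroup.subtype_injective _)]
  let f := L.equivMapOfInjective (MulAut.conj g).toMonoidHom (MulAut.conj g).injective
  exact le_antisymm (card_fittingHall_le f.symm) (card_fittingHall_le f)

/-- Overgroups with kernels of coprime orders on the two sides are not conjugate. -/
theorem not_conj_of_card {L L' : Subgroup G} {u v : ℕ} (hu : u ∣ Nat.card (fittingHallOf L))
    (hv : Nat.card (fittingHallOf L') = v) (hcop : u.Coprime v) (hu1 : 1 < u) (g : G) :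
    L ≠ L'.map (MulAut.conj g).toMonoidHom := by
  intro e
  subst e
  rw [card_fittingHallOf_conj, hv] at hu
  exact hu1.ne' (Nat.Coprime.eq_one_of_dvd hcop hu)

end Cfsg.Agent.OddFinal
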