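import Cfsg.Agent.OddFinal.DerivedFalse
import Cfsg.Agent.OddFinal.PairChar

/-!
# The members of Type III and IV

The first pattern gives a contradiction; it is forced when `q < p`.
-/

set_option autoImplicit false
set_option linter.unusedSectionVars false

namespace Cfsg.Agent.OddFinal

open Cfsg Char CyclicTI
open scoped ComplexConjugate
open scoped _root_.Classical

universe u

variable {G : Type u} [Group G] [Fintype G] {M W₁ W₂ K N : Subgroup G} [Fintype ↥M] {d : ℕ}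
  {X : Finset (↥M → ℂ)} {μ : (↥(W₁ ⊔ W₂) →* ℂˣ) → ↥M → ℂ}
  {η : (↥(W₁ ⊔ W₂) →* ℂˣ) → G → ℂ} {π : ↥M → ℂ} {Z : Finset (↥M → ℂ)}
  {T K' : Subgroup G} [Fintype ↥T] {d' : ℕ} {X' : Finset (↥T → ℂ)}
  {μ' : (↥(W₂ ⊔ W₁) →* ℂˣ) → ↥T → ℂ}

theorem conjAll_subset {A B : Set G} (h : A ⊆ B) : conjAll A ⊆ conjAll B := by
  rintro g ⟨x, a, ha, rfl⟩; exact ⟨x, a, h ha, rfl⟩

variable (hs : IsSide M W₁ W₂ K d X μ η) (hb : IsBridge M W₁ W₂ K d X μ π)
  (hs' : IsSide T W₂ W₁ K' d' X' μ' (fun f => η (swapHom f)))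
  (hD : IsDerived M W₁ W₂ K N d μ π Z)
  (hW : IsSelfNormalizingCyclic W₁ W₂) (hη : IsCyclicTIFamily W₁ W₂ η) (hodd : Odd (Nat.card G))
  (hNK : Disjoint (conjAll (sharp N)) (conjAll (sharp K')))
  (hKV : Disjoint (conjAll (sharp K')) (conjAll (vSet W₁ W₂)))
  (hd : 1 < d) (hd' : 7 ≤ d')

include hs hs' hD hW hη hodd hNK

theorem derived_ctx : Ctx M W₁ W₂ K d X μ η (conjAll (sharp K')) :=
  ctx_of_sides hs hs' hW hη hodd
    (hNK.mono_left (conjAll_subset (A := sharp K) (B := sharp N) fun _ hx => ⟨hD.K_le hx.1, hx.2⟩))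

/-- The first pattern is impossible. -/
theorem false_of_firstPattern (hb : IsBridge M W₁ W₂ K d X μ π) (hd : 1 < d) (hd' : 7 ≤ d')
    (hKV : Disjoint (conjAll (sharp K')) (conjAll (vSet W₁ W₂)))
    (hP : IsFirstPattern M W₁ W₂ N η Z) : False := by
  refine hD.false_of_first (derived_ctx hs hs' hD hW hη hodd hNK) hNK hP hb hd hKV ?_
  refine (hs'.mass_sharp_le).trans ?_
  have hp : (0 : ℝ) < Nat.card W₂ := by exact_mod_cast Nat.card_pos
  have h7 : (7 : ℝ) ≤ d' := by exact_mod_cast hd'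
  rw [mul_comm (7 : ℝ)]
  exact one_div_le_one_div_of_le (by positivity) (mul_le_mul_of_nonneg_left h7 hp.le)

/-- The pattern of a member is the first or the second. -/
theorem first_or_second :
    IsFirstPattern M W₁ W₂ N η Z ∨ (¬ Nat.card W₁ + 1 < Nat.card W₂ ∧
      ∀ ζ ∈ Z, ∀ φ : Left W₁ W₂, φ.1 ≠ 1 → classInner (derY M W₁ N ζ) (η φ.1) = 0) := by
  obtain ⟨a, ha, hlt, hpat⟩ := hD.pattern (derived_ctx hs hs' hD hW hη hodd hNK) hNK
  by_cases h1 : a = 1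
  · subst h1
    exact Or.inl fun ζ hζ => ⟨fun φ hφ => by rw [(hpat ζ hζ).1 φ hφ, Int.cast_one],
      fun ψ hψ => by rw [(hpat ζ hζ).2 ψ hψ, Int.cast_one, sub_self]⟩
  · refine Or.inr ⟨fun hh => h1 (hlt hh), fun ζ hζ φ hφ => ?_⟩
    rw [(hpat ζ hζ).1 φ hφ, ha.resolve_right h1, Int.cast_zero]

/-- The member with the short complement is not of Type III or IV. -/
theorem false_of_derived_short (hb : IsBridge M W₁ W₂ K d X μ π) (hd : 1 < d) (hd' : 7 ≤ d')
    (hKV : Disjoint (conjAll (sharp K')) (conjAll (vSet W₁ W₂)))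
    (hqp : Nat.card W₁ + 1 < Nat.card W₂) : False := by
  rcases first_or_second hs hs' hD hW hη hodd hNK with hP | ⟨hh, -⟩
  · exact false_of_firstPattern hs hs' hD hW hη hodd hNK hb hd hd' hKV hP
  · exact hh hqp

end Cfsg.Agent.OddFinal
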