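import Cfsg.Agent.OddFinal.Kit
import Cfsg.Agent.OddFinal.Steps

/-!
# Both members are of Type II, the long one maximal, the short one maximal or residual
-/

set_option autoImplicit false
set_option linter.unusedSectionVars false

namespace Cfsg.Agent.OddFinal

open Subgroup Cfsg Cfsg.Agent.Char CyclicTI
open scoped _root_.Classical

universe u

variable {G : Type u} [Group G] [Fintype G] {S T W₁ W₂ U V H₀ H₁ : Subgroup G} [Fintype ↥S]
  [Fintype ↥T] {η : (↥(W₁ ⊔ W₂) →* ℂˣ) → G → ℂ}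

theorem odd_lt_add_two {p q : ℕ} (hp : Odd p) (hq : Odd q) (h : q < p) : q + 1 < p := by
  obtain ⟨a, rfl⟩ := hp
  obtain ⟨b, rfl⟩ := hq
  omega

theorem seven_le_relIndex (hG : IsMinSimpleOddOrder G) {M A B U' X : Subgroup G} (hM : IsCoatom M)
    (hd : IsTypePWith M A U' B) (hc : Chief M A U' B X) (hA : 3 ≤ Nat.card A) :
    7 ≤ (cKer M U' X).relIndex U' := by
  obtain ⟨⟨h1, ho, hm⟩, -, -⟩ := chief_shape_facts hG hM hd hc
  have hAo := odd_card hG A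
  rcases MaxArith.eq_one_or_le hA ho hAo hm with e | e
  · exact absurd e (by omega)
  · exact le_trans (by omega) e

variable (hG : IsMinSimpleOddOrder G) (h : Pair S T W₁ W₂ U V)
  (hη : IsCyclicTIFamily W₁ W₂ η) (kS : Kit S W₁ U W₂ H₀ η)
  (kT : Kit T W₂ V W₁ H₁ (fun f => η (swapHom f))) (hqp : Nat.card W₁ < Nat.card W₂)

include hG h hη kS kT hqp

/-- The short member is of Type II. -/
theorem typeII_short : IsOfTypeII S := by
  by_contra hII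
  obtain ⟨X, μ, π, hs, hb, -, hder⟩ := kS.chars
  obtain ⟨X', μ', π', hs', hb', -, -⟩ := kT.chars
  obtain ⟨Z, hD⟩ := hder hII
  obtain ⟨d1, -, d3⟩ := h.disjoint_kernels hG (sharp_derived_subset hG h.maxS h.typeS hII) kT.sub
  have hW := h.dataS.selfNormalizing
  have h3 : 3 ≤ Nat.card W₂ := by
    have := (odd_card hG W₁).pos
    obtain ⟨k, hk⟩ := odd_card hG W₂
    omega
  exact false_of_derived_short hs hs' hD hW hη hG.1 d1 hb
    (chief_shape_facts hG h.maxS h.dataS kS.chief).1.1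
    (seven_le_relIndex hG h.maxT h.dataT kT.chief h3) d3
    (odd_lt_add_two (odd_card hG W₂) (odd_card hG W₁) hqp)

/-- The arithmetic outcome. -/
theorem pair_outcome :
    (IsIrredMod T V H₁ ∧
      (cKer T V H₁).relIndex V = (Nat.card W₁ ^ Nat.card W₂ - 1) / (Nat.card W₁ - 1) ∧
      ⁅cKer T V H₁, cKer T V H₁⁆.relIndex (cKer T V H₁) = 1) ∧
    ((IsIrredMod S U H₀ ∧ ⁅cKer S U H₀, cKer S U H₀⁆.relIndex (cKer S U H₀) = 1 ∧
        (cKer S U H₀).relIndex U = (Nat.card W₂ ^ Nat.card W₁ - 1) / (Nat.card W₂ - 1)) ∨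
      (IsIrredMod S U H₀ ∧ Nat.card W₁ ∣ Nat.card W₂ - 1 ∧
        ⁅cKer S U H₀, cKer S U H₀⁆.relIndex (cKer S U H₀) = 1 ∧
        Nat.card W₁ * (cKer S U H₀).relIndex U =
          (Nat.card W₂ ^ Nat.card W₁ - 1) / (Nat.card W₂ - 1)) ∨
      (¬ IsIrredMod S U H₀ ∧ Nat.card W₁ = 3 ∧
        ⁅cKer S U H₀, cKer S U H₀⁆.relIndex (cKer S U H₀) = 1 ∧
        4 * (cKer S U H₀).relIndex U = (Nat.card W₂ - 1) ^ 2) ∨
      (IsIrredMod S U H₀ ∧ Nat.card W₂ = 5 ∧ Nat.card W₁ = 3 ∧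
        (cKer S U H₀).relIndex U = 31 ∧
        ⁅cKer S U H₀, cKer S U H₀⁆.relIndex (cKer S U H₀) = 7)) := by
  obtain ⟨X, μ, π, hs, hb, hcS, -⟩ := kS.chars
  obtain ⟨X', μ', π', hs', hb', hcT, -⟩ := kT.chars
  obtain ⟨d1, d2, d3⟩ := h.disjoint_kernels hG kS.sub kT.sub
  obtain ⟨⟨a1, a2, a3⟩, a4, a5⟩ := chief_shape_facts hG h.maxS h.dataS kS.chief
  obtain ⟨⟨b1, b2, b3⟩, b4, b5⟩ := chief_shape_facts hG h.maxT h.dataT kT.chief
  refine pair_max hs hb hs' hb' h.dataS.selfNormalizing hη hG.1 d1 d2 d3 rfl rfl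
    kS.chief.prime_W₂ kS.chief.prime_W₁ hqp ⟨a1, a2, a3, a4, a5⟩ ⟨b1, b2, b3, b4, b5⟩ hcS
    (hcT.imp (fun x => ⟨x.1, x.2.1, x.2.2.2⟩) fun x => ⟨x.1, x.2.1, x.2.2⟩)

end Cfsg.Agent.OddFinal
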