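import Cfsg.Agent.OddFinal.TypeTwoSplit
import Cfsg.Agent.OddFinal.ChiefTools

/-!
# Shape of `U` in the outcomes of the arithmetic

For a member of Type II with `C = U ∩ C(M_F)`, `d = |U : C|`, `c = |C|`: the group theoretic
consequences of the numerical outcomes, and the elementary properties of `d` and `c`.
-/

set_option autoImplicit false
set_option linter.unusedSectionVars false
set_option linter.style.haveILetI false

namespace Cfsg.Agent.OddFinal

open Subgroup Cfsg
open scoped commutatorElement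

universe u

variable {G : Type u} [Group G] [Finite G] {M W₁ U W₂ H₀ : Subgroup G}

theorem mod_eq_one_of_modEq {n q : ℕ} (hq : q.Prime) (h : n ≡ 1 [MOD q]) : n % q = 1 :=
  Eq.trans h (Nat.mod_eq_of_lt hq.one_lt)

section Basic

variable (hG : IsMinSimpleOddOrder G)
include hG

theorem odd_card (X : Subgroup G) : Odd (Nat.card X) :=
  hG.1.of_dvd_nat (card_subgroup_dvd_card X)

theorem odd_relIndex {X Y : Subgroup G} (h : X ≤ Y) : Odd (X.relIndex Y) :=
  (odd_card hG Y).of_dvd_nat ⟨Nat.card X, by rw [mul_comm, Coprime.card_mul_relIndex_of_le h]⟩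

/-- Facts about `d = |U : C|` and `c = [C : C']` for a chief factor. -/
theorem chief_shape_facts (hM : IsCoatom M) (hd : IsTypePWith M W₁ U W₂)
    (hc : Chief M W₁ U W₂ H₀) :
    (1 < (U ⊓ modCent (fittingHallOf M) H₀).relIndex U ∧
      Odd ((U ⊓ modCent (fittingHallOf M) H₀).relIndex U) ∧
      (U ⊓ modCent (fittingHallOf M) H₀).relIndex U % Nat.card W₁ = 1) ∧
    Odd (⁅U ⊓ modCent (fittingHallOf M) H₀, U ⊓ modCent (fittingHallOf M) H₀⁆.relIndex
        (U ⊓ modCent (fittingHallOf M) H₀)) ∧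
    ⁅U ⊓ modCent (fittingHallOf M) H₀, U ⊓ modCent (fittingHallOf M) H₀⁆.relIndex
        (U ⊓ modCent (fittingHallOf M) H₀) % Nat.card W₁ = 1 := by
  haveI := Fact.mk hc.prime_W₁
  set C := U ⊓ modCent (fittingHallOf M) H₀ with hC
  have hm := (hc.relIndex_modEq hd).2.2
  have hlt := hc.C_lt_U hd
  refine ⟨⟨?_, odd_relIndex hG hlt.le, mod_eq_one_of_modEq hc.prime_W₁ hm⟩,
    odd_relIndex hG (Subgroup.commutator_le_self C), mod_eq_one_of_modEq hc.prime_W₁ ?_⟩
  · refine Nat.one_lt_iff_ne_zero_and_ne_one.2 ⟨?_, fun e => hlt.ne ?_⟩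
    · intro e
      have h1 := Coprime.card_mul_relIndex_of_le hlt.le
      rw [e, mul_zero] at h1
      exact Nat.card_pos.ne h1
    · exact le_antisymm hlt.le (relIndex_eq_one.1 e)
  · have key : ∀ L : Subgroup G, L ≤ U → W₁ ≤ normalizer (L : Set G) →
        Nat.card L ≡ 1 [MOD Nat.card W₁] := fun L hL hn => by
      have h := SylowNumber.card_modEq_inf_centralizer (IsPGroup.of_card (pow_one _).symm) hn
      obtain ⟨x, hx, hx1⟩ := OddLocal.exists_mem_ne_one _ hd.W₁_ne
      have he : L ⊓ centralizer (W₁ : Set G) = ⊥ :=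
        le_bot_iff.1 (TypeTwo.U_inf_centralizer hd hx hx1 ▸
          inf_le_inf hL (centralizer_le (Set.singleton_subset_iff.2 hx)))
      rwa [he, card_bot] at h
    have hCn : W₁ ≤ normalizer (C : Set G) := le_sup_right.trans (hc.sup_le_normalizer_C hd)
    have h1 := key C inf_le_left hCn
    have h2 := key ⁅C, C⁆ ((Subgroup.commutator_le_self C).trans inf_le_left) fun w hw =>
      OddLocal.mem_normalizer_of_map_conj (by
        rw [map_commutator, OddLocal.map_conj_eq_self_of_mem (hCn hw)])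
    rw [← Coprime.card_mul_relIndex_of_le (Subgroup.commutator_le_self C)] at h1
    have := (h2.mul_right (⁅C, C⁆.relIndex C)).symm.trans h1
    rwa [one_mul] at this

variable (hM : IsCoatom M) (hd : IsTypePWith M W₁ U W₂) (hII : IsOfTypeII M)
include hM hd hII

/-- Facts about `d = |U : C|` and `c = |C|` for Type II. -/
theorem shape_facts :
    (1 < (U ⊓ centralizer (fittingHallOf M : Set G)).relIndex U ∧
      Odd ((U ⊓ centralizer (fittingHallOf M : Set G)).relIndex U) ∧
      (U ⊓ centralizer (fittingHallOf M : Set G)).relIndex U % Nat.card W₁ = 1) ∧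
    Odd (Nat.card ↥(U ⊓ centralizer (fittingHallOf M : Set G))) ∧
    Nat.card ↥(U ⊓ centralizer (fittingHallOf M : Set G)) % Nat.card W₁ = 1 := by
  have hq := TypeTwo.card_W₁_prime hG hM hd hII
  obtain ⟨h1, -, h3⟩ := TypeTwo.relIndex_modEq hG hM hd hII
  refine ⟨⟨?_, odd_relIndex hG inf_le_left, mod_eq_one_of_modEq hq h3⟩, odd_card hG _,
    mod_eq_one_of_modEq hq h1⟩
  refine Nat.one_lt_iff_ne_zero_and_ne_one.2 ⟨fun e => ?_, fun e => ?_⟩
  · have := mod_eq_one_of_modEq hq h3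
    rw [e, Nat.zero_mod] at this
    exact zero_ne_one this
  · exact (TypeTwo.C_lt_U hG hM hd hII).ne (le_antisymm inf_le_left (relIndex_eq_one.1 e))

/-- `c = 1` means `C = 1` and `d = |U|`. -/
theorem of_card_C_eq_one
    (hc : Nat.card ↥(U ⊓ centralizer (fittingHallOf M : Set G)) = 1) :
    U ⊓ centralizer (fittingHallOf M : Set G) = ⊥ ∧
      (U ⊓ centralizer (fittingHallOf M : Set G)).relIndex U = Nat.card U := by
  have hb := Subgroup.card_eq_one.1 hc
  exact ⟨hb, by rw [hb, relIndex_bot_left]⟩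

/-- Irreducible action with `c = 1`: `U` is cyclic and fixed point free. -/
theorem irred_shape (hp : (Nat.card W₂).Prime) (hirr : TypeTwo.IsIrred M U)
    (hc : Nat.card ↥(U ⊓ centralizer (fittingHallOf M : Set G)) = 1) :
    IsCyclic U ∧ U ⊓ centralizer (fittingHallOf M : Set G) = ⊥ ∧
      (∀ x ∈ fittingHallOf M, x ≠ 1 → U ⊓ centralizer ({x} : Set G) = ⊥) ∧
      (U ⊓ centralizer (fittingHallOf M : Set G)).relIndex U = Nat.card U := by
  obtain ⟨hb, hr⟩ := of_card_C_eq_one hG hM hd hII hc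
  obtain ⟨g, -, hg⟩ := TypeTwo.exists_generator hG hM hd hII hp hirr
  rw [hb, bot_sup_eq] at hg
  have hcyc : IsCyclic U := hg ▸ inferInstance
  exact ⟨hcyc, hb, fun x hx hx1 => TypeTwo.fpf_of_isCyclic hG hM hd hII hcyc hx hx1, hr⟩

/-- Outcome (1): `c = 1`, `d = N`. -/
theorem shape_max (hp : (Nat.card W₂).Prime) (hirr : TypeTwo.IsIrred M U)
    (hc : Nat.card ↥(U ⊓ centralizer (fittingHallOf M : Set G)) = 1)
    (hdN : (U ⊓ centralizer (fittingHallOf M : Set G)).relIndex U =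
      (Nat.card W₂ ^ Nat.card W₁ - 1) / (Nat.card W₂ - 1)) :
    IsCyclic U ∧ Nat.card U = (Nat.card W₂ ^ Nat.card W₁ - 1) / (Nat.card W₂ - 1) ∧
      (∀ x ∈ fittingHallOf M, x ≠ 1 → U ⊓ centralizer ({x} : Set G) = ⊥) ∧
      U ⊓ centralizer (fittingHallOf M : Set G) = ⊥ := by
  obtain ⟨h1, h2, h3, h4⟩ := irred_shape hG hM hd hII hp hirr hc
  exact ⟨h1, h4.symm.trans hdN, h3, h2⟩

/-- Outcome (2): `c = 1`, `q d = N`. -/
theorem shape_div (hp : (Nat.card W₂).Prime) (hirr : TypeTwo.IsIrred M U)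
    (hc : Nat.card ↥(U ⊓ centralizer (fittingHallOf M : Set G)) = 1)
    (hdN : Nat.card W₁ * (U ⊓ centralizer (fittingHallOf M : Set G)).relIndex U =
      (Nat.card W₂ ^ Nat.card W₁ - 1) / (Nat.card W₂ - 1)) :
    IsCyclic U ∧ Nat.card W₁ * Nat.card U = (Nat.card W₂ ^ Nat.card W₁ - 1) / (Nat.card W₂ - 1) ∧
      (∀ x ∈ fittingHallOf M, x ≠ 1 → U ⊓ centralizer ({x} : Set G) = ⊥) ∧
      U ⊓ centralizer (fittingHallOf M : Set G) = ⊥ := by
  obtain ⟨h1, h2, h3, h4⟩ := irred_shape hG hM hd hII hp hirr hc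
  exact ⟨h1, by rw [← h4]; exact hdN, h3, h2⟩

/-- Outcome (3): `c = 1`, `4 d = (p - 1)²`. -/
theorem shape_monomial
    (hc : Nat.card ↥(U ⊓ centralizer (fittingHallOf M : Set G)) = 1)
    (hdN : 4 * (U ⊓ centralizer (fittingHallOf M : Set G)).relIndex U = (Nat.card W₂ - 1) ^ 2) :
    U ⊓ centralizer (fittingHallOf M : Set G) = ⊥ ∧ 4 * Nat.card U = (Nat.card W₂ - 1) ^ 2 ∧
      ∀ r : ℕ, r.Prime → r ∣ Nat.card U → r ∣ Nat.card W₂ - 1 := by
  obtain ⟨hb, hr⟩ := of_card_C_eq_one hG hM hd hII hc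
  rw [hr] at hdN
  exact ⟨hb, hdN, fun r hr' hdr => hr'.dvd_of_dvd_pow (hdN ▸ hdr.mul_left 4)⟩

/-- Outcome (4): `c = 7`, `d = 31` does not occur. -/
theorem shape_exceptional
    (hc : Nat.card ↥(U ⊓ centralizer (fittingHallOf M : Set G)) = 7)
    (hdN : (U ⊓ centralizer (fittingHallOf M : Set G)).relIndex U = 31) : False := by
  have hcard : Nat.card U = 7 * 31 := by
    rw [← Coprime.card_mul_relIndex_of_le
      (inf_le_left : U ⊓ centralizer (fittingHallOf M : Set G) ≤ U), hc, hdN]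
  haveI := TypeTwo.U_comm hG hM hd hII
  haveI : IsZGroup U := IsZGroup.of_squarefree (by
    rw [hcard, Nat.squarefree_mul (by norm_num)]
    exact ⟨(by norm_num : Nat.Prime 7).squarefree, (by norm_num : Nat.Prime 31).squarefree⟩)
  haveI : Group.IsNilpotent U := Core.isNilpotent_of_commutator_le_center (C := (⊥ : Subgroup G))
    (by rw [le_bot_iff, commutator_eq_bot_iff_le_centralizer]
        exact fun a ha => mem_centralizer_iff.2 fun b hb => congrArg Subtype.val
          (IsMulCommutative.is_comm.comm (⟨b, hb⟩ : U) ⟨a, ha⟩))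
    (fun a _ => mem_centralizer_iff.2 fun b hb => by rw [mem_bot.1 hb, one_mul, mul_one])
  rw [TypeTwo.C_eq_bot_of_isCyclic hG hM hd hII inferInstance, card_bot] at hc
  norm_num at hc

end Basic

end Cfsg.Agent.OddFinal
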