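import Cfsg.Agent.OddFinal.Masses
import Cfsg.Agent.OddFinal.Uniform

/-!
# The covering inequality of two characters

Outside the conjugates of `V` and of the two kernels a residual character and a member of the
family on the left cannot vanish together, so their masses cover the rest of the group.
-/

set_option autoImplicit false
set_option linter.unusedSectionVars false

namespace Cfsg.Agent.OddFinal

open Cfsg Char CyclicTI
open scoped ComplexConjugate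
open scoped _root_.Classical

universe u

variable {G : Type u} [Group G] [Fintype G] {M W₁ W₂ K : Subgroup G} [Fintype ↥M] {d : ℕ}
  {X : Finset (↥M → ℂ)} {μ : (↥(W₁ ⊔ W₂) →* ℂˣ) → ↥M → ℂ}
  {η : (↥(W₁ ⊔ W₂) →* ℂˣ) → G → ℂ} {A : Set G} {π : ↥M → ℂ} {b : ℤ}
  {R : (↥M → ℂ) → G → ℂ}

variable (h : Ctx M W₁ W₂ K d X μ η (conjAll A)) (hR : GenericData M X μ η b R)

include h hR

/-- Off the special regions a residual character is `± (1 + (q-1) n + q (m - 1))`. -/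
theorem Ctx.gen_value {χ : ↥M → ℂ} (hχ : χ ∈ X) {g : G} (hA : g ∉ conjAll A)
    (hK : g ∉ conjAll (sharp K)) (hV : g ∉ conjAll (vSet W₁ W₂)) :
    ∃ n m : ℤ, (∀ φ : Left W₁ W₂, φ.1 ≠ 1 → η φ.1 g = n) ∧
      (∀ ψ : Right W₁ W₂, ψ.1 ≠ 1 → η ψ.1 g = m) ∧
      ∃ s : ℤ, (s = 1 ∨ s = -1) ∧ R χ g =
        (s : ℂ) * (1 + ((Nat.card W₁ : ℂ) - 1) * n + (Nat.card W₁ : ℂ) * ((m : ℂ) - 1)) := by
  obtain ⟨n, hn⟩ := RowUniform.left_value h.selfN h.odd h.fam h.row hA hV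
  obtain ⟨m, hm⟩ := h.side.right_value h.selfN h.odd h.fam hK hV
  obtain ⟨ψ, hψ⟩ := h.exists_right
  refine ⟨n, m, hn, hm, ((Nat.card W₂ : ℤ) - 1) * b + 1, ?_, ?_⟩
  · rcases hR.b_cases with hb | ⟨hp, hb⟩
    · left; rw [hb]; ring
    · right; rw [hb, hp]; norm_num
  obtain ⟨-, -, hs, -⟩ := h.diffChar_spec hψ hχ
  have h0 := h.ind_eq_zero hs hK
  rw [hR.image ψ hψ χ hχ, Pi.sub_apply, sub_eq_zero] at h0
  rw [← h0]
  simp only [Finset.sum_apply, Pi.smul_apply, smul_eq_mul]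
  have hV' : g ∉ vG W₁ W₂ := by rwa [← conjAll_vSet_eq]
  have hleft : ∑ φ : Left W₁ W₂, η φ.1 g = 1 + ((Nat.card W₁ : ℂ) - 1) * n := by
    have e : ∀ φ : Left W₁ W₂, η φ.1 g = (n : ℂ) + if φ = leftOne then 1 - (n : ℂ) else 0 := by
      intro φ
      split_ifs with e
      · rw [e]; simp [leftOne, h.fam.map_one]
      · rw [hn φ fun e' => e (Subtype.ext e'), add_zero]
    simp only [e, Finset.sum_add_distrib, Finset.sum_const, Finset.card_univ, h.card_left,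
      nsmul_eq_mul, Finset.sum_ite_eq', Finset.mem_univ, if_true]
    ring
  have hin : ∀ ψ' : Right W₁ W₂, ∑ φ : Left W₁ W₂, (coef b ψ ψ' : ℂ) * η (φ.1 * ψ'.1) g =
      (coef b ψ ψ' : ℂ) *
        (1 + ((Nat.card W₁ : ℂ) - 1) * n + (Nat.card W₁ : ℂ) * ((m : ℂ) - 1)) := by
    intro ψ'
    by_cases h' : ψ'.1 = 1
    · simp [coef, h']
    · rw [← Finset.mul_sum, column_sum h.selfN h.fam ψ' hV', hm ψ' h', hleft]
  rw [Finset.sum_comm, Finset.sum_congr rfl fun ψ' _ => hin ψ', ← Finset.sum_mul, ← Int.cast_sum,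
    (h.sum_coef hψ b).1]

theorem Ctx.cover {χ : ↥M → ℂ} (hχ : χ ∈ X) {φ : Left W₁ W₂} (hφ : φ.1 ≠ 1) {g : G}
    (hA : g ∉ conjAll A) (hK : g ∉ conjAll (sharp K)) (hV : g ∉ conjAll (vSet W₁ W₂)) :
    1 ≤ ‖η φ.1 g‖ ^ 2 + ‖R χ g‖ ^ 2 := by
  obtain ⟨n, m, hn, -, s, hs, hRg⟩ := h.gen_value hR hχ hA hK hV
  rw [hn φ hφ, hRg]
  rcases eq_or_ne n 0 with rfl | hn0
  · refine le_add_of_nonneg_of_le (sq_nonneg _) ?_
    rw [show (s : ℂ) * (1 + ((Nat.card W₁ : ℂ) - 1) * ((0 : ℤ) : ℂ) +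
        (Nat.card W₁ : ℂ) * ((m : ℂ) - 1)) =
      ((s * (1 + (Nat.card W₁ : ℤ) * (m - 1)) : ℤ) : ℂ) by push_cast; ring]
    refine one_le_pow₀ (one_le_norm_intCast (mul_ne_zero (by omega) fun e => ?_))
    have h3 : (3 : ℤ) ≤ Nat.card W₁ := by exact_mod_cast h.three_le.1
    rcases Int.eq_one_or_neg_one_of_mul_eq_neg_one'
      (show (Nat.card W₁ : ℤ) * (m - 1) = -1 by omega) with ⟨e1, -⟩ | ⟨e1, -⟩ <;> omega
  · exact le_add_of_le_of_nonneg (one_le_pow₀ (one_le_norm_intCast hn0)) (sq_nonneg _)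

/-- The covering inequality. -/
theorem Ctx.two_char (hb : IsBridge M W₁ W₂ K d X μ π) {χ : ↥M → ℂ} (hχ : χ ∈ X)
    (hAV : Disjoint (conjAll A) (conjAll (vSet W₁ W₂))) {mT : ℝ}
    (hT : ∀ φ : Left W₁ W₂, φ.1 ≠ 1 → mT ≤ mass (conjAll A) (η φ.1)) :
    mT + 1 / ((Nat.card W₁ : ℝ) * ((d : ℝ) + 1 / orbitCount W₁ W₂ X)) ≤
      mass (conjAll (sharp K)) (fun _ => 1) + mass (conjAll A) (fun _ => 1) +
        (Nat.card W₁ : ℝ) / orbitCount W₁ W₂ X := by
  obtain ⟨φ, hφ⟩ : ∃ φ : Left W₁ W₂, φ.1 ≠ 1 := by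
    by_contra hh
    push_neg at hh
    have : Subsingleton (Left W₁ W₂) := ⟨fun x y => Subtype.ext ((hh x).trans (hh y).symm)⟩
    have h3 := h.three_le.1
    rw [← h.card_left] at h3
    have := Fintype.card_le_one_iff_subsingleton.2 this
    omega
  set SK := conjAll (sharp K) with hSK
  set SA := conjAll A with hSA
  set SV := conjAll (vSet W₁ W₂) with hSV
  set G₀ : Set G := (SV ∪ SK ∪ SA)ᶜ with hG₀
  have d1 : Disjoint SV SK := h.sharp_disjoint.symm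
  have d2 : Disjoint (SV ∪ SK) SA := Set.disjoint_union_left.2 ⟨hAV.symm, h.disj⟩
  have split : ∀ Y : G → ℂ,
      (classInner Y Y).re = mass SV Y + mass SK Y + mass SA Y + mass G₀ Y := fun Y => by
    rw [hG₀, mass_compl, mass_union d2, mass_union d1]; ring
  have one : (classInner (fun _ : G => (1 : ℂ)) (fun _ => 1)).re = 1 := by
    rw [classInner_irr_self isIrrCharacter_one, Complex.one_re]
  have hV1 : mass SV (fun _ => 1) = mass SV (η φ.1) := by
    rw [hSV, conjAll_vSet_eq, mass_vG h.selfN h.fam, ← h.fam.map_one, mass_vG h.selfN h.fam]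
  have hcov : mass G₀ (fun _ => 1) ≤ mass G₀ (η φ.1) + mass G₀ (R χ) := by
    rw [mass, mass, mass, ← mul_add, ← Finset.sum_add_distrib]
    refine mul_le_mul_of_nonneg_left (Finset.sum_le_sum fun g _ => ?_) (by positivity)
    by_cases hg : g ∈ G₀
    · simp only [Set.indicator_of_mem hg, norm_one, one_pow]
      simp only [hG₀, Set.mem_compl_iff, Set.mem_union, not_or] at hg
      exact h.cover hR hχ hφ hg.2 hg.1.2 hg.1.1
    · simp [hg]
  have e1 := split (η φ.1)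
  rw [eta_norm h.fam, Complex.one_re] at e1
  have e2 := split (R χ)
  rw [hR.orthonormal χ hχ χ hχ, if_pos rfl, Complex.one_re] at e2
  have e3 := split (fun _ => 1)
  rw [one] at e3
  have a1 := h.mass_left_ge hR hb hφ
  have a2 := h.mass_gen_ge hR hχ
  have a3 := hT φ hφ
  have n1 := mass_nonneg SV (R χ)
  have n2 := mass_nonneg SA (R χ)
  linarith

end Cfsg.Agent.OddFinal
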